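/-
Basic facts on finite p-groups: coatoms, the Frattini subgroup, Burnside's basis theorem,
normal subgroups and the centre.
-/
import Mathlib

set_option linter.style.haveILetI false

namespace CfsgLib.PGroups

variable {G : Type*} [Group G] {p : ℕ}

/-- In a finite nilpotent group every maximal subgroup is normal. -/
theorem normal_of_isCoatom [Finite G] [Group.IsNilpotent G] {M : Subgroup G} (hM : IsCoatom M) :
    M.Normal := by
  have h := normalizerCondition_iff_only_full_group_self_normalizing.mp
    (Group.normalizerCondition_of_isNilpotent (G := G)) M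
  rcases hM.le_iff.mp (Subgroup.le_normalizer (H := M)) with h1 | h1
  · exact Subgroup.normalizer_eq_top_iff.mp h1
  · exact absurd (h h1) hM.1

/-- A maximal subgroup of a finite p-group has index `p`. -/
theorem index_of_isCoatom [Finite G] [hp : Fact p.Prime] (hG : IsPGroup p G) {M : Subgroup G}
    (hM : IsCoatom M) : M.index = p := by
  obtain ⟨n, hn⟩ := hG.index M
  rcases Nat.eq_zero_or_pos n with h0 | hpos
  · subst h0
    exact absurd (Subgroup.index_eq_one.mp (by simpa using hn)) hM.1
  · by_contra hne
    have hdiv : p ^ (Nat.log p (Nat.card M) + 1) ∣ Nat.card G := by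
      obtain ⟨k, hk⟩ := IsPGroup.iff_card.mp (hG.to_subgroup M)
      rw [hk, Nat.log_pow hp.out.one_lt, ← M.card_mul_index, hk, hn, pow_succ]
      exact Nat.mul_dvd_mul_left _ (dvd_pow_self p (by omega))
    obtain ⟨k, hk⟩ := IsPGroup.iff_card.mp (hG.to_subgroup M)
    rw [hk, Nat.log_pow hp.out.one_lt] at hdiv
    obtain ⟨K, hK, hMK⟩ := Sylow.exists_subgroup_card_pow_succ hdiv hk
    have hlt : M < K := by
      refine lt_of_le_of_ne hMK (fun h => ?_)
      subst h
      have := hk.symm.trans hK
      exact absurd (Nat.pow_right_injective hp.out.two_le this) (by omega)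
    have hKtop := hM.2 K hlt
    subst hKtop
    rw [Subgroup.card_top] at hK
    apply hne
    have h1 := M.card_mul_index
    rw [hk, hK, pow_succ] at h1
    exact Nat.eq_of_mul_eq_mul_left (pow_pos hp.out.pos k) h1

theorem normal_of_isCoatom' [Finite G] [Fact p.Prime] (hG : IsPGroup p G) {M : Subgroup G}
    (hM : IsCoatom M) : M.Normal :=
  haveI := hG.isNilpotent
  normal_of_isCoatom hM

theorem quotient_mulComm_of_isCoatom [Finite G] [Fact p.Prime] (hG : IsPGroup p G) {M : Subgroup G}
    [M.Normal] (hM : IsCoatom M) : IsCyclic (G ⧸ M) :=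
  isCyclic_of_prime_card (p := p) (by
    rw [← Subgroup.index_eq_card]; exact index_of_isCoatom hG hM)

theorem pow_mem_frattini [Finite G] [Fact p.Prime] (hG : IsPGroup p G) (x : G) :
    x ^ p ∈ frattini G := by
  simp only [frattini, Order.radical, Subgroup.mem_iInf, Set.mem_ofPred_eq]
  intro M hM
  haveI := normal_of_isCoatom' hG hM
  rw [← index_of_isCoatom hG hM]
  exact Subgroup.pow_index_mem M x

theorem commutator_le_frattini [Finite G] [Group.IsNilpotent G] : commutator G ≤ frattini G := by
  intro x hx
  simp only [frattini, Order.radical, Subgroup.mem_iInf, Set.mem_ofPred_eq]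
  intro M hM
  haveI := normal_of_isCoatom hM
  haveI : IsSimpleGroup (G ⧸ M) := by
    have : Nontrivial (G ⧸ M) := (QuotientGroup.nontrivial_iff).mpr hM.1
    refine ⟨fun N hN => ?_⟩
    rcases hM.le_iff.mp (show M ≤ N.comap (QuotientGroup.mk' M) from
      (QuotientGroup.ker_mk' M).symm.le.trans (Subgroup.comap_mono bot_le)) with h | h
    · right
      rw [← Subgroup.map_comap_eq_self_of_surjective (QuotientGroup.mk'_surjective M) N, h,
        Subgroup.map_top_of_surjective _ (QuotientGroup.mk'_surjective M)]
    · left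
      rw [← Subgroup.map_comap_eq_self_of_surjective (QuotientGroup.mk'_surjective M) N, h]
      exact (Subgroup.map_eq_bot_iff _).mpr (QuotientGroup.ker_mk' M).symm.le
  have hab : IsMulCommutative (G ⧸ M) := by
    haveI : Group.IsNilpotent (G ⧸ M) := inferInstance
    exact (Group.IsNilpotent.nilpotencyClass_le_one_iff).mp
      Group.nilpotencyClass_le_one_of_isSimple_of_isNilpotent
  exact Subgroup.Normal.quotient_commutative_iff_commutator_le.mp hab hx

theorem commutator_le_frattini' [Finite G] [Fact p.Prime] (hG : IsPGroup p G) :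
    commutator G ≤ frattini G :=
  haveI := hG.isNilpotent
  commutator_le_frattini

/-- Burnside basis theorem, generation form. -/
theorem closure_eq_top_of_sup_frattini [Finite G] {S : Set G}
    (h : Subgroup.closure S ⊔ frattini G = ⊤) : Subgroup.closure S = ⊤ :=
  frattini_nongenerating h

/-- The quotient of a finite p-group by its Frattini subgroup is elementary abelian. -/
theorem frattini_quotient [Finite G] [Fact p.Prime] (hG : IsPGroup p G) :
    IsMulCommutative (G ⧸ frattini G) ∧ ∀ x : G ⧸ frattini G, x ^ p = 1 := by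
  refine ⟨Subgroup.Normal.quotient_commutative_iff_commutator_le.mpr (commutator_le_frattini' hG),
    fun x => ?_⟩
  induction x using QuotientGroup.induction_on with
  | _ z => rw [← QuotientGroup.mk_pow, QuotientGroup.eq_one_iff]; exact pow_mem_frattini hG z

/-- A normal subgroup with elementary abelian quotient contains the Frattini subgroup. -/
theorem frattini_le_of_elementary [Finite G] [hp : Fact p.Prime] {N : Subgroup G} [N.Normal]
    (hc : commutator G ≤ N) (hpow : ∀ x : G, x ^ p ∈ N) : frattini G ≤ N := by
  classical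
  intro x hx
  by_contra hxN
  -- a subgroup maximal among those over N avoiding x is maximal
  obtain ⟨M, ⟨hNM, hxM⟩, hmax⟩ := Set.Finite.exists_maximal
    (Set.toFinite {H : Subgroup G | N ≤ H ∧ x ∉ H}) ⟨N, le_rfl, hxN⟩
  haveI : M.Normal := Subgroup.Normal.of_commutator_le G (hc.trans hNM)
  have key : ∀ y ∉ M, x ∈ M ⊔ Subgroup.zpowers y := by
    intro y hy
    by_contra hxy
    have := hmax ⟨hNM.trans le_sup_left, hxy⟩ le_sup_left
    exact hy (this (Subgroup.mem_sup_right (Subgroup.mem_zpowers y)))
  have htop : M ⊔ Subgroup.zpowers x = ⊤ := by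
    rw [Subgroup.eq_top_iff']
    intro y
    by_cases hy : y ∈ M
    · exact Subgroup.mem_sup_left hy
    · have := key y hy
      rw [Subgroup.mem_sup_of_normal_left] at this
      obtain ⟨m, hm, z, hz, hmz⟩ := this
      obtain ⟨k, rfl⟩ := Subgroup.mem_zpowers_iff.mp hz
      have hk : ¬ (p : ℤ) ∣ k := by
        rintro ⟨j, rfl⟩
        refine hxM (hmz ▸ M.mul_mem hm ?_)
        rw [zpow_mul, zpow_natCast]
        exact M.zpow_mem (hNM (hpow y)) j
      have hcop : IsCoprime (p : ℤ) k := by
        rcases Int.emod_emod_of_dvd k (dvd_refl (p : ℤ)) with _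
        exact (Nat.prime_iff_prime_int.mp hp.out).coprime_iff_not_dvd.mpr hk
      obtain ⟨a, b, hab⟩ := hcop
      have hyk : y ^ k ∈ M ⊔ Subgroup.zpowers x := by
        have : y ^ k = m⁻¹ * x := by rw [← hmz]; group
        rw [this]
        exact mul_mem (Subgroup.mem_sup_left (inv_mem hm))
          (Subgroup.mem_sup_right (Subgroup.mem_zpowers x))
      have hy1 : y = (y ^ p) ^ a * (y ^ k) ^ b := by
        rw [← zpow_natCast, ← zpow_mul, ← zpow_mul, ← zpow_add, mul_comm (p : ℤ), mul_comm k, hab,
          zpow_one]
      rw [hy1]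
      exact mul_mem (Subgroup.zpow_mem _ (Subgroup.mem_sup_left (hNM (hpow y))) a)
        (Subgroup.zpow_mem _ hyk b)
  have hM : IsCoatom M := by
    refine ⟨fun h => hxM (h ▸ Subgroup.mem_top x), fun K hK => ?_⟩
    have hxK : x ∈ K := by
      by_contra hxK
      exact hK.not_ge (hmax ⟨hNM.trans hK.le, hxK⟩ hK.le)
    rw [eq_top_iff, ← htop, sup_le_iff]
    exact ⟨hK.le, Subgroup.zpowers_le.mpr hxK⟩
  exact hxM (frattini_le_coatom hM hx)

/-- The Frattini subgroup of a finite p-group is generated by commutators and p-th powers. -/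
theorem frattini_eq_commutator_sup [Finite G] [Fact p.Prime] (hG : IsPGroup p G) :
    frattini G = commutator G ⊔ Subgroup.closure (Set.range fun x : G => x ^ p) := by
  apply le_antisymm
  · haveI : (commutator G ⊔ Subgroup.closure (Set.range fun x : G => x ^ p)).Normal :=
      Subgroup.Normal.of_commutator_le G le_sup_left
    exact frattini_le_of_elementary le_sup_left
      (fun x => Subgroup.mem_sup_right (Subgroup.subset_closure ⟨x, rfl⟩))
  · rw [sup_le_iff, Subgroup.closure_le]
    exact ⟨commutator_le_frattini' hG, Set.range_subset_iff.mpr (pow_mem_frattini hG)⟩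

theorem frattini_ne_top [Finite G] [Nontrivial G] : frattini G ≠ ⊤ := by
  intro h
  have := frattini_nongenerating (G := G) (K := ⊥) (by rw [h, bot_sup_eq])
  exact (bot_ne_top (α := Subgroup G)) this

/-- A finite p-group is cyclic iff its Frattini subgroup has index at most `p`. -/
theorem isCyclic_of_index_frattini_le [Finite G] [hp : Fact p.Prime] (hG : IsPGroup p G)
    (h : (frattini G).index ≤ p) : IsCyclic G := by
  rcases subsingleton_or_nontrivial G with hs | hn
  · exact isCyclic_of_subsingleton
  obtain ⟨n, hi⟩ := hG.index (frattini G)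
  have hn1 : n = 1 := by
    rcases n with _ | n
    · exact absurd (Subgroup.index_eq_one.mp (by simpa using hi)) frattini_ne_top
    · have : p ^ (n + 1) ≤ p ^ 1 := by rw [pow_one, ← hi]; exact h
      have := (Nat.pow_le_pow_iff_right hp.out.one_lt).mp this
      omega
  subst hn1
  rw [pow_one, Subgroup.index_eq_card] at hi
  obtain ⟨g, hg⟩ : ∃ g : G, g ∉ frattini G := by
    by_contra hcon
    push Not at hcon
    exact frattini_ne_top (Subgroup.eq_top_iff' _ |>.mpr hcon)
  refine isCyclic_iff_exists_zpowers_eq_top.mpr ⟨g, frattini_nongenerating ?_⟩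
  have hq : Subgroup.zpowers (g : G ⧸ frattini G) = ⊤ :=
    zpowers_eq_top_of_prime_card hi (by rwa [Ne, QuotientGroup.eq_one_iff])
  rw [← QuotientGroup.mk'_apply, ← MonoidHom.map_zpowers] at hq
  have := congrArg (Subgroup.comap (QuotientGroup.mk' (frattini G))) hq
  rw [Subgroup.comap_map_eq, QuotientGroup.ker_mk', Subgroup.comap_top] at this
  exact this

/-- A group whose quotient by a central subgroup is cyclic is abelian. -/
theorem isMulCommutative_of_cyclic_quotient {N : Subgroup G} [N.Normal]
    (hN : N ≤ Subgroup.center G) [IsCyclic (G ⧸ N)] : IsMulCommutative G :=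
  MonoidHom.isMulCommutative_of_isCyclic_of_ker_le_center (QuotientGroup.mk' N)
    (by rwa [QuotientGroup.ker_mk'])

/-- A nontrivial normal subgroup of a finite p-group meets the centre nontrivially. -/
theorem inf_center_ne_bot [Finite G] [Fact p.Prime] (hG : IsPGroup p G) {N : Subgroup G} [N.Normal]
    (hN : N ≠ ⊥) : N ⊓ Subgroup.center G ≠ ⊥ := by
  have hNp : p ∣ Nat.card N := by
    rcases (hG.to_subgroup N).card_eq_or_dvd with h | h
    · exact absurd (Subgroup.card_eq_one.mp h) hN
    · exact h
  have hG' : IsPGroup p (ConjAct G) := hG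
  obtain ⟨b, hb, hb1⟩ := hG'.exists_fixed_point_of_prime_dvd_card_of_fixed_point N hNp
    (a := 1) (fun g => smul_one g)
  intro hbot
  have hbc : (b : G) ∈ Subgroup.center G := by
    rw [Subgroup.mem_center_iff]
    intro g
    have := congrArg Subtype.val (hb (ConjAct.toConjAct g))
    rw [ConjAct.Subgroup.val_conj_smul, ConjAct.smul_def, ConjAct.ofConjAct_toConjAct] at this
    rw [← mul_inv_eq_iff_eq_mul]
    exact this
  have : (b : G) ∈ (⊥ : Subgroup G) := hbot ▸ ⟨b.2, hbc⟩
  rw [Subgroup.mem_bot] at this
  exact hb1 (Subtype.ext (by simpa using this.symm))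

end CfsgLib.PGroups
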