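/-
`Cfsg.omegaOne`, `Cfsg.powerClosure`, `Cfsg.PRankLE`: elementary properties.
-/
import Mathlib
import Cfsg.Prelude.Def_PLocal

namespace CfsgLib.PGroups

variable {G : Type*} [Group G] {p : ℕ}

theorem omegaOne_le (H : Subgroup G) : Cfsg.omegaOne p H ≤ H :=
  (Subgroup.closure_le _).mpr fun _ hx => hx.1

theorem mem_omegaOne {H : Subgroup G} {x : G} (hx : x ∈ H) (hp : x ^ p = 1) :
    x ∈ Cfsg.omegaOne p H := Subgroup.subset_closure ⟨hx, hp⟩

theorem omegaOne_mono {H K : Subgroup G} (h : H ≤ K) : Cfsg.omegaOne p H ≤ Cfsg.omegaOne p K :=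
  Subgroup.closure_mono fun _ hx => ⟨h hx.1, hx.2⟩

theorem omegaOne_map {G' : Type*} [Group G'] (H : Subgroup G) {f : G →* G'}
    (hf : Function.Injective f) :
    (Cfsg.omegaOne p H).map f = Cfsg.omegaOne p (H.map f) := by
  rw [Cfsg.omegaOne, MonoidHom.map_closure, Cfsg.omegaOne]
  congr 1
  ext y
  constructor
  · rintro ⟨x, ⟨hx, hxp⟩, rfl⟩
    exact ⟨⟨x, hx, rfl⟩, by rw [← map_pow, hxp, map_one]⟩
  · rintro ⟨⟨x, hx, rfl⟩, hy⟩
    exact ⟨x, ⟨hx, hf (by rw [map_pow, hy, map_one])⟩, rfl⟩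

theorem omegaOne_subtype (H : Subgroup G) :
    (Cfsg.omegaOne p (⊤ : Subgroup H)).map H.subtype = Cfsg.omegaOne p H := by
  rw [omegaOne_map _ H.subtype_injective, ← MonoidHom.range_eq_map, H.range_subtype]

instance omegaOne_characteristic (H : Subgroup G) [H.Characteristic] :
    (Cfsg.omegaOne p H).Characteristic := by
  rw [Subgroup.characteristic_iff_map_eq]
  intro φ
  rw [omegaOne_map _ φ.injective, Subgroup.characteristic_iff_map_eq.mp ‹_› φ]

instance omegaOne_normal (H : Subgroup G) [H.Normal] : (Cfsg.omegaOne p H).Normal := by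
  refine ⟨fun x hx g => ?_⟩
  have := Subgroup.mem_map_of_mem (MulAut.conj g).toMonoidHom hx
  have hH : H.map (MulAut.conj g).toMonoidHom = H := by
    refine le_antisymm (fun y hy => ?_) (fun y hy => ?_)
    · obtain ⟨z, hz, rfl⟩ := hy
      exact Subgroup.Normal.conj_mem ‹_› z hz g
    · exact ⟨g⁻¹ * y * g, Subgroup.Normal.conj_mem' ‹_› y hy g, by simp [mul_assoc]⟩
  rw [omegaOne_map (p := p) H (f := (MulAut.conj g).toMonoidHom) (MulAut.conj g).injective, hH] at this
  simpa using this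

/-- In an abelian subgroup the set of elements of order dividing `p` is already a subgroup. -/
theorem mem_omegaOne_iff_of_comm {H : Subgroup G} [hH : IsMulCommutative H] {x : G} :
    x ∈ Cfsg.omegaOne p H ↔ x ∈ H ∧ x ^ p = 1 := by
  refine ⟨fun hx => ⟨omegaOne_le H hx, ?_⟩, fun h => mem_omegaOne h.1 h.2⟩
  induction hx using Subgroup.closure_induction with
  | mem y hy => exact hy.2
  | one => exact one_pow p
  | mul a b ha hb iha ihb =>
    have hab : a * b = b * a := by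
      simpa using congrArg Subtype.val
        (hH.is_comm.comm (⟨a, omegaOne_le H ha⟩ : H) ⟨b, omegaOne_le H hb⟩)
    rw [Commute.mul_pow hab, iha, ihb, one_mul]
  | inv a _ iha => rw [inv_pow, iha, inv_one]

theorem isElementaryAbelian_omegaOne {H : Subgroup G} [hH : IsMulCommutative H] :
    Cfsg.IsElementaryAbelian p (Cfsg.omegaOne p H) := by
  refine ⟨isMulCommutative_iff.mpr fun a b => Subtype.ext ?_,
    fun a ha => (mem_omegaOne_iff_of_comm.mp ha).2⟩
  simpa using congrArg Subtype.val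
    (hH.is_comm.comm (⟨a, omegaOne_le H a.2⟩ : H) ⟨b, omegaOne_le H b.2⟩)

theorem omegaOne_ne_bot [Finite G] [hp : Fact p.Prime] {H : Subgroup G} (h : p ∣ Nat.card H) :
    Cfsg.omegaOne p H ≠ ⊥ := by
  obtain ⟨x, hx⟩ := exists_prime_orderOf_dvd_card' p h
  intro hbot
  have hm : (x : G) ∈ Cfsg.omegaOne p H :=
    mem_omegaOne x.2 (by rw [← hx, ← Subgroup.orderOf_coe]; exact pow_orderOf_eq_one _)
  rw [hbot, Subgroup.mem_bot, ← orderOf_eq_one_iff, Subgroup.orderOf_coe, hx] at hm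
  exact hp.out.ne_one hm

theorem pow_mem_powerClosure {n : ℕ} {H : Subgroup G} {x : G} (hx : x ∈ H) :
    x ^ p ^ n ∈ Cfsg.powerClosure p n H := Subgroup.subset_closure ⟨x, hx, rfl⟩

theorem powerClosure_le {n : ℕ} (H : Subgroup G) : Cfsg.powerClosure p n H ≤ H :=
  (Subgroup.closure_le _).mpr fun _ ⟨x, hx, hy⟩ => hy ▸ H.pow_mem hx _

theorem powerClosure_mono {n : ℕ} {H K : Subgroup G} (h : H ≤ K) :
    Cfsg.powerClosure p n H ≤ Cfsg.powerClosure p n K :=
  Subgroup.closure_mono fun _ ⟨x, hx, hy⟩ => ⟨x, h hx, hy⟩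

theorem powerClosure_map {G' : Type*} [Group G'] {n : ℕ} (H : Subgroup G) (f : G →* G') :
    (Cfsg.powerClosure p n H).map f = Cfsg.powerClosure p n (H.map f) := by
  rw [Cfsg.powerClosure, MonoidHom.map_closure, Cfsg.powerClosure]
  congr 1
  ext y
  constructor
  · rintro ⟨x, ⟨z, hz, rfl⟩, rfl⟩
    exact ⟨f z, ⟨z, hz, rfl⟩, map_pow f z _⟩
  · rintro ⟨w, ⟨z, hz, rfl⟩, rfl⟩
    exact ⟨z ^ p ^ n, ⟨z, hz, rfl⟩, map_pow f z _⟩

instance powerClosure_characteristic {n : ℕ} (H : Subgroup G) [H.Characteristic] :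
    (Cfsg.powerClosure p n H).Characteristic := by
  rw [Subgroup.characteristic_iff_map_eq]
  intro φ
  rw [powerClosure_map, Subgroup.characteristic_iff_map_eq.mp ‹_› φ]

theorem prankLE_mono {k l : ℕ} [hp : Fact p.Prime] (h : Cfsg.PRankLE p k G) (hkl : k ≤ l) :
    Cfsg.PRankLE p l G :=
  fun A h1 h2 => (h A h1 h2).trans (Nat.pow_le_pow_right hp.out.pos hkl)

theorem prankLE_of_injective {G' : Type*} [Group G'] {k : ℕ} (h : Cfsg.PRankLE p k G)
    {f : G' →* G} (hf : Function.Injective f) : Cfsg.PRankLE p k G' := by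
  intro A hA hAp
  rw [Nat.card_congr (A.equivMapOfInjective f hf).toEquiv]
  refine h _ inferInstance ?_
  rintro _ ⟨a, ha, rfl⟩
  rw [← map_pow, hAp a ha, map_one]

theorem prankLE_congr {G' : Type*} [Group G'] {k : ℕ} (e : G ≃* G') :
    Cfsg.PRankLE p k G ↔ Cfsg.PRankLE p k G' :=
  ⟨fun h => prankLE_of_injective h (f := e.symm.toMonoidHom) e.symm.injective,
    fun h => prankLE_of_injective h (f := e.toMonoidHom) e.injective⟩

end CfsgLib.PGroups
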