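/-
Maximal abelian normal subgroups and small step lemmas for finite p-groups.
-/
import Mathlib
import Cfsg.Agent.Lib.PGroups.Basic

set_option linter.style.haveILetI false

namespace CfsgLib.PGroups

open scoped commutatorElement

variable {G : Type*} [Group G] {p : ℕ}

/-- In a finite p-group a proper step multiplies the order by at least `p`. -/
theorem mul_card_le_of_lt [Finite G] [hp : Fact p.Prime] {A B : Subgroup G} (hB : IsPGroup p B)
    (h : A < B) : p * Nat.card A ≤ Nat.card B := by
  obtain ⟨i, hi⟩ := IsPGroup.iff_card.mp (hB.to_le h.le)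
  obtain ⟨j, hj⟩ := IsPGroup.iff_card.mp hB
  have hlt : Nat.card A < Nat.card B :=
    lt_of_le_of_ne (Subgroup.card_le_of_le h.le)
      (fun he => h.ne (Subgroup.eq_of_le_of_card_ge h.le he.ge))
  rw [hi, hj] at hlt ⊢
  rw [← pow_succ']
  exact Nat.pow_le_pow_right hp.out.pos ((Nat.pow_lt_pow_iff_right hp.out.one_lt).mp hlt)

/-- A normal subgroup of order `p` of a finite p-group is central. -/
theorem le_center_of_card_prime [Finite G] [hp : Fact p.Prime] (hG : IsPGroup p G) {N : Subgroup G}
    [N.Normal] (hN : Nat.card N = p) : N ≤ Subgroup.center G := by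
  have hne : N ≠ ⊥ := by rintro rfl; rw [Subgroup.card_bot] at hN; exact hp.out.ne_one hN.symm
  have h := inf_center_ne_bot hG hne
  have h2 : N ⊓ Subgroup.center G = N := by
    refine Subgroup.eq_of_le_of_card_ge inf_le_left ?_
    have hd := Subgroup.card_dvd_of_le (inf_le_left : N ⊓ Subgroup.center G ≤ N)
    rw [hN] at hd ⊢
    rcases (Nat.dvd_prime hp.out).mp hd with h1 | h1
    · exact absurd (Subgroup.card_eq_one.mp h1) h
    · exact h1.ge
  exact h2 ▸ inf_le_right

/-- A maximal element among abelian normal subgroups of a finite p-group is self-centralizing. -/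
theorem centralizer_eq_of_maximal_normal_abelian [Finite G] [Fact p.Prime] (hG : IsPGroup p G)
    {A : Subgroup G} [A.Normal] [IsMulCommutative A]
    (hmax : ∀ B : Subgroup G, B.Normal → IsMulCommutative B → A ≤ B → B = A) :
    Subgroup.centralizer (A : Set G) = A := by
  refine le_antisymm ?_ (Subgroup.le_centralizer A)
  by_contra hle
  set C := Subgroup.centralizer (A : Set G) with hC
  haveI : C.Normal := by
    rw [hC]
    refine ⟨fun n hn g => Subgroup.mem_centralizer_iff.mpr fun a ha => ?_⟩
    have := Subgroup.mem_centralizer_iff.mp hn (g⁻¹ * a * g)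
      (Subgroup.Normal.conj_mem' ‹A.Normal› a ha g)
    calc a * (g * n * g⁻¹) = g * (g⁻¹ * a * g * n) * g⁻¹ := by group
      _ = g * (n * (g⁻¹ * a * g)) * g⁻¹ := by rw [this]
      _ = g * n * g⁻¹ * a := by group
  set f := QuotientGroup.mk' A with hf
  haveI : (C.map f).Normal := Subgroup.Normal.map inferInstance f (QuotientGroup.mk'_surjective A)
  have hne : C.map f ≠ ⊥ := fun h => hle (by
    rw [Subgroup.map_eq_bot_iff, QuotientGroup.ker_mk'] at h; exact h)
  obtain ⟨⟨q, ⟨c, hc, rfl⟩, hq⟩, hq1⟩ : ∃ x : (C.map f ⊓ Subgroup.center (G ⧸ A) : Subgroup (G ⧸ A)),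
      x ≠ 1 := by
    have := inf_center_ne_bot (hG.to_quotient A) hne
    rw [Ne, Subgroup.eq_bot_iff_forall] at this
    push Not at this
    obtain ⟨x, hx, hx1⟩ := this
    exact ⟨⟨x, hx⟩, fun h => hx1 (congrArg Subtype.val h)⟩
  have hcA : c ∉ A := fun h => hq1 (Subtype.ext ((QuotientGroup.eq_one_iff c).mpr h))
  set B := A ⊔ Subgroup.zpowers c with hB
  have hBn : B.Normal := by
    have hBeq : B = ((Subgroup.zpowers (f c))).comap f := by
      rw [← MonoidHom.map_zpowers, Subgroup.comap_map_eq, hf, QuotientGroup.ker_mk', sup_comm]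
    haveI : (Subgroup.zpowers (f c)).Normal :=
      ⟨fun n hn g => by
        rw [Subgroup.mem_center_iff.mp (Subgroup.zpowers_le.mpr hq hn) g, mul_inv_cancel_right]; exact hn⟩
    rw [hBeq]; infer_instance
  have hBc : IsMulCommutative B := by
    rw [← Subgroup.le_centralizer_iff_isMulCommutative, hB, sup_le_iff, Subgroup.zpowers_le]
    refine ⟨?_, ?_⟩
    · rw [Subgroup.le_centralizer_iff, sup_le_iff, Subgroup.zpowers_le]
      exact ⟨Subgroup.le_centralizer A, hc⟩
    · rw [← Subgroup.zpowers_le, Subgroup.le_centralizer_iff, sup_le_iff, Subgroup.zpowers_le]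
      refine ⟨?_, Subgroup.mem_centralizer_iff.mpr fun y hy => ?_⟩
      · rw [Subgroup.le_centralizer_iff, Subgroup.zpowers_le]; exact hc
      · obtain ⟨k, rfl⟩ := Subgroup.mem_zpowers_iff.mp hy
        exact (Commute.zpow_left (Commute.refl c) k).eq
  have := hmax B hBn hBc le_sup_left
  exact hcA (this ▸ Subgroup.mem_sup_right (Subgroup.mem_zpowers c))

/-- Every abelian normal subgroup lies in a self-centralizing abelian normal subgroup. -/
theorem exists_selfCentralizing [Finite G] [Fact p.Prime] (hG : IsPGroup p G) {A₀ : Subgroup G}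
    (hn : A₀.Normal) (hc : IsMulCommutative A₀) :
    ∃ A : Subgroup G, A₀ ≤ A ∧ A.Normal ∧ IsMulCommutative A ∧
      Subgroup.centralizer (A : Set G) = A := by
  obtain ⟨A, hA, ⟨⟨hAn, hAc⟩, hmax⟩⟩ := Set.Finite.exists_le_maximal
    (Set.toFinite {B : Subgroup G | B.Normal ∧ IsMulCommutative B}) ⟨hn, hc⟩
  haveI := hAn
  haveI := hAc
  exact ⟨A, hA, hAn, hAc, centralizer_eq_of_maximal_normal_abelian hG
    (fun B hBn hBc hAB => le_antisymm (hmax ⟨hBn, hBc⟩ hAB) hAB)⟩

theorem exists_selfCentralizing' [Finite G] [Fact p.Prime] (hG : IsPGroup p G) :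
    ∃ A : Subgroup G, A.Normal ∧ IsMulCommutative A ∧ Subgroup.centralizer (A : Set G) = A := by
  obtain ⟨A, -, h⟩ := exists_selfCentralizing hG (A₀ := ⊥) Subgroup.normal_bot inferInstance
  exact ⟨A, h⟩

end CfsgLib.PGroups
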