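/-
Commutator calculus when commutators are central (class at most two).
`⁅x, y⁆ = x * y * x⁻¹ * y⁻¹`.
-/
import Mathlib

namespace CfsgLib.PGroups

open scoped commutatorElement

variable {G : Type*} [Group G]

theorem comm_mul_left_of_central {x y z : G} (h : ⁅y, z⁆ ∈ Subgroup.center G) :
    ⁅x * y, z⁆ = ⁅x, z⁆ * ⁅y, z⁆ := by
  have h1 : ⁅x * y, z⁆ = x * ⁅y, z⁆ * x⁻¹ * ⁅x, z⁆ := by
    simp only [commutatorElement_def]; group
  have h2 : x * ⁅y, z⁆ * x⁻¹ = ⁅y, z⁆ := by
    rw [Subgroup.mem_center_iff.mp h x, mul_inv_cancel_right]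
  rw [h1, h2]
  exact (Subgroup.mem_center_iff.mp h _).symm

theorem comm_mul_right_of_central {x y z : G} (h : ⁅x, z⁆ ∈ Subgroup.center G) :
    ⁅x, y * z⁆ = ⁅x, y⁆ * ⁅x, z⁆ := by
  have h1 : ⁅x, y * z⁆ = ⁅x, y⁆ * (y * ⁅x, z⁆ * y⁻¹) := by
    simp only [commutatorElement_def]; group
  rw [h1, Subgroup.mem_center_iff.mp h y, mul_inv_cancel_right]

theorem comm_inv_left_of_central {x y : G} (h : ⁅x, y⁆ ∈ Subgroup.center G) :
    ⁅x⁻¹, y⁆ = ⁅x, y⁆⁻¹ := by
  have := comm_mul_left_of_central (x := x⁻¹) h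
  rw [inv_mul_cancel, commutatorElement_one_left] at this
  exact eq_inv_of_mul_eq_one_left this.symm

theorem comm_inv_right_of_central {x y : G} (h : ⁅x, y⁆ ∈ Subgroup.center G) :
    ⁅x, y⁻¹⁆ = ⁅x, y⁆⁻¹ := by
  have := comm_mul_right_of_central (y := y⁻¹) h
  rw [inv_mul_cancel, commutatorElement_one_right] at this
  exact eq_inv_of_mul_eq_one_left this.symm

theorem comm_pow_left_of_central {x y : G} (h : ⁅x, y⁆ ∈ Subgroup.center G) (n : ℕ) :
    ⁅x ^ n, y⁆ = ⁅x, y⁆ ^ n := by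
  induction n with
  | zero => simp
  | succ n ih => rw [pow_succ, comm_mul_left_of_central h, ih, pow_succ]

theorem comm_pow_right_of_central {x y : G} (h : ⁅x, y⁆ ∈ Subgroup.center G) (n : ℕ) :
    ⁅x, y ^ n⁆ = ⁅x, y⁆ ^ n := by
  induction n with
  | zero => simp
  | succ n ih => rw [pow_succ, comm_mul_right_of_central h, ih, pow_succ]

/-- The power formula `(x y)^n = x^n y^n [y,x]^(n choose 2)` for central commutator. -/
theorem mul_pow_of_central {x y : G} (h : ⁅y, x⁆ ∈ Subgroup.center G) (n : ℕ) :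
    (x * y) ^ n = x ^ n * y ^ n * ⁅y, x⁆ ^ (n.choose 2) := by
  set c := ⁅y, x⁆ with hc
  have hcc : ∀ g : G, g * c = c * g := Subgroup.mem_center_iff.mp h
  induction n with
  | zero => simp
  | succ n ih =>
    have hyx : y ^ n * x = c ^ n * x * y ^ n := by
      have hcn : ⁅y ^ n, x⁆ = c ^ n := comm_pow_left_of_central h n
      rw [commutatorElement_def] at hcn
      rw [← hcn]; group
    have hcm : ∀ (g : G) (m : ℕ), g * c ^ m = c ^ m * g := fun g m =>
      (Commute.pow_right (hcc g) m).eq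
    calc (x * y) ^ (n + 1) = x ^ n * y ^ n * c ^ n.choose 2 * (x * y) := by rw [pow_succ, ih]
      _ = x ^ n * (y ^ n * x) * y * c ^ n.choose 2 := by
          rw [mul_assoc (x ^ n * y ^ n), ← hcm (x * y)]; group
      _ = x ^ n * (x * c ^ n) * y ^ n * y * c ^ n.choose 2 := by
          rw [hyx, ← hcm x n]; group
      _ = x ^ (n + 1) * y ^ (n + 1) * (c ^ n * c ^ n.choose 2) := by
          rw [show x ^ n * (x * c ^ n) * y ^ n * y = x ^ (n + 1) * (c ^ n * y ^ (n + 1)) by
            rw [pow_succ, pow_succ]; group, ← hcm (y ^ (n + 1)) n]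
          group
      _ = x ^ (n + 1) * y ^ (n + 1) * c ^ (n + 1).choose 2 := by
          rw [← pow_add, show n + n.choose 2 = (n + 1).choose 2 by
            rw [Nat.choose_succ_succ' n 1, Nat.choose_one_right]]

theorem commutator_mem_center_of_le {N : Subgroup G} (hN : commutator G ≤ N)
    (hZ : N ≤ Subgroup.center G) (x y : G) : ⁅x, y⁆ ∈ Subgroup.center G :=
  hZ (hN (Subgroup.commutator_mem_commutator (Subgroup.mem_top x) (Subgroup.mem_top y)))

/-- For an odd exponent `n` killing the commutator, `x ↦ x^n` is multiplicative. -/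
theorem mul_pow_of_central_odd {x y : G} (h : ⁅y, x⁆ ∈ Subgroup.center G) {n : ℕ} (hn : Odd n)
    (hc : ⁅y, x⁆ ^ n = 1) : (x * y) ^ n = x ^ n * y ^ n := by
  obtain ⟨k, rfl⟩ := hn
  rw [mul_pow_of_central h, Nat.choose_two_right,
    show (2 * k + 1) * (2 * k + 1 - 1) / 2 = (2 * k + 1) * k by
      rw [show 2 * k + 1 - 1 = 2 * k by omega, Nat.mul_comm 2 k, ← Nat.mul_assoc,
        Nat.mul_div_left _ two_pos],
    pow_mul, hc, one_pow, mul_one]

theorem comm_conj_left {x y : G} : x * y * x⁻¹ = ⁅x, y⁆ * y := by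
  simp only [commutatorElement_def]; group

theorem sq_mul_of_central {x y : G} (h : ⁅y, x⁆ ∈ Subgroup.center G) :
    (x * y) ^ 2 = x ^ 2 * y ^ 2 * ⁅y, x⁆ := by
  simpa using mul_pow_of_central h 2

end CfsgLib.PGroups
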