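/-
Special and extraspecial p-groups: commutator pairing, centralizer orders, order p^(2n+1),
recognition criteria and splitting off a subgroup of order p^3.
-/
import Mathlib
import Cfsg.Prelude.Def_Transfer
import Cfsg.Agent.Lib.PGroups.Basic
import Cfsg.Agent.Lib.PGroups.ClassTwo

set_option linter.style.haveILetI false

namespace CfsgLib.PGroups

open scoped commutatorElement

variable {E : Type*} [Group E] {p : ℕ}

/-- The homomorphism `y ↦ ⁅y, a⁆` when all commutators are central. -/
def commHom (hc : ∀ x y : E, ⁅x, y⁆ ∈ Subgroup.center E) (a : E) : E →* E where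
  toFun y := ⁅y, a⁆
  map_one' := commutatorElement_one_left a
  map_mul' x y := comm_mul_left_of_central (hc y a)

theorem commHom_ker (hc : ∀ x y : E, ⁅x, y⁆ ∈ Subgroup.center E) (a : E) :
    (commHom hc a).ker = Subgroup.centralizer {a} := by
  ext y
  simp [commHom, Subgroup.mem_centralizer_singleton_iff, commutatorElement_eq_one_iff_mul_comm,
    eq_comm]

theorem commHom_range_le (hc : ∀ x y : E, ⁅x, y⁆ ∈ Subgroup.center E) (a : E) :
    (commHom hc a).range ≤ commutator E := by
  rintro _ ⟨y, rfl⟩
  exact Subgroup.commutator_mem_commutator (Subgroup.mem_top y) (Subgroup.mem_top a)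

/-- The index of the centralizer of an element is at most the order of the central commutator
subgroup. -/
theorem index_centralizer_le [Finite E] (hc : ∀ x y : E, ⁅x, y⁆ ∈ Subgroup.center E) (a : E) :
    (Subgroup.centralizer {a}).index ≤ Nat.card (commutator E) := by
  rw [← commHom_ker hc a, Subgroup.index_ker]
  exact Subgroup.card_le_of_le (commHom_range_le hc a)

theorem card_mul_relIndex {H K : Subgroup E} (h : H ≤ K) :
    Nat.card H * H.relIndex K = Nat.card K := by
  rw [← Subgroup.relIndex_bot_left, ← Subgroup.relIndex_bot_left,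
    Subgroup.relIndex_mul_relIndex _ _ _ bot_le h]

namespace IsExtraspecial

variable (hE : Cfsg.IsExtraspecial p E)

set_option linter.unusedSectionVars false

include hE

theorem commutator_eq : commutator E = Subgroup.center E := hE.1.2.2

theorem frattini_eq : frattini E = Subgroup.center E := hE.1.2.1

theorem isPGroup : IsPGroup p E := hE.1.1

theorem card_center : Nat.card (Subgroup.center E) = p := hE.2

theorem comm_mem (x y : E) : ⁅x, y⁆ ∈ Subgroup.center E :=
  commutator_mem_center_of_le le_rfl (commutator_eq hE).le x y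

theorem pow_mem_center [Finite E] [Fact p.Prime] (x : E) : x ^ p ∈ Subgroup.center E :=
  frattini_eq hE ▸ pow_mem_frattini (isPGroup hE) x

theorem center_pow {z : E} (hz : z ∈ Subgroup.center E) : z ^ p = 1 := by
  have := pow_card_eq_one' (G := Subgroup.center E) (x := ⟨z, hz⟩)
  rw [card_center hE] at this
  exact congrArg Subtype.val this

theorem pow_sq [Finite E] [Fact p.Prime] (x : E) : x ^ p ^ 2 = 1 := by
  rw [sq, pow_mul]; exact center_pow hE (pow_mem_center hE x)

theorem comm_pow (x y : E) : ⁅x, y⁆ ^ p = 1 := center_pow hE (comm_mem hE x y)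

theorem not_comm [hp : Fact p.Prime] : ¬ IsMulCommutative E := by
  intro h
  have h1 := commutator_eq hE
  rw [(commutator_eq_bot_iff E).mpr h] at h1
  have := card_center hE
  rw [← h1, Subgroup.card_bot] at this
  exact hp.out.ne_one this.symm

theorem card_le_two [hp : Fact p.Prime] : p ≤ Nat.card (Subgroup.center E) := (card_center hE).ge

theorem normal_of_center_le {A : Subgroup E} (hA : Subgroup.center E ≤ A) : A.Normal :=
  Subgroup.Normal.of_commutator_le E ((commutator_eq hE).le.trans hA)

theorem eq_center_of_le [hp : Fact p.Prime] {Z : Subgroup E} (hle : Z ≤ Subgroup.center E)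
    (hne : Z ≠ ⊥) : Z = Subgroup.center E := by
  haveI : Finite (Subgroup.center E) :=
    Nat.finite_of_card_ne_zero (by rw [card_center hE]; exact hp.out.ne_zero)
  refine Subgroup.eq_of_le_of_card_ge hle ?_
  have := Subgroup.card_dvd_of_le hle
  rw [card_center hE] at this ⊢
  rcases (Nat.dvd_prime hp.out).mp this with h | h
  · exact absurd (Subgroup.card_eq_one.mp h) hne
  · exact h.ge

/-- Every nontrivial normal subgroup contains the centre. -/
theorem center_le_of_normal [Finite E] [Fact p.Prime] {N : Subgroup E} [N.Normal] (hN : N ≠ ⊥) :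
    Subgroup.center E ≤ N := by
  rw [← eq_center_of_le hE inf_le_right (inf_center_ne_bot (isPGroup hE) hN)]
  exact inf_le_left

theorem index_centralizer_singleton [Finite E] [hp : Fact p.Prime] {a : E}
    (ha : a ∉ Subgroup.center E) : (Subgroup.centralizer {a}).index = p := by
  have hle := index_centralizer_le (comm_mem hE) a
  rw [commutator_eq hE, card_center hE] at hle
  obtain ⟨n, hn⟩ := (isPGroup hE).index (Subgroup.centralizer {a})
  rcases n with _ | _ | n
  · exfalso
    rw [pow_zero, Subgroup.index_eq_one] at hn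
    refine ha (Subgroup.mem_center_iff.mpr fun g => ?_)
    exact Subgroup.mem_centralizer_singleton_iff.mp (hn ▸ Subgroup.mem_top g)
  · simpa using hn
  · rw [hn, ← pow_one p, ← pow_mul] at hle
    have := (Nat.pow_le_pow_iff_right hp.out.one_lt).mp hle
    omega

private theorem card_mul_card_step [Finite E] [hp : Fact p.Prime] (A : Subgroup E) {a : E}
    (ha : a ∉ A) :
    Nat.card (Subgroup.centralizer (A : Set E)) * Nat.card A ≤
      Nat.card (Subgroup.centralizer ((A ⊔ Subgroup.zpowers a : Subgroup E) : Set E)) *
        Nat.card ↥(A ⊔ Subgroup.zpowers a) := by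
  have hC : Subgroup.centralizer (A : Set E) ⊓ Subgroup.centralizer {a} ≤
      Subgroup.centralizer ((A ⊔ Subgroup.zpowers a : Subgroup E) : Set E) := by
    rw [Subgroup.le_centralizer_iff, sup_le_iff]
    refine ⟨fun x hx => ?_, Subgroup.zpowers_le.mpr ?_⟩
    · rw [Subgroup.mem_centralizer_iff]
      exact fun y hy => ((Subgroup.mem_centralizer_iff.mp hy.1) x hx).symm
    · rw [Subgroup.mem_centralizer_iff]
      exact fun y hy => Subgroup.mem_centralizer_singleton_iff.mp hy.2
  have h1 : Nat.card (Subgroup.centralizer (A : Set E)) ≤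
      p * Nat.card ↥(Subgroup.centralizer (A : Set E) ⊓ Subgroup.centralizer {a}) := by
    rw [← card_mul_relIndex (K := Subgroup.centralizer (A : Set E))
      (H := Subgroup.centralizer (A : Set E) ⊓ Subgroup.centralizer {a}) inf_le_left,
      Subgroup.inf_relIndex_left, mul_comm p]
    refine Nat.mul_le_mul_left _ ((Subgroup.relIndex_le_of_le_right le_top ?_).trans ?_)
    · rw [Subgroup.relIndex_top_right]; exact Subgroup.index_ne_zero_of_finite
    · rw [Subgroup.relIndex_top_right]
      exact (index_centralizer_le (comm_mem hE) a).trans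
        (by rw [commutator_eq hE, card_center hE])
  have h2 : p * Nat.card A ≤ Nat.card ↥(A ⊔ Subgroup.zpowers a) := by
    obtain ⟨i, hi⟩ := IsPGroup.iff_card.mp ((isPGroup hE).to_subgroup A)
    obtain ⟨j, hj⟩ := IsPGroup.iff_card.mp ((isPGroup hE).to_subgroup (A ⊔ Subgroup.zpowers a))
    have hlt : Nat.card A < Nat.card ↥(A ⊔ Subgroup.zpowers a) := by
      refine lt_of_le_of_ne (Subgroup.card_le_of_le le_sup_left) fun h => ha ?_
      rw [Subgroup.eq_of_le_of_card_ge le_sup_left h.ge]
      exact Subgroup.mem_sup_right (Subgroup.mem_zpowers a)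
    rw [hi, hj] at hlt ⊢
    rw [← pow_succ']
    exact Nat.pow_le_pow_right hp.out.pos ((Nat.pow_lt_pow_iff_right hp.out.one_lt).mp hlt)
  calc _ ≤ p * Nat.card ↥(Subgroup.centralizer (A : Set E) ⊓ Subgroup.centralizer {a}) *
        Nat.card A := Nat.mul_le_mul_right _ h1
    _ = Nat.card ↥(Subgroup.centralizer (A : Set E) ⊓ Subgroup.centralizer {a}) *
        (p * Nat.card A) := by ring
    _ ≤ _ := Nat.mul_le_mul (Subgroup.card_le_of_le hC) h2

private theorem card_mul_card_mono [Finite E] [Fact p.Prime] {A B : Subgroup E} (hAB : A ≤ B) :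
    Nat.card (Subgroup.centralizer (A : Set E)) * Nat.card A ≤
      Nat.card (Subgroup.centralizer (B : Set E)) * Nat.card B := by
  induction hd : Nat.card E - Nat.card A using Nat.strong_induction_on generalizing A with
  | _ d ih =>
    by_cases h : B ≤ A
    · rw [le_antisymm hAB h]
    obtain ⟨a, haB, haA⟩ := SetLike.not_le_iff_exists.mp h
    refine (card_mul_card_step hE A haA).trans (ih _ ?_ (sup_le hAB (Subgroup.zpowers_le.mpr haB)) rfl)
    have h1 : Nat.card A < Nat.card ↥(A ⊔ Subgroup.zpowers a) := by
      refine lt_of_le_of_ne (Subgroup.card_le_of_le le_sup_left) fun h2 => haA ?_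
      rw [Subgroup.eq_of_le_of_card_ge le_sup_left h2.ge]
      exact Subgroup.mem_sup_right (Subgroup.mem_zpowers a)
    have h3 := Subgroup.card_le_card_group (A ⊔ Subgroup.zpowers a)
    omega

/-- For `Z(E) ≤ A`: `|C(A)| |A| = p |E|`. -/
theorem card_centralizer_mul_card [Finite E] [Fact p.Prime] {A : Subgroup E}
    (hA : Subgroup.center E ≤ A) :
    Nat.card (Subgroup.centralizer (A : Set E)) * Nat.card A = p * Nat.card E := by
  refine le_antisymm ?_ ?_
  · refine (card_mul_card_mono hE (le_top : A ≤ ⊤)).trans (le_of_eq ?_)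
    rw [Subgroup.coe_top, Subgroup.centralizer_univ, Subgroup.card_top, card_center hE]
  · refine le_trans (le_of_eq ?_) (card_mul_card_mono hE hA)
    rw [Subgroup.centralizer_center, Subgroup.card_top, card_center hE, mul_comm]

/-- Double centralizer. -/
theorem centralizer_centralizer [Finite E] [hp : Fact p.Prime] {A : Subgroup E}
    (hA : Subgroup.center E ≤ A) :
    Subgroup.centralizer (Subgroup.centralizer (A : Set E) : Set E) = A := by
  have h1 := card_centralizer_mul_card hE hA
  have h2 := card_centralizer_mul_card hE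
    (A := Subgroup.centralizer (A : Set E)) (Subgroup.center_le_centralizer _)
  refine (Subgroup.eq_of_le_of_card_ge (Subgroup.le_centralizer_iff.mp le_rfl) ?_).symm
  rw [← h1, mul_comm] at h2
  exact (Nat.eq_of_mul_eq_mul_left Nat.card_pos h2).le

theorem center_le_of_maximal_abelian {A : Subgroup E} [IsMulCommutative A]
    (hmax : ∀ B : Subgroup E, IsMulCommutative B → A ≤ B → B = A) :
    Subgroup.center E ≤ A ∧ Subgroup.centralizer (A : Set E) = A := by
  have key : ∀ c ∈ Subgroup.centralizer (A : Set E), c ∈ A := by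
    intro c hc
    have hB : IsMulCommutative (Subgroup.closure ((A : Set E) ∪ {c})) := by
      refine Subgroup.isMulCommutative_closure fun x hx y hy => ?_
      rcases hx with hx | rfl <;> rcases hy with hy | rfl
      · exact Subgroup.le_centralizer A hy x hx
      · exact hc x hx
      · exact (hc y hy).symm
      · rfl
    have := hmax _ hB fun x hx => Subgroup.subset_closure (Or.inl hx)
    exact this ▸ Subgroup.subset_closure (Or.inr rfl)
  exact ⟨fun z hz => key z (Subgroup.center_le_centralizer _ hz),
    le_antisymm key (Subgroup.le_centralizer A)⟩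

/-- The order of an extraspecial group is `p^(2n+1)` with `n ≥ 1`; abelian subgroups have order at
most `p^(n+1)`, and some abelian subgroup reaches it. -/
theorem exists_card [Finite E] [hp : Fact p.Prime] :
    ∃ n : ℕ, 1 ≤ n ∧ Nat.card E = p ^ (2 * n + 1) ∧
      (∀ A : Subgroup E, IsMulCommutative A → Nat.card A ≤ p ^ (n + 1)) ∧
      ∃ A : Subgroup E, IsMulCommutative A ∧ Subgroup.center E ≤ A ∧
        Nat.card A = p ^ (n + 1) := by
  obtain ⟨m, hm⟩ := IsPGroup.iff_card.mp (isPGroup hE)
  have key : ∀ A : Subgroup E, IsMulCommutative A →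
      ∃ B : Subgroup E, A ≤ B ∧ IsMulCommutative B ∧ Subgroup.center E ≤ B ∧
        ∃ i, Nat.card B = p ^ i ∧ 2 * i = m + 1 := by
    intro A hA
    obtain ⟨B, hAB, hB⟩ := Set.Finite.exists_le_maximal
      (Set.toFinite {B : Subgroup E | IsMulCommutative B}) hA
    haveI : IsMulCommutative B := hB.1
    obtain ⟨hZB, hCB⟩ := center_le_of_maximal_abelian hE (A := B)
      (fun C hC hBC => le_antisymm (hB.2 hC hBC) hBC)
    refine ⟨B, hAB, hB.1, hZB, ?_⟩
    obtain ⟨i, hi⟩ := IsPGroup.iff_card.mp ((isPGroup hE).to_subgroup B)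
    refine ⟨i, hi, ?_⟩
    have := card_centralizer_mul_card hE hZB
    rw [hCB, hi, hm, ← pow_add, ← pow_succ'] at this
    have := Nat.pow_right_injective hp.out.two_le this
    omega
  obtain ⟨B, -, hB, hZB, i, hi, hi2⟩ := key ⊥ (by infer_instance)
  refine ⟨i - 1, ?_, ?_, ?_, B, hB, hZB, ?_⟩
  · by_contra h
    have : m = 0 ∨ m = 1 := by omega
    refine not_comm hE ?_
    rcases this with rfl | rfl
    · haveI : Subsingleton E := (Nat.card_eq_one_iff_unique.mp (by simpa using hm)).1
      exact isMulCommutative_iff.mpr fun a b => Subsingleton.elim _ _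
    · haveI : IsCyclic E := isCyclic_of_prime_card (p := p) (by simpa using hm)
      exact inferInstance
  · rw [hm]; congr 1; omega
  · intro A hA
    obtain ⟨C, hAC, -, -, j, hj, hj2⟩ := key A hA
    refine (Subgroup.card_le_of_le hAC).trans (hj.le.trans (Nat.pow_le_pow_right hp.out.pos ?_))
    omega
  · rw [hi]; congr 1; omega

theorem card_ge [Finite E] [hp : Fact p.Prime] : p ^ 3 ≤ Nat.card E := by
  obtain ⟨n, hn, hc, -⟩ := exists_card hE
  rw [hc]; exact Nat.pow_le_pow_right hp.out.pos (by omega)

end IsExtraspecial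

/-- Recognition: a p-group whose centre has order `p` and contains all commutators and p-th powers
is extraspecial, provided it is nonabelian. -/
theorem isExtraspecial_of [Finite E] [hp : Fact p.Prime] (hP : IsPGroup p E)
    (hna : ¬ IsMulCommutative E) (hZ : Nat.card (Subgroup.center E) = p)
    (hc : commutator E ≤ Subgroup.center E) (hpow : ∀ x : E, x ^ p ∈ Subgroup.center E) :
    Cfsg.IsExtraspecial p E := by
  have h1 : commutator E = Subgroup.center E := by
    refine Subgroup.eq_of_le_of_card_ge hc ?_
    have hd := Subgroup.card_dvd_of_le hc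
    rw [hZ] at hd ⊢
    rcases (Nat.dvd_prime hp.out).mp hd with h | h
    · exact absurd ((commutator_eq_bot_iff E).mp (Subgroup.card_eq_one.mp h)) hna
    · exact h.ge
  refine ⟨⟨hP, le_antisymm ?_ ?_, h1⟩, hZ⟩
  · exact frattini_le_of_elementary hc hpow
  · exact h1 ▸ commutator_le_frattini' hP

/-- A nonabelian group of order `p^3` is extraspecial. -/
theorem isExtraspecial_of_card_cube [Finite E] [hp : Fact p.Prime] (hna : ¬ IsMulCommutative E)
    (hcard : Nat.card E = p ^ 3) : Cfsg.IsExtraspecial p E := by
  have hP : IsPGroup p E := IsPGroup.of_card hcard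
  obtain ⟨k, hk, hZ⟩ := IsPGroup.card_center_eq_prime_pow hcard (by norm_num)
  have hq : Nat.card (E ⧸ Subgroup.center E) = p ^ (3 - k) := by
    have := (Subgroup.center E).card_mul_index
    rw [hcard, hZ, Subgroup.index_eq_card] at this
    have hk3 : k ≤ 3 := by
      have := Subgroup.card_le_card_group (Subgroup.center E)
      rw [hcard, hZ] at this
      exact (Nat.pow_le_pow_iff_right hp.out.one_lt).mp this
    rw [← Nat.pow_div hk3 hp.out.pos, ← this, Nat.mul_div_cancel_left _ (pow_pos hp.out.pos k)]
  have hk1 : k = 1 := by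
    by_contra hne
    have : 3 - k = 0 ∨ 3 - k = 1 := by omega
    refine hna ?_
    haveI : IsCyclic (E ⧸ Subgroup.center E) := by
      rcases this with h | h
      · haveI : Subsingleton (E ⧸ Subgroup.center E) :=
          (Nat.card_eq_one_iff_unique.mp (by simpa [h] using hq)).1
        exact isCyclic_of_subsingleton
      · exact isCyclic_of_prime_card (p := p) (by simpa [h] using hq)
    exact isMulCommutative_of_cyclic_quotient le_rfl
  subst hk1
  rw [pow_one] at hZ
  haveI := IsPGroup.isMulCommutative_of_card_eq_prime_sq (G := E ⧸ Subgroup.center E)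
    (p := p) hq
  refine isExtraspecial_of hP hna hZ
    (Subgroup.Normal.quotient_commutative_iff_commutator_le.mp inferInstance) fun x => ?_
  have hx : ∀ q : E ⧸ Subgroup.center E, q ^ p = 1 := by
    intro q
    by_contra hqp
    have hord : orderOf q ∣ p ^ 2 := hq ▸ orderOf_dvd_natCard q
    obtain ⟨i, hi, hi'⟩ := (Nat.dvd_prime_pow hp.out).mp hord
    interval_cases i
    · exact hqp (orderOf_dvd_iff_pow_eq_one.mp (by simp [hi']))
    · exact hqp (orderOf_dvd_iff_pow_eq_one.mp (by simp [hi']))
    · haveI : IsCyclic (E ⧸ Subgroup.center E) :=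
        isCyclic_of_orderOf_eq_card q (by rw [hi', hq])
      exact hna (isMulCommutative_of_cyclic_quotient le_rfl)
  rw [← QuotientGroup.eq_one_iff, QuotientGroup.mk_pow]
  exact hx x

end CfsgLib.PGroups
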