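/-
Small-order facts: abelian subgroups in groups of order p^4, subgroups of order p in an elementary
abelian group of order p^2.
-/
import Mathlib
import Cfsg.Agent.Lib.PGroups.Basic
import Cfsg.Agent.Lib.PGroups.ClassTwo
import Cfsg.Agent.Lib.PGroups.MaxAbelian

set_option linter.style.haveILetI false

namespace CfsgLib.PGroups

open scoped commutatorElement

variable {G : Type*} [Group G] {p : ℕ}

theorem center_le_centralizer_zpowers (a : G) :
    Subgroup.center G ⊔ Subgroup.zpowers a ≤ Subgroup.centralizer {a} :=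
  sup_le (Subgroup.center_le_centralizer _)
    (Subgroup.zpowers_le.mpr (Subgroup.mem_centralizer_singleton_iff.mpr rfl))

/-- `Z(G)⟨a⟩` is abelian. -/
theorem isMulCommutative_center_sup_zpowers (a : G) :
    IsMulCommutative (Subgroup.center G ⊔ Subgroup.zpowers a : Subgroup G) := by
  rw [← Subgroup.le_centralizer_iff_isMulCommutative, sup_le_iff, Subgroup.zpowers_le]
  refine ⟨Subgroup.center_le_centralizer _, Subgroup.mem_centralizer_iff.mpr fun h hh => ?_⟩
  exact Subgroup.mem_centralizer_singleton_iff.mp (center_le_centralizer_zpowers a hh)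

/-- In a finite nonabelian p-group the centre has index at least `p^2`. -/
theorem sq_le_index_center [Finite G] [hp : Fact p.Prime] (hG : IsPGroup p G)
    (hna : ¬ IsMulCommutative G) : p ^ 2 ≤ (Subgroup.center G).index := by
  obtain ⟨k, hk⟩ := hG.index (Subgroup.center G)
  rw [hk]
  refine Nat.pow_le_pow_right hp.out.pos ?_
  by_contra h
  refine hna ?_
  haveI : IsCyclic (G ⧸ Subgroup.center G) := by
    have hc : Nat.card (G ⧸ Subgroup.center G) = p ^ k := by rw [← Subgroup.index_eq_card, hk]
    have : k = 0 ∨ k = 1 := by omega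
    rcases this with rfl | rfl
    · haveI := (Nat.card_eq_one_iff_unique.mp (by simpa using hc)).1
      exact isCyclic_of_subsingleton
    · exact isCyclic_of_prime_card (p := p) (by simpa using hc)
  exact isMulCommutative_of_cyclic_quotient le_rfl

/-- A group of order `p^4` has an abelian subgroup of order `p^3`. -/
theorem exists_abelian_card_cube [Finite G] [hp : Fact p.Prime] (hG : Nat.card G = p ^ 4) :
    ∃ A : Subgroup G, IsMulCommutative A ∧ Nat.card A = p ^ 3 := by
  have hP : IsPGroup p G := IsPGroup.of_card hG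
  by_cases hab : IsMulCommutative G
  · obtain ⟨A, hA⟩ := Sylow.exists_subgroup_card_pow_prime (G := G) p (n := 3)
      (by rw [hG]; exact pow_dvd_pow p (by norm_num))
    exact ⟨A, inferInstance, hA⟩
  obtain ⟨k, hk0, hZ⟩ := IsPGroup.card_center_eq_prime_pow hG (by norm_num)
  have hk2 : k ≤ 2 := by
    have h := (Subgroup.center G).card_mul_index
    rw [hG, hZ] at h
    have h2 := sq_le_index_center hP hab
    obtain ⟨j, hj⟩ := hP.index (Subgroup.center G)
    rw [hj] at h h2
    rw [← pow_add] at h
    have := Nat.pow_right_injective hp.out.two_le h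
    have := (Nat.pow_le_pow_iff_right hp.out.one_lt).mp h2
    omega
  -- an element outside the centre whose centraliser has index at most `p`
  obtain ⟨u, hu, hH⟩ : ∃ u, u ∉ Subgroup.center G ∧
      (k = 2 ∨ (Subgroup.centralizer ({u} : Set G)).index ≤ p) := by
    haveI : Nontrivial (G ⧸ Subgroup.center G) := by
      rw [QuotientGroup.nontrivial_iff]
      exact fun h => hab (Subgroup.center_eq_top_iff.mp h)
    haveI := (hP.to_quotient (Subgroup.center G)).center_nontrivial
    obtain ⟨⟨q, hq⟩, hq1⟩ := exists_ne (1 : Subgroup.center (G ⧸ Subgroup.center G))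
    obtain ⟨u, rfl⟩ := QuotientGroup.mk'_surjective (Subgroup.center G) q
    refine ⟨u, fun h => hq1 (Subtype.ext ((QuotientGroup.eq_one_iff u).mpr h)), ?_⟩
    rcases Nat.lt_or_ge k 2 with hk | hk
    · right
      have hk1 : k = 1 := by omega
      have hmem : ∀ g : G, ⁅g, u⁆ ∈ Subgroup.center G := by
        intro g
        have h := Subgroup.mem_center_iff.mp hq (QuotientGroup.mk' _ g)
        rw [← QuotientGroup.eq_one_iff, ← QuotientGroup.mk'_apply, commutatorElement_def, map_mul,
          map_mul, map_mul, map_inv, map_inv, h]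
        group
      let φ : G →* G :=
        { toFun := fun g => ⁅g, u⁆
          map_one' := commutatorElement_one_left u
          map_mul' := fun g h => comm_mul_left_of_central (hmem h) }
      have hker : φ.ker = Subgroup.centralizer {u} := by
        ext y
        simp [φ, Subgroup.mem_centralizer_singleton_iff, commutatorElement_eq_one_iff_mul_comm,
          eq_comm]
      rw [← hker, Subgroup.index_ker]
      calc Nat.card φ.range ≤ Nat.card (Subgroup.center G) :=
            Subgroup.card_le_of_le (by rintro _ ⟨g, rfl⟩; exact hmem g)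
        _ = p := by rw [hZ, hk1, pow_one]
    · left; omega
  set K := Subgroup.center G ⊔ Subgroup.zpowers u with hK
  have hKlt : Subgroup.center G < K := lt_of_le_of_ne le_sup_left
    (fun h => hu (h ▸ Subgroup.mem_sup_right (Subgroup.mem_zpowers u)))
  have hKc : p * Nat.card (Subgroup.center G) ≤ Nat.card K :=
    mul_card_le_of_lt (hP.to_subgroup K) hKlt
  rw [hZ, ← pow_succ'] at hKc
  haveI hKab : IsMulCommutative K := isMulCommutative_center_sup_zpowers u
  obtain ⟨i, hi⟩ := IsPGroup.iff_card.mp (hP.to_subgroup K)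
  have hki : k + 1 ≤ i := (Nat.pow_le_pow_iff_right hp.out.one_lt).mp (hi ▸ hKc)
  rcases hH with rfl | hH
  · obtain ⟨A, hA⟩ := Sylow.exists_subgroup_card_pow_prime (G := K) p (n := 3)
      (by rw [hi]; exact pow_dvd_pow p (by omega))
    exact ⟨A.map K.subtype, inferInstance, by rw [Subgroup.card_subtype, hA]⟩
  set H := Subgroup.centralizer ({u} : Set G) with hHdef
  have hKH : K ≤ H := center_le_centralizer_zpowers u
  have hHtop : H ≠ ⊤ := fun h => hu (Subgroup.mem_center_iff.mpr fun g =>
    Subgroup.mem_centralizer_singleton_iff.mp (show g ∈ H from h ▸ Subgroup.mem_top g))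
  obtain ⟨j, hj⟩ := hP.index H
  have hj1 : j = 1 := by
    rcases j with _ | _ | j
    · exact absurd (Subgroup.index_eq_one.mp (by simpa using hj)) hHtop
    · rfl
    · rw [hj, ← pow_one p, ← pow_mul] at hH
      have := (Nat.pow_le_pow_iff_right hp.out.one_lt).mp hH
      omega
  have hHcard : Nat.card H = p ^ 3 := by
    have h := H.card_mul_index
    rw [hG, hj, hj1, pow_one, pow_succ p 3] at h
    exact Nat.eq_of_mul_eq_mul_right hp.out.pos h
  refine ⟨H, ?_, hHcard⟩
  by_contra hna
  have h1 := sq_le_index_center (hP.to_subgroup H) hna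
  have h2 : K.subgroupOf H ≤ Subgroup.center H := by
    intro x hx
    rw [Subgroup.mem_subgroupOf] at hx
    rw [Subgroup.mem_center_iff]
    intro y
    apply Subtype.ext
    have hy := y.2
    change (y : G) * x = x * y
    rw [hK, Subgroup.mem_sup_of_normal_left] at hx
    obtain ⟨z, hz, w, hw, hzw⟩ := hx
    obtain ⟨m, rfl⟩ := Subgroup.mem_zpowers_iff.mp hw
    rw [← hzw]
    have hyu : Commute (y : G) u := Subgroup.mem_centralizer_singleton_iff.mp hy
    exact (Commute.mul_right (Subgroup.mem_center_iff.mp hz y : (y:G) * z = z * y)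
      (hyu.zpow_right m)).eq
  have h3 := Subgroup.card_le_of_le h2
  rw [Nat.card_congr (Subgroup.subgroupOfEquivOfLe hKH).toEquiv, hi] at h3
  have h4 := (Subgroup.center H).card_mul_index
  rw [hHcard] at h4
  have h5 : p ^ i * p ^ 2 ≤ p ^ 3 := h4 ▸ Nat.mul_le_mul h3 h1
  rw [← pow_add] at h5
  have := (Nat.pow_le_pow_iff_right hp.out.one_lt).mp h5
  omega

/-- A group of order `p^2` and exponent `p` has exactly `p + 1` subgroups of order `p`. -/
theorem card_subgroups_card_prime [Finite G] [hp : Fact p.Prime] (hG : Nat.card G = p ^ 2)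
    (hexp : ∀ x : G, x ^ p = 1) : Nat.card {H : Subgroup G // Nat.card H = p} = p + 1 := by
  classical
  haveI := Fintype.ofFinite G
  have hord : ∀ x : G, x ≠ 1 → Nat.card (Subgroup.zpowers x) = p := fun x hx => by
    rw [Nat.card_zpowers, orderOf_eq_prime (hexp x) hx]
  let f : {x : G // x ≠ 1} → {H : Subgroup G // Nat.card H = p} :=
    fun x => ⟨Subgroup.zpowers x.1, hord x.1 x.2⟩
  have hfib : ∀ H : {H : Subgroup G // Nat.card H = p},
      Nat.card {x : {x : G // x ≠ 1} // f x = H} = p - 1 := by
    rintro ⟨H, hH⟩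
    have hH' : Nat.card {h : H // h ≠ 1} = p - 1 := by
      haveI := Fintype.ofFinite H
      rw [Nat.card_eq_fintype_card, Fintype.card_subtype_compl, Fintype.card_subtype_eq,
        ← Nat.card_eq_fintype_card, hH]
    rw [← hH']
    refine Nat.card_congr
      { toFun := fun x => ⟨⟨x.1.1, ?_⟩, fun h => x.1.2 (congrArg Subtype.val h)⟩
        invFun := fun h => ⟨⟨h.1.1, fun h1 => h.2 (Subtype.ext h1)⟩, ?_⟩
        left_inv := fun x => rfl
        right_inv := fun h => rfl }
    · have := congrArg Subtype.val x.2
      simp only [f] at this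
      exact (le_of_eq this) (Subgroup.mem_zpowers _)
    · refine Subtype.ext (Subgroup.eq_of_le_of_card_ge (Subgroup.zpowers_le.mpr h.1.2) ?_)
      rw [hH, hord _ fun h1 => h.2 (Subtype.ext h1)]
  have h1 : Nat.card {x : G // x ≠ 1} = p ^ 2 - 1 := by
    rw [Nat.card_eq_fintype_card, Fintype.card_subtype_compl, Fintype.card_subtype_eq,
      ← Nat.card_eq_fintype_card, hG]
  haveI := Fintype.ofFinite {H : Subgroup G // Nat.card H = p}
  rw [Nat.card_congr (Equiv.sigmaFiberEquiv f).symm, Nat.card_sigma,
    Finset.sum_congr rfl (fun H _ => hfib H), Finset.sum_const, Finset.card_univ,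
    ← Nat.card_eq_fintype_card, smul_eq_mul] at h1
  have h2 : p ^ 2 - 1 = (p + 1) * (p - 1) := by rw [← Nat.sq_sub_sq, one_pow]
  rw [h2] at h1
  exact Nat.eq_of_mul_eq_mul_right (by have := hp.out.two_le; omega) h1

end CfsgLib.PGroups
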