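import Mathlib

/-!
# The norm of a cyclic `p`-group of operators in characteristic `p`

`fixed_of_norm_eq_zero` is the abelian case of the theorem of Hall and Higman on the minimal
polynomial: if `1 + X + ⋯ + X ^ (p ^ m - 1) = 0` then `X ^ (p ^ (m - 1))` centralises every abelian
`p'`-group of operators normalised by `X`.
-/

set_option autoImplicit false
set_option linter.all false

namespace CfsgLib.PGroups

open Finset

theorem fixed_of_norm_eq_zero {E : Type*} [Ring E] {A : Type*} [CommGroup A] [Finite A]
    (r : A →* E) {p m : ℕ} [hp : Fact p.Prime] (hp0 : (p : E) = 0)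
    (hcop : (Nat.card A).Coprime p) (θ : MulAut A) (hθ : θ ^ p ^ (m + 1) = 1) (X : E)
    (hXr : ∀ a, X * r a = r (θ a) * X)
    (hN : ∑ i ∈ range (p ^ (m + 1)), X ^ i = 0) (a : A) : r ((θ ^ p ^ m) a) = r a := by
  classical
  rcases subsingleton_or_nontrivial E with hs | hn
  · exact Subsingleton.elim _ _
  haveI : CharP E p := (CharP.charP_iff_prime_eq_zero hp.out).mpr hp0
  set N := p ^ (m + 1) with hN'
  have hN0 : 0 < N := pow_pos hp.out.pos _
  have hXi : ∀ (i : ℕ) (b : A), X ^ i * r b = r ((θ ^ i) b) * X ^ i := by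
    intro i
    induction i with
    | zero => intro b; simp
    | succ i ih =>
      intro b
      rw [pow_succ, mul_assoc, hXr, ← mul_assoc, ih, mul_assoc, ← pow_succ, pow_succ θ, MulAut.mul_apply]
  have hrr : ∀ b c, r b * r c = r c * r b := fun b c => by rw [← map_mul, ← map_mul, mul_comm]
  set d : E := r a - r ((θ ^ p ^ m) a) with hd
  have hdc : ∀ b, r b * d = d * r b := fun b => by rw [hd, mul_sub, sub_mul, hrr, hrr b]
  -- eliminate the indices one at a time
  have key : ∀ T : Finset ℕ, T ⊆ range N → 0 ∉ T →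
      ∃ e : ℕ → E, (∀ i b, r b * e i = e i * r b) ∧ e 0 = d ^ T.card ∧
        ∀ b, ∑ i ∈ range N \ T, e i * r ((θ ^ i) b) * X ^ i = 0 := by
    intro T
    induction T using Finset.induction_on with
    | empty =>
      intro _ _
      refine ⟨fun _ => 1, by simp, by simp, fun b => ?_⟩
      rw [sdiff_empty]
      have h1 := congrArg (· * r b) hN
      simp only [zero_mul, Finset.sum_mul] at h1
      rw [← h1]
      exact Finset.sum_congr rfl fun i _ => by rw [one_mul, hXi]
    | insert j T hjT ih =>
      intro hsub h0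
      rw [insert_subset_iff, mem_range] at hsub
      simp only [mem_insert, not_or] at h0
      obtain ⟨e, hec, he0, heq⟩ := ih hsub.2 h0.2
      obtain ⟨k, hk⟩ : ∃ k, (j * k) % N = p ^ m := by
        obtain ⟨s, hs, hgcd⟩ := (Nat.dvd_prime_pow hp.out).mp (Nat.gcd_dvd_right j N)
        have hsm : s ≤ m := by
          by_contra hcon
          have h1 : N ∣ j := by
            have h2 := Nat.gcd_dvd_left j N
            rw [hgcd, show s = m + 1 by omega] at h2
            exact h2
          exact absurd (Nat.le_of_dvd (Nat.pos_of_ne_zero (Ne.symm h0.1)) h1) (not_le.mpr hsub.1)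
        obtain ⟨k, hk⟩ := Nat.exists_mul_mod_eq_gcd (n := j) (k := N) (by
          rw [hgcd]; exact Nat.pow_lt_pow_right hp.out.one_lt (by omega))
        refine ⟨k * p ^ (m - s), ?_⟩
        have h2 : j * k ≡ p ^ s [MOD N] := by
          rw [Nat.ModEq, hk.2, hgcd, Nat.mod_eq_of_lt (Nat.pow_lt_pow_right hp.out.one_lt (by omega : s < m + 1))]
        have h3 := h2.mul_right (p ^ (m - s))
        rw [← pow_add, show s + (m - s) = m by omega, mul_assoc] at h3
        rw [h3, Nat.mod_eq_of_lt (Nat.pow_lt_pow_right hp.out.one_lt (by omega))]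
      let f : ℕ → A := fun l => (θ ^ (j * l)) a
      let D : ℕ → E := fun i => ∑ l ∈ range k, (r ((θ ^ i) (f l)) - r ((θ ^ j) (f l)))
      have hD0 : D 0 = d := by
        simp only [D, pow_zero, MulAut.one_apply]
        have : ∀ l, (θ ^ j) (f l) = f (l + 1) := fun l => by
          simp only [f]; rw [← MulAut.mul_apply, ← pow_add, mul_add, mul_one, add_comm]
        simp only [this]
        rw [Finset.sum_range_sub' (fun l => r (f l)) k]
        simp only [f, mul_zero, pow_zero, MulAut.one_apply]
        rw [hd, pow_eq_pow_mod (j * k) hθ, hk]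
      have hDc : ∀ i b, r b * D i = D i * r b := fun i b => by
        simp only [D, Finset.mul_sum, Finset.sum_mul]
        exact Finset.sum_congr rfl fun l _ => by rw [mul_sub, sub_mul, hrr, hrr b]
      refine ⟨fun i => e i * D i, fun i b => by rw [← mul_assoc, hec, mul_assoc, hDc, mul_assoc],
        by simp only; rw [he0, hD0, card_insert_of_notMem hjT, pow_succ], fun b => ?_⟩
      have hmem : j ∈ range N \ T := mem_sdiff.mpr ⟨mem_range.mpr hsub.1, hjT⟩
      have hfull : ∑ i ∈ range N \ T, e i * D i * r ((θ ^ i) b) * X ^ i = 0 := by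
        have hl : ∀ l, ∑ i ∈ range N \ T,
            e i * (r ((θ ^ i) (f l)) - r ((θ ^ j) (f l))) * r ((θ ^ i) b) * X ^ i = 0 := by
          intro l
          have h1 := heq (f l * b)
          have h2 := congrArg (r ((θ ^ j) (f l)) * ·) (heq b)
          simp only [mul_zero, Finset.mul_sum] at h2
          rw [← sub_eq_zero.mpr (h1.trans h2.symm), ← Finset.sum_sub_distrib]
          refine Finset.sum_congr rfl fun i _ => ?_
          simp only [map_mul, mul_sub, sub_mul, ← mul_assoc]
          rw [hec]
        simp only [D, Finset.mul_sum, Finset.sum_mul]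
        rw [Finset.sum_comm]
        exact Finset.sum_eq_zero fun l _ => hl l
      rw [← Finset.add_sum_erase _ _ hmem] at hfull
      have hDj : D j = 0 := by simp [D]
      rw [hDj, mul_zero, zero_mul, zero_mul, zero_add] at hfull
      rwa [Finset.sdiff_insert]
  obtain ⟨e, -, he0, heq⟩ := key (range N \ {0}) sdiff_subset (by simp)
  have h1 := heq 1
  rw [show range N \ (range N \ {0}) = {0} by
    rw [sdiff_sdiff_right_self, inf_eq_inter, inter_singleton_of_mem (mem_range.mpr hN0)],
    Finset.sum_singleton, pow_zero, MulAut.one_apply, map_one, mul_one, pow_zero, mul_one, he0] at h1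
  -- `u = a⁻¹ θ^(p^m) a` is unipotent of order prime to `p`
  set c := (θ ^ p ^ m) a * a⁻¹ with hc
  have hd' : d = r a * (1 - r c) := by
    rw [hd, mul_sub, mul_one, ← map_mul, hc, mul_comm a, inv_mul_cancel_right]
  have hcomm : Commute (r a) (1 - r c) := (Commute.one_right _).sub_right (hrr a c)
  have h2 : (1 - r c) ^ N = 0 := by
    have h3 : d ^ N = 0 := by
      rw [← Nat.sub_add_cancel (Nat.one_le_iff_ne_zero.mpr hN0.ne'), pow_succ]
      rw [card_sdiff_of_subset (by simp [hN0]), card_singleton, card_range] at h1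
      rw [h1, zero_mul]
    rw [hd', hcomm.mul_pow] at h3
    have h4 := congrArg (r (a ^ N)⁻¹ * ·) h3
    simp only [mul_zero] at h4
    rwa [← mul_assoc, ← map_pow, ← map_mul, inv_mul_cancel, map_one, one_mul] at h4
  rw [sub_pow_char_pow_of_commute (p := p) (n := m + 1) (Commute.one_left (r c)), one_pow,
    sub_eq_zero] at h2
  have h3 : r c ^ Nat.card A = 1 := by rw [← map_pow, pow_card_eq_one', map_one]
  have h4 : r c = 1 := by
    have := pow_gcd_eq_one.mpr (⟨h3, h2.symm⟩ : r c ^ Nat.card A = 1 ∧ r c ^ N = 1)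
    rwa [(hcop.pow_right (m + 1)).gcd_eq_one, pow_one] at this
  have : (θ ^ p ^ m) a = c * a := by rw [hc, inv_mul_cancel_right]
  rw [this, map_mul, h4, one_mul]

end CfsgLib.PGroups
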