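import Mathlib
import Cfsg.Agent.Lib.PLocal.PSolvable
import Cfsg.Agent.Lib.Core.Coprime
import Cfsg.Agent.Lib.PGroups.Basic
import Cfsg.Agent.Lib.PGroups.CyclicNorm

/-!
# A `p`-soluble group on the Frattini quotient of `O_p`

* `centralizer_pPrimeCore_le`: if `O_p(H) = 1` then `C(O_{p'}(H)) ≤ O_{p'}(H)`
* `exists_mul_pow_ne`: an element of order `p ^ (m + 1)` modulo a faithful module moves a suitable
  power, if it acts faithfully on an abelian `p'`-group
* `frattini_module`: if `O_{p'}(H) = 1` then `R / Φ(R)` (`R = O_p(H)`) is a faithful module for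
  `H / R`, and `O_p(H / R) = 1`
-/

set_option autoImplicit false
set_option linter.all false

namespace CfsgLib.PGroups

open CfsgLib.Core
open scoped Pointwise commutatorElement

universe u

/-- The dual of Lemma 1.2.3 of Hall and Higman. -/
theorem centralizer_pPrimeCore_le {H : Type*} [Group H] [Finite H] {p : ℕ} [hp : Fact p.Prime]
    (hsol : Cfsg.IsPSolvable p H) (hO : Cfsg.pCore p H = ⊥) :
    Subgroup.centralizer (Cfsg.pPrimeCore p H : Set H) ≤ Cfsg.pPrimeCore p H := by
  obtain ⟨n, T, h0, hn, hmono, hnorm, hfac⟩ := hsol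
  set C := Subgroup.centralizer (Cfsg.pPrimeCore p H : Set H) with hC
  set Z := C ⊓ Cfsg.pPrimeCore p H with hZ
  have key : ∀ i : Fin (n + 1), T i ⊓ C ≤ Z := by
    intro i
    induction i using Fin.induction with
    | zero => rw [h0]; simp
    | succ i ih =>
      have := hnorm i.succ
      have := hnorm i.castSucc
      haveI : C.Normal := Subgroup.normal_centralizer
      set M := (T i.succ ⊓ C) ⊔ Z with hM
      haveI : Z.Normal := Subgroup.normal_inf_normal C _
      haveI : (T i.succ ⊓ C).Normal := Subgroup.normal_inf_normal _ C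
      haveI : M.Normal := Subgroup.sup_normal _ _
      have hMC : M ≤ C := sup_le inf_le_right inf_le_left
      have hdvd : Z.relIndex M ∣ (T i.castSucc).relIndex (T i.succ) := by
        rw [hM, Subgroup.relIndex_sup_right]
        refine (Subgroup.relIndex_dvd_of_le_left _ ih).trans ?_
        have : (T i.castSucc ⊓ C).relIndex (T i.succ ⊓ C)
            = (T i.castSucc).relIndex (T i.succ ⊓ C) := by
          rw [← Subgroup.inf_relIndex_right (T i.castSucc), ← inf_assoc,
            inf_eq_left.2 (hmono (Fin.castSucc_le_succ i))]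
        rw [this]
        exact CfsgLib.PLocal.relIndex_dvd_of_normal_le _ inf_le_left
      have hZc : (Nat.card Z).Coprime p :=
        (coprime_card_pPrimeCore p H).coprime_dvd_left (Subgroup.card_dvd_of_le inf_le_right)
      have hcard : Nat.card Z * Z.relIndex M = Nat.card M := by
        rw [← Subgroup.relIndex_bot_left M, ← Subgroup.relIndex_mul_relIndex ⊥ Z M bot_le le_sup_right,
          Subgroup.relIndex_bot_left]
      suffices hMZ : M ≤ Z from le_sup_left.trans hMZ
      rcases CfsgLib.PLocal.factor_of_dvd hp.out hdvd (hfac i) with ⟨m, hm⟩ | hcop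
      · -- `M` is a central product of `Z` with a normal Sylow subgroup, which is trivial
        obtain ⟨S⟩ : Nonempty (Sylow p M) := inferInstance
        have hS : (S : Subgroup M).Normal := by
          rw [← Subgroup.normalizer_eq_top_iff, eq_top_iff]
          have hsup : Z.subgroupOf M ⊔ (S : Subgroup M) = ⊤ := by
            refine Subgroup.eq_top_of_card_eq _ (Nat.dvd_antisymm (Subgroup.card_subgroup_dvd_card _) ?_)
            rw [← hcard]
            refine Nat.Coprime.mul_dvd_of_dvd_of_dvd (hm ▸ hZc.pow_right m) ?_ ?_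
            · rw [← Nat.card_congr (Subgroup.subgroupOfEquivOfLe (le_sup_right : Z ≤ M)).toEquiv]
              exact Subgroup.card_dvd_of_le le_sup_left
            · rw [hm]
              exact (S.pow_dvd_card_of_pow_dvd_card (by rw [← hcard, hm]; exact dvd_mul_left _ _)).trans
                (Subgroup.card_dvd_of_le le_sup_right)
          rw [← hsup]
          refine sup_le ?_ Subgroup.le_normalizer
          refine le_trans ?_ (Subgroup.centralizer_le_normalizer _)
          intro z hz
          rw [Subgroup.mem_centralizer_iff]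
          intro s _
          refine Subtype.ext ?_
          have hs : (s : H) ∈ C := hMC s.2
          exact (Subgroup.mem_centralizer_iff.mp hs _ hz.2).symm
        have hSb : (S : Subgroup M).map M.subtype = ⊥ :=
          eq_bot_iff.mpr (hO ▸ (Subgroup.map_mono (le_pCore S.2)).trans (map_subtype_pCore_le M))
        have hS1 : p ^ m ∣ 1 := by
          rw [Subgroup.map_eq_bot_iff_of_injective _ M.subtype_injective] at hSb
          have h1 := S.pow_dvd_card_of_pow_dvd_card (n := m) (by rw [← hcard, hm]; exact dvd_mul_left _ _)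
          rwa [hSb, Subgroup.card_bot] at h1
        rw [Nat.dvd_one.mp hS1] at hm
        exact Subgroup.relIndex_eq_one.mp hm
      · exact le_inf hMC (le_pPrimeCore (hcard ▸ hZc.mul_left hcop))
  have := key (Fin.last n)
  rw [hn, top_inf_eq] at this
  exact this.trans inf_le_right

/-- The image of `R = O_p(H)` in `H / Φ(R)`. -/
theorem frattini_module {H : Type u} [Group H] [Finite H] {p : ℕ} [hp : Fact p.Prime]
    (hsol : Cfsg.IsPSolvable p H) (hO : Cfsg.pPrimeCore p H = ⊥) :
    ∃ (Φ : Subgroup H) (_ : Φ.Normal) (V : Subgroup (H ⧸ Φ)) (_ : V.Normal),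
      V.comap (QuotientGroup.mk' Φ) = Cfsg.pCore p H ∧ Φ ≤ Cfsg.pCore p H ∧
      (∀ v ∈ V, ∀ w ∈ V, v * w = w * v) ∧ (∀ v ∈ V, v ^ p = 1) ∧
      Subgroup.centralizer (V : Set (H ⧸ Φ)) ≤ V ∧ Cfsg.pCore p ((H ⧸ Φ) ⧸ V) = ⊥ := by
  classical
  set R := Cfsg.pCore p H with hR
  have hRp : IsPGroup p R := isPGroup_pCore p _
  have hCR := CfsgLib.PLocal.centralizer_pCore_le hsol hO
  set Φ := (frattini R).map R.subtype with hΦ
  have hΦR : Φ ≤ R := Subgroup.map_subtype_le _
  haveI : Φ.Normal := ConjAct.normal_of_characteristic_of_normal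
  set ψ := QuotientGroup.mk' Φ with hψ
  have hψs := QuotientGroup.mk'_surjective Φ
  set V := R.map ψ with hV
  haveI : V.Normal := Subgroup.Normal.map inferInstance ψ hψs
  have hVR : V.comap ψ = R := Subgroup.comap_map_eq_self (by rw [QuotientGroup.ker_mk']; exact hΦR)
  refine ⟨Φ, inferInstance, V, inferInstance, hVR, hΦR, ?_, ?_, ?_, ?_⟩
  · rintro _ ⟨x, hx, rfl⟩ _ ⟨y, hy, rfl⟩
    rw [← map_mul, ← map_mul]
    refine QuotientGroup.eq.mpr (Subgroup.mem_map.mpr ⟨⁅(⟨y, hy⟩ : R)⁻¹, (⟨x, hx⟩ : R)⁻¹⁆,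
      commutator_le_frattini' hRp (Subgroup.commutator_mem_commutator (Subgroup.mem_top _) (Subgroup.mem_top _)), ?_⟩)
    simp only [commutatorElement_def, Subgroup.coe_subtype, Subgroup.coe_mul, Subgroup.coe_inv]; group
  · rintro _ ⟨x, hx, rfl⟩
    rw [← map_pow]
    exact (QuotientGroup.eq_one_iff _).mpr
      (Subgroup.mem_map_of_mem R.subtype (pow_mem_frattini hRp (⟨x, hx⟩ : R)))
  · -- `C(R/Φ) = R/Φ`
    intro y hy
    obtain ⟨x, rfl⟩ := hψs y
    refine Subgroup.mem_map_of_mem ψ ?_
    set D := (Subgroup.centralizer (V : Set (H ⧸ Φ))).comap ψ with hD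
    suffices hDp : IsPGroup p D by
      haveI : D.Normal := Subgroup.Normal.comap Subgroup.normal_centralizer ψ
      exact le_pCore hDp hy
    intro d
    obtain ⟨k, m, hm, hord⟩ := Nat.exists_eq_pow_mul_and_not_dvd (orderOf_pos (d : H)).ne' p
      (Fact.out : p.Prime).ne_one
    refine ⟨k, ?_⟩
    set u := (d : H) ^ p ^ k with hu
    have hum : u ^ m = 1 := by rw [hu, ← pow_mul, ← hord, pow_orderOf_eq_one]
    have huc : (Nat.card (Subgroup.zpowers u)).Coprime p := by
      rw [Nat.card_zpowers]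
      exact ((((Fact.out : p.Prime).coprime_iff_not_dvd).mpr hm).symm).coprime_dvd_left
        (orderOf_dvd_of_pow_eq_one hum)
    have huR : Subgroup.zpowers u ≤ Subgroup.centralizer (R : Set (H)) := by
      obtain ⟨f, hf⟩ := IsPGroup.iff_card.mp (hRp.to_subgroup (frattini R))
      refine centralizes_of_centralizes_frattini_quotient Subgroup.le_normalizer_of_normal
        (hf ▸ huc.pow_right f) fun w hw r hr => ?_
      have hwD : w ∈ D := (Subgroup.zpowers_le.mpr (D.pow_mem d.2 _)) hw
      have hc : ψ r * ψ w = ψ w * ψ r := Subgroup.mem_centralizer_iff.mp hwD _ (Subgroup.mem_map_of_mem ψ hr)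
      rw [← hΦ]
      refine (QuotientGroup.eq_one_iff _).mp ?_
      show ψ (w * r * w⁻¹ * r⁻¹) = 1
      rw [map_mul, map_mul, map_mul, map_inv, map_inv, ← hc, mul_inv_cancel_right, mul_inv_cancel]
    have h1 : u ∈ R := hCR (huR (Subgroup.mem_zpowers u))
    obtain ⟨f, hf⟩ := hRp ⟨u, h1⟩
    have h2 : u ^ p ^ f = 1 := by simpa using congrArg Subtype.val hf
    have h3 := pow_gcd_eq_one.mpr (⟨h2, hum⟩ : u ^ p ^ f = 1 ∧ u ^ m = 1)
    rw [((((Fact.out : p.Prime).coprime_iff_not_dvd).mpr hm).pow_left f).gcd_eq_one, pow_one] at h3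
    exact Subtype.ext (by simpa [hu] using h3)
  · -- `O_p(X/V) = 1`
    set T := (Cfsg.pCore p ((H ⧸ Φ) ⧸ V)).comap (QuotientGroup.mk' V) with hT
    haveI : T.Normal := Subgroup.Normal.comap inferInstance _
    haveI : (T.comap ψ).Normal := Subgroup.Normal.comap inferInstance _
    have hTp : IsPGroup p (T.comap ψ) :=
      ((isPGroup_pCore p _).comap_of_ker_isPGroup _
        (by rw [QuotientGroup.ker_mk']; exact hRp.map ψ)).comap_of_ker_isPGroup ψ
        (by rw [QuotientGroup.ker_mk']; exact hRp.to_le hΦR)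
    have hle : T ≤ V := fun y hy => by
      obtain ⟨x, rfl⟩ := hψs y
      exact Subgroup.mem_map_of_mem ψ (le_pCore hTp hy)
    rw [eq_bot_iff]
    intro y hy
    obtain ⟨x, rfl⟩ := QuotientGroup.mk'_surjective V y
    exact (QuotientGroup.eq_one_iff x).mpr (hle hy)

/-- If `π a` acts with order `p ^ (m + 1)` on an abelian `p'`-group then some `(v a) ^ (p ^ (m + 1))`
differs from `a ^ (p ^ (m + 1))`. -/
theorem exists_mul_pow_ne {X : Type u} [Group X] [Finite X] {p m : ℕ} [hp : Fact p.Prime]
    (V : Subgroup X) [V.Normal] (hVc : ∀ v ∈ V, ∀ w ∈ V, v * w = w * v) (hVp : ∀ v ∈ V, v ^ p = 1)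
    (hCV : Subgroup.centralizer (V : Set X) ≤ V) {a : X} (hap : a ^ p ^ (m + 1) ∈ V)
    (A : Subgroup (X ⧸ V)) (hAc : ∀ b ∈ A, ∀ c ∈ A, b * c = c * b) (hcop : (Nat.card A).Coprime p)
    (hAa : QuotientGroup.mk' V a ∈ Subgroup.normalizer (A : Set (X ⧸ V)))
    (hnc : QuotientGroup.mk' V (a ^ p ^ m) ∉ Subgroup.centralizer (A : Set (X ⧸ V))) :
    ∃ v ∈ V, (v * a) ^ p ^ (m + 1) ≠ a ^ p ^ (m + 1) := by
  classical
  by_contra hcon
  push Not at hcon
  letI : CommGroup V :=
    { (inferInstance : Group V) with mul_comm := fun v w => Subtype.ext (hVc v v.2 w w.2) }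
  let c : X →* AddMonoid.End (Additive V) :=
    { toFun := fun x => MonoidHom.toAdditive (MulAut.conjNormal x : MulAut V).toMonoidHom
      map_one' := by rw [map_one]; rfl
      map_mul' := fun x y => by rw [map_mul]; rfl }
  have hc : ∀ (x : X) (v : V), ((Additive.toMul (c x (Additive.ofMul v)) : V) : X) = x * v * x⁻¹ :=
    fun x v => MulAut.conjNormal_apply x v
  have hker : V ≤ c.ker := fun x hx => DFunLike.ext _ _ fun q => by
    apply Additive.toMul.injective
    apply Subtype.ext
    show ((Additive.toMul (c x (Additive.ofMul (Additive.toMul q))) : V) : X) = _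
    rw [hc, hVc x hx _ (Additive.toMul q).2, mul_inv_cancel_right]; rfl
  let ρ : X ⧸ V →* AddMonoid.End (Additive V) := QuotientGroup.lift V c hker
  have hinj : ∀ g, ρ g = 1 → g = 1 := by
    intro g hg
    obtain ⟨x, rfl⟩ := QuotientGroup.mk'_surjective V g
    refine (QuotientGroup.eq_one_iff x).mpr (hCV (Subgroup.mem_centralizer_iff.mpr fun v hv => ?_))
    have h1 := hc x ⟨v, hv⟩
    rw [show c x = 1 from hg] at h1
    exact (mul_inv_eq_iff_eq_mul.mp h1.symm).symm
  set π := QuotientGroup.mk' V with hπ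
  letI : CommGroup A :=
    { (inferInstance : Group A) with mul_comm := fun b b' => Subtype.ext (hAc b b.2 b' b'.2) }
  let N := Subgroup.normalizer (A : Set (X ⧸ V))
  let θ : MulAut A := A.normalizerMonoidHom ⟨π a, hAa⟩
  have hθc : ∀ (k : ℕ) (b : A), (((θ ^ k) b : A) : X ⧸ V) = π a ^ k * b * (π a ^ k)⁻¹ := by
    intro k b
    simp only [θ, ← map_pow]
    rfl
  have hπa : π a ^ p ^ (m + 1) = 1 := by
    rw [← map_pow]; exact (QuotientGroup.eq_one_iff _).mpr hap
  set T := ρ (π a) with hT
  have hS : ∀ (v : V) (k : ℕ), ((v : X) * a) ^ k =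
      ((Additive.toMul ((∑ i ∈ Finset.range k, T ^ i) (Additive.ofMul v)) : V) : X) * a ^ k := by
    intro v k
    induction k with
    | zero => simp
    | succ k ih =>
      have hTk : ((Additive.toMul ((T ^ k) (Additive.ofMul v)) : V) : X) = a ^ k * v * (a ^ k)⁻¹ := by
        rw [hT, ← map_pow, ← map_pow]; exact hc (a ^ k) v
      have hadd : ∀ f g : AddMonoid.End (Additive V), ∀ q, (f + g) q = f q + g q := fun _ _ _ => rfl
      rw [Finset.sum_range_succ, hadd, toMul_add, Subgroup.coe_mul, hTk, pow_succ, ih,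
        pow_succ]
      group
  have hN : ∑ i ∈ Finset.range (p ^ (m + 1)), T ^ i = 0 := DFunLike.ext _ _ fun q => by
    have h1 := hS (Additive.toMul q) (p ^ (m + 1))
    rw [hcon _ (Additive.toMul q).2] at h1
    have h2 := mul_eq_right.mp h1.symm
    exact Additive.toMul.injective (Subtype.ext h2)
  have hp0 : (p : AddMonoid.End (Additive V)) = 0 := DFunLike.ext _ _ fun q => by
    rw [AddMonoid.End.natCast_apply]
    exact Additive.toMul.injective (Subtype.ext (by simpa using hVp _ (Additive.toMul q).2))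
  refine hnc (Subgroup.mem_centralizer_iff.mpr fun b hb => ?_)
  have h := fixed_of_norm_eq_zero (m := m) (ρ.comp A.subtype) hp0 hcop θ
    (MulEquiv.ext fun b => Subtype.ext (by rw [hθc, hπa]; simp)) T
    (fun b => by
      show ρ (π a) * ρ b = ρ _ * ρ (π a)
      rw [← map_mul, ← map_mul]
      congr 1
      have := hθc 1 b
      simp only [pow_one] at this
      show π a * b = ((θ b : A) : X ⧸ V) * π a
      rw [this, inv_mul_cancel_right]) hN ⟨b, hb⟩
  have h' : (((θ ^ p ^ m) ⟨b, hb⟩ : A) : X ⧸ V) * b⁻¹ = 1 := by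
    refine hinj _ ?_
    rw [map_mul]
    show ρ _ * ρ b⁻¹ = 1
    rw [show ρ (((θ ^ p ^ m) ⟨b, hb⟩ : A) : X ⧸ V) = ρ b from h, ← map_mul, mul_inv_cancel, map_one]
  rw [hθc, mul_inv_eq_one, mul_inv_eq_iff_eq_mul, ← map_pow] at h'
  exact h'.symm

end CfsgLib.PGroups
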