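import Mathlib

/-!
# Quadratic maps between elementary abelian 2-groups without nontrivial zeros

`card_mul_index_le`: if `q : V → A` is quadratic with polar map inside `D`, and `q v ∈ B` only for
`v = 1`, then `|V| * |A : B ⊔ D| ≤ |A : B| ^ 2` (a Chevalley–Warning bound, proved with finite
differences).
-/

set_option autoImplicit false
set_option linter.all false

namespace CfsgLib.PGroups.QuadraticCount

open scoped Classical

/-- `f` has degree at most `d` as measured by finite differences. -/
def Deg {V : Type*} [Group V] : ℕ → (V → ZMod 2) → Prop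
  | 0, f => ∀ a x, f (x * a) = f x
  | d + 1, f => ∀ a, Deg d fun x => f (x * a) + f x

variable {V : Type*} [Group V]

theorem comm_of_sq {V : Type*} [Group V] (hV : ∀ x : V, x * x = 1) (a b : V) : a * b = b * a := by
  have h : ∀ x : V, x⁻¹ = x := fun x => inv_eq_of_mul_eq_one_right (hV x)
  calc a * b = (a * b)⁻¹ := (h _).symm
    _ = b * a := by rw [mul_inv_rev, h, h]

theorem deg_const (c : ZMod 2) : ∀ d, Deg d (fun _ : V => c) := by
  intro d
  induction d generalizing c with
  | zero => exact fun a x => rfl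
  | succ d ih => exact fun a => ih _

theorem deg_succ : ∀ {d : ℕ} {f : V → ZMod 2}, Deg d f → Deg (d + 1) f
  | 0, f, h => fun a b x => by
    show f (x * b * a) + f (x * b) = f (x * a) + f x
    rw [h a (x * b), h a x, h b x]
  | d + 1, f, h => fun a => deg_succ (h a)

theorem deg_mono {d e : ℕ} (hde : d ≤ e) {f : V → ZMod 2} (h : Deg d f) : Deg e f := by
  induction hde with
  | refl => exact h
  | step _ ih => exact deg_succ ih

theorem deg_add : ∀ {d : ℕ} {f g : V → ZMod 2}, Deg d f → Deg d g → Deg d fun x => f x + g x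
  | 0, f, g, hf, hg => fun a x => by simp only [hf a x, hg a x]
  | d + 1, f, g, hf, hg => fun a => by
    convert deg_add (hf a) (hg a) using 2 with x
    ring

theorem deg_shift (hV : ∀ x : V, x * x = 1) :
    ∀ {d : ℕ} {f : V → ZMod 2}, Deg d f → ∀ b, Deg d fun x => f (x * b)
  | 0, f, h, b => fun a x => by
    show f (x * a * b) = f (x * b)
    rw [mul_assoc, h (a * b) x, h b x]
  | d + 1, f, h, b => fun a => by
    convert deg_shift hV (h a) b using 2 with x
    rw [mul_assoc x b a, comm_of_sq hV b a, ← mul_assoc]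

theorem deg_mul (hV : ∀ x : V, x * x = 1) : ∀ (n : ℕ) {d e : ℕ}, d + e = n → ∀ {f g : V → ZMod 2},
    Deg d f → Deg e g → Deg n fun x => f x * g x := by
  intro n
  induction n with
  | zero =>
    intro d e h f g hf hg
    obtain ⟨rfl, rfl⟩ : d = 0 ∧ e = 0 := by omega
    exact fun a x => by simp only [hf a x, hg a x]
  | succ n ih =>
    intro d e h f g hf hg a
    have key : (fun x => f (x * a) * g (x * a) + f x * g x) =
        fun x => (f (x * a) + f x) * g (x * a) + f x * (g (x * a) + g x) := by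
      funext x
      linear_combination -(CharTwo.add_self_eq_zero (f x * g (x * a)))
    show Deg n fun x => f (x * a) * g (x * a) + f x * g x
    rw [key]
    refine deg_add ?_ ?_
    · rcases d with _ | d
      · convert deg_const (V := V) 0 n using 2 with x
        rw [hf a x, CharTwo.add_self_eq_zero, zero_mul]
      · exact ih (d := d) (e := e) (by omega) (hf a) (deg_shift hV hg a)
    · rcases e with _ | e
      · convert deg_const (V := V) 0 n using 2 with x
        rw [hg a x, CharTwo.add_self_eq_zero, mul_zero]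
      · exact ih (d := d) (e := e) (by omega) hf (hg a)

theorem deg_subgroup : ∀ {d : ℕ} {f : V → ZMod 2}, Deg d f → ∀ H : Subgroup V, Deg d fun x : H => f x
  | 0, f, h, H => fun a x => h (a : V) (x : V)
  | d + 1, f, h, H => fun a => deg_subgroup (h (a : V)) H

theorem sum_eq_zero : ∀ (m : ℕ) {V : Type*} [Group V] [Fintype V], (∀ x : V, x * x = 1) → Nat.card V = 2 ^ m →
    ∀ {d : ℕ}, d < m → ∀ {f : V → ZMod 2}, Deg d f → ∑ x, f x = 0 := by
  intro m
  induction m with
  | zero => intro V _ _ _ _ d hd; omega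
  | succ m ih =>
    intro V _ _ hV hcard d hd f hf
    rcases d with _ | d
    · have : ∀ x, f x = f 1 := fun x => by simpa using hf x 1
      rw [Finset.sum_congr rfl fun x _ => this x, Finset.sum_const, Finset.card_univ, ← Nat.card_eq_fintype_card,
        hcard, pow_succ', mul_nsmul', two_nsmul, CharTwo.add_self_eq_zero]
    haveI : Fact (Nat.Prime 2) := ⟨Nat.prime_two⟩
    obtain ⟨H, hH⟩ := Sylow.exists_subgroup_card_pow_prime 2 (n := m) (hcard ▸ pow_dvd_pow 2 m.le_succ)
    have hidx : H.index = 2 := by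
      have := H.index_mul_card
      rw [hH, hcard, pow_succ'] at this
      exact Nat.eq_of_mul_eq_mul_right (by positivity) this
    obtain ⟨v, hv⟩ := SetLike.exists_not_mem_of_ne_top H (fun h => by rw [h, Subgroup.index_top] at hidx; omega)
    haveI := Fintype.ofFinite H
    rw [← Finset.sum_filter_add_sum_filter_not Finset.univ (· ∈ H)]
    have hbij : ∑ x ∈ Finset.univ.filter (fun x => x ∉ H), f x = ∑ x ∈ Finset.univ.filter (· ∈ H), f (x * v) := by
      refine Finset.sum_nbij' (fun x => x * v) (fun x => x * v) ?_ ?_ ?_ ?_ ?_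
      · intro x hx
        have hx' := (Finset.mem_filter.mp hx).2
        exact Finset.mem_filter.mpr ⟨Finset.mem_univ _,
          (Subgroup.mul_mem_iff_of_index_two hidx).mpr (iff_of_false hx' hv)⟩
      · intro x hx
        have hx' := (Finset.mem_filter.mp hx).2
        exact Finset.mem_filter.mpr ⟨Finset.mem_univ _,
          fun h => hv (((Subgroup.mul_mem_iff_of_index_two hidx).mp h).mp hx')⟩
      · intro x _; rw [mul_assoc, hV, mul_one]
      · intro x _; rw [mul_assoc, hV, mul_one]
      · intro x _; rw [mul_assoc, hV, mul_one]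
    rw [hbij, ← Finset.sum_add_distrib,
      Finset.sum_subtype (Finset.univ.filter (· ∈ H)) (p := (· ∈ H)) (fun x => by simp) (fun x => f x + f (x * v))]
    have h1 := ih (fun x : H => Subtype.ext (hV x)) hH (d := d) (by omega) (deg_subgroup (hf v) H)
    rw [← h1]
    exact Finset.sum_congr rfl fun x _ => add_comm _ _

theorem exists_index_two {A : Type*} [Group A] [Finite A] (hA : ∀ a : A, a * a = 1) (B : Subgroup A) {a : A}
    (ha : a ∉ B) : ∃ H : Subgroup A, B ≤ H ∧ a ∉ H ∧ H.index = 2 := by
  obtain ⟨H, hH⟩ := Set.Finite.exists_maximal {H : Subgroup A | B ≤ H ∧ a ∉ H}.toFinite ⟨B, le_rfl, ha⟩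
  refine ⟨H, hH.prop.1, hH.prop.2, Subgroup.index_eq_two_iff.mpr ⟨a, fun x => ?_⟩⟩
  rw [xor_iff_iff_not]
  constructor
  · intro h hx
    exact hH.prop.2 ((H.mul_mem_cancel_left hx).mp h)
  · intro hx
    by_contra h
    have hlt : H < H ⊔ Subgroup.zpowers x := lt_of_le_of_ne le_sup_left fun he =>
      hx (he ▸ Subgroup.mem_sup_right (Subgroup.mem_zpowers x))
    have hmem : a ∈ H ⊔ Subgroup.zpowers x := by
      by_contra hn
      exact hlt.not_ge (hH.le_of_ge ⟨hH.prop.1.trans le_sup_left, hn⟩ le_sup_left)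
    haveI : H.Normal := ⟨fun n hn g => by rwa [comm_of_sq hA g n, mul_inv_cancel_right]⟩
    obtain ⟨y, hy, z, hz, rfl⟩ := Subgroup.mem_sup_of_normal_left.mp hmem
    obtain ⟨k, rfl⟩ := Subgroup.mem_zpowers_iff.mp hz
    rcases Int.even_or_odd k with ⟨j, rfl⟩ | ⟨j, rfl⟩
    · rw [← two_mul, zpow_mul, zpow_two, hA, one_zpow, mul_one] at hH
      exact hH.prop.2 hy
    · refine h ?_
      rw [zpow_add, zpow_mul, zpow_two, hA, one_zpow, one_mul, zpow_one, comm_of_sq hA y x, ← mul_assoc, hA,
        one_mul]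
      exact hy

variable {A : Type*} [Group A]

/-- The character with kernel `H` of index two. -/
noncomputable def chr (H : Subgroup A) (a : A) : ZMod 2 := if a ∈ H then 0 else 1

theorem chr_mul {H : Subgroup A} (hH : H.index = 2) (a b : A) : chr H (a * b) = chr H a + chr H b := by
  unfold chr
  have h := Subgroup.mul_mem_iff_of_index_two hH (a := a) (b := b)
  by_cases ha : a ∈ H <;> by_cases hb : b ∈ H <;> simp [ha, hb] at h ⊢ <;> simp [h, CharTwo.add_self_eq_zero]

theorem deg_chr {q : V → A} {c : V → V → A} (hq : ∀ x y, q (x * y) = q x * q y * c x y)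
    (hc : ∀ x y z, c (x * y) z = c x z * c y z) {H : Subgroup A} (hH : H.index = 2) :
    Deg 2 (fun x => chr H (q x)) ∧ ((∀ x y, c x y ∈ H) → Deg 1 fun x => chr H (q x)) := by
  have hD : ∀ a x, chr H (q (x * a)) + chr H (q x) = chr H (q a) + chr H (c x a) := fun a x => by
    rw [hq, chr_mul hH, chr_mul hH]
    linear_combination CharTwo.add_self_eq_zero (chr H (q x))
  refine ⟨fun a b x y => ?_, fun hcH a b x => ?_⟩
  · show chr H (q (y * x * b * a)) + chr H (q (y * x * b)) + (chr H (q (y * x * a)) + chr H (q (y * x))) =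
      chr H (q (y * b * a)) + chr H (q (y * b)) + (chr H (q (y * a)) + chr H (q y))
    rw [hD a (y * x * b), hD a (y * x), hD a (y * b), hD a y, hc, hc, hc, chr_mul hH, chr_mul hH, chr_mul hH]
    linear_combination CharTwo.add_self_eq_zero (chr H (c x a))
  · show chr H (q (x * b * a)) + chr H (q (x * b)) = chr H (q (x * a)) + chr H (q x)
    rw [hD, hD, show chr H (c (x * b) a) = chr H (c x a) by simp [chr, hcH]]

theorem deg_indicator [Finite A] (hV : ∀ x : V, x * x = 1) (hA : ∀ a : A, a * a = 1) {q : V → A} {c : V → V → A}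
    (hq : ∀ x y, q (x * y) = q x * q y * c x y) (hc : ∀ x y z, c (x * y) z = c x z * c y z)
    (D : Subgroup A) (hcD : ∀ x y, c x y ∈ D) : ∀ (n : ℕ) (B : Subgroup A), B.index = n →
    ∃ d, (2 ^ d * (B ⊔ D).index ≤ B.index ^ 2) ∧ Deg d fun x => if q x ∈ B then (1 : ZMod 2) else 0 := by
  intro n
  induction n using Nat.strongRecOn with
  | ind n ih =>
    intro B hn
    by_cases htop : B = ⊤
    · subst htop
      refine ⟨0, by simp, ?_⟩
      simpa using deg_const (V := V) 1 0
    obtain ⟨a, ha, hsplit⟩ : ∃ a, a ∉ B ∧ (a ∈ D ∨ D ≤ B) := by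
      by_cases hDB : D ≤ B
      · obtain ⟨a, ha⟩ := SetLike.exists_not_mem_of_ne_top B htop
        exact ⟨a, ha, Or.inr hDB⟩
      · obtain ⟨a, ha, ha'⟩ := SetLike.not_le_iff_exists.mp hDB
        exact ⟨a, ha', Or.inl ha⟩
    obtain ⟨H, hBH, haH, hH⟩ := exists_index_two hA B ha
    haveI : B.Normal := ⟨fun n hn g => by rwa [comm_of_sq hA g n, mul_inv_cancel_right]⟩
    set C := B ⊔ Subgroup.zpowers a with hC
    have hBC : B ≤ C := le_sup_left
    have haC : a ∈ C := Subgroup.mem_sup_right (Subgroup.mem_zpowers a)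
    have hBeq : H ⊓ C = B := by
      refine le_antisymm ?_ (le_inf hBH hBC)
      rintro x ⟨hxH, hxC⟩
      obtain ⟨y, hy, z, hz, rfl⟩ := Subgroup.mem_sup_of_normal_left.mp hxC
      obtain ⟨k, rfl⟩ := Subgroup.mem_zpowers_iff.mp hz
      rcases Int.even_or_odd k with ⟨j, rfl⟩ | ⟨j, rfl⟩
      · rw [← two_mul, zpow_mul, zpow_two, hA, one_zpow, mul_one]; exact hy
      · exfalso
        rw [zpow_add, zpow_mul, zpow_two, hA, one_zpow, one_mul, zpow_one] at hxH
        exact haH ((H.mul_mem_cancel_left (hBH hy)).mp hxH)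
    have hrel : B.relIndex C = 2 := by
      rw [← hBeq, Subgroup.inf_relIndex_right]
      refine (Nat.dvd_prime Nat.prime_two).mp ?_ |>.resolve_left ?_
      · haveI : H.Normal := Subgroup.normal_of_index_eq_two hH
        exact hH ▸ Subgroup.relIndex_dvd_index_of_normal H C
      · exact fun h => haH (Subgroup.relIndex_eq_one.mp h haC)
    have hidx : 2 * C.index = B.index := by rw [← hrel]; exact Subgroup.relIndex_mul_index hBC
    obtain ⟨d, hd, hdeg⟩ := ih C.index (by
      have : C.index ≠ 0 := Subgroup.index_ne_zero_of_finite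
      omega) C rfl
    obtain ⟨h2, h1⟩ := deg_chr hq hc hH
    have hind : (fun x => if q x ∈ B then (1 : ZMod 2) else 0) =
        fun x => (if q x ∈ C then (1 : ZMod 2) else 0) * (1 + chr H (q x)) := by
      funext x
      by_cases hC' : q x ∈ C <;> by_cases hH' : q x ∈ H <;>
        simp [← hBeq, Subgroup.mem_inf, hC', hH', chr, CharTwo.add_self_eq_zero]
    rcases hsplit with haD | hDB
    · refine ⟨d + 2, ?_, hind ▸ deg_mul hV _ rfl hdeg (deg_add (deg_const 1 2) h2)⟩
      have hsup : C ⊔ D = B ⊔ D := le_antisymm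
        (sup_le (sup_le le_sup_left ((Subgroup.zpowers_le.mpr haD).trans le_sup_right)) le_sup_right)
        (sup_le_sup_right hBC D)
      rw [hsup] at hd
      rw [← hidx, pow_add, mul_pow]
      nlinarith
    · refine ⟨d + 1, ?_, hind ▸ deg_mul hV _ rfl hdeg (deg_add (deg_const 1 1) (h1 fun x y => hBH (hDB (hcD x y))))⟩
      rw [sup_eq_left.mpr (hDB.trans hBC)] at hd
      rw [sup_eq_left.mpr hDB, ← hidx, pow_succ]
      nlinarith

/-- A quadratic map with polar values in `D` whose preimage of `B` is trivial. -/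
theorem card_mul_index_le [Finite V] [Finite A] (hV : ∀ x : V, x * x = 1) (hA : ∀ a : A, a * a = 1)
    {q : V → A} {c : V → V → A} (hq : ∀ x y, q (x * y) = q x * q y * c x y)
    (hc : ∀ x y z, c (x * y) z = c x z * c y z) (D : Subgroup A) (hcD : ∀ x y, c x y ∈ D)
    (B : Subgroup A) (hzero : ∀ v, q v ∈ B ↔ v = 1) : Nat.card V * (B ⊔ D).index ≤ B.index ^ 2 := by
  haveI : Fact (Nat.Prime 2) := ⟨Nat.prime_two⟩
  haveI := Fintype.ofFinite V
  have hP : IsPGroup 2 V := fun x => ⟨1, by rw [pow_one, pow_two, hV]⟩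
  obtain ⟨m, hm⟩ := IsPGroup.iff_card.mp hP
  obtain ⟨d, hd, hdeg⟩ := deg_indicator hV hA hq hc D hcD B.index B rfl
  refine le_trans (Nat.mul_le_mul_right _ ?_) hd
  rw [hm]
  refine Nat.pow_le_pow_right two_pos ?_
  by_contra h
  have h0 := sum_eq_zero m hV hm (not_le.mp h) hdeg
  rw [Fintype.sum_eq_single (1 : V) (fun x hx => if_neg (mt (hzero x).mp hx)), if_pos ((hzero 1).mpr rfl)] at h0
  exact one_ne_zero h0

end CfsgLib.PGroups.QuadraticCount
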