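import Cfsg.Agent.S0127
import Cfsg.Agent.Lib.PGroups.MaxAbelian
import Cfsg.Agent.Lib.PGroups.ClassTwo

/-!
# Non-abelian `p`-groups with a cyclic maximal subgroup
-/

set_option autoImplicit false

namespace CfsgLib.PGroups.CyclicIndex

open Subgroup
open scoped commutatorElement

variable {G : Type*} [Group G] [Finite G] {p : ℕ} [Fact p.Prime]

theorem setup {n : ℕ} (hn : 2 ≤ n) (hG : Nat.card G = p ^ n) {C : Subgroup G} (hC : IsCyclic C)
    (hCi : C.index = p) : C.Normal ∧ ∃ a : G, zpowers a = C ∧ orderOf a = p ^ (n - 1) := by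
  have hpG : IsPGroup p G := IsPGroup.of_card hG
  have hp := (Fact.out : p.Prime)
  refine ⟨normal_of_isCoatom' hpG ⟨fun h => ?_, fun M hM => ?_⟩, ?_⟩
  · rw [h, index_top] at hCi
    exact hp.ne_one hCi.symm
  · rcases (Nat.dvd_prime hp).1 (hCi ▸ index_dvd_of_le hM.le) with h | h
    · exact index_eq_one.1 h
    · refine absurd (eq_of_le_of_card_ge hM.le ?_) hM.ne
      have h1 := M.card_mul_index
      rw [h, ← C.card_mul_index, hCi] at h1
      exact (Nat.eq_of_mul_eq_mul_right hp.pos h1).le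
  · obtain ⟨⟨a, ha⟩, hgen⟩ := hC.exists_generator
    have heq : zpowers a = C := by
      refine le_antisymm (zpowers_le.2 ha) fun x hx => ?_
      obtain ⟨i, hi⟩ := mem_zpowers_iff.1 (hgen ⟨x, hx⟩)
      exact mem_zpowers_iff.2 ⟨i, congrArg Subtype.val hi⟩
    refine ⟨a, heq, ?_⟩
    have h1 := C.card_mul_index
    rw [hCi, hG, ← heq, Nat.card_zpowers, show n = n - 1 + 1 by omega, pow_succ] at h1
    exact Nat.eq_of_mul_eq_mul_right hp.pos h1

omit [Fact p.Prime] in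
theorem not_commute {a b : G} (hgen : zpowers a ⊔ zpowers b = ⊤) (hna : ∃ x y : G, x * y ≠ y * x) :
    ¬ Commute b a := fun hcm => by
  obtain ⟨x, y, hxy⟩ := hna
  have hle : (⊤ : Subgroup G) ≤ centralizer ((⊤ : Subgroup G) : Set G) := by
    rw [← hgen]
    refine sup_le ?_ ?_ <;> rw [le_centralizer_iff] <;> refine sup_le ?_ ?_ <;>
      refine zpowers_le.2 (mem_centralizer_iff.2 ?_) <;> rintro u ⟨i, rfl⟩
    exacts [((Commute.refl a).zpow_left i).eq, (hcm.symm.zpow_left i).eq,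
      (hcm.zpow_left i).eq, ((Commute.refl b).zpow_left i).eq]
  exact hxy (mem_centralizer_iff.1 (hle (mem_top y)) x (mem_top x))

theorem gen_of_not_mem {a b : G} (hidx : (zpowers a).index = p) (hb : b ∉ zpowers a) :
    zpowers a ⊔ zpowers b = ⊤ := by
  have hp := (Fact.out : p.Prime)
  have hlt : zpowers a < zpowers a ⊔ zpowers b :=
    lt_of_le_of_ne le_sup_left fun h => hb (h.ge (mem_sup_right (mem_zpowers b)))
  rcases (Nat.dvd_prime hp).1 (hidx ▸ index_dvd_of_le hlt.le) with h | h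
  · exact index_eq_one.1 h
  · refine absurd (eq_of_le_of_card_ge hlt.le ?_) hlt.ne
    have h1 := (zpowers a ⊔ zpowers b).card_mul_index
    rw [h, ← (zpowers a).card_mul_index, hidx] at h1
    exact (Nat.eq_of_mul_eq_mul_right hp.pos h1).le

/-- odd `p` -/
theorem odd_classification (hp2 : p ≠ 2) {n : ℕ} (hn : 3 ≤ n) (hG : Nat.card G = p ^ n)
    {C : Subgroup G} (hC : IsCyclic C) (hCi : C.index = p) (hna : ∃ x y : G, x * y ≠ y * x) :
    ∃ a b : G, orderOf a = p ^ (n - 1) ∧ orderOf b = p ∧ b ∉ zpowers a ∧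
      b * a * b⁻¹ = a ^ (1 + p ^ (n - 2)) := by
  have hpG : IsPGroup p G := IsPGroup.of_card hG
  have hp := (Fact.out : p.Prime)
  obtain ⟨hCn, a, haC, ha⟩ := setup (by omega) hG hC hCi
  subst haC
  have hnc : ¬ IsCyclic G := fun h => by
    obtain ⟨x, y, hxy⟩ := hna
    exact hxy ((IsCyclic.commGroup (α := G)).mul_comm x y)
  obtain ⟨hT, hTc⟩ := Cfsg.Agent.S0127.result hp2 hpG hnc _ hC hCi
  set T := Subgroup.closure {x : G | x ^ p = 1} with hTdef
  have hTn : T.Normal := by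
    refine ⟨fun x hx g => ?_⟩
    refine closure_induction (p := fun x _ => g * x * g⁻¹ ∈ T) ?_ ?_ ?_ ?_ hx
    · intro y hy
      exact subset_closure (show (g * y * g⁻¹) ^ p = 1 by
        rw [conj_pow, show y ^ p = 1 from hy, mul_one, mul_inv_cancel])
    · simp
    · intro u v _ _ hu hv
      simpa [mul_assoc] using mul_mem hu hv
    · intro u _ hu
      simpa [mul_assoc] using inv_mem hu
  -- the `p`-th roots of unity inside the cyclic subgroup
  set e := a ^ p ^ (n - 2) with he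
  have hroot : ∀ c ∈ zpowers a, c ^ p = 1 → c ∈ zpowers e := by
    intro c hc hcp
    obtain ⟨i, rfl⟩ := mem_zpowers_iff.1 hc
    have h1 : ((p : ℤ) ^ (n - 1)) ∣ i * p := by
      have := orderOf_dvd_iff_zpow_eq_one.2 (show a ^ (i * (p : ℤ)) = 1 by rw [zpow_mul, zpow_natCast, hcp])
      rwa [ha, Nat.cast_pow] at this
    rw [show n - 1 = n - 2 + 1 by omega, pow_succ] at h1
    obtain ⟨j, hj⟩ := (Int.mul_dvd_mul_iff_right (show (p : ℤ) ≠ 0 from Int.natCast_ne_zero.2 hp.ne_zero)).1 h1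
    refine mem_zpowers_iff.2 ⟨j, ?_⟩
    rw [he, hj, ← zpow_natCast a, ← zpow_mul, Nat.cast_pow]
  have hep : orderOf e = p := by
    rw [he, orderOf_pow_of_dvd (pow_ne_zero _ hp.ne_zero) (ha ▸ pow_dvd_pow p (by omega)), ha,
      Nat.pow_div (by omega) hp.pos, show n - 1 - (n - 2) = 1 by omega, pow_one]
  obtain ⟨b, hbT, hbC⟩ : ∃ b ∈ T, b ∉ zpowers a := by
    by_contra hall
    push Not at hall
    have hle : T ≤ zpowers e := fun x hx => hroot x (hall x hx) (hT.2 x hx)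
    have := card_le_of_le hle
    rw [hTc, Nat.card_zpowers, hep, pow_two] at this
    nlinarith [hp.two_le]
  have hgen := gen_of_not_mem hCi hbC
  set c := ⁅b, a⁆ with hc
  have hcC : c ∈ zpowers a := by
    rw [hc, commutatorElement_def]
    exact (zpowers a).mul_mem (hCn.conj_mem a (mem_zpowers a) b) ((zpowers a).inv_mem (mem_zpowers a))
  have hcp : c ^ p = 1 := by
    refine hT.2 c ?_
    rw [hc, commutatorElement_def, show b * a * b⁻¹ * a⁻¹ = b * (a * b⁻¹ * a⁻¹) by group]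
    exact T.mul_mem hbT (hTn.conj_mem _ (T.inv_mem hbT) a)
  have hc1 : c ≠ 1 := fun h => not_commute hgen hna (commutatorElement_eq_one_iff_commute.1 h)
  have hce := hroot c hcC hcp
  have hcz : zpowers c = zpowers e := eq_of_le_of_card_ge (zpowers_le.2 hce) (by
    rw [Nat.card_zpowers, Nat.card_zpowers, hep, orderOf_eq_prime hcp hc1])
  have hcenter : c ∈ center G := by
    have hn' : (zpowers e).Normal := by
      refine ⟨fun x hx g => hroot _ (hCn.conj_mem x ?_ g) ?_⟩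
      · exact (zpowers_le.2 ((zpowers a).pow_mem (mem_zpowers a) _) : zpowers e ≤ zpowers a) hx
      · obtain ⟨i, rfl⟩ := mem_zpowers_iff.1 hx
        rw [conj_pow, ← zpow_natCast (e ^ i), ← zpow_mul, mul_comm, zpow_mul, zpow_natCast,
          ← hep, pow_orderOf_eq_one, one_zpow, mul_one, mul_inv_cancel]
    exact le_center_of_card_prime hpG (by rw [Nat.card_zpowers, hep]) hce
  obtain ⟨k, hk⟩ := mem_powers_iff_mem_zpowers.2 (hcz.ge (mem_zpowers e))
  have hk' : c ^ k = e := hk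
  have hkp : ¬ p ∣ k := fun hd => by
    obtain ⟨l, rfl⟩ := hd
    rw [pow_mul, hcp, one_pow] at hk'
    rw [← hk', orderOf_one] at hep
    exact hp.ne_one hep.symm
  have hb1 : b ≠ 1 := fun h => hbC (h ▸ one_mem _)
  have hbo : orderOf b = p := orderOf_eq_prime (hT.2 b hbT) hb1
  have hbk : orderOf (b ^ k) = p := by
    rw [Nat.Coprime.orderOf_pow (hbo ▸ (hp.coprime_iff_not_dvd.2 hkp)), hbo]
  refine ⟨a, b ^ k, ha, hbk, fun hm => hbC ?_, ?_⟩
  · obtain ⟨m, hm'⟩ := exists_pow_eq_self_of_coprime (x := b) (n := k)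
      (hbo ▸ (hp.coprime_iff_not_dvd.2 hkp).symm)
    exact hm' ▸ pow_mem hm m
  · rw [comm_conj_left, comm_pow_left_of_central (by rw [← hc]; exact hcenter) k, ← hc, hk', he,
      ← pow_succ, add_comm 1]

/-- square roots of one modulo `2 ^ (j + 2)` -/
theorem two_roots {r : ℤ} {j : ℕ} (h : (2 : ℤ) ^ (j + 2) ∣ r ^ 2 - 1) (hr : Odd r) :
    ∃ k : ℤ, r = 1 + k * 2 ^ (j + 1) ∨ r = -1 + k * 2 ^ (j + 1) := by
  obtain ⟨s, rfl⟩ := hr
  rw [show (2 * s + 1) ^ 2 - 1 = s * (s + 1) * 2 ^ 2 by ring, pow_add] at h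
  have h1 := (Int.mul_dvd_mul_iff_right (show (2 : ℤ) ^ 2 ≠ 0 by norm_num)).1 h
  rcases Int.emod_two_eq_zero_or_one s with hs | hs
  · have hco : IsCoprime ((2 : ℤ) ^ j) (s + 1) := by
      refine IsCoprime.pow_left ⟨-(s / 2), 1, ?_⟩
      omega
    obtain ⟨k, hk⟩ := hco.dvd_of_dvd_mul_right h1
    exact ⟨k, Or.inl (by rw [hk]; ring)⟩
  · have hco : IsCoprime ((2 : ℤ) ^ j) s := by
      refine IsCoprime.pow_left ⟨-(s / 2), 1, ?_⟩
      omega
    obtain ⟨k, hk⟩ := hco.dvd_of_dvd_mul_left h1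
    exact ⟨k, Or.inr (by linear_combination (2 : ℤ) * hk)⟩

theorem two_classification {n : ℕ} (hn : 3 ≤ n) (hG : Nat.card G = 2 ^ n)
    {C : Subgroup G} (hC : IsCyclic C) (hCi : C.index = 2) (hna : ∃ x y : G, x * y ≠ y * x) :
    ∃ a b : G, orderOf a = 2 ^ (n - 1) ∧ b ∉ zpowers a ∧
      ((b ^ 2 = 1 ∧ b * a * b⁻¹ = a⁻¹) ∨ (b ^ 2 = a ^ (2 ^ (n - 2)) ∧ b * a * b⁻¹ = a⁻¹) ∨
        (4 ≤ n ∧ b ^ 2 = 1 ∧ b * a * b⁻¹ = a ^ (1 + 2 ^ (n - 2))) ∨
        (4 ≤ n ∧ b ^ 2 = 1 ∧ b * a * b⁻¹ = a ^ (2 ^ (n - 2) - 1))) := by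
  obtain ⟨hCn, a, haC, ha⟩ := setup (p := 2) (by omega) hG hC hCi
  subst haC
  obtain ⟨b, hb⟩ : ∃ b, b ∉ zpowers a := by
    by_contra hall
    push Not at hall
    rw [show zpowers a = ⊤ from eq_top_iff.2 fun x _ => hall x, index_top] at hCi
    omega
  have hgen := gen_of_not_mem (p := 2) hCi hb
  have hncm := not_commute hgen hna
  obtain ⟨j, rfl⟩ : ∃ j, n = j + 3 := ⟨n - 3, by omega⟩
  rw [show j + 3 - 1 = j + 2 by omega] at ha ⊢
  rw [show j + 3 - 2 = j + 1 by omega]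
  have hint : ∀ {x y : ℤ}, (2 : ℤ) ^ (j + 2) ∣ x - y → a ^ x = a ^ y := by
    intro x y h
    rw [show x = (x - y) + y by ring, zpow_add,
      orderOf_dvd_iff_zpow_eq_one.1 (show ((orderOf a : ℕ) : ℤ) ∣ x - y by rw [ha]; exact_mod_cast h),
      one_mul]
  have hint' : ∀ {x y : ℤ}, a ^ x = a ^ y → (2 : ℤ) ^ (j + 2) ∣ x - y := by
    intro x y h
    have h1 := orderOf_dvd_iff_zpow_eq_one.2 (show a ^ (x - y) = 1 by rw [zpow_sub, h, mul_inv_cancel])
    rw [ha] at h1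
    exact_mod_cast h1
  obtain ⟨r, hr⟩ := mem_zpowers_iff.1 (hCn.conj_mem a (mem_zpowers a) b)
  obtain ⟨i, hi⟩ := mem_zpowers_iff.1 (show b ^ 2 ∈ zpowers a from hCi ▸ (zpowers a).pow_index_mem b)
  have hconj : ∀ x : ℤ, b * a ^ x * b⁻¹ = a ^ (r * x) := fun x => by
    rw [← conj_zpow, ← hr, ← zpow_mul]
  have hr2 : (2 : ℤ) ^ (j + 2) ∣ r ^ 2 - 1 := by
    refine hint' ?_
    rw [show r ^ 2 = r * r by ring, ← hconj, hr, zpow_one,
      show b * (b * a * b⁻¹) * b⁻¹ = b ^ 2 * a * (b ^ 2)⁻¹ by rw [pow_two]; group, ← hi,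
      ((Commute.refl a).zpow_left i).eq, mul_inv_cancel_right]
  have hri : (2 : ℤ) ^ (j + 2) ∣ r * i - i := by
    refine hint' ?_
    rw [← hconj, hi, show b * b ^ 2 * b⁻¹ = b ^ 2 by rw [pow_two]; group]
  have hodd : Odd r := by
    by_contra heven
    rw [Int.not_odd_iff_even] at heven
    obtain ⟨q, hq⟩ := (dvd_pow_self (2 : ℤ) (show j + 2 ≠ 0 by omega)).trans hr2
    obtain ⟨w, rfl⟩ := heven
    have hq' : 2 * (2 * (w * w)) - 1 = 2 * q := by rw [← hq]; ring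
    omega
  have hr1 : ¬ (2 : ℤ) ^ (j + 2) ∣ r - 1 := fun h => hncm (by
    have h1 : b * a * b⁻¹ = a := by rw [← hr, hint h, zpow_one]
    exact mul_inv_eq_iff_eq_mul.1 h1)
  have hbm : ∀ x : ℤ, a ^ x * b ∉ zpowers a := fun x hm => hb (by
    have := (zpowers a).mul_mem ((zpowers a).inv_mem (mem_zpowers_iff.2 ⟨x, rfl⟩ : a ^ x ∈ zpowers a)) hm
    rwa [inv_mul_cancel_left] at this)
  have hsq : ∀ x : ℤ, (a ^ x * b) ^ 2 = a ^ (x + r * x + i) := fun x => by
    rw [zpow_add, zpow_add, hi, ← hconj, pow_two, pow_two]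
    group
  have hcx : ∀ x : ℤ, (a ^ x * b) * a * (a ^ x * b)⁻¹ = a ^ r := fun x => by
    rw [show (a ^ x * b) * a * (a ^ x * b)⁻¹ = a ^ x * (b * a * b⁻¹) * (a ^ x)⁻¹ by group, ← hr,
      ((Commute.refl a).zpow_zpow x r).eq, mul_inv_cancel_right]
  have hpow : (2 : ℤ) ^ (j + 2) = 2 * 2 ^ (j + 1) := by ring
  have hplain : (2 : ℤ) ^ (j + 2) ∣ r + 1 → ∃ a b : G, orderOf a = 2 ^ (j + 2) ∧ b ∉ zpowers a ∧
      ((b ^ 2 = 1 ∧ b * a * b⁻¹ = a⁻¹) ∨ (b ^ 2 = a ^ (2 ^ (j + 1)) ∧ b * a * b⁻¹ = a⁻¹)) := by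
    intro h
    have hinv : b * a * b⁻¹ = a⁻¹ := by
      rw [← hr, hint (y := -1) (by rwa [sub_neg_eq_add]), zpow_neg_one]
    have h1 : (2 : ℤ) ^ (j + 1) ∣ i := by
      have h2 := dvd_sub (h.mul_right i) hri
      rw [show (r + 1) * i - (r * i - i) = 2 * i by ring, hpow] at h2
      exact (Int.mul_dvd_mul_iff_left two_ne_zero).1 h2
    obtain ⟨k, rfl⟩ := h1
    refine ⟨a, b, ha, hb, ?_⟩
    rcases Int.even_or_odd k with ⟨l, rfl⟩ | ⟨l, rfl⟩
    · refine Or.inl ⟨?_, hinv⟩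
      rw [← hi, hint (y := 0) ⟨l, by rw [hpow]; ring⟩, zpow_zero]
    · refine Or.inr ⟨?_, hinv⟩
      rw [← hi, hint (y := ((2 ^ (j + 1) : ℕ) : ℤ)) ⟨l, by push_cast; rw [hpow]; ring⟩, zpow_natCast]
  obtain ⟨k, hk | hk⟩ := two_roots hr2 hodd
  · rcases Int.even_or_odd k with ⟨l, rfl⟩ | ⟨l, rfl⟩
    · exact absurd ⟨l, by rw [hk, hpow]; ring⟩ hr1
    · rcases Nat.eq_zero_or_pos j with rfl | hj
      · obtain ⟨a', b', h1, h2, h3⟩ := hplain ⟨l + 1, by rw [hk]; ring⟩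
        exact ⟨a', b', h1, h2, h3.imp id Or.inl⟩
      · have hrr : (2 : ℤ) ^ (j + 2) ∣ r - (1 + 2 ^ (j + 1)) := ⟨l, by rw [hk, hpow]; ring⟩
        obtain ⟨i', hi'⟩ : (2 : ℤ) ∣ i := by
          have h2 := dvd_sub hri (hrr.mul_right i)
          rw [show r * i - i - (r - (1 + 2 ^ (j + 1))) * i = 2 ^ (j + 1) * i by ring, hpow,
            mul_comm (2 : ℤ) ((2 : ℤ) ^ (j + 1))] at h2
          exact (Int.mul_dvd_mul_iff_left (pow_ne_zero _ two_ne_zero)).1 h2
        obtain ⟨u, v, huv⟩ : IsCoprime ((2 : ℤ) ^ (j + 1)) (1 + 2 ^ j) := by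
          refine IsCoprime.pow_left ⟨-(2 ^ (j - 1)), 1, ?_⟩
          have : (2 : ℤ) ^ j = 2 ^ (j - 1) * 2 := by rw [← pow_succ, Nat.sub_add_cancel hj]
          linear_combination this
        refine ⟨a, a ^ (-(i' * v)) * b, ha, hbm _, Or.inr (Or.inr (Or.inl ⟨by omega, ?_, ?_⟩))⟩
        · rw [hsq]
          obtain ⟨q, hq⟩ := hrr
          rw [hint (y := 0) ⟨i' * u - q * (i' * v), ?_⟩, zpow_zero]
          have hr' : r = 1 + 2 ^ (j + 1) + 2 ^ (j + 2) * q := by linear_combination hq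
          rw [hr', hi']
          linear_combination (-2 * i') * huv
        · rw [hcx, hint hrr, ← zpow_natCast a]
          congr 1
  · rcases Int.even_or_odd k with ⟨l, rfl⟩ | ⟨l, rfl⟩
    · obtain ⟨a', b', h1, h2, h3⟩ := hplain ⟨l, by rw [hk, hpow]; ring⟩
      exact ⟨a', b', h1, h2, h3.imp id Or.inl⟩
    · rcases Nat.eq_zero_or_pos j with rfl | hj
      · exact absurd ⟨l, by rw [hk]; ring⟩ hr1
      · have hrr : (2 : ℤ) ^ (j + 2) ∣ r - (-1 + 2 ^ (j + 1)) := ⟨l, by rw [hk, hpow]; ring⟩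
        have h1 : (2 : ℤ) ^ (j + 1) ∣ i := by
          have h2 := dvd_sub hri (hrr.mul_right i)
          rw [show r * i - i - (r - (-1 + 2 ^ (j + 1))) * i = 2 * ((2 ^ j - 1) * i) by ring, hpow] at h2
          have h3 := (Int.mul_dvd_mul_iff_left two_ne_zero).1 h2
          refine IsCoprime.dvd_of_dvd_mul_left ?_ h3
          refine IsCoprime.pow_left ⟨2 ^ (j - 1), -1, ?_⟩
          have : (2 : ℤ) ^ j = 2 ^ (j - 1) * 2 := by rw [← pow_succ, Nat.sub_add_cancel hj]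
          linear_combination -this
        obtain ⟨k', hk'⟩ := h1
        refine ⟨a, a ^ (-k') * b, ha, hbm _, Or.inr (Or.inr (Or.inr ⟨by omega, ?_, ?_⟩))⟩
        · rw [hsq]
          obtain ⟨q, hq⟩ := hrr
          rw [hint (y := 0) ⟨-(q * k'), ?_⟩, zpow_zero]
          have hr' : r = -1 + 2 ^ (j + 1) + 2 ^ (j + 2) * q := by linear_combination hq
          rw [hr', hk']
          ring
        · rw [hcx, hint hrr, ← zpow_natCast a]
          congr 1
          rw [Nat.cast_sub (Nat.one_le_pow _ _ (by norm_num))]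
          push_cast
          ring

end CfsgLib.PGroups.CyclicIndex
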