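/-
`p`-complements in `p`-soluble groups: existence, conjugacy, dominance.
-/
import Mathlib
import Cfsg.Agent.Lib.PLocal.PSolvable
import Cfsg.Agent.Lib.Core.Hall

set_option linter.style.haveILetI false

namespace CfsgLib.PGroups.PComplement

open Subgroup CfsgLib.Core
open scoped Pointwise

universe u

variable {p : ℕ} [Fact p.Prime]

/-- A nontrivial `p`-soluble group has a nontrivial normal `p`- or `p'`-subgroup. -/
theorem exists_normal_factor {G : Type*} [Group G] [Finite G] [Nontrivial G]
    (h : Cfsg.IsPSolvable p G) :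
    ∃ M : Subgroup G, M.Normal ∧ M ≠ ⊥ ∧ (IsPGroup p M ∨ (Nat.card M).Coprime p) := by
  classical
  obtain ⟨n, H, h0, hn, -, hnorm, hfac⟩ := h
  have hex : ∃ i : ℕ, ∃ hi : i < n + 1, H ⟨i, hi⟩ ≠ ⊥ := by
    refine ⟨n, Nat.lt_succ_self n, ?_⟩
    rw [show (⟨n, Nat.lt_succ_self n⟩ : Fin (n + 1)) = Fin.last n from rfl, hn]
    exact top_ne_bot
  obtain ⟨hi, hne⟩ := Nat.find_spec hex
  obtain ⟨j, hj⟩ : ∃ j, Nat.find hex = j + 1 := by
    refine ⟨Nat.find hex - 1, (Nat.sub_add_cancel (Nat.pos_of_ne_zero fun hz => hne ?_)).symm⟩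
    rw [show (⟨Nat.find hex, hi⟩ : Fin (n + 1)) = 0 from Fin.ext hz, h0]
  have hj' : H ⟨j, by omega⟩ = ⊥ := by
    by_contra hb
    exact Nat.find_min hex (by omega : j < Nat.find hex) ⟨by omega, hb⟩
  refine ⟨_, hnorm ⟨Nat.find hex, hi⟩, hne, ?_⟩
  have := hfac ⟨j, by omega⟩
  rw [show (⟨j, by omega⟩ : Fin n).castSucc = ⟨j, by omega⟩ from rfl, hj',
    show (⟨j, by omega⟩ : Fin n).succ = ⟨Nat.find hex, hi⟩ from Fin.ext hj.symm,
    Subgroup.relIndex_bot_left] at this
  rcases this with ⟨m, hm⟩ | hc
  · exact Or.inl (IsPGroup.of_card hm)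
  · exact Or.inr hc

/-- A `p`-complement. -/
def IsPCompl (p : ℕ) {G : Type*} [Group G] (H : Subgroup G) : Prop :=
  (Nat.card H).Coprime p ∧ ∃ n : ℕ, H.index = p ^ n

private theorem aux (n : ℕ) : ∀ (G : Type u) [Group G] [Finite G], Nat.card G = n →
    Cfsg.IsPSolvable p G → (∃ H : Subgroup G, IsPCompl p H) ∧
      ∀ H K : Subgroup G, IsPCompl p H → (Nat.card K).Coprime p →
        ∃ g : G, MulAut.conj g • K ≤ H := by
  induction n using Nat.strongRecOn with
  | ind n ih =>
    intro G _ _ hG hsol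
    subst hG
    rcases subsingleton_or_nontrivial G with hs | hnt
    · refine ⟨⟨⊥, by rw [Subgroup.card_bot]; exact Nat.coprime_one_left p, 0, ?_⟩,
        fun H K _ _ => ⟨1, fun x _ => ?_⟩⟩
      · rw [Subgroup.index_bot, pow_zero]; exact Nat.card_of_subsingleton 1
      · rw [Subsingleton.elim x 1]; exact one_mem _
    obtain ⟨M, hMn, hMb, hM⟩ := exists_normal_factor hsol
    haveI := hMn
    obtain ⟨⟨Hq, hHqc, nq, hHqi⟩, hdom⟩ := ih _ (card_quotient_lt M hMb) (G ⧸ M) rfl
      (CfsgLib.PLocal.isPSolvable_quotient hsol M)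
    have hsurj := QuotientGroup.mk'_surjective M
    set L := Hq.comap (QuotientGroup.mk' M) with hL
    have hML : M ≤ L := QuotientGroup.le_comap_mk' M _
    have hLi : L.index = p ^ nq := by rw [hL, index_comap_of_surjective _ hsurj, hHqi]
    have hLc : Nat.card L = Nat.card M * Nat.card Hq := card_comap_mk' M Hq
    -- conjugate of `K` below `H ⊔ M`
    have hstep : ∀ H K : Subgroup G, IsPCompl p H → (Nat.card K).Coprime p →
        ∃ g : G, MulAut.conj g • K ≤ H ⊔ M := by
      intro H K hH hK
      obtain ⟨k, hk⟩ := hH.2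
      obtain ⟨gq, hgq⟩ := hdom (H.map (QuotientGroup.mk' M)) (K.map (QuotientGroup.mk' M))
        ⟨hH.1.coprime_dvd_left (card_map_dvd H _), by
          obtain ⟨j, -, hj⟩ := (Nat.dvd_prime_pow (Fact.out : p.Prime)).mp
            (hk ▸ Subgroup.index_map_dvd H hsurj)
          exact ⟨j, hj⟩⟩ (hK.coprime_dvd_left (card_map_dvd K _))
      obtain ⟨g, rfl⟩ := QuotientGroup.mk_surjective gq
      exact ⟨g, map_mk'_conj_le hgq⟩
    rcases hM with hMp | hMc
    · obtain ⟨e, he⟩ := IsPGroup.iff_card.mp hMp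
      haveI : Group.IsSolvable M := by haveI := hMp.isNilpotent; infer_instance
      constructor
      · have hcard : Nat.card (M.subgroupOf L) = Nat.card M := Nat.card_congr (subgroupOfEquivOfLe hML).toEquiv
        have hidx : (M.subgroupOf L).index = Nat.card Hq := by
          apply Nat.eq_of_mul_eq_mul_left (Nat.card_pos (α := M))
          rw [← hLc, ← hcard, card_mul_index]
        obtain ⟨B, hB⟩ := exists_right_complement'_of_coprime (N := M.subgroupOf L) (by
          rw [hcard, hidx, he]; exact hHqc.symm.pow_left e)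
        refine ⟨B.map L.subtype, ?_, nq + e, ?_⟩
        · rw [Nat.card_congr (B.equivMapOfInjective _ L.subtype_injective).symm.toEquiv,
            ← hB.symm.index_eq_card, hidx]
          exact hHqc
        · rw [← relIndex_mul_index (map_subtype_le B : B.map L.subtype ≤ L), hLi, pow_add, mul_comm]
          congr 1
          rw [relIndex, subgroupOf, comap_map_eq_self_of_injective L.subtype_injective,
            hB.index_eq_card, hcard, he]
      · intro H K hH hK
        obtain ⟨g, hg⟩ := hstep H K hH hK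
        set K' := MulAut.conj g • K with hK'
        have hK'c : (Nat.card K').Coprime p := by rw [hK', card_conj_smul]; exact hK
        set H1 := H ⊓ (K' ⊔ M) with hH1
        have hK'M : K' ≤ normalizer (M : Set G) := le_normalizer_of_normal _ M
        have hsup : H1 ⊔ M = K' ⊔ M := by
          refine le_antisymm (sup_le inf_le_right le_sup_right) (sup_le (fun x hx => ?_) le_sup_right)
          obtain ⟨a, ha, m, hm, rfl⟩ := (mem_sup_iff_mul (le_normalizer_of_normal H M)).mp (hg hx)
          refine mul_mem (mem_sup_left ⟨ha, ?_⟩) (mem_sup_right hm)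
          have := mul_mem (mem_sup_left hx : a * m ∈ K' ⊔ M) (inv_mem (mem_sup_right hm))
          rwa [mul_inv_cancel_right] at this
        have hcop : ∀ X : Subgroup G, (Nat.card X).Coprime p → (Nat.card X).Coprime (Nat.card M) :=
          fun X hX => he ▸ hX.pow_right e
        have hH1c : (Nat.card H1).Coprime p := hH.1.coprime_dvd_left (card_dvd_of_le inf_le_left)
        have hcard : Nat.card H1 = Nat.card K' := by
          refine Nat.eq_of_mul_eq_mul_right (Nat.card_pos (α := M)) ?_
          rw [← card_sup_of_coprime H1 M (le_normalizer_of_normal _ M) (hcop _ hH1c),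
            ← card_sup_of_coprime K' M hK'M (hcop _ hK'c), hsup]
        obtain ⟨m, -, hm⟩ := exists_conj_eq_of_coprime (N := M) (H := K') (K := H1) hK'M inf_le_right
          hcard (hcop _ hK'c) (Or.inl inferInstance)
        refine ⟨m * g, ?_⟩
        rw [← conj_smul_conj_smul, ← hK', hm]
        exact inf_le_left
    · constructor
      · refine ⟨L, ?_, nq, hLi⟩
        rw [hLc]
        exact hMc.mul_left hHqc
      · intro H K hH hK
        obtain ⟨g, hg⟩ := hstep H K hH hK
        obtain ⟨k, hk⟩ := hH.2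
        have hMH : M ≤ H := le_of_coprime_index (le_normalizer_of_normal _ M) (hk ▸ hMc.pow_right k)
        exact ⟨g, hg.trans (sup_le le_rfl hMH)⟩

theorem exists_pCompl {G : Type u} [Group G] [Finite G] (h : Cfsg.IsPSolvable p G) :
    ∃ H : Subgroup G, IsPCompl p H :=
  (aux _ G rfl h).1

theorem exists_conj_le {G : Type u} [Group G] [Finite G] (h : Cfsg.IsPSolvable p G) {H K : Subgroup G}
    (hH : IsPCompl p H) (hK : (Nat.card K).Coprime p) : ∃ g : G, MulAut.conj g • K ≤ H :=
  (aux _ G rfl h).2 H K hH hK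

theorem isConj_pCompl {G : Type u} [Group G] [Finite G] (h : Cfsg.IsPSolvable p G) {H K : Subgroup G}
    (hH : IsPCompl p H) (hK : IsPCompl p K) : ∃ g : G, MulAut.conj g • K = H := by
  obtain ⟨g, hg⟩ := exists_conj_le h hH hK.1
  refine ⟨g, eq_of_le_of_card_ge hg (Nat.le_of_dvd Nat.card_pos ?_)⟩
  rw [card_conj_smul]
  obtain ⟨k, hk⟩ := hK.2
  refine (Nat.Coprime.dvd_mul_right (hH.1.pow_right k)).mp ?_
  rw [← hk, card_mul_index]
  exact card_subgroup_dvd_card H

end CfsgLib.PGroups.PComplement
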