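/-
An irreducible module over a cyclic group of prime order: its order.
-/
import Mathlib

set_option linter.style.haveILetI false

namespace CfsgLib.PGroups.IrredAction

theorem card_le_of_forall_pow_eq {R : Type*} [CommRing R] [IsDomain R] [Finite R] {n : ℕ}
    (hn : 1 < n) (h : ∀ r : R, r ^ n = r) : Nat.card R ≤ n := by
  classical
  letI := Fintype.ofFinite R
  letI : Field R := Fintype.fieldOfDomain R
  have hne := FiniteField.X_pow_card_sub_X_ne_zero R hn
  have hdeg := FiniteField.X_pow_card_sub_X_natDegree_eq R hn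
  have h1 := Polynomial.card_le_degree_of_subset_roots (Z := (Finset.univ : Finset R))
    (p := (Polynomial.X ^ n - Polynomial.X : Polynomial R)) (fun x _ => by
      rw [Polynomial.mem_roots hne]
      simp [Polynomial.IsRoot, h x])
  rw [Finset.card_univ, hdeg] at h1
  rwa [Nat.card_eq_fintype_card]

theorem pow_card_sub_one {R : Type*} [CommRing R] [IsDomain R] [Finite R] {x : R} (hx : x ≠ 0) :
    x ^ (Nat.card R - 1) = 1 := by
  classical
  letI := Fintype.ofFinite R
  letI : Field R := Fintype.fieldOfDomain R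
  rw [Nat.card_eq_fintype_card]
  exact FiniteField.pow_card_sub_one_eq_one _ hx

/-- A finite elementary `q`-group on which an automorphism `T` of prime order `p` acts irreducibly
has order `q ^ orderOf (q : ZMod p)`. -/
theorem card_eq_of_irreducible {A : Type*} [AddCommGroup A] [Finite A] [Nontrivial A] {p q : ℕ}
    [Fact p.Prime] (hq : q.Prime) (hqp : q ≠ p) (hqA : ∀ a : A, q • a = 0) (T : AddMonoid.End A)
    (hT : T ^ p = 1) (hT1 : T ≠ 1)
    (hirr : ∀ B : AddSubgroup A, (∀ b ∈ B, T b ∈ B) → B = ⊥ ∨ B = ⊤) :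
    Nat.card A = q ^ orderOf (q : ZMod p) := by
  haveI : Fact q.Prime := ⟨hq⟩
  haveI : Finite (AddMonoid.End A) := Finite.of_injective (fun f : AddMonoid.End A => (f : A → A))
    DFunLike.coe_injective
  let R := Subring.closure ({T} : Set (AddMonoid.End A))
  have hTR : T ∈ R := Subring.subset_closure rfl
  have hcomm : ∀ r ∈ R, ∀ s ∈ R, r * s = s * r := by
    have h1 : R ≤ Subring.centralizer {T} :=
      Subring.closure_le.mpr (Set.singleton_subset_iff.mpr
        (Subring.mem_centralizer_iff.mpr (by rintro _ rfl; rfl)))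
    intro r hr s hs
    have h2 : R ≤ Subring.centralizer (R : Set (AddMonoid.End A)) := Subring.closure_le.mpr (by
      rintro _ rfl
      rw [SetLike.mem_coe, Subring.mem_centralizer_iff]
      intro g hg
      exact ((Subring.mem_centralizer_iff.mp (h1 hg)) _ rfl).symm)
    exact Subring.mem_centralizer_iff.mp (h2 hs) r hr
  -- the kernel of a member of `R` is invariant
  have hker : ∀ r ∈ R, ∀ w : A, w ≠ 0 → r w = 0 → r = 0 := by
    intro r hr w hw hrw
    rcases hirr (AddMonoidHom.ker r) (fun b hb => by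
      change r (T b) = 0
      change (r * T) b = 0
      rw [hcomm r hr T hTR]
      change T (r b) = 0
      rw [show r b = 0 from hb, map_zero]) with h | h
    · exact absurd ((AddSubgroup.eq_bot_iff_forall _).mp h w hrw) hw
    · ext a
      exact (h ▸ AddSubgroup.mem_top a : a ∈ AddMonoidHom.ker r)
  obtain ⟨v, hv⟩ := exists_ne (0 : A)
  let ev : R →+ A :=
    { toFun := fun r => (r : AddMonoid.End A) v, map_zero' := rfl, map_add' := fun _ _ => rfl }
  have hinj : Function.Injective ev := (injective_iff_map_eq_zero ev).mpr fun r hr =>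
    Subtype.ext (hker r r.2 v hv hr)
  have hsurj : Function.Surjective ev := by
    rw [← AddMonoidHom.range_eq_top]
    refine (hirr ev.range ?_).resolve_left fun h => hv ?_
    · rintro _ ⟨r, rfl⟩
      exact ⟨⟨T, hTR⟩ * r, rfl⟩
    · exact (AddSubgroup.eq_bot_iff_forall _).mp h v ⟨1, rfl⟩
  letI : CommRing R := { (inferInstance : Ring R) with
    mul_comm := fun r s => Subtype.ext (hcomm r r.2 s s.2) }
  haveI : Nontrivial R := hsurj.nontrivial
  haveI : NoZeroDivisors R := ⟨fun {r s} h => by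
    by_contra hc
    push Not at hc
    refine hc.1 (Subtype.ext (hker r r.2 ((s : AddMonoid.End A) v) (fun h' => hc.2 (hinj ?_)) ?_))
    · rw [map_zero]; exact h'
    · exact congrArg (fun x : R => (x : AddMonoid.End A) v) h⟩
  haveI : IsDomain R := NoZeroDivisors.to_isDomain _
  have hq0 : (q : R) = 0 := hinj (by
    rw [map_zero]
    change ((q : R) : AddMonoid.End A) v = 0
    simpa using hqA v)
  haveI : CharP R q := (CharP.charP_iff_prime_eq_zero hq).mpr hq0
  set m := orderOf (q : ZMod p)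
  have hqp0 : (q : ZMod p) ≠ 0 := by
    rw [ne_eq, ZMod.natCast_eq_zero_iff]
    exact fun h => hqp ((Nat.prime_dvd_prime_iff_eq (Fact.out : p.Prime) hq).mp h).symm
  have hqm : q ^ m ≡ 1 [MOD p] := by
    rw [← ZMod.natCast_eq_natCast_iff, Nat.cast_pow, pow_orderOf_eq_one, Nat.cast_one]
  have hTm : (⟨T, hTR⟩ : R) ^ q ^ m = ⟨T, hTR⟩ := by
    refine Subtype.ext ?_
    rw [SubmonoidClass.coe_pow, pow_eq_pow_mod _ hT, hqm,
      Nat.mod_eq_of_lt (Fact.out : p.Prime).one_lt, pow_one]
  have hall : ∀ r : R, r ^ q ^ m = r := by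
    have hle : R ≤ (RingHom.eqLocus (iterateFrobenius R q m) (RingHom.id R)).map R.subtype :=
      Subring.closure_le.mpr (Set.singleton_subset_iff.mpr ⟨⟨T, hTR⟩, hTm, rfl⟩)
    intro r
    obtain ⟨s, hs, hs'⟩ := hle r.2
    have : s = r := Subtype.ext hs'
    subst this
    exact hs
  have hcard : Nat.card R = Nat.card A := Nat.card_congr (Equiv.ofBijective ev ⟨hinj, hsurj⟩)
  obtain ⟨k, hk⟩ : ∃ k, Nat.card A = q ^ k := by
    have hpg : IsPGroup q (Multiplicative A) := fun a => ⟨1, by
      rw [pow_one, ← toAdd_eq_zero, toAdd_pow]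
      exact hqA _⟩
    obtain ⟨k, hk⟩ := IsPGroup.iff_card.mp hpg
    exact ⟨k, hk⟩
  have hA1 : 1 < q ^ k := hk ▸ Finite.one_lt_card
  rw [hk] at hcard ⊢
  congr 1
  have hm1 : 0 < m := (isOfFinOrder_iff_pow_eq_one.mpr
    ⟨p - 1, by have := (Fact.out : p.Prime).two_le; omega, ZMod.pow_card_sub_one_eq_one hqp0⟩).orderOf_pos
  apply le_antisymm
  · exact (Nat.pow_le_pow_iff_right hq.one_lt).mp
      (hcard ▸ card_le_of_forall_pow_eq (Nat.one_lt_pow hm1.ne' hq.one_lt) hall)
  · classical
    letI := Fintype.ofFinite R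
    have ho : orderOf (⟨T, hTR⟩ : R) = p := by
      refine orderOf_eq_prime (Subtype.ext ?_) fun h => hT1 (congrArg Subtype.val h)
      rw [SubmonoidClass.coe_pow, hT]; rfl
    have h0 : (⟨T, hTR⟩ : R) ≠ 0 := fun h => by
      rw [h, orderOf_zero] at ho
      exact (Fact.out : p.Prime).ne_zero ho.symm
    have h1 : (⟨T, hTR⟩ : R) ^ (q ^ k - 1) = 1 := hcard ▸ pow_card_sub_one h0
    have h2 : p ∣ q ^ k - 1 := ho ▸ orderOf_dvd_of_pow_eq_one h1
    refine Nat.le_of_dvd (Nat.pos_of_ne_zero fun h => by simp [h] at hA1) (orderOf_dvd_of_pow_eq_one ?_)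
    rw [← Nat.cast_pow, ← Nat.cast_one, ← sub_eq_zero, ← Nat.cast_sub (Nat.one_le_pow _ _ hq.pos),
      ZMod.natCast_eq_zero_iff]
    exact h2

end CfsgLib.PGroups.IrredAction
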