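/-
The normalizer of an irreducible operator of prime order acts on it through powers of the
characteristic.
-/
import Cfsg.Agent.Lib.PGroups.IrredAction

set_option autoImplicit false
set_option linter.all false

namespace CfsgLib.PGroups.IrredAction

/-- If an automorphism `σ` carries an irreducible operator `T` of prime order `q` on an elementary
`p`-group to `T ^ a`, then `a` is a power of `p` modulo `q`. -/
theorem exists_pow_of_conj {A : Type*} [AddCommGroup A] [Finite A] [Nontrivial A] {p q : ℕ}
    [Fact q.Prime] (hp : p.Prime) (hpA : ∀ a : A, p • a = 0) (T : AddMonoid.End A)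
    (hT : T ^ q = 1) (hT1 : T ≠ 1)
    (hirr : ∀ B : AddSubgroup A, (∀ b ∈ B, T b ∈ B) → B = ⊥ ∨ B = ⊤)
    (σ : A ≃+ A) (a : ℕ) (ha : ∀ x, σ (T x) = (T ^ a) (σ x)) :
    ∃ j : ℕ, T ^ a = T ^ p ^ j := by
  haveI : Fact p.Prime := ⟨hp⟩
  haveI : Finite (AddMonoid.End A) := Finite.of_injective (fun f : AddMonoid.End A => (f : A → A))
    DFunLike.coe_injective
  let R := Subring.closure ({T} : Set (AddMonoid.End A))
  have hTR : T ∈ R := Subring.subset_closure rfl
  have hcomm : ∀ r ∈ R, ∀ s ∈ R, r * s = s * r := by
    have h1 : R ≤ Subring.centralizer {T} :=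
      Subring.closure_le.mpr (Set.singleton_subset_iff.mpr
        (Subring.mem_centralizer_iff.mpr (by rintro _ rfl; rfl)))
    intro r hr s hs
    have h2 : R ≤ Subring.centralizer (R : Set (AddMonoid.End A)) := Subring.closure_le.mpr (by
      rintro _ rfl
      rw [SetLike.mem_coe, Subring.mem_centralizer_iff]
      intro g hg
      exact ((Subring.mem_centralizer_iff.mp (h1 hg)) _ rfl).symm)
    exact Subring.mem_centralizer_iff.mp (h2 hs) r hr
  have hker : ∀ r ∈ R, ∀ w : A, w ≠ 0 → r w = 0 → r = 0 := by
    intro r hr w hw hrw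
    rcases hirr (AddMonoidHom.ker r) (fun b hb => by
      change r (T b) = 0
      change (r * T) b = 0
      rw [hcomm r hr T hTR]
      change T (r b) = 0
      rw [show r b = 0 from hb, map_zero]) with h | h
    · exact absurd ((AddSubgroup.eq_bot_iff_forall _).mp h w hrw) hw
    · ext x
      exact (h ▸ AddSubgroup.mem_top x : x ∈ AddMonoidHom.ker r)
  letI : CommRing R := { (inferInstance : Ring R) with
    mul_comm := fun r s => Subtype.ext (hcomm r r.2 s s.2) }
  obtain ⟨v, hv⟩ := exists_ne (0 : A)
  haveI : Nontrivial R := ⟨0, 1, fun h => hv (by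
    have := congrArg (fun r : R => (r : AddMonoid.End A) v) h
    exact this.symm)⟩
  haveI : NoZeroDivisors R := ⟨fun {r s} h => by
    by_contra hc
    push Not at hc
    have hs : (s : AddMonoid.End A) v ≠ 0 := fun h' =>
      hc.2 (Subtype.ext (hker s s.2 v hv h'))
    exact hc.1 (Subtype.ext (hker r r.2 _ hs
      (congrArg (fun x : R => (x : AddMonoid.End A) v) h)))⟩
  haveI : IsDomain R := NoZeroDivisors.to_isDomain _
  letI : Fintype R := Fintype.ofFinite R
  letI : DecidableEq R := Classical.decEq R
  letI fieldR : Field R := Fintype.fieldOfDomain R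
  have hp0 : (p : R) = 0 := Subtype.ext (hker _ (p : R).2 v hv (by
    simpa using hpA v))
  haveI : CharP R p := (CharP.charP_iff_prime_eq_zero hp).mpr hp0
  letI : Algebra (ZMod p) R := ZMod.algebra R p
  -- conjugation by σ
  let C : AddMonoid.End A →+* AddMonoid.End A :=
    { toFun := fun f => (σ.toAddMonoidHom.comp (f.comp σ.symm.toAddMonoidHom) : AddMonoid.End A)
      map_one' := by ext x; exact σ.apply_symm_apply x
      map_mul' := fun f g => by
        ext x
        show σ (f (g (σ.symm x))) = σ (f (σ.symm (σ (g (σ.symm x)))))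
        rw [σ.symm_apply_apply]
      map_zero' := by ext x; exact map_zero σ
      map_add' := fun f g => by ext x; exact map_add σ _ _ }
  have hCT : C T = T ^ a := by
    ext x
    show σ (T (σ.symm x)) = (T ^ a) x
    rw [ha, σ.apply_symm_apply]
  have hle : R ≤ R.comap C := Subring.closure_le.mpr (Set.singleton_subset_iff.mpr (by
    show C T ∈ R
    rw [hCT]
    exact pow_mem hTR a))
  let φ : R →+* R := (C.comp R.subtype).codRestrict R fun r => hle r.2
  let ψ : R →ₐ[ZMod p] R :=
    { φ with
      commutes' := fun z => RingHom.congr_fun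
        (RingHom.ext_zmod (φ.comp (algebraMap (ZMod p) R)) (algebraMap (ZMod p) R)) z }
  obtain ⟨j, hj⟩ := (FiniteField.bijective_frobeniusAlgHom_pow (ZMod p) R).2 ψ
  refine ⟨j, ?_⟩
  have h := congrArg (fun f : R →ₐ[ZMod p] R => ((f ⟨T, hTR⟩ : R) : AddMonoid.End A)) hj
  simp only at h
  rw [AlgHom.coe_pow, FiniteField.coe_frobeniusAlgHom, pow_iterate, ZMod.card] at h
  rw [← hCT]
  exact h.symm

end CfsgLib.PGroups.IrredAction
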