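import Mathlib
import Cfsg.Agent.Lib.ClassSizes.Basic

/-!
# Polynomial sequences in a nilpotent filtered group (Leibman)

For a filtration `Φ` with `⁅Φ a, Φ b⁆ ≤ Φ (a + b)` ending at `⊥`, the sequences all of whose
`k`-th differences lie in `Φ (d + k)` form a group.  Consequence: a polynomial sequence vanishing
at `0` is `1` at `p` as soon as `Φ (d + p) = ⊥` and its values lie in a subgroup of exponent `p`.
This is the Hall–Petrescu argument for `p`-groups of class `< p`.
-/

set_option autoImplicit false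

namespace CfsgLib.PGroups

open Subgroup
open scoped commutatorElement

variable {G : Type*} [Group G]

/-- The difference operator on sequences. -/
def seqDiff (f : ℕ → G) : ℕ → G := fun n => (f n)⁻¹ * f (n + 1)

/-- All `k`-th differences of `f` lie in `Φ (d + k)`. -/
def IsPolySeq (Φ : ℕ → Subgroup G) (d : ℕ) (f : ℕ → G) : Prop :=
  ∀ k n, seqDiff^[k] f n ∈ Φ (d + k)

/-- A finite descending filtration compatible with commutators. -/
structure IsCommFiltration (Φ : ℕ → Subgroup G) (N : ℕ) : Prop where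
  anti : Antitone Φ
  comm : ∀ a b, ⁅Φ a, Φ b⁆ ≤ Φ (a + b)
  last : Φ N = ⊥

theorem IsPolySeq.value {Φ : ℕ → Subgroup G} {d : ℕ} {f : ℕ → G} (h : IsPolySeq Φ d f) (n : ℕ) :
    f n ∈ Φ d := h 0 n

theorem IsPolySeq.diff {Φ : ℕ → Subgroup G} {d : ℕ} {f : ℕ → G} (h : IsPolySeq Φ d f) :
    IsPolySeq Φ (d + 1) (seqDiff f) := fun k n => by
  have := h (k + 1) n
  rw [Function.iterate_succ_apply] at this
  rwa [show d + 1 + k = d + (k + 1) by omega]

theorem isPolySeq_of {Φ : ℕ → Subgroup G} {d : ℕ} {f : ℕ → G} (h0 : ∀ n, f n ∈ Φ d)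
    (h1 : IsPolySeq Φ (d + 1) (seqDiff f)) : IsPolySeq Φ d f := by
  rintro (_ | k) n
  · exact h0 n
  · rw [Function.iterate_succ_apply, show d + (k + 1) = d + 1 + k by omega]
    exact h1 k n

theorem seqDiff_one : seqDiff (fun _ : ℕ => (1 : G)) = fun _ => 1 :=
  funext fun n => by simp [seqDiff]

theorem isPolySeq_one (Φ : ℕ → Subgroup G) (d : ℕ) : IsPolySeq Φ d (fun _ => (1 : G)) := by
  intro k n
  rw [Function.iterate_fixed seqDiff_one k]
  exact one_mem _

theorem IsPolySeq.mono {Φ : ℕ → Subgroup G} {N : ℕ} (hΦ : IsCommFiltration Φ N) {d e : ℕ}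
    (h : e ≤ d) {f : ℕ → G} (hf : IsPolySeq Φ d f) : IsPolySeq Φ e f :=
  fun k n => hΦ.anti (by omega) (hf k n)

theorem IsPolySeq.eq_one {Φ : ℕ → Subgroup G} {N : ℕ} (hΦ : IsCommFiltration Φ N) {d : ℕ}
    (h : N ≤ d) {f : ℕ → G} (hf : IsPolySeq Φ d f) : f = fun _ => 1 := by
  funext n
  have := hΦ.anti h (hf.value n)
  rw [hΦ.last] at this
  exact Subgroup.mem_bot.mp this

/-- Closure of polynomial sequences of degree data `≥ n` under the group operations. -/
structure PolyClosed (Φ : ℕ → Subgroup G) (n : ℕ) : Prop where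
  mul : ∀ f g, IsPolySeq Φ n f → IsPolySeq Φ n g → IsPolySeq Φ n (f * g)
  inv : ∀ f, IsPolySeq Φ n f → IsPolySeq Φ n f⁻¹
  comm : ∀ a b f g, a + b = n → IsPolySeq Φ a f → IsPolySeq Φ b g →
    IsPolySeq Φ n (fun i => ⁅f i, g i⁆)

variable [Finite G]

theorem polyClosed {Φ : ℕ → Subgroup G} {N : ℕ} (hΦ : IsCommFiltration Φ N) :
    ∀ n, PolyClosed Φ n := by
  suffices h : ∀ j n, N ≤ n + j → PolyClosed Φ n from fun n => h N n (by omega)
  intro j
  induction j with
  | zero =>
    intro n hn
    refine ⟨fun f g hf hg => ?_, fun f hf => ?_, fun a b f g hab hf hg => ?_⟩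
    · rw [hf.eq_one hΦ (by omega), hg.eq_one hΦ (by omega)]
      simpa [Pi.mul_def] using isPolySeq_one Φ n
    · rw [hf.eq_one hΦ (by omega)]
      simpa [Pi.inv_def] using isPolySeq_one Φ n
    · have : (fun i => ⁅f i, g i⁆) = fun _ => (1 : G) := by
        funext i
        have := hΦ.anti (show N ≤ a + b by omega)
          (hΦ.comm a b (commutator_mem_commutator (hf.value i) (hg.value i)))
        rw [hΦ.last] at this
        exact Subgroup.mem_bot.mp this
      rw [this]
      exact isPolySeq_one Φ n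
  | succ j ih =>
    intro n hn
    have big : ∀ m, n < m → PolyClosed Φ m := fun m hm => ih m (by omega)
    -- conjugation of higher degree sequences
    have hconj : ∀ a h W, IsPolySeq Φ a h → IsPolySeq Φ (n + 1) W →
        IsPolySeq Φ (n + 1) (fun i => h i * W i * (h i)⁻¹) := by
      intro a h W hh hW
      have h1 : IsPolySeq Φ (n + 1) (fun i => ⁅h i, W i⁆) :=
        ((big (a + (n + 1)) (by omega)).comm a (n + 1) h W rfl hh hW).mono hΦ (by omega)
      convert (big (n + 1) (by omega)).mul _ _ h1 hW using 1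
      funext i
      simp [commutatorElement_def]
    have hconjInv : ∀ a h W, IsPolySeq Φ a h → IsPolySeq Φ (n + 1) W →
        IsPolySeq Φ (n + 1) (fun i => (h i)⁻¹ * W i * h i) := by
      intro a h W hh hW
      have hpow : ∀ m : ℕ, IsPolySeq Φ (n + 1) (fun i => h i ^ m * W i * (h i ^ m)⁻¹) := by
        intro m
        induction m with
        | zero => simpa using hW
        | succ m ihm =>
          convert hconj a h _ hh ihm using 1
          funext i
          simp [pow_succ', mul_assoc]
      convert hpow (Nat.card G - 1) using 1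
      funext i
      have : h i ^ (Nat.card G - 1) = (h i)⁻¹ := by
        refine eq_inv_of_mul_eq_one_left ?_
        rw [← pow_succ, Nat.sub_add_cancel Nat.card_pos, pow_card_eq_one']
      rw [this, inv_inv]
    refine ⟨fun f g hf hg => ?_, fun f hf => ?_, fun a b f g hab hf hg => ?_⟩
    · refine isPolySeq_of (fun i => mul_mem (hf.value i) (hg.value i)) ?_
      convert (big (n + 1) (by omega)).mul _ _ (hconjInv n g _ hg hf.diff) hg.diff using 1
      funext i
      simp only [seqDiff, Pi.mul_apply]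
      group
    · refine isPolySeq_of (fun i => inv_mem (hf.value i)) ?_
      convert hconj n f _ hf ((big (n + 1) (by omega)).inv _ hf.diff) using 1
      funext i
      simp only [seqDiff, Pi.inv_apply]
      group
    · refine isPolySeq_of (fun i => hab ▸ hΦ.comm a b
        (commutator_mem_commutator (hf.value i) (hg.value i))) ?_
      have hxg : IsPolySeq Φ (n + 1) (fun i => ⁅seqDiff f i, g i⁆) :=
        (big (n + 1) (by omega)).comm (a + 1) b _ g (by omega) hf.diff hg
      have hxy : IsPolySeq Φ (n + 1) (fun i => ⁅seqDiff f i, seqDiff g i⁆) :=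
        ((big (n + 2) (by omega)).comm (a + 1) (b + 1) _ _ (by omega) hf.diff hg.diff).mono hΦ (by omega)
      have hfy : IsPolySeq Φ (n + 1) (fun i => ⁅f i, seqDiff g i⁆) :=
        (big (n + 1) (by omega)).comm a (b + 1) f _ (by omega) hf hg.diff
      have h1 := (big (n + 1) (by omega)).mul _ _ hxg (hconj b g _ hg hxy)
      have h2 := hconj b g _ hg (hconj a f _ hf (hconjInv b g _ hg (hconjInv a f _ hf
        (hconj a f _ hf h1))))
      convert (big (n + 1) (by omega)).mul _ _ h2 (hconj b g _ hg hfy) using 1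
      funext i
      simp only [seqDiff, Pi.mul_apply, commutatorElement_def]
      group

variable {Φ : ℕ → Subgroup G} {N : ℕ}

theorem IsPolySeq.mul (hΦ : IsCommFiltration Φ N) {d : ℕ} {f g : ℕ → G} (hf : IsPolySeq Φ d f)
    (hg : IsPolySeq Φ d g) : IsPolySeq Φ d (f * g) :=
  (polyClosed hΦ d).mul f g hf hg

theorem IsPolySeq.inv (hΦ : IsCommFiltration Φ N) {d : ℕ} {f : ℕ → G} (hf : IsPolySeq Φ d f) :
    IsPolySeq Φ d f⁻¹ :=
  (polyClosed hΦ d).inv f hf

omit [Finite G] in
/-- `n ↦ c ^ (n.choose k)`. -/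
theorem isPolySeq_choose (hΦ : IsCommFiltration Φ N) {c : G} :
    ∀ (k d : ℕ), c ∈ Φ (d + k) → IsPolySeq Φ d (fun n => c ^ n.choose k) := by
  intro k
  induction k with
  | zero =>
    intro d hc
    refine isPolySeq_of (fun n => by simpa using hc) ?_
    have : seqDiff (fun n : ℕ => c ^ n.choose 0) = fun _ => 1 := by funext n; simp [seqDiff]
    rw [this]
    exact isPolySeq_one Φ _
  | succ k ih =>
    intro d hc
    refine isPolySeq_of (fun n => pow_mem (hΦ.anti (by omega) hc) _) ?_
    have : seqDiff (fun n : ℕ => c ^ n.choose (k + 1)) = fun n => c ^ n.choose k := by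
      funext n
      rw [seqDiff, Nat.choose_succ_succ', add_comm (n.choose k), pow_add, inv_mul_cancel_left]
    rw [this]
    exact ih (d + 1) (by rwa [show d + 1 + k = d + (k + 1) by omega])

omit [Finite G] in
theorem IsPolySeq.apply_mem_of_vanish : ∀ {k d : ℕ} {f : ℕ → G}, IsPolySeq Φ d f →
    (∀ i < k, f i = 1) → f k ∈ Φ (d + k) := by
  intro k
  induction k with
  | zero => intro d f hf _; exact hf.value 0
  | succ k ih =>
    intro d f hf h0
    have := ih hf.diff (fun i hi => by simp [seqDiff, h0 i (by omega), h0 (i + 1) (by omega)])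
    rwa [seqDiff, h0 k (by omega), inv_one, one_mul, show d + 1 + k = d + (k + 1) by omega] at this

omit [Finite G] in
theorem IsPolySeq.eq_one_of_vanish (_hΦ : IsCommFiltration Φ N) : ∀ {k d : ℕ} {f : ℕ → G},
    IsPolySeq Φ d f → (∀ i < k, f i = 1) → Φ (d + k) = ⊥ → f = fun _ => 1 := by
  intro k
  induction k with
  | zero =>
    intro d f hf _ hb
    funext n
    exact Subgroup.mem_bot.mp (hb ▸ hf.value n)
  | succ k ih =>
    intro d f hf h0 hb
    have hD := ih hf.diff (fun i hi => by simp [seqDiff, h0 i (by omega), h0 (i + 1) (by omega)])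
      (by rwa [show d + 1 + k = d + (k + 1) by omega])
    funext n
    induction n with
    | zero => exact h0 0 (by omega)
    | succ n ihn =>
      have := congrFun hD n
      rw [seqDiff, ihn, inv_one, one_mul] at this
      exact this

/-- A polynomial sequence `1` at `0`, with `Φ (d + p) = ⊥` and values in a subgroup of exponent
`p`, is `1` at `p`. -/
theorem IsPolySeq.apply_prime_eq_one (hΦ : IsCommFiltration Φ N) {p : ℕ} (hp : p.Prime) {d : ℕ}
    (hd : Φ (d + p) = ⊥) (M : Subgroup G) (hM : ∀ m ∈ M, m ^ p = 1) {f : ℕ → G}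
    (hf : IsPolySeq Φ d f) (hfM : ∀ n, f n ∈ M) (h0 : f 0 = 1) : f p = 1 := by
  have main : ∀ k, k ≤ p → 0 < k → ∃ g : ℕ → G, IsPolySeq Φ d g ∧ (∀ n, g n ∈ M) ∧
      (∀ i < k, g i = 1) ∧ g p = f p := by
    intro k
    induction k with
    | zero => intro _ h; omega
    | succ k ih =>
      intro hk _
      rcases Nat.eq_zero_or_pos k with rfl | hk0
      · exact ⟨f, hf, hfM, fun i hi => by rwa [show i = 0 by omega], rfl⟩
      obtain ⟨g, hg, hgM, hg0, hgp⟩ := ih (by omega) hk0
      have hc : g k ∈ Φ (d + k) := hg.apply_mem_of_vanish hg0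
      refine ⟨g * (fun n => g k ^ n.choose k)⁻¹, hg.mul hΦ ((isPolySeq_choose hΦ k d hc).inv hΦ),
        fun n => M.mul_mem (hgM n) (M.inv_mem (M.pow_mem (hgM k) _)), fun i hi => ?_, ?_⟩
      · rcases Nat.lt_succ_iff_lt_or_eq.mp hi with h | rfl
        · simp [hg0 i h, Nat.choose_eq_zero_of_lt h]
        · simp
      · obtain ⟨m, hm⟩ := hp.dvd_choose_self hk0.ne' (by omega)
        simp [hgp, hm, pow_mul, hM _ (hgM k)]
  obtain ⟨g, hg, -, hg0, hgp⟩ := main p le_rfl hp.pos
  rw [← hgp, hg.eq_one_of_vanish hΦ hg0 hd]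

omit [Finite G] in
theorem lowerCentralSeries_commutator_le (i j : ℕ) :
    ⁅(⊤ : Subgroup G).lowerCentralSeries i, (⊤ : Subgroup G).lowerCentralSeries j⁆ ≤
      (⊤ : Subgroup G).lowerCentralSeries (i + j + 1) := by
  induction j generalizing i with
  | zero =>
    rw [Subgroup.lowerCentralSeries_zero, Nat.add_zero, Subgroup.lowerCentralSeries_succ]
  | succ j ih =>
    have : ((⊤ : Subgroup G).lowerCentralSeries (i + (j + 1) + 1)).Normal := inferInstance
    rw [Subgroup.lowerCentralSeries_succ _ j, Subgroup.commutator_comm]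
    refine CfsgLib.ClassSizes.three_subgroup_le _ ?_ ?_
    · rw [Subgroup.commutator_comm (⊤ : Subgroup G), ← Subgroup.lowerCentralSeries_succ]
      exact (ih (i + 1)).trans (le_of_eq (by congr 1; omega))
    · refine (Subgroup.commutator_mono (ih i) le_rfl).trans (le_of_eq ?_)
      rw [← Subgroup.lowerCentralSeries_succ]
      congr 1

omit [Finite G] in
theorem isCommFiltration_lowerCentralSeries {N : ℕ}
    (hN : (⊤ : Subgroup G).lowerCentralSeries N = ⊥) :
    IsCommFiltration (fun d => (⊤ : Subgroup G).lowerCentralSeries (d - 1)) (N + 1) where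
  anti := fun a b h => Subgroup.lowerCentralSeries_antitone _ (by omega)
  comm := fun a b => (lowerCentralSeries_commutator_le _ _).trans
    (Subgroup.lowerCentralSeries_antitone _ (by omega))
  last := hN

omit [Finite G] in
theorem isPolySeq_pow {N : ℕ} (hN : (⊤ : Subgroup G).lowerCentralSeries N = ⊥) (g : G) :
    IsPolySeq (fun d => (⊤ : Subgroup G).lowerCentralSeries (d - 1)) 0 (fun n => g ^ n) := by
  have := isPolySeq_choose (isCommFiltration_lowerCentralSeries hN) (c := g) 1 0 (by simp)
  simpa using this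

/-- In a group of class `< p`, `(x y)^p = x^p y^p` when some normal subgroup of exponent `p`
contains `x`. -/
theorem mul_pow_prime_of_class_lt {p : ℕ} (hp : p.Prime)
    (hcl : (⊤ : Subgroup G).lowerCentralSeries (p - 1) = ⊥) (M : Subgroup G) [M.Normal]
    (hM : ∀ m ∈ M, m ^ p = 1) {x : G} (hx : x ∈ M) (y : G) :
    (x * y) ^ p = x ^ p * y ^ p := by
  have hΦ := isCommFiltration_lowerCentralSeries hcl
  have hf : IsPolySeq (fun d => (⊤ : Subgroup G).lowerCentralSeries (d - 1)) 0
      ((fun n => (x * y) ^ n) * (fun n => y ^ n)⁻¹ * (fun n => x ^ n)⁻¹) :=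
    ((isPolySeq_pow hcl _).mul hΦ ((isPolySeq_pow hcl _).inv hΦ)).mul hΦ
      ((isPolySeq_pow hcl _).inv hΦ)
  have h1 := hf.apply_prime_eq_one hΦ hp (by simpa using hcl) M hM (fun n => by
    refine M.mul_mem ?_ (M.inv_mem (M.pow_mem hx n))
    show (x * y) ^ n * (y ^ n)⁻¹ ∈ M
    rw [← QuotientGroup.eq_one_iff, QuotientGroup.mk_mul, QuotientGroup.mk_inv, QuotientGroup.mk_pow,
      QuotientGroup.mk_pow, QuotientGroup.mk_mul, (QuotientGroup.eq_one_iff x).mpr hx, one_mul,
      mul_inv_cancel]) (by simp)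
  simp only [Pi.mul_apply, Pi.inv_apply] at h1
  exact mul_inv_eq_iff_eq_mul.mp (mul_inv_eq_one.mp h1)

end CfsgLib.PGroups
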