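import Mathlib
import Cfsg.Prelude.Def_CaseTheorems
import Cfsg.Agent.Lib.PGroups.Basic
import Cfsg.Agent.Lib.PGroups.PolyMap

/-!
# `p`-groups of maximal class: order bound by the sectional rank

`|S| = p^n` of class `n - 1`, sectional rank `≤ k ≤ p - 2` implies `n ≤ 2 k`.
-/

set_option autoImplicit false
set_option linter.style.haveILetI false

namespace CfsgLib.PGroups.MaxClassRank

open Subgroup
open scoped commutatorElement

variable {S : Type*} [Group S]

/-- Shorthand for the lower central series. -/
local notation "L" => Subgroup.lowerCentralSeries (⊤ : Subgroup S)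

/-- A normal subgroup with an element in `L i` outside `L (i+1)`, when all factors have order `p`
below, fills everything. -/
theorem le_of_normal {i N : ℕ} (hN : L N = ⊥) (D : Subgroup S) [D.Normal]
    (h : L i ≤ D ⊔ L (i + 1)) : L i ≤ D := by
  have hstep : ∀ m, L (i + m) ≤ D ⊔ L (i + m + 1) := by
    intro m
    induction m with
    | zero => exact h
    | succ m ih =>
      rw [← Nat.add_assoc, Subgroup.lowerCentralSeries_succ _ (i + m)]
      refine (Subgroup.commutator_mono ih le_rfl).trans ?_
      rw [Subgroup.commutator_le]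
      intro a ha g hg
      obtain ⟨d, hd, m', hm', rfl⟩ := mem_sup_of_normal_left.mp ha
      have e : ⁅d * m', g⁆ = (d * ⁅m', g⁆ * d⁻¹) * ⁅d, g⁆ := by
        simp only [commutatorElement_def]; group
      rw [e]
      refine mul_mem ?_ (mem_sup_left ?_)
      · refine mem_sup_right ((inferInstance : (L (i + m + 1 + 1)).Normal).conj_mem _ ?_ d)
        rw [Subgroup.lowerCentralSeries_succ _ (i + m + 1)]
        exact Subgroup.commutator_mem_commutator hm' hg
      · rw [show ⁅d, g⁆ = d * (g * d⁻¹ * g⁻¹) by simp [commutatorElement_def, mul_assoc]]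
        exact D.mul_mem hd ((inferInstance : D.Normal).conj_mem _ (D.inv_mem hd) g)
  have hall : ∀ m, L i ≤ D ⊔ L (i + m) := by
    intro m
    induction m with
    | zero => exact le_sup_right
    | succ m ih => exact ih.trans (sup_le le_sup_left (hstep m))
  refine (hall N).trans (sup_le le_rfl ?_)
  exact (Subgroup.lowerCentralSeries_antitone _ (Nat.le_add_left N i)).trans (hN.le.trans bot_le)

variable [Finite S] {p n : ℕ} [Fact p.Prime]

theorem card_series (hS : IsPGroup p S) [Group.IsNilpotent S] (hn : 3 ≤ n)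
    (hcard : Nat.card S = p ^ n) (hmax : Group.nilpotencyClass S = n - 1) :
    (frattini S = L 1 ∧ (L 1).index = p ^ 2) ∧
    ∀ j, 1 ≤ j → j ≤ n - 1 → Nat.card (L j) = p ^ (n - 1 - j) := by
  have hp : p.Prime := Fact.out
  have hbot : L (n - 1) = ⊥ :=
    Subgroup.lowerCentralSeries_eq_bot_iff_nilpotencyClass_le.mpr hmax.le
  have hne : L (n - 2) ≠ ⊥ := fun h => by
    have := Subgroup.lowerCentralSeries_eq_bot_iff_nilpotencyClass_le.mp h
    omega
  have hlt : ∀ j, j ≤ n - 2 → L (j + 1) < L j := by
    intro j hj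
    refine lt_of_le_of_ne (Subgroup.lowerCentralSeries_antitone _ (Nat.le_succ j)) fun e => ?_
    have hst : ∀ m, L (j + m) = L j := by
      intro m
      induction m with
      | zero => rfl
      | succ m ih =>
        rw [← Nat.add_assoc, Subgroup.lowerCentralSeries_succ, ih,
          ← Subgroup.lowerCentralSeries_succ, e]
    refine hne ?_
    have h1 := hst (n - 2 - j)
    have h2 := hst (n - 1 - j)
    rw [show j + (n - 2 - j) = n - 2 by omega] at h1
    rw [show j + (n - 1 - j) = n - 1 by omega, hbot] at h2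
    rw [h1, ← h2]
  choose e he using fun j : ℕ => IsPGroup.iff_card.mp (hS.to_subgroup (L j))
  have he' : ∀ j, j ≤ n - 2 → e (j + 1) < e j := by
    intro j hj
    have h1 : Nat.card (L (j + 1)) < Nat.card (L j) := by
      refine lt_of_le_of_ne (Subgroup.card_le_of_le (hlt j hj).le) fun h => ?_
      exact (hlt j hj).ne (Subgroup.eq_of_le_of_card_ge (hlt j hj).le h.ge)
    rw [he, he] at h1
    exact (Nat.pow_lt_pow_iff_right hp.one_lt).mp h1
  have hlo : ∀ m, m ≤ n - 1 → m ≤ e (n - 1 - m) := by
    intro m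
    induction m with
    | zero => intro _; omega
    | succ m ih =>
      intro hm
      have := he' (n - 1 - (m + 1)) (by omega)
      rw [show n - 1 - (m + 1) + 1 = n - 1 - m by omega] at this
      have := ih (by omega)
      omega
  have hΦle : L 1 ≤ frattini S := by
    rw [Subgroup.top_lowerCentralSeries_one]; exact commutator_le_frattini' hS
  obtain ⟨a, ha⟩ := hS.index (frattini S)
  have ha2 : 2 ≤ a := by
    by_contra hh
    haveI : IsCyclic S := isCyclic_of_index_frattini_le hS (p := p) (by
      rw [ha]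
      exact (Nat.pow_le_pow_right hp.pos (show a ≤ 1 by omega)).trans_eq (pow_one p))
    letI := IsCyclic.commGroup (α := S)
    have := CommGroup.nilpotencyClass_le_one (G := S)
    omega
  have hΦe : ∃ f, Nat.card (frattini S) = p ^ f ∧ f + a = n := by
    obtain ⟨f, hf⟩ := IsPGroup.iff_card.mp (hS.to_subgroup (frattini S))
    refine ⟨f, hf, Nat.pow_right_injective hp.two_le ?_⟩
    show p ^ (f + a) = p ^ n
    rw [pow_add, ← hf, ← ha, Subgroup.card_mul_index, hcard]
  obtain ⟨f, hf, hfa⟩ := hΦe
  have he1 : e 1 ≤ f := by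
    have := Subgroup.card_le_of_le hΦle
    rw [he, hf] at this
    exact (Nat.pow_le_pow_iff_right hp.one_lt).mp this
  have h1 := hlo (n - 2) (by omega)
  rw [show n - 1 - (n - 2) = 1 by omega] at h1
  have hΦ : frattini S = L 1 :=
    (Subgroup.eq_of_le_of_card_ge hΦle (by rw [he, hf]; exact Nat.pow_le_pow_right hp.pos (by omega))).symm
  refine ⟨⟨hΦ, ?_⟩, fun j hj1 hj2 => ?_⟩
  · rw [← hΦ, ha, show a = 2 by omega]
  · rw [he]
    congr 1
    have hh := hlo (n - 1 - j) (by omega)
    rw [show n - 1 - (n - 1 - j) = j by omega] at hh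
    suffices ∀ i, 1 ≤ i → i ≤ n - 1 → e i + i ≤ e 1 + 1 by
      have := this j hj1 hj2; omega
    intro i hi
    induction i, hi using Nat.le_induction with
    | base => intro _; exact le_rfl
    | succ i hi ih =>
      intro hin
      have := he' i (by omega)
      have := ih (by omega)
      omega

/-- the `j`-th twisted centralizer: elements acting trivially from `L j` to `L (j+1) / L (j+2)` -/
def twoStep (j : ℕ) : Subgroup S :=
  (Subgroup.centralizer (((L j).map (QuotientGroup.mk' (L (j + 2))) : Subgroup (S ⧸ L (j + 2))) :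
    Set (S ⧸ L (j + 2)))).comap (QuotientGroup.mk' (L (j + 2)))

omit [Finite S] in
theorem mem_twoStep {j : ℕ} {s : S} :
    s ∈ twoStep j ↔ ∀ x ∈ L j, ⁅x, s⁆ ∈ L (j + 2) := by
  have key : ∀ x, (QuotientGroup.mk' (L (j + 2)) x * QuotientGroup.mk' (L (j + 2)) s =
      QuotientGroup.mk' (L (j + 2)) s * QuotientGroup.mk' (L (j + 2)) x) ↔ ⁅x, s⁆ ∈ L (j + 2) := by
    intro x
    rw [← QuotientGroup.eq_one_iff, ← commutatorElement_eq_one_iff_mul_comm]
    rfl
  rw [twoStep, Subgroup.mem_comap, Subgroup.mem_centralizer_iff]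
  constructor
  · exact fun h x hx => (key x).mp (h _ (Subgroup.mem_map_of_mem _ hx))
  · rintro h _ ⟨x, hx, rfl⟩
    exact (key x).mpr (h x hx)

/-- Main bound. -/
theorem order_le (hS : IsPGroup p S) [Group.IsNilpotent S] (hn : 2 ≤ n)
    (hcard : Nat.card S = p ^ n) (hmax : Group.nilpotencyClass S = n - 1) {k : ℕ} (hk : 1 ≤ k)
    (hsr : Cfsg.SectionalPRankLE p k S) (hpk : k + 2 ≤ p) : n ≤ 2 * k := by
  classical
  have hp : p.Prime := Fact.out
  by_contra hcon
  have hn3 : 3 ≤ n := by omega
  obtain ⟨⟨hΦ, hi1⟩, hser⟩ := card_series hS hn3 hcard hmax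
  have hbot : L (n - 1) = ⊥ :=
    Subgroup.lowerCentralSeries_eq_bot_iff_nilpotencyClass_le.mpr hmax.le
  -- rank test
  have rank : ∀ (A N : Subgroup S) [N.Normal], N ≤ A → (∀ a ∈ A, ∀ b ∈ A, ⁅a, b⁆ ∈ N) →
      (∀ a ∈ A, a ^ p ∈ N) → Nat.card A ≤ p ^ k * Nat.card N := by
    intro A N _ hNA hcom hexp
    have hab : IsMulCommutative (⊤ : Subgroup (A ⧸ N.subgroupOf A)) := by
      refine ⟨⟨?_⟩⟩
      rintro ⟨x, -⟩ ⟨y, -⟩
      apply Subtype.ext
      show x * y = y * x
      induction x using QuotientGroup.induction_on with | _ a => ?_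
      induction y using QuotientGroup.induction_on with | _ b => ?_
      rw [← commutatorElement_eq_one_iff_mul_comm]
      exact (QuotientGroup.eq_one_iff (⁅a, b⁆)).mpr (hcom a a.2 b b.2)
    have hle := hsr A (N.subgroupOf A) ⊤ hab (by
      rintro x -
      induction x using QuotientGroup.induction_on with | _ a => ?_
      rw [← QuotientGroup.mk_pow, QuotientGroup.eq_one_iff]
      exact hexp a a.2)
    rw [Subgroup.card_top] at hle
    calc Nat.card A = Nat.card (A ⧸ N.subgroupOf A) * Nat.card (N.subgroupOf A) :=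
          Subgroup.card_eq_card_quotient_mul_card_subgroup _
      _ ≤ p ^ k * Nat.card N := by
          rw [Nat.card_congr (Subgroup.subgroupOfEquivOfLe hNA).toEquiv]
          exact Nat.mul_le_mul_right _ hle
  rcases Nat.lt_or_ge k 2 with hk1 | hk2
  · -- `k = 1`: the Frattini quotient
    obtain rfl : k = 1 := by omega
    have h := rank ⊤ (frattini S) le_top
      (fun a _ b _ => commutator_le_frattini' hS (by
        rw [commutator_def]; exact Subgroup.commutator_mem_commutator (mem_top a) (mem_top b)))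
      (fun a _ => pow_mem_frattini hS a)
    rw [Subgroup.card_top, ← (frattini S).card_mul_index, hΦ, hi1, pow_one, mul_comm] at h
    have := Nat.le_of_mul_le_mul_right h Nat.card_pos
    have : p * 2 ≤ p * p := Nat.mul_le_mul_left _ hp.two_le
    have := hp.two_le
    rw [pow_two] at *
    omega
  -- `k ≥ 2`
  have hser' : ∀ j, 1 ≤ j → j ≤ 2 * k → Nat.card (L j) = p ^ (n - 1 - j) :=
    fun j h1 h2 => hser j h1 (by omega)
  have hcov : ∀ j, 1 ≤ j → j + 1 ≤ 2 * k → ∀ x ∈ L j, x ∉ L (j + 1) →
      L j ≤ zpowers x ⊔ L (j + 1) := by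
    intro j hj1 hj2 x hx hx'
    have hle : zpowers x ⊔ L (j + 1) ≤ L j :=
      sup_le (zpowers_le.mpr hx) (Subgroup.lowerCentralSeries_antitone _ (Nat.le_succ j))
    refine (Subgroup.eq_of_le_of_card_ge hle ?_).ge
    obtain ⟨e, he⟩ := IsPGroup.iff_card.mp (hS.to_subgroup (zpowers x ⊔ L (j + 1)))
    have hlt : Nat.card (L (j + 1)) < Nat.card (zpowers x ⊔ L (j + 1) : Subgroup S) := by
      refine lt_of_le_of_ne (Subgroup.card_le_of_le le_sup_right) fun h => hx' ?_
      rw [Subgroup.eq_of_le_of_card_ge (le_sup_right : L (j + 1) ≤ zpowers x ⊔ L (j + 1)) h.ge]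
      exact mem_sup_left (mem_zpowers x)
    rw [hser' (j + 1) (by omega) hj2, he] at hlt
    rw [hser' j hj1 (by omega), he]
    exact Nat.pow_le_pow_right hp.pos (by have := (Nat.pow_lt_pow_iff_right hp.one_lt).mp hlt; omega)
  -- a good element
  have hproper : ∀ j, j + 1 < 2 * k → twoStep (S := S) j ≠ ⊤ := by
    intro j hj htop
    have hle : L (j + 1) ≤ L (j + 2) := by
      rw [Subgroup.lowerCentralSeries_succ _ j, Subgroup.commutator_le]
      exact fun x hx g _ => mem_twoStep.mp (htop ▸ mem_top g) x hx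
    have := Subgroup.card_le_of_le hle
    rw [hser' _ (by omega) (by omega), hser' _ (by omega) (by omega)] at this
    have := (Nat.pow_le_pow_iff_right hp.one_lt).mp this
    omega
  obtain ⟨s, hs⟩ : ∃ s : S, ∀ j ∈ Finset.range (k + 1), s ∉ twoStep (S := S) j := by
    by_contra hc
    push Not at hc
    haveI : Fintype S := Fintype.ofFinite S
    have h1 : (Finset.univ : Finset S) ⊆
        (Finset.range (k + 1)).biUnion fun j => Finset.univ.filter (fun s => s ∈ twoStep (S := S) j) := by
      intro s _
      obtain ⟨j, hj, hsj⟩ := hc s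
      exact Finset.mem_biUnion.mpr ⟨j, hj, by simpa using hsj⟩
    have h2 : ∀ j ∈ Finset.range (k + 1),
        (Finset.univ.filter (fun s => s ∈ twoStep (S := S) j)).card ≤ p ^ (n - 1) := by
      intro j hj
      rw [← Fintype.card_subtype, ← Nat.card_eq_fintype_card]
      obtain ⟨e, he⟩ := IsPGroup.iff_card.mp (hS.to_subgroup (twoStep (S := S) j))
      show Nat.card (twoStep (S := S) j) ≤ _
      have : e < n := by
        by_contra hh
        refine hproper j (by rw [Finset.mem_range] at hj; omega) (Subgroup.eq_top_of_le_card _ ?_)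
        rw [he, hcard]; exact Nat.pow_le_pow_right hp.pos (by omega)
      rw [he]; exact Nat.pow_le_pow_right hp.pos (by omega)
    have h3 := (Finset.card_le_card h1).trans (Finset.card_biUnion_le_card_mul _ _ _ h2)
    rw [Finset.card_univ, Finset.card_range, ← Nat.card_eq_fintype_card, hcard] at h3
    have h4 : p ^ n = p * p ^ (n - 1) := by rw [← pow_succ']; congr 1; omega
    rw [h4] at h3
    have := Nat.le_of_mul_le_mul_right h3 (pow_pos hp.pos _)
    omega
  -- `s ^ p` lies deep
  have hsp : s ^ p ∈ L (k + 1) := by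
    have : ∀ j, 1 ≤ j → j ≤ k + 1 → s ^ p ∈ L j := by
      intro j hj
      induction j, hj using Nat.le_induction with
      | base => intro _; rw [← hΦ]; exact pow_mem_frattini hS s
      | succ j hj ih =>
        intro hjk
        by_contra hnot
        refine hs j (Finset.mem_range.mpr (by omega)) (mem_twoStep.mpr fun x hx => ?_)
        obtain ⟨u, hu, v, hv, rfl⟩ :=
          mem_sup_of_normal_right.mp (hcov j hj (by omega) _ (ih (by omega)) hnot hx)
        have hus : Commute u s := by
          obtain ⟨i, rfl⟩ := mem_zpowers_iff.mp hu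
          exact (Commute.pow_self s p).zpow_left i
        have e : ⁅u * v, s⁆ = u * ⁅v, s⁆ * u⁻¹ := by
          simp only [commutatorElement_def]
          calc u * v * s * (u * v)⁻¹ * s⁻¹ = u * v * s * v⁻¹ * (u⁻¹ * s⁻¹) := by group
            _ = u * v * s * v⁻¹ * (s⁻¹ * u⁻¹) := by rw [(hus.inv_inv).eq]
            _ = u * (v * s * v⁻¹ * s⁻¹) * u⁻¹ := by group
        rw [e]
        refine (inferInstance : (L (j + 2)).Normal).conj_mem _ ?_ u
        rw [Subgroup.lowerCentralSeries_succ _ (j + 1)]
        exact Subgroup.commutator_mem_commutator hv (mem_top s)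
    exact this _ (by omega) le_rfl
  obtain ⟨b, hb, hbs⟩ : ∃ b ∈ L (k - 2), ⁅b, s⁆ ∉ L (k - 2 + 2) := by
    by_contra hc
    push Not at hc
    exact hs (k - 2) (Finset.mem_range.mpr (by omega)) (mem_twoStep.mpr hc)
  rw [show k - 2 + 2 = k by omega] at hbs
  set a := ⁅s, b⁆ with ha
  have haA : a ∈ L (k - 1) := by
    rw [show k - 1 = (k - 2) + 1 by omega, Subgroup.lowerCentralSeries_succ, ha,
      ← commutatorElement_inv]
    exact inv_mem (Subgroup.commutator_mem_commutator hb (mem_top s))
  have hak : a ∉ L k := fun h => hbs (by rw [← commutatorElement_inv]; exact inv_mem h)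
  -- the section `L (k-1) / L (2k)`
  have hcom : ∀ x ∈ L (k - 1), ∀ y ∈ L (k - 1), ⁅x, y⁆ ∈ L (2 * k) := by
    have hsmall : ∀ i j, 2 * k ≤ i + j + 1 → ∀ x ∈ L i, ∀ y ∈ L j, ⁅x, y⁆ ∈ L (2 * k) :=
      fun i j h x hx y hy => Subgroup.lowerCentralSeries_antitone _ h
        (lowerCentralSeries_commutator_le i j (Subgroup.commutator_mem_commutator hx hy))
    have hc2 := hcov (k - 1) (by omega) (by omega) a haA (by rwa [show k - 1 + 1 = k by omega])
    rw [show k - 1 + 1 = k by omega] at hc2
    intro x hx y hy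
    obtain ⟨u, hu, v, hv, rfl⟩ := mem_sup_of_normal_right.mp (hc2 hx)
    obtain ⟨u', hu', v', hv', rfl⟩ := mem_sup_of_normal_right.mp (hc2 hy)
    have huu : Commute u u' := by
      obtain ⟨i, rfl⟩ := mem_zpowers_iff.mp hu
      obtain ⟨i', rfl⟩ := mem_zpowers_iff.mp hu'
      exact Commute.zpow_zpow_self a i i'
    rw [← QuotientGroup.eq_one_iff]
    show QuotientGroup.mk' (L (2 * k)) ⁅u * v, u' * v'⁆ = 1
    rw [map_commutatorElement, commutatorElement_eq_one_iff_commute]
    simp only [map_mul]
    have hzu : ∀ w ∈ zpowers a, w ∈ L (k - 1) := fun w hw => zpowers_le.mpr haA hw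
    have c : ∀ g h, ⁅g, h⁆ ∈ L (2 * k) →
        Commute (QuotientGroup.mk' (L (2 * k)) g) (QuotientGroup.mk' (L (2 * k)) h) := fun g h hh => by
      rw [← commutatorElement_eq_one_iff_commute, ← map_commutatorElement]
      exact (QuotientGroup.eq_one_iff _).mpr hh
    exact ((huu.map _).mul_right (c u v' (hsmall (k - 1) k (by omega) u (hzu u hu) v' hv'))).mul_left
      ((c v u' (hsmall k (k - 1) (by omega) v hv u' (hzu u' hu'))).mul_right
        (c v v' (hsmall k k (by omega) v hv v' hv')))
  set π := QuotientGroup.mk' (L (2 * k)) with hπ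
  have hπ1 : ∀ x ∈ L (2 * k), π x = 1 := fun x hx => (QuotientGroup.eq_one_iff x).mpr hx
  set A := (L (k - 1)).map π with hA
  haveI hAn : A.Normal := Subgroup.Normal.map inferInstance π (QuotientGroup.mk'_surjective _)
  letI : CommGroup A :=
    { (inferInstance : Group A) with
      mul_comm := by
        rintro ⟨_, x, hx, rfl⟩ ⟨_, y, hy, rfl⟩
        apply Subtype.ext
        show π x * π y = π y * π x
        rw [← commutatorElement_eq_one_iff_mul_comm, ← map_commutatorElement]
        exact hπ1 _ (hcom x hx y hy) }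
  let φ : A →* A :=
    MonoidHom.mk' (fun x => ⟨π s * (x : S ⧸ L (2 * k)) * (π s)⁻¹, hAn.conj_mem _ x.2 _⟩) fun x y =>
      Subtype.ext (by
        show π s * ((x : S ⧸ L (2 * k)) * y) * (π s)⁻¹ = π s * x * (π s)⁻¹ * (π s * y * (π s)⁻¹)
        group)
  -- iterated commutators
  let y : ℕ → S := fun j => (fun z => ⁅s, z⁆)^[j] a
  have hy : ∀ j, y j ∈ L (k - 1 + j) := by
    intro j
    induction j with
    | zero => exact haA
    | succ j ih =>
      simp only [y, Function.iterate_succ', Function.comp]
      rw [← Nat.add_assoc, Subgroup.lowerCentralSeries_succ, ← commutatorElement_inv]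
      exact inv_mem (Subgroup.commutator_mem_commutator ih (mem_top s))
  have hyA : ∀ j, π (y j) ∈ A := fun j =>
    ⟨y j, Subgroup.lowerCentralSeries_antitone _ (Nat.le_add_right _ _) (hy j), rfl⟩
  let z : ℕ → A := fun j => ⟨π (y j), hyA j⟩
  have hz0 : ∀ j, k + 1 ≤ j → z j = 1 := fun j hj => Subtype.ext
    (hπ1 _ (Subgroup.lowerCentralSeries_antitone _ (by omega) (hy j)))
  have hφz : ∀ j, φ (z j) = z (j + 1) * z j := by
    intro j
    apply Subtype.ext
    show π s * π (y j) * (π s)⁻¹ = π (y (j + 1)) * π (y j)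
    simp only [y, Function.iterate_succ', Function.comp, map_commutatorElement]
    rw [commutatorElement_def, inv_mul_cancel_right]
  let X : ℕ → ℕ → A := fun i m => ∏ j ∈ Finset.range p, z (i + j) ^ m.choose (j + 1)
  have hX : ∀ i m, φ (X i m) * z i = X i (m + 1) := by
    intro i m
    simp only [X, map_prod, map_pow, hφz, mul_pow, Finset.prod_mul_distrib, Nat.add_assoc]
    rw [show (∏ j ∈ Finset.range p, z (i + (j + 1)) ^ m.choose (j + 1)) *
        (∏ j ∈ Finset.range p, z (i + j) ^ m.choose (j + 1)) * z i =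
        (∏ j ∈ Finset.range p, z (i + j) ^ m.choose (j + 1)) *
          ((∏ j ∈ Finset.range p, z (i + (j + 1)) ^ m.choose (j + 1)) * z (i + 0) ^ m.choose 0) by
      rw [Nat.choose_zero_right, pow_one, Nat.add_zero, mul_comm (∏ j ∈ Finset.range p,
        z (i + (j + 1)) ^ m.choose (j + 1)), mul_assoc]]
    rw [← Finset.prod_range_succ' (fun j => z (i + j) ^ m.choose j) p, Finset.prod_range_succ,
      hz0 (i + p) (by omega), one_pow, mul_one, ← Finset.prod_mul_distrib]
    refine Finset.prod_congr rfl fun j _ => ?_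
    rw [Nat.choose_succ_succ' m j, pow_add]
    exact mul_comm _ _
  have hX0 : ∀ i, X i 0 = 1 := fun i => Finset.prod_eq_one fun j _ => by simp
  -- `s ^ p` centralizes `b` modulo `L (2k)`
  have hXp : X 0 p = 1 := by
    have hm : ∀ m : ℕ, (X 0 m : S ⧸ L (2 * k)) * π b = π s ^ m * π b * (π s ^ m)⁻¹ := by
      intro m
      induction m with
      | zero => simp [hX0]
      | succ m ih =>
        have hz : (z 0 : S ⧸ L (2 * k)) * π b = π s * π b * (π s)⁻¹ := by
          show π (y 0) * π b = _
          simp only [y, Function.iterate_zero, id_eq, ha, map_commutatorElement]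
          rw [commutatorElement_def, inv_mul_cancel_right]
        rw [← hX 0 m]
        show π s * (X 0 m : S ⧸ L (2 * k)) * (π s)⁻¹ * (z 0 : S ⧸ L (2 * k)) * π b = _
        rw [mul_assoc _ (z 0 : S ⧸ L (2 * k)), hz, pow_succ']
        calc π s * (X 0 m : S ⧸ L (2 * k)) * (π s)⁻¹ * (π s * π b * (π s)⁻¹)
            = π s * ((X 0 m : S ⧸ L (2 * k)) * π b) * (π s)⁻¹ := by group
          _ = _ := by rw [ih]; group
    apply Subtype.ext
    show (X 0 p : S ⧸ L (2 * k)) = 1
    have hc : Commute (π s ^ p) (π b) := by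
      rw [← map_pow, ← commutatorElement_eq_one_iff_commute, ← map_commutatorElement]
      exact hπ1 _ (Subgroup.lowerCentralSeries_antitone _ (by omega)
        (lowerCentralSeries_commutator_le (k + 1) (k - 2) (Subgroup.commutator_mem_commutator hsp hb)))
    have := hm p
    rw [hc.eq, mul_inv_cancel_right] at this
    exact mul_eq_right.mp this
  -- shifting
  have hshift : ∀ i, X i p = 1 := by
    intro i
    induction i with
    | zero => exact hXp
    | succ i ih =>
      have h1 : φ (X i p) = X (i + 1) p * X i p := by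
        simp only [X, map_prod, map_pow, hφz, mul_pow, Finset.prod_mul_distrib]
        congr 1
        exact Finset.prod_congr rfl fun j _ => by rw [Nat.add_right_comm]
      rw [ih, map_one, mul_one] at h1
      exact h1.symm
  have hzp : ∀ t i, k + 1 ≤ i + t → z i ^ p = 1 := by
    intro t
    induction t with
    | zero => intro i hi; rw [hz0 i (by omega), one_pow]
    | succ t ih =>
      intro i hi
      have := hshift i
      simp only [X] at this
      rw [Finset.prod_eq_single_of_mem 0 (Finset.mem_range.mpr hp.pos)] at this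
      · simpa using this
      · intro j hj hj0
        rw [Finset.mem_range] at hj
        by_cases hjp : j + 1 < p
        · obtain ⟨c, hc⟩ := hp.dvd_choose_self (by omega : j + 1 ≠ 0) hjp
          rw [hc, pow_mul, ih (i + j) (by omega), one_pow]
        · rw [hz0 (i + j) (by omega), one_pow]
  have hap : a ^ p ∈ L (2 * k) := by
    have := hzp (k + 1) 0 (by omega)
    rw [← QuotientGroup.eq_one_iff]
    exact congrArg Subtype.val this
  -- the exponent-`p` subgroup
  let E : Subgroup S :=
    { carrier := {x | x ∈ L (k - 1) ∧ x ^ p ∈ L (2 * k)}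
      one_mem' := ⟨one_mem _, by rw [one_pow]; exact one_mem _⟩
      mul_mem' := fun {u v} hu hv => ⟨mul_mem hu.1 hv.1, by
        rw [← QuotientGroup.eq_one_iff]
        show π ((u * v) ^ p) = 1
        rw [map_pow, map_mul, Commute.mul_pow, ← map_pow, ← map_pow, hπ1 _ hu.2, hπ1 _ hv.2, mul_one]
        rw [← commutatorElement_eq_one_iff_commute, ← map_commutatorElement]
        exact hπ1 _ (hcom u hu.1 v hv.1)⟩
      inv_mem' := fun {u} hu => ⟨inv_mem hu.1, by rw [inv_pow]; exact inv_mem hu.2⟩ }
  haveI hE : E.Normal := ⟨fun x hx g => ⟨(inferInstance : (L (k - 1)).Normal).conj_mem _ hx.1 g, by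
    rw [conj_pow]; exact (inferInstance : (L (2 * k)).Normal).conj_mem _ hx.2 g⟩⟩
  have hfull : L (k - 1) ≤ E := by
    refine le_of_normal hbot E ?_
    rw [show k - 1 + 1 = k by omega]
    have := hcov (k - 1) (by omega) (by omega) a haA (by rwa [show k - 1 + 1 = k by omega])
    rw [show k - 1 + 1 = k by omega] at this
    exact this.trans (sup_le_sup_right (zpowers_le.mpr (show a ∈ E from ⟨haA, hap⟩)) _)
  have h := rank (L (k - 1)) (L (2 * k)) (Subgroup.lowerCentralSeries_antitone _ (by omega)) hcom
    (fun x hx => (hfull hx).2)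
  rw [hser' _ (by omega) (by omega), hser' _ (by omega) le_rfl, ← pow_add] at h
  have := (Nat.pow_le_pow_iff_right hp.one_lt).mp h
  omega

end CfsgLib.PGroups.MaxClassRank
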