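/-
Geometric sums `∑_{i<l} (d + 1) ^ i` with `p ∣ d`, `p` an odd prime: `p`-adic behaviour.
-/
import Mathlib

namespace CfsgLib.PGroups.GeomSum

open Finset

/-- `S d l = ∑_{i<l} (d + 1) ^ i`. -/
def S (d l : ℕ) : ℕ := ∑ i ∈ range l, (d + 1) ^ i

theorem S_zero (d : ℕ) : S d 0 = 0 := by simp [S]

theorem S_one (d : ℕ) : S d 1 = 1 := by simp [S]

theorem pow_eq (d l : ℕ) : (d + 1) ^ l = S d l * d + 1 := (geom_sum_mul_add d l).symm

theorem S_add (d j l : ℕ) : S d (j + l) = S d j + (d + 1) ^ j * S d l := by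
  simp only [S, Finset.sum_range_add, pow_add, Finset.mul_sum]

theorem S_succ (d l : ℕ) : S d (l + 1) = 1 + (d + 1) * S d l := by
  rw [add_comm l 1, S_add, S_one, pow_one]

theorem S_mul (d l m : ℕ) : S d (m * l) = S d l * S (S d l * d) m := by
  induction m with
  | zero => simp [S]
  | succ m ih =>
    rw [Nat.succ_mul, S_add, S_add (S d l * d) m 1, S_one, ih, mul_one, ← pow_eq, ← pow_mul,
      mul_comm l m]
    ring

variable {p : ℕ} [hp : Fact p.Prime] {d : ℕ}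

theorem S_mod_prime (hd : p ∣ d) (l : ℕ) : (S d l : ZMod p) = l := by
  have h : (d : ZMod p) = 0 := (ZMod.natCast_eq_zero_iff d p).mpr hd
  simp [S, h]

theorem S_prime (hp2 : p ≠ 2) (hd : p ∣ d) : ∃ w, ¬ p ∣ w ∧ S d p = p * w := by
  obtain ⟨e, rfl⟩ := hd
  have hlin : ∀ i : ℕ, (((p * e + 1) ^ i : ℕ) : ZMod (p ^ 2)) = 1 + ((i * (p * e) : ℕ) : ZMod (p ^ 2)) := by
    intro i
    have h0 : (p : ZMod (p ^ 2)) ^ 2 = 0 := by rw [← Nat.cast_pow, ZMod.natCast_self]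
    induction i with
    | zero => simp
    | succ i ih =>
      rw [pow_succ (p * e + 1) i, Nat.cast_mul, ih]
      push_cast
      linear_combination ((i : ZMod (p ^ 2)) * (e : ZMod (p ^ 2)) ^ 2) * h0
  have hsum : p ∣ ∑ i ∈ range p, i := by
    have h2 : p ∣ (∑ i ∈ range p, i) * 2 := by rw [Finset.sum_range_id_mul_two]; exact dvd_mul_right _ _
    exact (Nat.Coprime.dvd_of_dvd_mul_right ((Nat.coprime_primes hp.out Nat.prime_two).mpr hp2) h2)
  have hS : (S (p * e) p : ZMod (p ^ 2)) = (p : ℕ) := by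
    have h0 : (((∑ i ∈ range p, i) * (p * e) : ℕ) : ZMod (p ^ 2)) = 0 :=
      (ZMod.natCast_eq_zero_iff _ _).mpr (by rw [sq]; exact mul_dvd_mul hsum (dvd_mul_right p e))
    rw [S, Nat.cast_sum, Finset.sum_congr rfl fun i _ => hlin i, Finset.sum_add_distrib,
      Finset.sum_const, card_range, nsmul_one, ← Nat.cast_sum, ← Finset.sum_mul, h0, add_zero]
  rw [ZMod.natCast_eq_natCast_iff] at hS
  have hdvd : p ∣ S (p * e) p :=
    (hS.of_dvd (dvd_pow_self p two_ne_zero)).dvd_iff dvd_rfl |>.mpr dvd_rfl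
  obtain ⟨w, hw⟩ := hdvd
  refine ⟨w, fun hpw => ?_, hw⟩
  have h1 : p ^ 2 ∣ S (p * e) p := by rw [hw, sq]; exact mul_dvd_mul_left p hpw
  have h2 : p ^ 2 ∣ p := (hS.dvd_iff dvd_rfl).mp h1
  have := Nat.le_of_dvd hp.out.pos h2
  nlinarith [hp.out.two_le]

/-- `p ^ k ∣ S d l ↔ p ^ k ∣ l`. -/
theorem pow_dvd_S_iff (hp2 : p ≠ 2) (hd : p ∣ d) (k l : ℕ) : p ^ k ∣ S d l ↔ p ^ k ∣ l := by
  induction l using Nat.strong_induction_on generalizing k with
  | _ l ih =>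
    rcases Nat.eq_zero_or_pos l with rfl | hl
    · simp [S_zero]
    rcases Nat.eq_zero_or_pos k with rfl | hk
    · simp
    by_cases hpl : p ∣ l
    · obtain ⟨l', rfl⟩ := hpl
      have hl' : l' < p * l' := lt_mul_of_one_lt_left (Nat.pos_of_mul_pos_left hl) hp.out.one_lt
      obtain ⟨w, hw, hS⟩ := S_prime (d := S d l' * d) hp2 (hd.mul_left _)
      obtain ⟨k, rfl⟩ : ∃ k', k = k' + 1 := ⟨k - 1, by omega⟩
      rw [S_mul, hS, show S d l' * (p * w) = p * (S d l' * w) by ring, pow_succ',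
        Nat.mul_dvd_mul_iff_left hp.out.pos, Nat.mul_dvd_mul_iff_left hp.out.pos,
        ((hp.out.coprime_iff_not_dvd.mpr hw).pow_left k).dvd_mul_right]
      exact ih l' hl' k
    · have h1 : ¬ p ∣ S d l := by
        rw [← ZMod.natCast_eq_zero_iff, S_mod_prime hd, ZMod.natCast_eq_zero_iff]
        exact hpl
      exact ⟨fun h => absurd ((dvd_pow_self p hk.ne').trans h) h1,
        fun h => absurd ((dvd_pow_self p hk.ne').trans h) hpl⟩

/-- The sums meet every residue class modulo `p ^ n`. -/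
theorem exists_S_eq (hp2 : p ≠ 2) (hd : p ∣ d) (n : ℕ) (x : ZMod (p ^ n)) :
    ∃ l, (S d l : ZMod (p ^ n)) = x := by
  have hinj : Function.Injective fun l : Fin (p ^ n) => (S d l : ZMod (p ^ n)) := by
    intro l₁ l₂ h
    wlog hle : (l₁ : ℕ) ≤ l₂ generalizing l₁ l₂
    · exact (this h.symm (le_of_not_ge hle)).symm
    obtain ⟨k, hk⟩ := Nat.exists_eq_add_of_le hle
    simp only [hk, S_add, Nat.cast_add, Nat.cast_mul, left_eq_add] at h
    have hu : IsUnit (((d + 1) ^ (l₁ : ℕ) : ℕ) : ZMod (p ^ n)) := by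
      rw [ZMod.isUnit_iff_coprime]
      refine (Nat.Coprime.pow_left _ ?_).pow_right n
      rw [Nat.coprime_comm, hp.out.coprime_iff_not_dvd]
      exact fun h' => hp.out.ne_one (Nat.dvd_one.mp ((Nat.dvd_add_right hd).mp h'))
    rw [hu.mul_right_eq_zero, ZMod.natCast_eq_zero_iff, pow_dvd_S_iff hp2 hd] at h
    rcases Nat.eq_zero_or_pos k with rfl | hk0
    · exact Fin.ext (by omega)
    · have := Nat.le_of_dvd hk0 h
      have := l₂.isLt
      omega
  obtain ⟨l, hl⟩ := ((Fintype.bijective_iff_injective_and_card _).mpr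
    ⟨hinj, by rw [Fintype.card_fin, ZMod.card]⟩).2 x
  exact ⟨l, hl⟩

/-- `S d (p ^ w) = p ^ w * u` with `p ∤ u`. -/
theorem S_pow (hp2 : p ≠ 2) (hd : p ∣ d) (w : ℕ) : ∃ u, ¬ p ∣ u ∧ S d (p ^ w) = p ^ w * u := by
  obtain ⟨u, hu⟩ := (pow_dvd_S_iff hp2 hd w (p ^ w)).mpr dvd_rfl
  refine ⟨u, fun h => ?_, hu⟩
  have h1 : p ^ (w + 1) ∣ S d (p ^ w) := by rw [hu, pow_succ]; exact mul_dvd_mul_left _ h
  have := (Nat.pow_dvd_pow_iff_le_right hp.out.one_lt).mp ((pow_dvd_S_iff hp2 hd (w + 1) (p ^ w)).mp h1)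
  omega

end CfsgLib.PGroups.GeomSum
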