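/-
The alternating form `x y' - x' y` on `ZMod (p ^ n) × ZMod (p ^ n)`: subgroups and their orthogonals.
-/
import Mathlib

set_option linter.style.haveILetI false
set_option linter.unusedSectionVars false

namespace CfsgLib.PGroups.Symplectic

variable {p : ℕ} [hp : Fact p.Prime] {n : ℕ}

/-- The module. -/
abbrev V (p n : ℕ) : Type := ZMod (p ^ n) × ZMod (p ^ n)

/-- The orthogonal of a subgroup. -/
def perp (U : AddSubgroup (V p n)) : AddSubgroup (V p n) where
  carrier := {h | ∀ g ∈ U, g.1 * h.2 = h.1 * g.2}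
  zero_mem' := by simp
  add_mem' := by
    intro a b ha hb g hg
    simp only [Prod.fst_add, Prod.snd_add, mul_add, add_mul, ha g hg, hb g hg]
  neg_mem' := by
    intro a ha g hg
    simp only [Prod.fst_neg, Prod.snd_neg, mul_neg, neg_mul, ha g hg]

theorem mem_perp {U : AddSubgroup (V p n)} {h : V p n} :
    h ∈ perp U ↔ ∀ g ∈ U, g.1 * h.2 = h.1 * g.2 := Iff.rfl

theorem smul_mem (U : AddSubgroup (V p n)) (s : ZMod (p ^ n)) {x : V p n} (hx : x ∈ U) :
    (s * x.1, s * x.2) ∈ U := by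
  have : (s * x.1, s * x.2) = s.val • x := by
    ext <;> simp [nsmul_eq_mul]
  rw [this]
  exact U.nsmul_mem hx _

theorem mem_zmultiples_iff_dvd {a x : ZMod (p ^ n)} : x ∈ AddSubgroup.zmultiples a ↔ a ∣ x := by
  constructor
  · rintro ⟨k, rfl⟩
    exact ⟨(k : ZMod (p ^ n)), by simp [zsmul_eq_mul, mul_comm]⟩
  · rintro ⟨c, rfl⟩
    refine ⟨(c.val : ℤ), ?_⟩
    simp [zsmul_eq_mul, mul_comm]

/-- Every element is a power of `p` times a unit, or divisible by everything. -/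
theorem exists_pow_mul_unit (x : ZMod (p ^ n)) :
    ∃ k ≤ n, ∃ w : ZMod (p ^ n), IsUnit w ∧ x = (p : ZMod (p ^ n)) ^ k * w := by
  by_cases hx : x = 0
  · exact ⟨n, le_rfl, 1, isUnit_one, by rw [hx, mul_one, ← Nat.cast_pow, ZMod.natCast_self]⟩
  have hv : x.val ≠ 0 := fun h => hx ((ZMod.val_eq_zero x).mp h)
  obtain ⟨k, w, hw, hkw⟩ := Nat.exists_eq_pow_mul_and_not_dvd hv p hp.out.ne_one
  refine ⟨k, ?_, (w : ZMod (p ^ n)), ?_, ?_⟩
  · by_contra hlt
    have h1 : p ^ k ≤ x.val := hkw ▸ Nat.le_mul_of_pos_right _ (Nat.pos_of_ne_zero fun h => hw (h ▸ dvd_zero p))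
    have h2 := (Nat.pow_lt_pow_right hp.out.one_lt (not_le.mp hlt)).trans_le h1
    exact absurd (ZMod.val_lt x) (not_lt.mpr h2.le)
  · rw [ZMod.isUnit_iff_coprime]
    exact ((hp.out.coprime_iff_not_dvd.mpr hw).symm).pow_right n
  · rw [← Nat.cast_pow, ← Nat.cast_mul, ← hkw, ZMod.natCast_zmod_val]

/-- A set of elements has a generator of its ideal among its members, or is zero. -/
theorem exists_min (I : Set (ZMod (p ^ n))) :
    ∃ u ≤ n, (∀ x ∈ I, (p : ZMod (p ^ n)) ^ u ∣ x) ∧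
      (u = n ∨ ∃ x ∈ I, ∃ w, IsUnit w ∧ x = (p : ZMod (p ^ n)) ^ u * w) := by
  classical
  by_cases h : ∃ k, k < n ∧ ∃ x ∈ I, ∃ w, IsUnit w ∧ x = (p : ZMod (p ^ n)) ^ k * w
  · refine ⟨Nat.find h, (Nat.find_spec h).1.le, fun x hx => ?_, Or.inr (Nat.find_spec h).2⟩
    obtain ⟨k, hk, w, hw, rfl⟩ := exists_pow_mul_unit x
    refine dvd_mul_of_dvd_left (pow_dvd_pow _ ?_) _
    rcases hk.lt_or_eq with hlt | rfl
    · exact Nat.find_min' h ⟨hlt, _, hx, w, hw, rfl⟩
    · exact (Nat.find_spec h).1.le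
  · push Not at h
    refine ⟨n, le_rfl, fun x hx => ?_, Or.inl rfl⟩
    obtain ⟨k, hk, w, hw, rfl⟩ := exists_pow_mul_unit x
    rcases hk.lt_or_eq with hlt | rfl
    · exact absurd rfl (h k hlt _ hx w hw)
    · exact dvd_mul_right _ _

theorem card_zmultiples_pow {u : ℕ} (hu : u ≤ n) :
    Nat.card (AddSubgroup.zmultiples ((p : ZMod (p ^ n)) ^ u)) = p ^ (n - u) := by
  rw [Nat.card_zmultiples, ← Nat.cast_pow, ZMod.addOrderOf_coe' _ (pow_ne_zero _ hp.out.ne_zero),
    Nat.gcd_eq_right (pow_dvd_pow p hu), Nat.pow_div hu hp.out.pos]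

theorem pow_mul_eq_zero_iff {u : ℕ} (hu : u ≤ n) {x : ZMod (p ^ n)} :
    (p : ZMod (p ^ n)) ^ u * x = 0 ↔ (p : ZMod (p ^ n)) ^ (n - u) ∣ x := by
  constructor
  · intro h
    rw [← ZMod.natCast_zmod_val x, ← Nat.cast_pow, ← Nat.cast_mul, ZMod.natCast_eq_zero_iff] at h
    replace h : p ^ (n - u) ∣ x.val := Nat.dvd_of_mul_dvd_mul_left (pow_pos hp.out.pos u)
      ((dvd_of_eq (by rw [← pow_add, Nat.add_sub_cancel' hu])).trans h)
    rw [← ZMod.natCast_zmod_val x, ← Nat.cast_pow]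
    exact Nat.cast_dvd_cast h
  · rintro ⟨c, rfl⟩
    rw [← mul_assoc, ← pow_add, Nat.add_sub_cancel' hu, ← Nat.cast_pow, ZMod.natCast_self, zero_mul]

/-- The standard subgroup `p ^ u × p ^ v`. -/
def box (u v : ℕ) : AddSubgroup (V p n) :=
  (AddSubgroup.zmultiples ((p : ZMod (p ^ n)) ^ u)).prod
    (AddSubgroup.zmultiples ((p : ZMod (p ^ n)) ^ v))

theorem mem_box {u v : ℕ} {x : V p n} :
    x ∈ box u v ↔ (p : ZMod (p ^ n)) ^ u ∣ x.1 ∧ (p : ZMod (p ^ n)) ^ v ∣ x.2 := by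
  rw [box, AddSubgroup.mem_prod, mem_zmultiples_iff_dvd, mem_zmultiples_iff_dvd]

theorem card_box {u v : ℕ} (hu : u ≤ n) (hv : v ≤ n) :
    Nat.card (box (p := p) (n := n) u v) = p ^ (n - u) * p ^ (n - v) := by
  rw [box, Nat.card_congr (AddSubgroup.prodEquiv _ _).toEquiv, Nat.card_prod,
    card_zmultiples_pow hu, card_zmultiples_pow hv]

theorem box_mono {u v u' v' : ℕ} (hu : u' ≤ u) (hv : v' ≤ v) :
    box (p := p) (n := n) u v ≤ box u' v' := fun x hx => by
  rw [mem_box] at hx ⊢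
  exact ⟨(pow_dvd_pow _ hu).trans hx.1, (pow_dvd_pow _ hv).trans hx.2⟩

theorem perp_box {u v : ℕ} (hu : u ≤ n) (hv : v ≤ n) :
    perp (box (p := p) (n := n) u v) = box (n - v) (n - u) := by
  ext x
  rw [mem_perp, mem_box]
  constructor
  · intro h
    have h1 := h ((p : ZMod (p ^ n)) ^ u, 0) (mem_box.mpr ⟨dvd_rfl, dvd_zero _⟩)
    have h2 := h (0, (p : ZMod (p ^ n)) ^ v) (mem_box.mpr ⟨dvd_zero _, dvd_rfl⟩)
    simp only [mul_zero] at h1
    simp only [zero_mul] at h2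
    exact ⟨(pow_mul_eq_zero_iff hv).mp (by rw [mul_comm]; exact h2.symm),
      (pow_mul_eq_zero_iff hu).mp h1⟩
  · rintro ⟨⟨c, hc⟩, ⟨d, hd⟩⟩ g hg
    obtain ⟨⟨a, ha⟩, ⟨b, hb⟩⟩ := mem_box.mp hg
    have hz : ∀ k ≤ n, (p : ZMod (p ^ n)) ^ k * (p : ZMod (p ^ n)) ^ (n - k) = 0 := fun k hk => by
      rw [← pow_add, Nat.add_sub_cancel' hk, ← Nat.cast_pow, ZMod.natCast_self]
    rw [ha, hd, hc, hb, mul_mul_mul_comm, hz u hu, mul_mul_mul_comm, mul_comm _ ((p : ZMod (p ^ n)) ^ v), hz v hv, zero_mul, zero_mul]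

/-- An automorphism preserving the form. -/
def IsIsometry (e : V p n ≃+ V p n) : Prop :=
  ∀ g h, (e g).1 * (e h).2 - (e h).1 * (e g).2 = g.1 * h.2 - h.1 * g.2

theorem perp_map {e : V p n ≃+ V p n} (he : IsIsometry e) (U : AddSubgroup (V p n)) :
    perp (U.map e.toAddMonoidHom) = (perp U).map e.toAddMonoidHom := by
  ext x
  constructor
  · intro hx
    refine ⟨e.symm x, fun g hg => ?_, e.apply_symm_apply x⟩
    have h := hx (e g) ⟨g, hg, rfl⟩
    rw [← sub_eq_zero, ← he g (e.symm x), e.apply_symm_apply, sub_eq_zero]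
    exact h
  · rintro ⟨y, hy, rfl⟩ _ ⟨g, hg, rfl⟩
    have h := hy g hg
    rw [← sub_eq_zero] at h ⊢
    exact (he g y).trans h

/-- Normal form. -/
theorem exists_normalForm (U : AddSubgroup (V p n)) :
    ∃ e : V p n ≃+ V p n, IsIsometry e ∧ ∃ u v, u ≤ v ∧ v ≤ n ∧ U.map e.toAddMonoidHom = box u v := by
  classical
  obtain ⟨u, hu, hdvd, hmin⟩ := exists_min
    ((fun x : V p n => x.1) '' (U : Set (V p n)) ∪ (fun x : V p n => x.2) '' (U : Set (V p n)))
  have hd : ∀ x ∈ U, (p : ZMod (p ^ n)) ^ u ∣ x.1 ∧ (p : ZMod (p ^ n)) ^ u ∣ x.2 := fun x hx =>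
    ⟨hdvd _ (Or.inl ⟨x, hx, rfl⟩), hdvd _ (Or.inr ⟨x, hx, rfl⟩)⟩
  rcases hmin with rfl | ⟨y, hy, w, hw, hyw⟩
  · refine ⟨AddEquiv.refl _, fun _ _ => rfl, u, u, le_rfl, le_rfl, ?_⟩
    ext x
    constructor
    · rintro ⟨a, ha, rfl⟩
      exact mem_box.mpr (hd a ha)
    · intro hx
      obtain ⟨⟨c, hc⟩, ⟨d, hd'⟩⟩ := mem_box.mp hx
      rw [← Nat.cast_pow, ZMod.natCast_self, zero_mul] at hc hd'
      exact ⟨0, U.zero_mem, (Prod.ext hc hd').symm⟩
  -- rotate so that the first coordinate is the minimal one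
  obtain ⟨e₁, he₁, a, ha, hea⟩ : ∃ e₁ : V p n ≃+ V p n, IsIsometry e₁ ∧ ∃ a ∈ U.map e₁.toAddMonoidHom,
      a.1 = (p : ZMod (p ^ n)) ^ u := by
    obtain ⟨w', hw'⟩ := hw.exists_left_inv
    rcases hy with ⟨x, hx, rfl⟩ | ⟨x, hx, rfl⟩
    · refine ⟨AddEquiv.refl _, fun _ _ => rfl, _, ⟨_, smul_mem U w' hx, rfl⟩, ?_⟩
      change w' * x.1 = _
      change x.1 = _ at hyw
      rw [hyw, mul_left_comm, hw', mul_one]
    · let e₁ : V p n ≃+ V p n :=
        { toFun := fun z => (z.2, -z.1)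
          invFun := fun z => (-z.2, z.1)
          left_inv := fun z => by simp
          right_inv := fun z => by simp
          map_add' := fun z z' => by simp only [Prod.fst_add, Prod.snd_add, neg_add]; rfl }
      refine ⟨e₁, fun g h => ?_, _, ⟨_, smul_mem U w' hx, rfl⟩, ?_⟩
      · change g.2 * -h.1 - h.2 * -g.1 = _
        ring
      · change w' * x.2 = _
        change x.2 = _ at hyw
        rw [hyw, mul_left_comm, hw', mul_one]
  have hd₁ : ∀ x ∈ U.map e₁.toAddMonoidHom,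
      (p : ZMod (p ^ n)) ^ u ∣ x.1 ∧ (p : ZMod (p ^ n)) ^ u ∣ x.2 := by
    intro x hx
    obtain ⟨z, hz, rfl⟩ := hx
    obtain ⟨⟨c, hc⟩, ⟨d, hd'⟩⟩ := hd z hz
    have : z = (p ^ u : ℕ) • (c, d) := by
      ext
      · simp [hc, nsmul_eq_mul]
      · simp [hd', nsmul_eq_mul]
    rw [this, map_nsmul]
    simp [nsmul_eq_mul]
  obtain ⟨t, ht⟩ := (hd₁ a ha).2
  let e₂ : V p n ≃+ V p n :=
    { toFun := fun z => (z.1, z.2 - t * z.1)
      invFun := fun z => (z.1, z.2 + t * z.1)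
      left_inv := fun z => by simp
      right_inv := fun z => by simp
      map_add' := fun z z' => Prod.ext rfl (by simp only [Prod.fst_add, Prod.snd_add]; ring) }
  have he₂ : IsIsometry e₂ := fun g h => by
    change g.1 * (h.2 - t * h.1) - h.1 * (g.2 - t * g.1) = _
    ring
  refine ⟨e₁.trans e₂, fun g h => (he₂ _ _).trans (he₁ g h), ?_⟩
  set W := U.map (e₁.trans e₂).toAddMonoidHom with hW
  have hW' : W = (U.map e₁.toAddMonoidHom).map e₂.toAddMonoidHom := by
    rw [AddSubgroup.map_map]; rfl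
  have hWu : ((p : ZMod (p ^ n)) ^ u, (0 : ZMod (p ^ n))) ∈ W := by
    rw [hW']
    refine ⟨a, ha, ?_⟩
    change (a.1, a.2 - t * a.1) = _
    rw [ht, hea, mul_comm t, sub_self]
  have hWd : ∀ x ∈ W, (p : ZMod (p ^ n)) ^ u ∣ x.1 ∧ (p : ZMod (p ^ n)) ^ u ∣ x.2 := by
    rw [hW']
    rintro _ ⟨x, hx, rfl⟩
    exact ⟨(hd₁ x hx).1, dvd_sub (hd₁ x hx).2 ((hd₁ x hx).1.mul_left t)⟩
  obtain ⟨v, hv, hvd, hvmin⟩ := exists_min {y : ZMod (p ^ n) | ((0 : ZMod (p ^ n)), y) ∈ W}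
  have hvmem : ((0 : ZMod (p ^ n)), (p : ZMod (p ^ n)) ^ v) ∈ W := by
    rcases hvmin with rfl | ⟨x, hx, w₁, hw₁, rfl⟩
    · rw [← Nat.cast_pow, ZMod.natCast_self]; exact W.zero_mem
    · obtain ⟨w', hw'⟩ := hw₁.exists_left_inv
      have := smul_mem W w' hx
      simpa [mul_left_comm w', hw'] using this
  -- `max u v`
  refine ⟨u, max u v, le_max_left _ _, max_le hu hv, le_antisymm (fun x hx => ?_) fun x hx => ?_⟩
  · obtain ⟨hx1, hx2⟩ := hWd x hx
    refine mem_box.mpr ⟨hx1, ?_⟩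
    obtain ⟨c, hc⟩ := hx1
    have h0 : ((0 : ZMod (p ^ n)), x.2) ∈ W := by
      have := W.sub_mem hx (smul_mem W c hWu)
      have e0 : x - (c * (p : ZMod (p ^ n)) ^ u, c * 0) = ((0 : ZMod (p ^ n)), x.2) :=
        Prod.ext (by simp [hc, mul_comm c]) (by simp)
      exact e0 ▸ this
    rcases max_cases u v with h | h
    · rw [h.1]; exact hx2
    · rw [h.1]; exact hvd _ h0
  · obtain ⟨⟨c, hc⟩, ⟨d, hd'⟩⟩ := mem_box.mp hx
    obtain ⟨k, hk⟩ := pow_dvd_pow (p : ZMod (p ^ n)) (le_max_right u v)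
    have h1 := W.add_mem (smul_mem W c hWu) (smul_mem W (k * d) hvmem)
    have : x = (c * (p : ZMod (p ^ n)) ^ u, k * d * (p : ZMod (p ^ n)) ^ v) := by
      refine Prod.ext (by rw [hc, mul_comm]) ?_
      rw [hd', hk]; ring
    rw [this]
    simpa using h1

theorem card_V : Nat.card (V p n) = p ^ n * p ^ n := by
  rw [Nat.card_prod, Nat.card_zmod]

/-- Main facts on orthogonals. -/
theorem perp_facts (U : AddSubgroup (V p n)) :
    perp (perp U) = U ∧ Nat.card U * Nat.card (perp U) = p ^ n * p ^ n ∧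
      (U ≤ perp U ∨ (perp U < U ∧ ∀ x : V p n, (p : ZMod (p ^ n)) ^ (n - 1) ∣ x.1 →
        (p : ZMod (p ^ n)) ^ (n - 1) ∣ x.2 → x ∈ U)) := by
  obtain ⟨e, he, u, v, huv, hv, hU⟩ := exists_normalForm U
  have hu := huv.trans hv
  have hinj := AddSubgroup.map_injective (f := e.toAddMonoidHom) e.injective
  have hperp : (perp U).map e.toAddMonoidHom = box (n - v) (n - u) := by
    rw [← perp_map he, hU, perp_box hu hv]
  refine ⟨hinj ?_, ?_, ?_⟩
  · rw [← perp_map he, hperp, perp_box (Nat.sub_le _ _) (Nat.sub_le _ _), hU]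
    congr 1 <;> omega
  · rw [Nat.card_congr (U.equivMapOfInjective e.toAddMonoidHom e.injective).toEquiv,
      Nat.card_congr ((perp U).equivMapOfInjective e.toAddMonoidHom e.injective).toEquiv, hperp, hU,
      card_box hu hv, card_box (Nat.sub_le _ _) (Nat.sub_le _ _), ← pow_add, ← pow_add, ← pow_add,
      ← pow_add]
    congr 1
    omega
  · by_cases h : n ≤ u + v
    · left
      refine (AddSubgroup.map_le_map_iff_of_injective (f := e.toAddMonoidHom) (fun _ _ h => e.injective h)).mp ?_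
      rw [hperp, hU]
      exact box_mono (by omega) (by omega)
    · right
      have hle : perp U ≤ U := by
        refine (AddSubgroup.map_le_map_iff_of_injective (f := e.toAddMonoidHom) (fun _ _ h => e.injective h)).mp ?_
        rw [hperp, hU]
        exact box_mono (by omega) (by omega)
      refine ⟨lt_of_le_of_ne hle fun heq => ?_, fun x h1 h2 => ?_⟩
      · have h1 := card_box (p := p) (n := n) hu hv
        rw [← hU, ← heq, hperp, card_box (Nat.sub_le _ _) (Nat.sub_le _ _), ← pow_add, ← pow_add] at h1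
        have := Nat.pow_right_injective hp.out.two_le h1
        omega
      · obtain ⟨c, hc⟩ := h1
        obtain ⟨d, hd⟩ := h2
        have hx : x = (p ^ (n - 1) : ℕ) • (c, d) := by
          ext <;> simp [hc, hd, nsmul_eq_mul]
        have : e x ∈ box u v := by
          rw [mem_box, hx, map_nsmul]
          have hd1 : (p : ZMod (p ^ n)) ^ v ∣ (p : ZMod (p ^ n)) ^ (n - 1) := pow_dvd_pow _ (by omega)
          constructor
          · simp only [nsmul_eq_mul, Prod.fst_mul, Prod.fst_natCast, Nat.cast_pow]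
            exact ((pow_dvd_pow _ huv).trans hd1).mul_right _
          · simp only [nsmul_eq_mul, Prod.snd_mul, Prod.snd_natCast, Nat.cast_pow]
            exact hd1.mul_right _
        rw [← hU] at this
        obtain ⟨z, hz, hze⟩ := this
        exact e.injective hze ▸ hz

theorem le_perp_iff_card_le (U : AddSubgroup (V p n)) : U ≤ perp U ↔ Nat.card U ≤ p ^ n := by
  obtain ⟨-, h2, h3⟩ := perp_facts U
  constructor
  · intro h
    have := AddSubgroup.card_le_of_le h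
    by_contra hlt
    push Not at hlt
    have := Nat.mul_lt_mul'' hlt (hlt.trans_le this)
    omega
  · intro h
    refine h3.resolve_right fun h' => ?_
    have hlt : Nat.card (perp U) < Nat.card U := by
      refine lt_of_le_of_ne (AddSubgroup.card_le_of_le h'.1.le) fun he => h'.1.ne ?_
      exact AddSubgroup.eq_of_le_of_card_ge h'.1.le he.ge
    nlinarith

theorem card_perp_zmultiples (g : V p n) :
    Nat.card (perp (AddSubgroup.zmultiples g)) * addOrderOf g = p ^ n * p ^ n := by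
  rw [← (perp_facts (AddSubgroup.zmultiples g)).2.1, Nat.card_zmultiples, mul_comm]

theorem mem_perp_zmultiples {g h : V p n} :
    h ∈ perp (AddSubgroup.zmultiples g) ↔ g.1 * h.2 = h.1 * g.2 := by
  refine ⟨fun hh => hh g (AddSubgroup.mem_zmultiples g), fun hh x hx => ?_⟩
  obtain ⟨k, rfl⟩ := hx
  simp only [zsmul_eq_mul, Prod.fst_mul, Prod.snd_mul, Prod.fst_intCast, Prod.snd_intCast]
  rw [mul_assoc, hh]; ring

/-- Torsion. -/
theorem nsmul_eq_zero_iff {i : ℕ} (hi : i ≤ n) {x : V p n} :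
    p ^ i • x = 0 ↔ x ∈ box (n - i) (n - i) := by
  rw [Prod.ext_iff, mem_box]
  simp [nsmul_eq_mul, pow_mul_eq_zero_iff hi]

theorem addOrderOf_dvd (x : V p n) : addOrderOf x ∣ p ^ n := by
  rw [addOrderOf_dvd_iff_nsmul_eq_zero, nsmul_eq_zero_iff le_rfl, Nat.sub_self]
  exact mem_box.mpr ⟨by simp, by simp⟩

/-- The number of vectors of a given order. -/
theorem card_addOrderOf_eq {i : ℕ} (hi : 1 ≤ i) (hin : i ≤ n) :
    Nat.card {x : V p n // addOrderOf x = p ^ i} = p ^ (2 * i) - p ^ (2 * i - 2) := by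
  classical
  have hc : ∀ j ≤ n, Nat.card (box (p := p) (n := n) (n - j) (n - j)) = p ^ (2 * j) := fun j hj => by
    rw [card_box (Nat.sub_le _ _) (Nat.sub_le _ _), ← pow_add]; congr 1; omega
  have hset : {x : V p n | addOrderOf x = p ^ i} =
      ((box (n - i) (n - i) : AddSubgroup (V p n)) : Set (V p n)) \
        ((box (n - (i - 1)) (n - (i - 1)) : AddSubgroup (V p n)) : Set (V p n)) := by
    ext x
    simp only [Set.mem_ofPred_eq, Set.mem_diff, SetLike.mem_coe, ← nsmul_eq_zero_iff hin,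
      ← nsmul_eq_zero_iff (show i - 1 ≤ n by omega)]
    obtain ⟨j, -, hj⟩ := (Nat.dvd_prime_pow hp.out).mp (addOrderOf_dvd x)
    rw [← addOrderOf_dvd_iff_nsmul_eq_zero, ← addOrderOf_dvd_iff_nsmul_eq_zero, hj,
      Nat.pow_dvd_pow_iff_le_right hp.out.one_lt, Nat.pow_dvd_pow_iff_le_right hp.out.one_lt]
    constructor
    · intro h
      have := Nat.pow_right_injective hp.out.two_le h
      omega
    · rintro ⟨h1, h2⟩
      congr 1
      omega
  change Nat.card ({x : V p n | addOrderOf x = p ^ i} : Set (V p n)) = _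
  rw [Nat.card_coe_set_eq, hset, Set.ncard_diff (SetLike.coe_subset_coe.mpr (box_mono (p := p) (n := n) (u := n - (i - 1)) (v := n - (i - 1)) (u' := n - i) (v' := n - i) (by omega) (by omega))),
    ← Nat.card_coe_set_eq, ← Nat.card_coe_set_eq]
  rw [show 2 * i - 2 = 2 * (i - 1) by omega, ← hc i hin, ← hc (i - 1) (by omega)]
  rfl

end CfsgLib.PGroups.Symplectic
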