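/-
Metacyclic `p`-groups, `p` odd: coordinates of `G / Z(G)` in `ZMod (p ^ n) × ZMod (p ^ n)` in which
commuting is orthogonality for `x y' - x' y`; here `p ^ n = |G'|`.
-/
import Mathlib
import Cfsg.Prelude.Def_OddOrderLocal
import Cfsg.Prelude.Def_BaumannBlocks
import Cfsg.Agent.Lib.PGroups.Basic
import Cfsg.Agent.Lib.PGroups.GeomSum
import Cfsg.Agent.Lib.PGroups.Symplectic

set_option linter.style.haveILetI false
set_option linter.unusedSectionVars false

namespace CfsgLib.PGroups.Metacyclic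

open GeomSum Symplectic
open scoped commutatorElement

/-- Metacyclic presentation data. -/
structure Data (p : ℕ) (G : Type*) [Group G] where
  a : G
  b : G
  d : ℕ
  n : ℕ
  hp2 : p ≠ 2
  hpg : IsPGroup p G
  hd : p ∣ d
  conj : b * a * b⁻¹ = a ^ (d + 1)
  gen : ∀ g : G, ∃ i j : ℕ, g = a ^ i * b ^ j
  hn : orderOf (a ^ d) = p ^ n

variable {G : Type*} [Group G] [Finite G] {p : ℕ} [hp : Fact p.Prime]

theorem exists_data (hp2 : p ≠ 2) (hG : IsPGroup p G) (hmc : Cfsg.IsMetacyclic G) :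
    Nonempty (Data p G) := by
  obtain ⟨N, hN, hNc, hQc⟩ := hmc
  obtain ⟨⟨a, haN⟩, ha⟩ := hNc.exists_generator
  obtain ⟨bq, hbq⟩ := hQc.exists_generator
  obtain ⟨b, rfl⟩ := QuotientGroup.mk_surjective bq
  have haN' : ∀ x ∈ N, ∃ i : ℕ, a ^ i = x := fun x hx => by
    obtain ⟨i, hi⟩ := (mem_powers_iff_mem_zpowers.mpr (ha ⟨x, hx⟩))
    exact ⟨i, congrArg Subtype.val hi⟩
  obtain ⟨r, hr⟩ := haN' _ (hN.conj_mem a haN b)
  have hgen : ∀ g : G, ∃ i j : ℕ, g = a ^ i * b ^ j := fun g => by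
    obtain ⟨j, hj⟩ := mem_powers_iff_mem_zpowers.mpr (hbq (g : G ⧸ N))
    have h1 : g * (b ^ j)⁻¹ ∈ N := by
      rw [← QuotientGroup.eq_one_iff, QuotientGroup.mk_mul, QuotientGroup.mk_inv, QuotientGroup.mk_pow]
      exact mul_inv_eq_one.mpr hj.symm
    obtain ⟨i, hi⟩ := haN' _ h1
    exact ⟨i, j, by rw [hi, inv_mul_cancel_right]⟩
  obtain ⟨d, hd, hconj⟩ : ∃ d, p ∣ d ∧ b * a * b⁻¹ = a ^ (d + 1) := by
    by_cases ha1 : a = 1
    · exact ⟨0, dvd_zero p, by simp [ha1]⟩
    have hiter : ∀ k : ℕ, b ^ k * a * (b ^ k)⁻¹ = a ^ r ^ k := by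
      intro k
      induction k with
      | zero => simp
      | succ k ih =>
        calc b ^ (k + 1) * a * (b ^ (k + 1))⁻¹ = b * (b ^ k * a * (b ^ k)⁻¹) * b⁻¹ := by group
          _ = a ^ r ^ (k + 1) := by rw [ih, ← conj_pow, ← hr, ← pow_mul, pow_succ']
    obtain ⟨t, ht⟩ := IsPGroup.iff_orderOf.mp hG b
    have h1 : a ^ r ^ p ^ t = a ^ 1 := by
      rw [← hiter, ← ht, pow_orderOf_eq_one, one_mul, inv_one, mul_one, pow_one]
    rw [pow_eq_pow_iff_modEq] at h1
    have hpa : p ∣ orderOf a := by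
      obtain ⟨m, hm⟩ := IsPGroup.iff_orderOf.mp hG a
      rcases Nat.eq_zero_or_pos m with rfl | h0
      · rw [pow_zero] at hm; exact absurd (orderOf_eq_one_iff.mp hm) ha1
      · rw [hm]; exact dvd_pow_self p h0.ne'
    have h2 := (ZMod.natCast_eq_natCast_iff _ _ p).mpr (h1.of_dvd hpa)
    rw [Nat.cast_pow, ZMod.pow_card_pow, Nat.cast_one] at h2
    have hr1 : 1 ≤ r := Nat.pos_of_ne_zero fun h0 => by rw [h0, Nat.cast_zero] at h2; exact zero_ne_one h2
    refine ⟨r - 1, ?_, by rw [Nat.sub_add_cancel hr1, hr]⟩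
    rw [← ZMod.natCast_eq_zero_iff, Nat.cast_sub hr1, h2, Nat.cast_one, sub_self]
  obtain ⟨n, hn⟩ := IsPGroup.iff_orderOf.mp hG (a ^ d)
  exact ⟨⟨a, b, d, n, hp2, hG, hd, hconj, hgen, hn⟩⟩

namespace Data

variable (D : Data p G)

theorem conj_pow (j : ℕ) : ∀ k : ℕ, D.b ^ j * D.a ^ k = D.a ^ ((D.d + 1) ^ j * k) * D.b ^ j := by
  induction j with
  | zero => simp
  | succ j ih =>
    intro k
    have h1 : ∀ m : ℕ, D.b * D.a ^ m = D.a ^ ((D.d + 1) * m) * D.b := fun m => by
      rw [pow_mul, ← D.conj, _root_.conj_pow, inv_mul_cancel_right]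
    rw [pow_succ' D.b j, mul_assoc, ih, ← mul_assoc, h1, mul_assoc, ← mul_assoc (D.d + 1), ← pow_succ']

theorem mul_rule (i j k l : ℕ) :
    (D.a ^ i * D.b ^ j) * (D.a ^ k * D.b ^ l) = D.a ^ (i + (D.d + 1) ^ j * k) * D.b ^ (j + l) := by
  rw [mul_assoc, ← mul_assoc (D.b ^ j), D.conj_pow, mul_assoc, ← mul_assoc, ← pow_add, ← pow_add]

theorem pow_rule (i j t : ℕ) :
    (D.a ^ i * D.b ^ j) ^ t = D.a ^ (i * S (S D.d j * D.d) t) * D.b ^ (j * t) := by
  induction t with
  | zero => simp [S_zero]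
  | succ t ih =>
    rw [pow_succ', ih, D.mul_rule, S_succ, pow_eq, show j + j * t = j * (t + 1) by ring]
    congr 2
    ring

theorem pow_d_eq_iff {x y : ℕ} :
    D.a ^ (D.d * x) = D.a ^ (D.d * y) ↔ (x : ZMod (p ^ D.n)) = y := by
  rw [pow_mul, pow_mul, pow_eq_pow_iff_modEq, D.hn, ZMod.natCast_eq_natCast_iff]

theorem wellDef {i j k l : ℕ} (h : D.a ^ i * D.b ^ j = D.a ^ k * D.b ^ l) :
    (i : ZMod (p ^ D.n)) = k ∧ (S D.d j : ZMod (p ^ D.n)) = S D.d l := by
  have e1 : ∀ i j : ℕ, (D.a ^ i * D.b ^ j) * D.a = D.a ^ (D.d * S D.d j) * D.a * (D.a ^ i * D.b ^ j) := by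
    intro i j
    conv_lhs => rw [mul_assoc, show D.b ^ j * D.a = D.b ^ j * D.a ^ 1 by rw [pow_one], D.conj_pow, mul_one, pow_eq]
    rw [← pow_succ, ← mul_assoc, ← mul_assoc, ← pow_add, ← pow_add]
    congr 2
    ring
  have e2 : ∀ i j : ℕ, D.b * (D.a ^ i * D.b ^ j) = D.a ^ (D.d * i) * (D.a ^ i * D.b ^ j) * D.b := by
    intro i j
    conv_lhs => rw [← mul_assoc, show D.b * D.a ^ i = D.b ^ 1 * D.a ^ i by rw [pow_one], D.conj_pow, pow_one, pow_one]
    rw [mul_assoc, mul_assoc, mul_assoc, ← pow_succ, ← pow_succ', ← mul_assoc, ← pow_add]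
    congr 2
    ring
  refine ⟨D.pow_d_eq_iff.mp ?_, D.pow_d_eq_iff.mp ?_⟩
  · have := (e2 i j).symm.trans ((congrArg (D.b * ·) h).trans (e2 k l))
    rw [h] at this
    exact mul_right_cancel (mul_right_cancel this)
  · have := (e1 i j).symm.trans ((congrArg (· * D.a) h).trans (e1 k l))
    rw [h] at this
    exact mul_right_cancel (mul_right_cancel this)

/-- The coordinates. -/
noncomputable def φ (g : G) : V p D.n :=
  (((D.gen g).choose : ZMod (p ^ D.n)), (S D.d (D.gen g).choose_spec.choose : ZMod (p ^ D.n)))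

theorem φ_rep (i j : ℕ) : D.φ (D.a ^ i * D.b ^ j) = ((i : ZMod (p ^ D.n)), (S D.d j : ZMod (p ^ D.n))) := by
  obtain ⟨h1, h2⟩ := D.wellDef (D.gen (D.a ^ i * D.b ^ j)).choose_spec.choose_spec
  exact Prod.ext h1.symm h2.symm

theorem φ_one : D.φ 1 = 0 := by
  have := D.φ_rep 0 0
  simp [S_zero] at this
  exact this

theorem φ_a : D.φ D.a = (1, 0) := by
  have := D.φ_rep 1 0
  simpa [S_zero] using this

theorem φ_b : D.φ D.b = (0, 1) := by
  have := D.φ_rep 0 1
  simpa [S_one] using this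

/-- The twisting factor. -/
def χ (v : V p D.n) : ZMod (p ^ D.n) := 1 + (D.d : ZMod (p ^ D.n)) * v.2

theorem isUnit_χ (v : V p D.n) : IsUnit (D.χ v) := by
  refine IsNilpotent.isUnit_one_add ⟨D.n, ?_⟩
  obtain ⟨e, he⟩ := D.hd
  rw [he, Nat.cast_mul, mul_assoc, mul_pow, ← Nat.cast_pow, ZMod.natCast_self, zero_mul]

theorem φ_mul (g h : G) : D.φ (g * h) = D.φ g + D.χ (D.φ g) • D.φ h := by
  obtain ⟨i, j, rfl⟩ := D.gen g
  obtain ⟨k, l, rfl⟩ := D.gen h
  rw [D.mul_rule, D.φ_rep, D.φ_rep, D.φ_rep, S_add, χ, pow_eq]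
  ext <;> simp [smul_eq_mul] <;> ring

theorem φ_surjective : Function.Surjective D.φ := by
  rintro ⟨x, y⟩
  obtain ⟨l, hl⟩ := exists_S_eq D.hp2 D.hd D.n y
  exact ⟨D.a ^ x.val * D.b ^ l, by rw [D.φ_rep, hl, ZMod.natCast_zmod_val]⟩

theorem commute_iff (g h : G) :
    Commute g h ↔ (D.φ g).1 * (D.φ h).2 = (D.φ h).1 * (D.φ g).2 := by
  obtain ⟨i, j, rfl⟩ := D.gen g
  obtain ⟨k, l, rfl⟩ := D.gen h
  rw [D.φ_rep, D.φ_rep, Commute, SemiconjBy, D.mul_rule, D.mul_rule, add_comm l j, mul_left_inj,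
    pow_eq, pow_eq,
    show i + (S D.d j * D.d + 1) * k = (i + k) + D.d * (S D.d j * k) by ring,
    show k + (S D.d l * D.d + 1) * i = (i + k) + D.d * (S D.d l * i) by ring,
    pow_add D.a (i + k), pow_add D.a (i + k), mul_right_inj, D.pow_d_eq_iff, Nat.cast_mul, Nat.cast_mul]
  rw [mul_comm (i : ZMod (p ^ D.n)), mul_comm (k : ZMod (p ^ D.n)), eq_comm]

theorem φ_eq_zero_iff (g : G) : D.φ g = 0 ↔ g ∈ Subgroup.center G := by
  rw [Subgroup.mem_center_iff]
  constructor
  · intro h x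
    exact ((D.commute_iff x g).mpr (by simp [h])).eq
  · intro h
    have h1 := (D.commute_iff D.a g).mp (h D.a)
    have h2 := (D.commute_iff D.b g).mp (h D.b)
    rw [D.φ_a] at h1
    rw [D.φ_b] at h2
    simp at h1 h2
    exact Prod.ext h2.symm h1

theorem φ_mul_center (g : G) {z : G} (hz : z ∈ Subgroup.center G) : D.φ (g * z) = D.φ g := by
  rw [D.φ_mul, (D.φ_eq_zero_iff z).mpr hz, smul_zero, add_zero]

theorem φ_eq_iff (g h : G) : D.φ g = D.φ h ↔ g⁻¹ * h ∈ Subgroup.center G := by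
  constructor
  · intro he
    have h1 := D.φ_mul g (g⁻¹ * h)
    rw [mul_inv_cancel_left, ← he, left_eq_add] at h1
    rwa [(D.isUnit_χ _).smul_eq_zero, D.φ_eq_zero_iff] at h1
  · intro hz
    rw [← D.φ_mul_center g hz, mul_inv_cancel_left]

theorem φ_pow (h : G) (t : ℕ) :
    D.φ (h ^ t) = (S (D.d * (D.φ h).2.val) t : ZMod (p ^ D.n)) • D.φ h := by
  induction t with
  | zero => simp [S_zero, D.φ_one]
  | succ t ih =>
    rw [pow_succ', D.φ_mul, ih, S_succ, smul_smul, χ, Nat.cast_add, Nat.cast_one, Nat.cast_mul,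
      Nat.cast_add, Nat.cast_one, Nat.cast_mul, ZMod.natCast_zmod_val, add_smul, one_smul]
    ring_nf

theorem exists_pow_smul (h : G) (s : ZMod (p ^ D.n)) : ∃ t : ℕ, D.φ (h ^ t) = s • D.φ h := by
  obtain ⟨t, ht⟩ := exists_S_eq (d := D.d * (D.φ h).2.val) D.hp2 (D.hd.mul_right _) D.n s
  exact ⟨t, by rw [D.φ_pow, ht]⟩

/-- The image of a subgroup. -/
def image (H : Subgroup G) : AddSubgroup (V p D.n) where
  carrier := D.φ '' H
  zero_mem' := ⟨1, H.one_mem, D.φ_one⟩
  add_mem' := by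
    rintro _ _ ⟨g, hg, rfl⟩ ⟨h, hh, rfl⟩
    obtain ⟨u, hu⟩ := (D.isUnit_χ (D.φ g)).exists_right_inv
    obtain ⟨t, ht⟩ := D.exists_pow_smul h u
    exact ⟨g * h ^ t, H.mul_mem hg (H.pow_mem hh t), by rw [D.φ_mul, ht, smul_smul, hu, one_smul]⟩
  neg_mem' := by
    rintro _ ⟨h, hh, rfl⟩
    obtain ⟨t, ht⟩ := D.exists_pow_smul h (-1)
    exact ⟨h ^ t, H.pow_mem hh t, by rw [ht, neg_one_smul]⟩

theorem mem_image {H : Subgroup G} {v : V p D.n} : v ∈ D.image H ↔ ∃ h ∈ H, D.φ h = v := Iff.rfl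

/-- The preimage of a subgroup. -/
def preimage (U : AddSubgroup (V p D.n)) : Subgroup G :=
  let M : Submonoid G :=
    { carrier := {g | D.φ g ∈ U}
      one_mem' := by simp [D.φ_one]
      mul_mem' := by
        intro g h hg hh
        rw [Set.mem_ofPred_eq, D.φ_mul]
        exact U.add_mem hg (Symplectic.smul_mem U _ hh) }
  { M with
    inv_mem' := by
      intro g hg
      have h1 : g⁻¹ = g ^ (orderOf g - 1) := by
        refine inv_eq_of_mul_eq_one_right ?_
        rw [← pow_succ', Nat.sub_add_cancel (orderOf_pos g), pow_orderOf_eq_one]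
      rw [h1]
      exact M.pow_mem hg _ }

theorem mem_preimage {U : AddSubgroup (V p D.n)} {g : G} : g ∈ D.preimage U ↔ D.φ g ∈ U := Iff.rfl

theorem center_le_preimage (U : AddSubgroup (V p D.n)) : Subgroup.center G ≤ D.preimage U :=
  fun g hg => by rw [mem_preimage, (D.φ_eq_zero_iff g).mpr hg]; exact U.zero_mem

theorem image_preimage (U : AddSubgroup (V p D.n)) : D.image (D.preimage U) = U := by
  ext v
  constructor
  · rintro ⟨g, hg, rfl⟩; exact hg
  · intro hv
    obtain ⟨g, rfl⟩ := D.φ_surjective v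
    exact ⟨g, hv, rfl⟩

theorem le_preimage_image (H : Subgroup G) : H ≤ D.preimage (D.image H) := fun g hg => ⟨g, hg, rfl⟩

theorem preimage_image_of_center_le {H : Subgroup G} (hZ : Subgroup.center G ≤ H) :
    D.preimage (D.image H) = H := by
  refine le_antisymm ?_ (D.le_preimage_image H)
  rintro g ⟨h, hh, he⟩
  have := H.mul_mem hh (hZ ((D.φ_eq_iff h g).mp he))
  rwa [mul_inv_cancel_left] at this

theorem image_mono {H K : Subgroup G} (h : H ≤ K) : D.image H ≤ D.image K := by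
  rintro _ ⟨g, hg, rfl⟩; exact ⟨g, h hg, rfl⟩

theorem image_zpowers (g : G) : D.image (Subgroup.zpowers g) = AddSubgroup.zmultiples (D.φ g) := by
  ext v
  constructor
  · rintro ⟨_, hx, rfl⟩
    obtain ⟨t, rfl⟩ := mem_powers_iff_mem_zpowers.mpr hx
    simp only [D.φ_pow, Nat.cast_smul_eq_nsmul]
    exact AddSubgroup.nsmul_mem _ (AddSubgroup.mem_zmultiples _) _
  · intro hv
    obtain ⟨k, rfl⟩ := hv
    obtain ⟨t, ht⟩ := D.exists_pow_smul g (k : ZMod (p ^ D.n))
    exact ⟨g ^ t, Subgroup.pow_mem _ (Subgroup.mem_zpowers g) t, by rw [ht, Int.cast_smul_eq_zsmul]⟩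

theorem centralizer_eq (H : Subgroup G) :
    Subgroup.centralizer (H : Set G) = D.preimage (perp (D.image H)) := by
  ext g
  rw [Subgroup.mem_centralizer_iff, mem_preimage, mem_perp]
  constructor
  · rintro h _ ⟨x, hx, rfl⟩
    exact (D.commute_iff x g).mp (h x hx)
  · intro h x hx
    exact ((D.commute_iff x g).mpr (h _ ⟨x, hx, rfl⟩)).eq

theorem centralizer_singleton_eq (g : G) :
    Subgroup.centralizer ({g} : Set G) = D.preimage (perp (AddSubgroup.zmultiples (D.φ g))) := by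
  ext x
  rw [Subgroup.mem_centralizer_singleton_iff, mem_preimage, mem_perp_zmultiples, ← D.commute_iff]
  exact ⟨fun h => h.symm, fun h => h.eq.symm⟩

theorem isMulCommutative_iff (H : Subgroup G) :
    IsMulCommutative H ↔ D.image H ≤ perp (D.image H) := by
  rw [← Subgroup.le_centralizer_iff_isMulCommutative, D.centralizer_eq]
  constructor
  · rintro h _ ⟨g, hg, rfl⟩
    exact h hg
  · intro h g hg
    exact h ⟨g, hg, rfl⟩

/-- `G` is a product of the coordinates and the centre. -/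
noncomputable def equivProd : G ≃ V p D.n × Subgroup.center G where
  toFun g := (D.φ g, ⟨(Function.surjInv D.φ_surjective (D.φ g))⁻¹ * g,
    (D.φ_eq_iff _ g).mp (Function.surjInv_eq D.φ_surjective _)⟩)
  invFun x := Function.surjInv D.φ_surjective x.1 * (x.2 : G)
  left_inv g := by simp
  right_inv x := by
    have h : D.φ (Function.surjInv D.φ_surjective x.1 * (x.2 : G)) = x.1 := by
      rw [D.φ_mul_center _ x.2.2, Function.surjInv_eq D.φ_surjective]
    ext1
    · exact h
    · ext1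
      simp [h]

theorem card_φ (P : V p D.n → Prop) :
    Nat.card {g : G // P (D.φ g)} = Nat.card {v : V p D.n // P v} * Nat.card (Subgroup.center G) := by
  rw [← Nat.card_prod]
  refine Nat.card_congr ((D.equivProd.subtypeEquiv (q := fun x => P x.1) (fun g => Iff.rfl)).trans
    { toFun := fun x => (⟨x.1.1, x.2⟩, x.1.2)
      invFun := fun y => ⟨(y.1.1, y.2), y.1.2⟩
      left_inv := fun x => rfl
      right_inv := fun y => rfl })

theorem card_preimage (U : AddSubgroup (V p D.n)) :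
    Nat.card (D.preimage U) = Nat.card U * Nat.card (Subgroup.center G) :=
  D.card_φ (· ∈ U)

theorem card_eq : Nat.card G = p ^ D.n * p ^ D.n * Nat.card (Subgroup.center G) := by
  rw [Nat.card_congr D.equivProd, Nat.card_prod, card_V]

theorem card_le (H : Subgroup G) :
    Nat.card H ≤ Nat.card (D.image H) * Nat.card (Subgroup.center G) :=
  D.card_preimage (D.image H) ▸ Subgroup.card_le_of_le (D.le_preimage_image H)

theorem card_of_center_le {H : Subgroup G} (h : Subgroup.center G ≤ H) :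
    Nat.card H = Nat.card (D.image H) * Nat.card (Subgroup.center G) := by
  rw [← D.card_preimage, D.preimage_image_of_center_le h]

theorem center_index : (Subgroup.center G).index = p ^ D.n * p ^ D.n := by
  refine Nat.eq_of_mul_eq_mul_left (Nat.card_pos (α := Subgroup.center G)) ?_
  rw [Subgroup.card_mul_index, D.card_eq, mul_comm]

theorem index_centralizer (g : G) :
    (Subgroup.centralizer ({g} : Set G)).index = addOrderOf (D.φ g) := by
  refine Nat.eq_of_mul_eq_mul_left (Nat.card_pos (α := Subgroup.centralizer ({g} : Set G))) ?_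
  rw [Subgroup.card_mul_index, D.card_eq, D.centralizer_singleton_eq, D.card_preimage,
    ← card_perp_zmultiples (D.φ g)]
  ring

theorem commutator_eq : commutator G = Subgroup.zpowers (D.a ^ D.d) := by
  refine le_antisymm ?_ ?_
  · rw [commutator_def, Subgroup.commutator_le]
    intro g _ h _
    obtain ⟨i, j, rfl⟩ := D.gen g
    obtain ⟨k, l, rfl⟩ := D.gen h
    rw [commutatorElement_def, mul_assoc _ (_ * _)⁻¹, ← mul_inv_rev, D.mul_rule, D.mul_rule,
      mul_inv_rev, add_comm l j, mul_assoc, mul_inv_cancel_left, pow_eq, pow_eq,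
      show i + (S D.d j * D.d + 1) * k = D.d * (S D.d j * k) + (i + k) by ring,
      show k + (S D.d l * D.d + 1) * i = D.d * (S D.d l * i) + (i + k) by ring,
      pow_add _ (D.d * (S D.d j * k)), pow_add _ (D.d * (S D.d l * i)), mul_inv_rev, ← mul_assoc,
      mul_inv_cancel_right, pow_mul, pow_mul D.a D.d]
    exact mul_mem (Subgroup.pow_mem _ (Subgroup.mem_zpowers _) _)
      (inv_mem (Subgroup.pow_mem _ (Subgroup.mem_zpowers _) _))
  · rw [Subgroup.zpowers_le, commutator_def,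
      show D.a ^ D.d = ⁅D.b, D.a⁆ by rw [commutatorElement_def, D.conj, pow_succ, mul_inv_cancel_right]]
    exact Subgroup.commutator_mem_commutator trivial trivial

theorem card_commutator : Nat.card (commutator G) = p ^ D.n := by
  rw [D.commutator_eq, Nat.card_zpowers, D.hn]

theorem n_unique {n : ℕ} (h : Nat.card (commutator G) = p ^ n) : D.n = n :=
  Nat.pow_right_injective hp.out.two_le (D.card_commutator.symm.trans h)

theorem commutator_index : (commutator G).index = p ^ D.n * Nat.card (Subgroup.center G) := by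
  refine Nat.eq_of_mul_eq_mul_left (Nat.card_pos (α := commutator G)) ?_
  rw [Subgroup.card_mul_index, D.card_eq, D.card_commutator, mul_assoc]

/-- The subgroup generated by `p ^ s`-th powers, `s ≤ n`. -/
theorem closure_pow_eq {s : ℕ} (hs : s ≤ D.n) :
    Subgroup.closure {x : G | ∃ y : G, y ^ p ^ s = x} = D.preimage (box s s) := by
  have hpow : ∀ y : G, ∃ u, IsUnit u ∧ D.φ (y ^ p ^ s) = ((p : ZMod (p ^ D.n)) ^ s * u) • D.φ y := by
    intro y
    obtain ⟨u, hu, hS⟩ := S_pow (d := D.d * (D.φ y).2.val) D.hp2 (D.hd.mul_right _) s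
    refine ⟨u, ?_, by rw [D.φ_pow, hS, Nat.cast_mul, Nat.cast_pow]⟩
    rw [ZMod.isUnit_iff_coprime]
    exact ((hp.out.coprime_iff_not_dvd.mpr hu).symm).pow_right _
  refine le_antisymm ?_ fun g hg => ?_
  · rw [Subgroup.closure_le]
    rintro _ ⟨y, rfl⟩
    obtain ⟨u, -, hu⟩ := hpow y
    rw [SetLike.mem_coe, mem_preimage, hu, mem_box]
    exact ⟨⟨u * (D.φ y).1, by simp [mul_assoc]⟩, ⟨u * (D.φ y).2, by simp [mul_assoc]⟩⟩
  · rw [mem_preimage, mem_box] at hg
    obtain ⟨⟨c, hc⟩, ⟨c', hc'⟩⟩ := hg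
    obtain ⟨y, hy⟩ := D.φ_surjective (c, c')
    obtain ⟨u, hu, hye⟩ := hpow y
    obtain ⟨u', hu'⟩ := hu.exists_right_inv
    obtain ⟨t, ht⟩ := D.exists_pow_smul (y ^ p ^ s) u'
    have hx : D.φ ((y ^ p ^ s) ^ t) = D.φ g := by
      rw [ht, hye, smul_smul, mul_left_comm, mul_comm u', hu', mul_one, hy]
      exact Prod.ext hc.symm hc'.symm
    have hz := (D.φ_eq_iff _ _).mp hx
    have hmem : (y ^ p ^ s) ^ t ∈ Subgroup.closure {x : G | ∃ y : G, y ^ p ^ s = x} :=
      Subgroup.pow_mem _ (Subgroup.subset_closure (show y ^ p ^ s ∈ {x : G | ∃ z : G, z ^ p ^ s = x} from ⟨y, rfl⟩)) t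
    suffices hzmem : ((y ^ p ^ s) ^ t)⁻¹ * g ∈ Subgroup.closure {x : G | ∃ y : G, y ^ p ^ s = x} by
      simpa using mul_mem hmem hzmem
    generalize ((y ^ p ^ s) ^ t)⁻¹ * g = z at hz
    obtain ⟨i, j, rfl⟩ := D.gen z
    rw [← D.φ_eq_zero_iff, D.φ_rep, Prod.ext_iff] at hz
    simp only [Prod.fst_zero, Prod.snd_zero, ZMod.natCast_eq_zero_iff, pow_dvd_S_iff D.hp2 D.hd] at hz
    obtain ⟨i', hi⟩ := (pow_dvd_pow p hs).trans hz.1
    obtain ⟨j', hj⟩ := (pow_dvd_pow p hs).trans hz.2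
    exact mul_mem (Subgroup.subset_closure ⟨D.a ^ i', by rw [← pow_mul, hi, mul_comm]⟩)
      (Subgroup.subset_closure ⟨D.b ^ j', by rw [← pow_mul, hj, mul_comm]⟩)

theorem center_eq_closure_pow :
    Subgroup.closure {x : G | ∃ y : G, y ^ p ^ D.n = x} = Subgroup.center G := by
  rw [D.closure_pow_eq le_rfl]
  refine le_antisymm (fun g hg => (D.φ_eq_zero_iff g).mp ?_) (D.center_le_preimage _)
  obtain ⟨⟨c, hc⟩, ⟨c', hc'⟩⟩ := mem_box.mp hg
  rw [← Nat.cast_pow, ZMod.natCast_self, zero_mul] at hc hc'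
  exact Prod.ext hc hc'

/-- A subgroup with non-isotropic image contains the centre and its centraliser. -/
theorem of_not_comm {H : Subgroup G} (hH : ¬ IsMulCommutative H) :
    Subgroup.center G ≤ H ∧ Subgroup.centralizer (H : Set G) ≤ H ∧
      perp (D.image H) < D.image H := by
  rw [D.isMulCommutative_iff] at hH
  obtain ⟨hlt, hsub⟩ := (perp_facts (D.image H)).2.2.resolve_left hH
  have hn : D.n ≠ 0 := by
    intro h0
    haveI : Subsingleton (ZMod (p ^ D.n)) := by rw [h0, pow_zero]; infer_instance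
    exact hH fun x _ y _ => Subsingleton.elim _ _
  set K := D.preimage (D.image H) with hK
  have hHK : H ≤ K := D.le_preimage_image H
  have hZΦ : Subgroup.center G ≤ (frattini K).map K.subtype := by
    rw [← D.center_eq_closure_pow, Subgroup.closure_le]
    rintro _ ⟨y, rfl⟩
    have hy : y ^ p ^ (D.n - 1) ∈ K := by
      have h1 : y ^ p ^ (D.n - 1) ∈ D.preimage (box (D.n - 1) (D.n - 1)) := by
        rw [← D.closure_pow_eq (Nat.sub_le _ _)]
        exact Subgroup.subset_closure ⟨y, rfl⟩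
      obtain ⟨h2, h3⟩ := mem_box.mp h1
      exact hsub _ h2 h3
    refine ⟨(⟨_, hy⟩ : K) ^ p, pow_mem_frattini (D.hpg.to_subgroup K) _, ?_⟩
    rw [map_pow, Subgroup.coe_subtype, ← pow_mul, ← pow_succ, Nat.sub_add_cancel (Nat.pos_of_ne_zero hn)]
  have htop : H.subgroupOf K = ⊤ := by
    refine frattini_nongenerating (eq_top_iff.mpr fun x _ => ?_)
    obtain ⟨h, hh, he⟩ := x.2
    obtain ⟨w, hw, hwe⟩ := hZΦ ((D.φ_eq_iff h x).mp he)
    have hx : x = (⟨h, hHK hh⟩ : K) * w :=
      Subtype.ext (by rw [Subgroup.coe_mul, Subgroup.coe_subtype] at *; rw [hwe, mul_inv_cancel_left])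
    rw [hx]
    exact Subgroup.mul_mem_sup hh hw
  have hZH : Subgroup.center G ≤ H :=
    (D.center_le_preimage _).trans (Subgroup.subgroupOf_eq_top.mp htop)
  refine ⟨hZH, ?_, hlt⟩
  rw [D.centralizer_eq]
  conv_rhs => rw [← D.preimage_image_of_center_le hZH]
  exact fun g hg => hlt.le hg

include D

theorem abelian_iff (L : Subgroup G) :
    IsMulCommutative L ↔ Nat.card L ≤ (commutator G).index := by
  rw [D.commutator_index]
  refine ⟨fun h => (D.card_le L).trans (Nat.mul_le_mul_right _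
    ((le_perp_iff_card_le _).mp ((D.isMulCommutative_iff L).mp h))), fun h => ?_⟩
  by_contra hc
  rw [D.card_of_center_le (D.of_not_comm hc).1] at h
  exact hc ((D.isMulCommutative_iff L).mpr ((le_perp_iff_card_le _).mpr
    (Nat.le_of_mul_le_mul_right h Nat.card_pos)))

theorem maximal_iff (L : Subgroup G) :
    Maximal (fun K : Subgroup G => IsMulCommutative K) L ↔ Nat.card L = (commutator G).index := by
  constructor
  · rintro ⟨hL, hmax⟩
    have hle : Subgroup.centralizer (L : Set G) ≤ L := by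
      intro x hx
      have hK : IsMulCommutative ↥(L ⊔ Subgroup.zpowers x) := by
        rw [← Subgroup.le_centralizer_iff_isMulCommutative]
        have h1 : L ≤ Subgroup.centralizer ((L ⊔ Subgroup.zpowers x : Subgroup G) : Set G) := by
          rw [Subgroup.le_centralizer_iff, sup_le_iff, Subgroup.zpowers_le]
          exact ⟨Subgroup.le_centralizer_iff_isMulCommutative.mpr hL, hx⟩
        refine sup_le h1 (Subgroup.zpowers_le.mpr ?_)
        rw [Subgroup.mem_centralizer_iff]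
        have h2 : L ⊔ Subgroup.zpowers x ≤ Subgroup.centralizer ({x} : Set G) := by
          rw [sup_le_iff, Subgroup.zpowers_le]
          exact ⟨fun y hy => Subgroup.mem_centralizer_singleton_iff.mpr
            (Subgroup.mem_centralizer_iff.mp hx y hy), Subgroup.mem_centralizer_singleton_iff.mpr rfl⟩
        exact fun y hy => Subgroup.mem_centralizer_singleton_iff.mp (h2 hy)
      exact hmax hK le_sup_left (Subgroup.mem_sup_right (Subgroup.mem_zpowers x))
    have heq := le_antisymm hle (Subgroup.le_centralizer_iff_isMulCommutative.mpr hL)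
    rw [D.centralizer_eq] at heq
    have hU : perp (D.image L) = D.image L := by
      conv_rhs => rw [← heq, D.image_preimage]
    have hc := (perp_facts (D.image L)).2.1
    rw [hU] at hc
    rw [D.card_of_center_le (heq ▸ D.center_le_preimage _), D.commutator_index, Nat.mul_self_inj.mp hc]
  · intro h
    exact ⟨(D.abelian_iff L).mpr h.le, fun K hK hLK =>
      (Subgroup.eq_of_le_of_card_ge hLK (h ▸ (D.abelian_iff K).mp hK)).ge⟩

theorem centralizerProduct_le (R : Subgroup G) :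
    Nat.card R * Nat.card (Subgroup.centralizer (R : Set G)) ≤
        p ^ D.n * p ^ D.n * Nat.card (Subgroup.center G) ^ 2 ∧
      (Nat.card R * Nat.card (Subgroup.centralizer (R : Set G)) =
        p ^ D.n * p ^ D.n * Nat.card (Subgroup.center G) ^ 2 ↔ Subgroup.center G ≤ R) := by
  have h1 : Nat.card (D.image R) * Nat.card (Subgroup.center G) *
      Nat.card (Subgroup.centralizer (R : Set G)) =
        p ^ D.n * p ^ D.n * Nat.card (Subgroup.center G) ^ 2 := by
    rw [D.centralizer_eq, D.card_preimage, ← (perp_facts (D.image R)).2.1]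
    ring
  refine ⟨h1 ▸ Nat.mul_le_mul_right _ (D.card_le R), ?_⟩
  constructor
  · intro h
    have h2 := Nat.eq_of_mul_eq_mul_right Nat.card_pos (h.trans h1.symm)
    rw [← D.card_preimage] at h2
    rw [Subgroup.eq_of_le_of_card_ge (D.le_preimage_image R) h2.ge]
    exact D.center_le_preimage _
  · intro h
    rw [D.card_of_center_le h, h1]

theorem maxCentralizerProduct_eq :
    Cfsg.maxCentralizerProduct G = p ^ D.n * p ^ D.n * Nat.card (Subgroup.center G) ^ 2 :=
  IsGreatest.csSup_eq ⟨⟨Subgroup.center G, ((D.centralizerProduct_le _).2.mpr le_rfl)⟩, by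
    rintro k ⟨R, rfl⟩; exact (D.centralizerProduct_le R).1⟩

theorem isCentralizerLarge_iff (R : Subgroup G) :
    Cfsg.IsCentralizerLarge R ↔ Subgroup.center G ≤ R := by
  rw [Cfsg.IsCentralizerLarge, D.maxCentralizerProduct_eq]
  exact (D.centralizerProduct_le R).2

end Data

end CfsgLib.PGroups.Metacyclic
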