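import Mathlib

/-!
# Breadth and derived subgroup of a finite `p`-group (Vaughan-Lee's bound)

If every element outside two suitable exceptional subgroups of a finite `p`-group has at most
`p ^ b` conjugates then the derived subgroup has order at most `p ^ (b * (b + 1) / 2)`.
-/

set_option linter.all false

open scoped commutatorElement

namespace CfsgLib.PGroups.Breadth

universe u

variable {G : Type u} [Group G] {p : ℕ}

/-- `b * (b + 1) / 2` satisfies the triangular recursion. -/
theorem tri_succ (b : ℕ) : (b + 1) * (b + 1 + 1) / 2 = b * (b + 1) / 2 + (b + 1) := by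
  rw [show (b + 1) * (b + 1 + 1) = b * (b + 1) + 2 * (b + 1) by ring,
    Nat.add_mul_div_left _ _ two_pos]

section Step

variable [Finite G] [Fact p.Prime]

/-- A subgroup of prime index is maximal. -/
theorem eq_top_of_le_of_mem {L S : Subgroup G} (hL : L.index = p) (hle : L ≤ S) {u : G}
    (huS : u ∈ S) (hu : u ∉ L) : S = ⊤ := by
  have h := Subgroup.relIndex_mul_index hle
  rw [hL] at h
  rcases (Fact.out : p.Prime).eq_one_or_self_of_dvd _ (Dvd.intro_left _ h) with h1 | h1
  · exact Subgroup.index_eq_one.mp h1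
  · exfalso
    rw [h1] at h
    exact hu (Subgroup.relIndex_eq_one.mp (Nat.eq_of_mul_eq_mul_right (Fact.out : p.Prime).pos (h.trans (one_mul p).symm)) huS)

theorem normal_of_index (hG : IsPGroup p G) {L : Subgroup G} (hL : L.index = p) : L.Normal := by
  refine Subgroup.normal_of_index_eq_minFac_card ?_
  obtain ⟨n, hn⟩ := IsPGroup.iff_card.mp hG
  rcases Nat.eq_zero_or_pos n with rfl | hn0
  · have := L.index_dvd_card
    rw [hn, pow_zero, hL, Nat.dvd_one] at this
    exact absurd this (Fact.out : p.Prime).ne_one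
  · rw [hL, hn, Nat.pow_minFac hn0.ne', (Fact.out : p.Prime).minFac_eq]

/-- The derived subgroup of `G` over that of a subgroup `L` of index `p`. -/
theorem step (hG : IsPGroup p G) {L : Subgroup G} (hL : L.index = p) {u : G} (hu : u ∉ L) :
    ∃ J : Subgroup L, Nat.card (commutator G) ≤ Nat.card (commutator L) * J.index ∧
      (∀ y : L, y ∉ J → Subgroup.centralizer ({(y : G)} : Set G) ≤ L) ∧
      J.index ≤ (Subgroup.centralizer ({u} : Set G)).index := by
  haveI hLn := normal_of_index hG hL
  set Lc : Subgroup G := ⁅L, L⁆ with hLc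
  haveI : Lc.Normal := Subgroup.commutator_normal L L
  set q := QuotientGroup.mk' Lc with hq
  have habel : ∀ a ∈ L, ∀ b ∈ L, Commute (q a) (q b) := fun a ha b hb => by
    refine commutatorElement_eq_one_iff_commute.mp ?_
    rw [← map_commutatorElement]
    exact (QuotientGroup.eq_one_iff _).mpr (Subgroup.commutator_mem_commutator ha hb)
  have hcL : ∀ a ∈ L, ∀ g, ⁅a, g⁆ ∈ L := fun a ha g => by
    rw [commutatorElement_def, mul_assoc, mul_assoc]
    exact mul_mem ha (by simpa [mul_assoc] using hLn.conj_mem _ (inv_mem ha) g)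
  let f : L →* G ⧸ Lc := MonoidHom.mk' (fun l => q ⁅(l : G), u⁆) fun a b => by
    have h1 : ⁅((a * b : L) : G), u⁆ = (a : G) * ⁅(b : G), u⁆ * (a : G)⁻¹ * ⁅(a : G), u⁆ := by
      simp only [Subgroup.coe_mul, commutatorElement_def]; group
    have h2 := habel _ a.2 _ (hcL _ b.2 u)
    have h3 := habel _ (hcL _ a.2 u) _ (hcL _ b.2 u)
    rw [h1, map_mul, map_mul, map_mul, map_inv, h2.eq, mul_inv_cancel_right, h3.eq]
  have hf : ∀ l, f l = q ⁅(l : G), u⁆ := fun l => rfl
  have hRL : ∀ z ∈ f.range, ∃ a ∈ L, q a = z := by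
    rintro z ⟨l, rfl⟩; exact ⟨_, hcL _ l.2 u, rfl⟩
  haveI hRn : f.range.Normal := by
    have hN : Subgroup.comap q (Subgroup.normalizer (f.range : Set (G ⧸ Lc))) = ⊤ := by
      refine eq_top_of_le_of_mem hL ?_ (u := u) ?_ hu
      · intro a ha
        rw [Subgroup.mem_comap]
        refine (Subgroup.mem_normalizer_iff).mpr fun z => ⟨fun hz => ?_, fun hz => ?_⟩
        · obtain ⟨c, hc, rfl⟩ := hRL z hz
          rwa [(habel a ha c hc).eq, mul_inv_cancel_right]
        · obtain ⟨c, hc, hcz⟩ := hRL _ hz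
          have hz' : z = q c := by
            have e : z = (q a)⁻¹ * (q a * z * (q a)⁻¹) * q a := by group
            rw [e, ← hcz, mul_assoc, (habel c hc a ha).eq, inv_mul_cancel_left]
          rw [hz', hcz]; exact hz
      · rw [Subgroup.mem_comap]
        refine (Subgroup.mem_normalizer_iff).mpr fun z => ?_
        have key : ∀ (g : G), (∀ l : L, g * ⁅(l : G), u⁆ * g⁻¹ = ⁅g * (l : G) * g⁻¹, u⁆) →
            ∀ z ∈ f.range, q g * z * (q g)⁻¹ ∈ f.range := by
          rintro g hg z ⟨l, rfl⟩
          refine ⟨⟨g * l * g⁻¹, hLn.conj_mem _ l.2 g⟩, ?_⟩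
          simp only [hf, ← map_inv, ← map_mul, hg]
        refine ⟨fun hz => key u (fun l => by simp only [commutatorElement_def]; group) z hz,
          fun hz => ?_⟩
        have := key u⁻¹ (fun l => by simp only [commutatorElement_def]; group) _ hz
        rw [map_inv, inv_inv] at this
        simpa [mul_assoc] using this
    rw [← Subgroup.normalizer_eq_top_iff]
    rw [← Subgroup.map_comap_eq_self_of_surjective (QuotientGroup.mk'_surjective Lc) (Subgroup.normalizer (f.range : Set (G ⧸ Lc))), hN,
      Subgroup.map_top_of_surjective _ (QuotientGroup.mk'_surjective Lc)]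
  set φ := (QuotientGroup.mk' f.range).comp q with hφ
  have hcomm : ∀ a ∈ L, Commute (φ a) (φ u) := fun a ha => by
    refine commutatorElement_eq_one_iff_commute.mp ?_
    rw [← map_commutatorElement]
    exact (QuotientGroup.eq_one_iff _).mpr ⟨⟨a, ha⟩, rfl⟩
  have hcen : Subgroup.comap φ (Subgroup.center _) = ⊤ := by
    have hφs : Function.Surjective φ :=
      (QuotientGroup.mk'_surjective _).comp (QuotientGroup.mk'_surjective _)
    have mem : ∀ x : G, (∀ a ∈ L, Commute (φ x) (φ a)) → Commute (φ x) (φ u) →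
        x ∈ Subgroup.comap φ (Subgroup.center _) := fun x h1 h2 => by
      have : (Subgroup.centralizer ({φ x} : Set _)).comap φ = ⊤ :=
        eq_top_of_le_of_mem hL (fun a ha => Subgroup.mem_centralizer_singleton_iff.mpr (h1 a ha).eq.symm)
          (u := u) (Subgroup.mem_centralizer_singleton_iff.mpr h2.eq.symm) hu
      refine Subgroup.mem_center_iff.mpr fun g => ?_
      obtain ⟨g, rfl⟩ := hφs g
      exact Subgroup.mem_centralizer_singleton_iff.mp (this ▸ Subgroup.mem_top g : g ∈ (Subgroup.centralizer ({φ x} : Set _)).comap φ)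
    refine eq_top_of_le_of_mem hL (fun a ha => mem a (fun c hc => ?_) (hcomm a ha)) (u := u)
      (mem u (fun a ha => (hcomm a ha).symm) (Commute.refl _)) hu
    exact (habel a ha c hc).map (QuotientGroup.mk' f.range)
  have hker : commutator G ≤ f.range.comap q := by
    rw [commutator_def, Subgroup.commutator_le]
    intro a _ b _
    rw [Subgroup.mem_comap, ← QuotientGroup.eq_one_iff (N := f.range)]
    show φ ⁅a, b⁆ = 1
    rw [map_commutatorElement, commutatorElement_eq_one_iff_commute]
    exact (Subgroup.mem_center_iff.mp (hcen ▸ Subgroup.mem_top b : b ∈ Subgroup.comap φ (Subgroup.center _)) (φ a))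
  refine ⟨f.ker, ?_, fun y hy c hc => ?_, ?_⟩
  · let ψ := q.comp (commutator G).subtype
    have h1 : Nat.card ψ.ker ≤ Nat.card (commutator L) := by
      have e : Nat.card (commutator L) = Nat.card Lc := by
        rw [hLc, ← Subgroup.map_subtype_commutator,
          Subgroup.card_map_of_injective L.subtype_injective]
      rw [e]
      exact Nat.card_le_card_of_injective
        (fun x : ψ.ker => (⟨((x : commutator G) : G), (QuotientGroup.eq_one_iff _).mp x.2⟩ : Lc))
        fun x y h => Subtype.ext (Subtype.ext (congrArg Subtype.val h :))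
    have h2 : ψ.ker.index ≤ f.ker.index := by
      rw [Subgroup.index_ker, Subgroup.index_ker]
      exact Subgroup.card_le_of_le (by rintro _ ⟨x, rfl⟩; exact hker x.2)
    calc Nat.card (commutator G) = Nat.card ψ.ker * ψ.ker.index := (Subgroup.card_mul_index _).symm
      _ ≤ _ := Nat.mul_le_mul h1 h2
  · by_contra hcL'
    refine hy ?_
    have htop : (Subgroup.centralizer ({q (y : G)} : Set _)).comap q = ⊤ :=
      eq_top_of_le_of_mem hL
        (fun a ha => Subgroup.mem_centralizer_singleton_iff.mpr (habel a ha y y.2).eq) (u := c)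
        (Subgroup.mem_centralizer_singleton_iff.mpr (by
          rw [← map_mul, ← map_mul, Subgroup.mem_centralizer_singleton_iff.mp hc]))
        hcL'
    rw [MonoidHom.mem_ker, hf, map_commutatorElement, commutatorElement_eq_one_iff_commute]
    exact (Subgroup.mem_centralizer_singleton_iff.mp
      (htop ▸ Subgroup.mem_top u : u ∈ (Subgroup.centralizer ({q (y : G)} : Set _)).comap q)).symm
  · have hle : (Subgroup.centralizer ({u} : Set G)).subgroupOf L ≤ f.ker := fun y hy => by
      rw [Subgroup.mem_subgroupOf, Subgroup.mem_centralizer_singleton_iff] at hy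
      rw [MonoidHom.mem_ker, hf, commutatorElement_eq_one_iff_commute.mpr hy, map_one]
    refine le_trans (Nat.le_of_dvd (Nat.pos_of_ne_zero Subgroup.index_ne_zero_of_finite)
      (Subgroup.index_dvd_of_le hle)) ?_
    exact (Subgroup.relIndex_le_of_le_right le_top (by
      rw [Subgroup.relIndex_top_right]; exact Subgroup.index_ne_zero_of_finite)).trans
      (Subgroup.relIndex_top_right _).le

end Step

section Choice

variable [Finite G] [Fact p.Prime]

theorem exists_maximal (hG : IsPGroup p G) {S : Subgroup G} (hS : S ≠ ⊤) :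
    ∃ M : Subgroup G, S ≤ M ∧ M.index = p := by
  obtain ⟨M, hM, hSM⟩ := (eq_top_or_exists_le_coatom S).resolve_left hS
  haveI : Group.IsNilpotent G := hG.isNilpotent
  refine ⟨M, hSM, ?_⟩
  haveI hMn : M.Normal :=
    Subgroup.NormalizerCondition.normal_of_coatom M Group.normalizerCondition_of_isNilpotent hM
  haveI : Fintype G := Fintype.ofFinite G
  obtain ⟨n, hn⟩ := hG.index M
  rw [hn]
  have h1 : 1 < Nat.card (G ⧸ M) := by
    rw [← Subgroup.index_eq_card]
    exact Subgroup.one_lt_index_of_ne_top hM.1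
  obtain ⟨x, hx⟩ := exists_prime_orderOf_dvd_card' (G := G ⧸ M) p (by
    rw [← Subgroup.index_eq_card] at h1 ⊢
    rw [hn] at h1 ⊢
    exact dvd_pow_self p (by rintro rfl; simp at h1))
  have hZ : (Subgroup.zpowers x).comap (QuotientGroup.mk' M) = ⊤ := by
    refine hM.2 _ (lt_of_le_of_ne ?_ ?_)
    · intro m hm
      rw [Subgroup.mem_comap, QuotientGroup.mk'_apply, (QuotientGroup.eq_one_iff (N := M) m).mpr hm]
      exact one_mem _
    · intro h
      obtain ⟨g, rfl⟩ := QuotientGroup.mk'_surjective M x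
      have : g ∈ M := h ▸ (Subgroup.mem_comap.mpr (Subgroup.mem_zpowers _))
      rw [QuotientGroup.mk'_apply, (QuotientGroup.eq_one_iff (N := M) g).mpr this, orderOf_one] at hx
      exact (Fact.out : p.Prime).ne_one hx.symm
  have htop : Subgroup.zpowers x = ⊤ := by
    rw [← Subgroup.map_comap_eq_self_of_surjective (QuotientGroup.mk'_surjective M) (Subgroup.zpowers x), hZ,
      Subgroup.map_top_of_surjective _ (QuotientGroup.mk'_surjective M)]
  rw [← hn, Subgroup.index_eq_card, ← Subgroup.card_top (G := G ⧸ M), ← htop, Nat.card_zpowers, hx]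

/-- The character with a given kernel of index `p`. -/
theorem exists_char (hG : IsPGroup p G) {H : Subgroup G} (hH : H.index = p) :
    ∃ χ : G →* Multiplicative (ZMod p), χ.ker = H := by
  haveI := normal_of_index hG hH
  have hc : Nat.card (G ⧸ H) = p := by rw [← Subgroup.index_eq_card]; exact hH
  haveI := isCyclic_of_prime_card hc
  have e : G ⧸ H ≃* Multiplicative (ZMod p) := mulEquivOfPrimeCardEq hc (by simp)
  refine ⟨e.toMonoidHom.comp (QuotientGroup.mk' H), ?_⟩
  ext g
  simp [MonoidHom.mem_ker]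

theorem exists_outside_two {A B : Subgroup G} (hA : A ≠ ⊤) (hB : B ≠ ⊤) :
    ∃ g, g ∉ A ∧ g ∉ B := by
  obtain ⟨a, ha⟩ : ∃ a, a ∉ A := by
    by_contra h; push Not at h; exact hA (eq_top_iff.mpr fun x _ => h x)
  obtain ⟨b, hb⟩ : ∃ b, b ∉ B := by
    by_contra h; push Not at h; exact hB (eq_top_iff.mpr fun x _ => h x)
  by_cases h1 : a ∈ B
  · by_cases h2 : b ∈ A
    · exact ⟨a * b, fun h => ha ((A.mul_mem_cancel_right h2).mp h),
        fun h => hb ((B.mul_mem_cancel_left h1).mp h)⟩
    · exact ⟨b, h2, hb⟩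
  · exact ⟨a, ha, h1⟩

/-- A third subgroup of index `p` between two given ones. -/
theorem exists_third (hG : IsPGroup p G) {H M : Subgroup G} (hH : H.index = p) (hM : M.index = p)
    (hne : H ≠ M) :
    ∃ L : Subgroup G, L.index = p ∧ L ≠ H ∧ L ⊓ M ≤ H ∧ L ⊓ H ≤ M ∧
      (3 ≤ p → ∃ u, u ∉ L ∧ u ∉ H ∧ u ∉ M) := by
  obtain ⟨χ, hχ⟩ := exists_char hG hH
  obtain ⟨ψ, hψ⟩ := exists_char hG hM
  have hp := (Fact.out : p.Prime)
  have sur : ∀ (A B : Subgroup G) (ρ : G →* Multiplicative (ZMod p)), ρ.ker = A → A.index = p →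
      B.index = p → A ≠ B → ∀ t, ∃ b ∈ B, ρ b = t := by
    intro A B ρ hρ hA hB hAB t
    have hne' : Subgroup.map ρ B ≠ ⊥ := by
      intro h
      rw [Subgroup.map_eq_bot_iff, hρ] at h
      apply hAB
      have h' := Subgroup.relIndex_mul_index h
      rw [hA, hB] at h'
      exact (le_antisymm h (Subgroup.relIndex_eq_one.mp
        (Nat.eq_of_mul_eq_mul_right hp.pos (h'.trans (one_mul p).symm)))).symm
    haveI : Fact (Nat.card (Multiplicative (ZMod p))).Prime := ⟨by simpa using hp⟩
    have := (Subgroup.map ρ B).eq_bot_or_eq_top_of_prime_card.resolve_left hne'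
    obtain ⟨b, hb, rfl⟩ := (this ▸ Subgroup.mem_top t : t ∈ Subgroup.map ρ B)
    exact ⟨b, hb, rfl⟩
  have memH : ∀ x, x ∈ H ↔ χ x = 1 := fun x => by rw [← hχ]; rfl
  have memM : ∀ x, x ∈ M ↔ ψ x = 1 := fun x => by rw [← hψ]; rfl
  refine ⟨(χ * ψ).ker, ?_, ?_, fun x hx => ?_, fun x hx => ?_, fun h3 => ?_⟩
  · rw [Subgroup.index_ker]
    have hr : (χ * ψ).range = ⊤ := MonoidHom.range_eq_top.mpr fun t => by
      obtain ⟨b, hb, hbt⟩ := sur H M χ hχ hH hM hne t
      exact ⟨b, by rw [MonoidHom.mul_apply, hbt, (memM b).mp hb, mul_one]⟩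
    rw [hr, Subgroup.card_top]; simp
  · intro h
    obtain ⟨a, ha, hat⟩ := sur M H ψ hψ hM hH hne.symm (Multiplicative.ofAdd 1)
    have h' : a ∈ (χ * ψ).ker := h ▸ ha
    rw [MonoidHom.mem_ker, MonoidHom.mul_apply, (memH a).mp ha, one_mul, hat] at h'
    exact one_ne_zero (α := ZMod p) (by simpa using congrArg Multiplicative.toAdd h')
  · have h1 : χ x * ψ x = 1 := hx.1
    rw [(memM x).mp hx.2, mul_one] at h1
    exact (memH x).mpr h1
  · have h1 : χ x * ψ x = 1 := hx.1
    rw [(memH x).mp hx.2, one_mul] at h1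
    exact (memM x).mpr h1
  · obtain ⟨a, ha, hat⟩ := sur H M χ hχ hH hM hne (Multiplicative.ofAdd 1)
    obtain ⟨b, hb, hbt⟩ := sur M H ψ hψ hM hH hne.symm (Multiplicative.ofAdd 1)
    have e1 : χ (a * b) = Multiplicative.ofAdd 1 := by
      rw [map_mul, hat, (memH b).mp hb, mul_one]
    have e2 : ψ (a * b) = Multiplicative.ofAdd 1 := by
      rw [map_mul, hbt, (memM a).mp ha, one_mul]
    have n1 : Multiplicative.ofAdd (1 : ZMod p) ≠ 1 := fun h =>
      one_ne_zero (α := ZMod p) (by simpa using congrArg Multiplicative.toAdd h)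
    refine ⟨a * b, fun h => ?_, fun h => n1 (e1.symm.trans ((memH _).mp h)),
      fun h => n1 (e2.symm.trans ((memM _).mp h))⟩
    rw [MonoidHom.mem_ker, MonoidHom.mul_apply, e1, e2, ← ofAdd_add] at h
    have h2 : ((2 : ℕ) : ZMod p) = 0 := by
      have := congrArg Multiplicative.toAdd h
      push_cast
      rw [← one_add_one_eq_two]
      simpa using this
    rw [ZMod.natCast_eq_zero_iff] at h2
    have := Nat.le_of_dvd two_pos h2
    omega

/-- The subgroup of index `p` on which the induction continues. -/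
theorem choice (hG : IsPGroup p G) (hnc : ¬ IsCyclic G) {H K : Subgroup G} (hH : H.index = p)
    (hK : K ≤ H ∨ 3 ≤ K.index) :
    ∃ L : Subgroup G, L.index = p ∧ L ≠ H ∧ L ⊓ K ≤ H ∧ ∃ u, u ∉ L ∧ u ∉ H ∧ u ∉ K := by
  have hHtop : H ≠ ⊤ := fun h => (Fact.out : p.Prime).ne_one (by rw [← hH, h, Subgroup.index_top])
  by_cases hKH : K ≤ H
  · obtain ⟨g, hg, -⟩ := exists_outside_two hHtop hHtop
    obtain ⟨L, hgL, hL⟩ := exists_maximal hG (S := Subgroup.zpowers g) fun h =>
      hnc (isCyclic_iff_exists_zpowers_eq_top.mpr ⟨g, h⟩)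
    have hLtop : L ≠ ⊤ := fun h => (Fact.out : p.Prime).ne_one (by rw [← hL, h, Subgroup.index_top])
    obtain ⟨u, hu1, hu2⟩ := exists_outside_two hLtop hHtop
    exact ⟨L, hL, fun h => hg (h ▸ hgL (Subgroup.mem_zpowers g)), inf_le_right.trans hKH,
      u, hu1, hu2, fun h => hu2 (hKH h)⟩
  · have h3 := hK.resolve_left hKH
    obtain ⟨M, hKM, hM⟩ := exists_maximal hG (S := K) fun h => by
      rw [h, Subgroup.index_top] at h3; omega
    have hHM : H ≠ M := fun h => hKH (h ▸ hKM)
    obtain ⟨L, hL, hLH, hLM, -, h4⟩ := exists_third hG hH hM hHM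
    refine ⟨L, hL, hLH, (inf_le_inf_left L hKM).trans hLM, ?_⟩
    by_cases hKM' : K = M
    · obtain ⟨u, h⟩ := h4 (by rw [← hM, ← hKM']; exact h3)
      exact ⟨u, h.1, h.2.1, hKM' ▸ h.2.2⟩
    · obtain ⟨u, hu1, hu2⟩ := exists_outside_two (G := M) (A := K.subgroupOf M) (B := H.subgroupOf M)
        (fun h => hKM' (le_antisymm hKM (Subgroup.subgroupOf_eq_top.mp h)))
        (fun h => by
          obtain ⟨z, hz⟩ : ∃ z, z ∉ H ∧ z ∈ M := by
            by_contra h'
            push Not at h'
            have hle : M ≤ H := fun x hx => by by_contra hxH; exact h' x hxH hx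
            obtain ⟨v, hv⟩ : ∃ v, v ∈ H ∧ v ∉ M := by
              by_contra h''; push Not at h''; exact hHM (le_antisymm h'' hle)
            exact hHtop (eq_top_of_le_of_mem hM hle hv.1 hv.2)
          exact hz.1 (Subgroup.subgroupOf_eq_top.mp h hz.2))
      exact ⟨u, fun h => hu2 (hLM ⟨h, u.2⟩), hu2, hu1⟩

end Choice

theorem index_centralizer_coe [Finite G] {L : Subgroup G} (y : L) :
    (Subgroup.centralizer ({y} : Set L)).index =
      (Subgroup.centralizer ({(y : G)} : Set G)).relIndex L := by
  show _ = ((Subgroup.centralizer ({(y : G)} : Set G)).subgroupOf L).index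
  congr 1
  ext x
  simp [Subgroup.mem_subgroupOf, Subgroup.mem_centralizer_singleton_iff, Subtype.ext_iff]

theorem breadth_coe_le [Finite G] {L : Subgroup G} (y : L) :
    (Subgroup.centralizer ({y} : Set L)).index ≤
      (Subgroup.centralizer ({(y : G)} : Set G)).index := by
  rw [index_centralizer_coe]
  exact (Subgroup.relIndex_le_of_le_right le_top (by
    rw [Subgroup.relIndex_top_right]; exact Subgroup.index_ne_zero_of_finite)).trans
    (Subgroup.relIndex_top_right _).le

theorem breadth_drop [Finite G] [Fact p.Prime] {L : Subgroup G} (hL : L.index = p) (y : L)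
    (hy : Subgroup.centralizer ({(y : G)} : Set G) ≤ L) {b : ℕ}
    (hb : (Subgroup.centralizer ({(y : G)} : Set G)).index ≤ p ^ (b + 1)) :
    (Subgroup.centralizer ({y} : Set L)).index ≤ p ^ b := by
  rw [index_centralizer_coe]
  refine Nat.le_of_mul_le_mul_right ?_ (Fact.out : p.Prime).pos
  rw [← pow_succ]
  calc _ = (Subgroup.centralizer ({(y : G)} : Set G)).index := by
        rw [← Subgroup.relIndex_mul_index hy, hL]
    _ ≤ _ := hb

theorem subgroupOf_index [Finite G] [Fact p.Prime] (hG : IsPGroup p G) {H L : Subgroup G}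
    (hH : H.index = p) (hL : L.index = p) (hne : L ≠ H) : (H.subgroupOf L).index = p := by
  haveI := normal_of_index hG hH
  obtain ⟨x, hx, hxH⟩ : ∃ x, x ∈ L ∧ x ∉ H := by
    by_contra h
    push Not at h
    obtain ⟨v, hv⟩ : ∃ v, v ∈ H ∧ v ∉ L := by
      by_contra h''; push Not at h''; exact hne (le_antisymm (fun x hx => h x hx) h'')
    have hHt := eq_top_of_le_of_mem hL (fun x hx => h x hx) hv.1 hv.2
    rw [hHt, Subgroup.index_top] at hH
    exact (Fact.out : p.Prime).ne_one hH.symm
  have hsup : L ⊔ H = ⊤ := eq_top_of_le_of_mem hH le_sup_right (Subgroup.mem_sup_left hx) hxH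
  show H.relIndex L = p
  rw [← Subgroup.relIndex_sup_right, hsup, Subgroup.relIndex_top_right, hH]

/-- Breadth `b` outside two exceptional subgroups bounds the derived subgroup. -/
theorem card_commutator_le_aux [Fact p.Prime] : ∀ (n : ℕ) (G : Type u) [Group G] [Finite G],
    Nat.card G = n → IsPGroup p G → ∀ (H K : Subgroup G) (b : ℕ), H.index = p →
      (K ≤ H ∨ 3 ≤ K.index) →
      (∀ g, g ∉ H → g ∉ K → (Subgroup.centralizer ({g} : Set G)).index ≤ p ^ b) →
      Nat.card (commutator G) ≤ p ^ (b * (b + 1) / 2) := by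
  intro n
  induction n using Nat.strong_induction_on with
  | _ n ih =>
  intro G _ _ hn hG H K b hH hK hb
  have hp := (Fact.out : p.Prime)
  by_cases hcyc : IsCyclic G
  · haveI := hcyc
    have : commutator G = ⊥ := by
      letI : CommGroup G := IsCyclic.commGroup
      rw [commutator_def, Subgroup.commutator_eq_bot_iff_le_centralizer]
      exact fun x _ y _ => mul_comm y x
    rw [this, Subgroup.card_bot]
    exact Nat.one_le_pow _ _ hp.pos
  have small : ∀ {S : Subgroup G}, S.index = p → Nat.card S < n := by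
    intro S hS
    rw [← hn, ← S.card_mul_index, hS]
    exact lt_mul_of_one_lt_right Nat.card_pos hp.one_lt
  obtain ⟨L, hL, hLH, hLK, u, huL, huH, huK⟩ := choice hG hcyc hH hK
  have hLp : IsPGroup p L := hG.to_subgroup L
  have hgood : ∀ y : L, y ∉ H.subgroupOf L →
      (Subgroup.centralizer ({(y : G)} : Set G)).index ≤ p ^ b := fun y hy =>
    hb _ hy fun h => hy (hLK ⟨y.2, h⟩)
  have hD := subgroupOf_index hG hH hL hLH
  obtain ⟨J, hJ, hJy, hJu⟩ := step hG hL huL
  obtain ⟨j, hj⟩ := hLp.index J
  rcases Nat.eq_zero_or_pos j with rfl | hj0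
  · refine hJ.trans ?_
    rw [hj, pow_zero, mul_one]
    exact ih _ (small hL) L rfl hLp _ _ b hD (Or.inl le_rfl)
      fun y hy _ => (breadth_coe_le y).trans (hgood y hy)
  have hjb : j ≤ b := (Nat.pow_le_pow_iff_right hp.one_lt).mp (by
    rw [← hj]; exact hJu.trans (hb u huH huK))
  obtain ⟨c, rfl⟩ := Nat.exists_eq_add_of_le' (hj0.trans_le hjb)
  have hdrop : ∀ y : L, y ∉ H.subgroupOf L → y ∉ J →
      (Subgroup.centralizer ({y} : Set L)).index ≤ p ^ c := fun y hy hy' =>
    breadth_drop hL y (hJy y hy') (hgood y hy)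
  by_cases hgoodJ : J ≤ H.subgroupOf L ∨ 3 ≤ J.index
  · refine hJ.trans ?_
    rw [tri_succ, pow_add, hj]
    exact Nat.mul_le_mul (ih _ (small hL) L rfl hLp _ J c hD hgoodJ hdrop)
      (Nat.pow_le_pow_right hp.pos hjb)
  · push Not at hgoodJ
    obtain ⟨hJD, hJ2⟩ := hgoodJ
    have hJp : J.index = p := by
      have : p ^ j = p := by
        rcases Nat.lt_or_ge j 2 with h | h
        · rw [show j = 1 by omega, pow_one]
        · exfalso
          have h4 : p ^ 2 ≤ p ^ j := Nat.pow_le_pow_right hp.pos h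
          have := hp.two_le
          rw [hj] at hJ2
          nlinarith
      rw [hj, this]
    have hp2 : p = 2 := by have := hp.two_le; omega
    have hne : H.subgroupOf L ≠ J := fun h => hJD h.ge
    obtain ⟨M, hM, hMD, hMJ, hMDJ, -⟩ := exists_third hLp hD hJp hne
    have hMJ' : ∀ y : M, y ∉ (H.subgroupOf L).subgroupOf M → (y : L) ∉ J := fun y hy h =>
      hy (hMJ ⟨y.2, h⟩)
    obtain ⟨k, hkD, hkM⟩ : ∃ k : L, k ∉ H.subgroupOf L ∧ k ∉ M :=
      exists_outside_two (fun h => hp.ne_one (by rw [← hD, h, Subgroup.index_top]))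
        (fun h => hp.ne_one (by rw [← hM, h, Subgroup.index_top]))
    have hMp : IsPGroup p M := hLp.to_subgroup M
    have hE := subgroupOf_index hLp hD hM hMD
    have hlt : Nat.card M < n := by
      refine lt_trans ?_ (small hL)
      rw [← M.card_mul_index, hM]
      exact lt_mul_of_one_lt_right Nat.card_pos hp.one_lt
    obtain ⟨I, hI, hIy, hIk⟩ := step hLp hM hkM
    obtain ⟨i, hi⟩ := hMp.index I
    have hib : i ≤ c + 1 := (Nat.pow_le_pow_iff_right hp.one_lt).mp (by
      rw [← hi]; exact hIk.trans ((breadth_coe_le k).trans (hgood k hkD)))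
    have hL' : Nat.card (commutator L) * p ≤ p ^ ((c + 1) * (c + 1 + 1) / 2) := by
      rw [tri_succ]
      rcases Nat.lt_or_ge i 2 with hi2 | hi2
      · have hMc : Nat.card (commutator M) ≤ p ^ (c * (c + 1) / 2) :=
          ih _ hlt M rfl hMp _ _ c hE (Or.inl le_rfl)
            fun y hy _ => (breadth_coe_le y).trans (hdrop y hy (hMJ' y hy))
        have hIle : Nat.card (commutator L) ≤ p ^ (c * (c + 1) / 2 + i) := by
          refine hI.trans ?_
          rw [pow_add, hi]
          exact Nat.mul_le_mul_right _ hMc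
        rcases Nat.eq_zero_or_pos c with rfl | hc
        · rcases Nat.eq_zero_or_pos i with rfl | hi0
          · calc _ ≤ p ^ (0 * (0 + 1) / 2 + 0) * p := Nat.mul_le_mul_right _ hIle
              _ = _ := by simp
          · exfalso
            have hall : ∀ y : M, y ∉ (H.subgroupOf L).subgroupOf M → y ∈ I := by
              intro y hy
              by_contra hyI
              have h1 := hdrop y hy (hMJ' y hy)
              rw [pow_zero] at h1
              have htop : Subgroup.centralizer ({(y : L)} : Set L) = ⊤ :=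
                Subgroup.index_eq_one.mp (le_antisymm h1
                  (Nat.pos_of_ne_zero Subgroup.index_ne_zero_of_finite))
              exact hkM (hIy y hyI (htop ▸ Subgroup.mem_top k))
            have hIne : I ≠ ⊤ := fun h => by
              rw [h, Subgroup.index_top] at hi
              exact (Nat.one_lt_pow hi0.ne' hp.one_lt).ne hi
            obtain ⟨y, hy1, hy2⟩ := exists_outside_two hIne
              (fun h => hp.ne_one (by rw [← hE, h, Subgroup.index_top]) :
                (H.subgroupOf L).subgroupOf M ≠ ⊤)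
            exact hy1 (hall y hy2)
        · calc _ ≤ p ^ (c * (c + 1) / 2 + i) * p := Nat.mul_le_mul_right _ hIle
            _ = p ^ (c * (c + 1) / 2 + i + 1) := (pow_succ _ _).symm
            _ ≤ _ := Nat.pow_le_pow_right hp.pos (by omega)
      · obtain ⟨e, rfl⟩ : ∃ e, c = e + 1 := ⟨c - 1, by omega⟩
        have hMc : Nat.card (commutator M) ≤ p ^ (e * (e + 1) / 2) := by
          refine ih _ hlt M rfl hMp _ I e hE (Or.inr ?_) fun y hy hyI => ?_
          · rw [hi]
            have := Nat.pow_le_pow_right hp.pos hi2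
            have := hp.two_le
            nlinarith
          · refine breadth_drop hM y (hIy y hyI) ?_
            exact hdrop y hy (hMJ' y hy)
        rw [tri_succ]
        calc _ ≤ p ^ (e * (e + 1) / 2) * p ^ i * p := by
              refine Nat.mul_le_mul_right _ (hI.trans ?_)
              rw [hi]; exact Nat.mul_le_mul_right _ hMc
          _ = p ^ (e * (e + 1) / 2 + i + 1) := by rw [← pow_add, ← pow_succ]
          _ ≤ _ := Nat.pow_le_pow_right hp.pos (by omega)
    refine hJ.trans ?_
    rw [hJp]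
    exact hL'

/-- Vaughan-Lee's theorem. -/
theorem card_commutator_le [Finite G] [Fact p.Prime] (hG : IsPGroup p G) (b : ℕ)
    (hb : ∀ x : G, (Subgroup.centralizer ({x} : Set G)).index ≤ p ^ b) :
    Nat.card (commutator G) ≤ p ^ (b * (b + 1) / 2) := by
  rcases subsingleton_or_nontrivial G with hs | hs
  · exact le_trans (Nat.le_of_eq (Nat.card_unique)) (Nat.one_le_pow _ _ (Fact.out : p.Prime).pos)
  · obtain ⟨H, -, hH⟩ := exists_maximal hG (S := (⊥ : Subgroup G)) bot_ne_top
    exact card_commutator_le_aux _ G rfl hG H H b hH (Or.inl le_rfl) fun g _ _ => hb g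

end CfsgLib.PGroups.Breadth
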