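import Mathlib
import Cfsg.Agent.S0127
import Cfsg.Agent.Lib.Transfer.RankTwo
import Cfsg.Agent.Lib.PGroups.Breadth
import Cfsg.Agent.Lib.PGroups.ClassTwo
import Cfsg.Agent.Lib.PGroups.Omega
import Cfsg.Agent.Lib.OddLocal.Puig
import Cfsg.Prelude.Def_OddOrderLocal

/-!
# Small `Ω₁`: metacyclicity

* `isMetacyclic_of_cyclic_commutator`: cyclic derived group and `|Ω₁| ≤ p²` give metacyclic
* `isMetacyclic_of_central`: the elements of order `p` in a central subgroup of order at most `p²`
-/

set_option autoImplicit false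
set_option linter.all false

open scoped commutatorElement

namespace CfsgLib.PGroups.RankTwoOmega

open Subgroup

universe u

variable {G : Type u} [Group G] [Finite G] {p : ℕ} [Fact p.Prime]

/-- A normal subgroup of order at most `p` is central. -/
theorem le_center_of_card_le (hG : IsPGroup p G) {Z : Subgroup G} [Z.Normal]
    (hZ : Nat.card Z ≤ p) : Z ≤ center G := by
  by_cases h : Z = ⊥
  · rw [h]; exact bot_le
  obtain ⟨z, hz, hz1, hzc⟩ := OddLocal.exists_ne_one_mem_center hG h
  obtain ⟨k, hk⟩ := IsPGroup.iff_orderOf.mp hG z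
  have hle : zpowers z ≤ Z := zpowers_le.mpr hz
  have heq : zpowers z = Z := by
    refine eq_of_le_of_card_ge hle (hZ.trans ?_)
    rw [Nat.card_zpowers, hk]
    refine Nat.le_self_pow ?_ p
    rintro rfl
    rw [pow_zero, orderOf_eq_one_iff] at hk
    exact hz1 hk
  rw [← heq, zpowers_le]
  exact hzc

/-- Cyclic derived group and `Ω₁` of order at most `p²`. -/
theorem isMetacyclic_of_cyclic_commutator (hp2 : p ≠ 2) (hR : IsPGroup p G)
    (hR' : IsCyclic (commutator G)) {O : Subgroup G} (hO : Nat.card O ≤ p ^ 2)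
    (hOmem : ∀ x : G, x ^ p = 1 → x ∈ O) : Cfsg.IsMetacyclic G := by
  classical
  have hp' := (Fact.out : p.Prime)
  obtain ⟨N, ⟨hNc, hRN⟩, hmax⟩ := Set.exists_max_image
    {N : Subgroup G | IsCyclic N ∧ _root_.commutator G ≤ N} (fun N => Nat.card N) (Set.toFinite _)
    ⟨_root_.commutator G, hR', le_rfl⟩
  have hN : N.Normal := by
    refine ⟨fun x hx g => ?_⟩
    rw [show g * x * g⁻¹ = ⁅g, x⁆ * x by rw [commutatorElement_def]; group]
    exact N.mul_mem (hRN (commutator_mem_commutator (mem_top g) (mem_top x))) hx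
  haveI := hN
  haveI := hNc
  refine ⟨N, hN, hNc, ?_⟩
  by_cases hbot : N = ⊥
  · by_contra hnc
    have hRbot : ∀ x : G, x = 1 := fun x => by
      have hRN' : _root_.commutator G ≤ zpowers x := (hRN.trans hbot.le).trans bot_le
      have h1 := hmax (zpowers x) ⟨inferInstance, hRN'⟩
      rw [hbot, card_bot, Nat.card_zpowers] at h1
      exact orderOf_eq_one_iff.1 (le_antisymm h1 (orderOf_pos x))
    haveI : Subsingleton (G ⧸ N) := ⟨fun x y => by
      obtain ⟨x, rfl⟩ := QuotientGroup.mk_surjective x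
      obtain ⟨y, rfl⟩ := QuotientGroup.mk_surjective y
      rw [hRbot x, hRbot y]⟩
    exact hnc isCyclic_of_subsingleton
  set π := QuotientGroup.mk' N with hπdef
  have himg : Nat.card (O.map π) ≤ p := by
    have h1 := relIndex_mul_relIndex ⊥ (N ⊓ O) O bot_le inf_le_right
    rw [relIndex_bot_left, relIndex_bot_left, inf_relIndex_right] at h1
    have h2 := relIndex_ker O π
    rw [hπdef, QuotientGroup.ker_mk'] at h2
    rw [h2] at h1
    have h3 : p ≤ Nat.card (N ⊓ O : Subgroup G) := by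
      have hdvd : p ∣ Nat.card N := by
        rcases (hR.to_subgroup N).card_eq_or_dvd with h | h
        · exact absurd (card_eq_one.1 h) hbot
        · exact h
      obtain ⟨z, hz⟩ := exists_prime_orderOf_dvd_card' p hdvd
      rw [← Subgroup.orderOf_coe] at hz
      have hzO : zpowers (z : G) ≤ N ⊓ O := zpowers_le.2
        ⟨z.2, hOmem _ (by rw [← hz, pow_orderOf_eq_one])⟩
      have := card_le_of_le hzO
      rwa [Nat.card_zpowers, hz] at this
    have h4 := Nat.mul_le_mul_right (Nat.card (O.map π)) h3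
    rw [h1] at h4
    exact Nat.le_of_mul_le_mul_left ((h4.trans hO).trans (pow_two p).le) hp'.pos
  have hall : ∀ x : G ⧸ N, x ^ p = 1 → x ∈ O.map π := by
    intro x0 hx0
    obtain ⟨x, rfl⟩ := QuotientGroup.mk_surjective x0
    rw [← QuotientGroup.mk_pow, QuotientGroup.eq_one_iff] at hx0
    by_cases hxN : x ∈ N
    · rw [(QuotientGroup.eq_one_iff x).2 hxN]
      exact one_mem _
    set H := N ⊔ zpowers x with hH
    have hNπ : N.map π = ⊥ := (N.map_eq_bot_iff).2 (QuotientGroup.ker_mk' N).ge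
    have hHπ : H.map π = zpowers (π x) := by
      rw [hH, Subgroup.map_sup, hNπ, bot_sup_eq, MonoidHom.map_zpowers]
    have hidx : (N.subgroupOf H).index = p := by
      rw [show (N.subgroupOf H).index = N.relIndex H from rfl]
      have h2 := relIndex_ker H π
      rw [hπdef, QuotientGroup.ker_mk'] at h2
      rw [h2]
      show Nat.card (H.map π) = p
      rw [hHπ, Nat.card_zpowers]
      refine orderOf_eq_prime ?_ fun h => hxN ((QuotientGroup.eq_one_iff x).1 h)
      rw [← map_pow]
      exact (QuotientGroup.eq_one_iff _).2 hx0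
    have hHnc : ¬ IsCyclic H := fun hHc => by
      have h1 := hmax H ⟨hHc, hRN.trans le_sup_left⟩
      exact hxN ((eq_of_le_of_card_ge le_sup_left h1).ge (mem_sup_right (mem_zpowers x)))
    haveI : IsCyclic (N.subgroupOf H) :=
      isCyclic_of_surjective (subgroupOfEquivOfLe (le_sup_left : N ≤ H)).symm
        (subgroupOfEquivOfLe (le_sup_left : N ≤ H)).symm.surjective
    obtain ⟨hT, hTc⟩ := Cfsg.Agent.S0127.result hp2 (hR.to_subgroup H) hHnc _ inferInstance hidx
    obtain ⟨y, hyT, hyN⟩ : ∃ y ∈ Subgroup.closure {z : H | z ^ p = 1}, y ∉ N.subgroupOf H := by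
      by_contra hc
      push Not at hc
      obtain ⟨g, hg⟩ := (Subgroup.isCyclic_of_le hc).exists_generator
      have h5 : orderOf g ≤ p := orderOf_le_of_pow_eq_one hp'.pos (Subtype.ext (hT.2 g g.2))
      rw [orderOf_eq_card_of_forall_mem_zpowers hg, hTc, pow_two] at h5
      nlinarith [hp'.two_le]
    have hyp : (y : G) ^ p = 1 := congrArg Subtype.val (hT.2 y hyT)
    have hyO : π (y : G) ∈ O.map π := mem_map_of_mem π (hOmem _ hyp)
    have hy1 : π (y : G) ∈ zpowers (π x) := by
      have := mem_map_of_mem π y.2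
      rwa [hHπ] at this
    have hyne : π (y : G) ≠ 1 := fun h => hyN ((QuotientGroup.eq_one_iff (y : G)).1 h)
    have hxe : zpowers (π (y : G)) = zpowers (π x) := eq_of_le_of_card_ge (zpowers_le.2 hy1) (by
      rw [Nat.card_zpowers, Nat.card_zpowers,
        orderOf_eq_prime (by rw [← map_pow, hyp, map_one]) hyne]
      exact orderOf_le_of_pow_eq_one hp'.pos (by
        rw [← map_pow]; exact (QuotientGroup.eq_one_iff _).2 hx0))
    exact zpowers_le.2 hyO (hxe.ge (mem_zpowers (π x)))
  refine CfsgLib.Transfer.isCyclic_of_unique_order_p hp2 (hR.to_quotient N) fun u v hu hu1 hv => ?_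
  have heq : zpowers u = O.map π := eq_of_le_of_card_ge (zpowers_le.2 (hall u hu)) (by
    rw [Nat.card_zpowers, orderOf_eq_prime hu hu1]; exact himg)
  rw [heq]
  exact hall v hv

/-- A group generated by `n`, `b` and `E` with derived group in `⟨w⟩`. -/
theorem commutator_le_zpowers {n b w : G} {E : Subgroup G}
    (hgen : closure ({n, b} ∪ (E : Set G)) = ⊤) (hE : ∀ x ∈ E, ∀ y ∈ E, x * y = y * x)
    (hnb : ⁅b, n⁆ ∈ zpowers w) (hwn : n * w * n⁻¹ ∈ zpowers w) (hwb : b * w * b⁻¹ ∈ zpowers w)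
    (hwE : ∀ e ∈ E, e * w * e⁻¹ ∈ zpowers w) (hnE : ∀ e ∈ E, ⁅n, e⁆ ∈ zpowers w)
    (hbE : ∀ e ∈ E, ⁅b, e⁆ ∈ zpowers w) : commutator G ≤ zpowers w := by
  have hgens : ∀ s ∈ ({n, b} ∪ (E : Set G)), s * w * s⁻¹ ∈ zpowers w := by
    rintro s ((rfl | rfl) | hs)
    · exact hwn
    · exact hwb
    · exact hwE s hs
  haveI : (zpowers w).Normal := by
    rw [← normalizer_eq_top_iff, eq_top_iff, ← hgen, closure_le]
    intro s hs
    have hmap : (zpowers w).map (MulAut.conj s).toMonoidHom = zpowers w := by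
      refine eq_of_le_of_card_ge ?_ (by rw [card_map_of_injective (MulAut.conj s).injective])
      rw [MonoidHom.map_zpowers, zpowers_le]
      exact hgens s hs
    refine mem_normalizer_iff.mpr fun x => ⟨fun hx => hmap.le (mem_map_of_mem _ hx), fun hx => ?_⟩
    obtain ⟨y, hy, hyx⟩ := hmap.ge hx
    have : y = x := (MulAut.conj s).injective hyx
    exact this ▸ hy
  set π := QuotientGroup.mk' (zpowers w)
  have hc : ∀ s ∈ ({n, b} ∪ (E : Set G)), ∀ t ∈ ({n, b} ∪ (E : Set G)), Commute (π s) (π t) := by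
    have k : ∀ {s t : G}, ⁅s, t⁆ ∈ zpowers w → Commute (π s) (π t) := fun {s t} h => by
      refine commutatorElement_eq_one_iff_commute.mp ?_
      rw [← map_commutatorElement]; exact (QuotientGroup.eq_one_iff _).mpr h
    have hone : ∀ s, ⁅s, s⁆ ∈ zpowers w := fun s => by rw [commutatorElement_self]; exact one_mem _
    rintro s ((rfl | rfl) | hs) t ((rfl | rfl) | ht)
    · exact k (hone _)
    · exact (k hnb).symm
    · exact k (hnE t ht)
    · exact k hnb
    · exact k (hone _)
    · exact k (hbE t ht)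
    · exact (k (hnE s hs)).symm
    · exact (k (hbE s hs)).symm
    · exact (hE s hs t ht ▸ rfl : s * t = t * s) |> fun h => by
        show π s * π t = π t * π s
        rw [← map_mul, ← map_mul, hE s hs t ht]
  rw [commutator_def, Subgroup.commutator_le]
  intro x _ y _
  refine (QuotientGroup.eq_one_iff _).mp ?_
  show π ⁅x, y⁆ = 1
  rw [map_commutatorElement, commutatorElement_eq_one_iff_commute]
  have h1 : ∀ s ∈ ({n, b} ∪ (E : Set G)), closure ({n, b} ∪ (E : Set G)) ≤
      (centralizer ({π s} : Set _)).comap π := fun s hs => (closure_le _).mpr fun t ht =>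
    mem_centralizer_singleton_iff.mpr (hc t ht s hs).eq
  have h2 : closure ({n, b} ∪ (E : Set G)) ≤ (centralizer ({π y} : Set _)).comap π :=
    (closure_le _).mpr fun s hs => mem_centralizer_singleton_iff.mpr
      (mem_centralizer_singleton_iff.mp (h1 s hs (hgen.ge (mem_top y)))).symm
  exact mem_centralizer_singleton_iff.mp (h2 (hgen.ge (mem_top x)))

/-- Lifting generators of a metacyclic quotient. -/
theorem exists_gens {E : Subgroup G} [E.Normal] (h : Cfsg.IsMetacyclic (G ⧸ E)) :
    ∃ (n b : G) (r : ℤ), closure ({n, b} ∪ (E : Set G)) = ⊤ ∧ (n ^ r)⁻¹ * (b * n * b⁻¹) ∈ E ∧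
      (zpowers (QuotientGroup.mk' E n)).Normal := by
  obtain ⟨N, hNn, hNc, hQc⟩ := h
  obtain ⟨⟨n0, hn0⟩, hn0g⟩ := hNc.exists_generator
  obtain ⟨b0, hb0g⟩ := hQc.exists_generator
  obtain ⟨n, rfl⟩ := QuotientGroup.mk'_surjective E n0
  obtain ⟨b1, rfl⟩ := QuotientGroup.mk'_surjective N b0
  obtain ⟨b, rfl⟩ := QuotientGroup.mk'_surjective E b1
  have hNz : zpowers (QuotientGroup.mk' E n) = N := by
    refine le_antisymm (zpowers_le.mpr hn0) fun x hx => ?_
    obtain ⟨i, hi⟩ := mem_zpowers_iff.mp (hn0g ⟨x, hx⟩)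
    exact mem_zpowers_iff.mpr ⟨i, congrArg Subtype.val hi⟩
  obtain ⟨r, hr⟩ := mem_zpowers_iff.mp (hNz.ge (hNn.conj_mem _ hn0 (QuotientGroup.mk' E b)))
  refine ⟨n, b, r, ?_, ?_, hNz ▸ hNn⟩
  · rw [eq_top_iff]
    intro g _
    obtain ⟨i, hi⟩ := mem_zpowers_iff.mp (hb0g (QuotientGroup.mk' N (QuotientGroup.mk' E g)))
    have h1 : (QuotientGroup.mk' E b ^ i)⁻¹ * QuotientGroup.mk' E g ∈ N := by
      rw [← QuotientGroup.eq_one_iff, ← QuotientGroup.mk'_apply, map_mul, map_inv, map_zpow, hi,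
        inv_mul_cancel]
    obtain ⟨j, hj⟩ := mem_zpowers_iff.mp (hNz.ge h1)
    have h2 : (b ^ i * n ^ j)⁻¹ * g ∈ E := by
      rw [← QuotientGroup.eq_one_iff, ← QuotientGroup.mk'_apply, map_mul, map_inv, map_mul,
        map_zpow, map_zpow, hj, mul_inv_cancel_left, inv_mul_cancel]
    have e : g = b ^ i * n ^ j * ((b ^ i * n ^ j)⁻¹ * g) := by group
    rw [e]
    exact mul_mem (mul_mem (zpow_mem (subset_closure (by simp)) i) (zpow_mem (subset_closure (by simp)) j))
      (subset_closure (Or.inr h2))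
  · rw [← QuotientGroup.eq_one_iff, ← QuotientGroup.mk'_apply, map_mul, map_inv, map_zpow, hr,
      map_mul, map_mul, map_inv, inv_mul_cancel]

theorem pow_mul_of_central (hp2 : p ≠ 2) {x y : G} (h : ⁅y, x⁆ ∈ center G) (hc : ⁅y, x⁆ ^ p = 1) :
    (x * y) ^ p = x ^ p * y ^ p :=
  mul_pow_of_central_odd h ((Fact.out : p.Prime).odd_of_ne_two hp2) hc

section Central

/-- Commutators of elements whose `p`-th powers are in `E` lie in `E`. -/
theorem commutator_mem_aux (hp2 : p ≠ 2) : ∀ (n : ℕ) (G : Type u) [Group G] [Finite G],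
    Nat.card G = n → IsPGroup p G → ∀ E : Subgroup G, E ≤ center G → (∀ e ∈ E, e ^ p = 1) →
      (∀ x : G, x ^ p = 1 → x ∈ E) → ∀ x c : G, x ^ p ∈ E → ⁅c, x⁆ ∈ E := by
  intro n
  induction n using Nat.strong_induction_on with
  | _ n ih =>
  intro G _ _ hn hG E hEc hexp hΩ x c hx
  by_cases htop : zpowers x = ⊤
  · obtain ⟨i, rfl⟩ := mem_zpowers_iff.mp (htop.ge (mem_top c))
    rw [commutatorElement_eq_one_iff_commute.mpr ((Commute.refl x).zpow_left i)]
    exact one_mem E
  obtain ⟨M, hxM, hM⟩ := Breadth.exists_maximal hG htop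
  haveI := Breadth.normal_of_index hG hM
  have hlt : Nat.card M < n := by
    rw [← hn, ← M.card_mul_index, hM]
    exact lt_mul_of_one_lt_right Nat.card_pos (Fact.out : p.Prime).one_lt
  have hx' : c * x * c⁻¹ ∈ M := ‹M.Normal›.conj_mem x (hxM (mem_zpowers x)) c
  have hpow : (c * x * c⁻¹) ^ p = x ^ p := by
    rw [conj_pow, mem_center_iff.mp (hEc hx) c, mul_inv_cancel_right]
  have hcomm := ih _ hlt M rfl (hG.to_subgroup M) (E.subgroupOf M)
    (fun e he => mem_center_iff.mpr fun g => Subtype.ext (mem_center_iff.mp (hEc he) g))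
    (fun e he => Subtype.ext (hexp _ he))
    (fun e he => hΩ _ (congrArg Subtype.val he))
    ⟨x, hxM (mem_zpowers x)⟩ ⟨c * x * c⁻¹, hx'⟩ hx
  have hcomm' : ⁅c * x * c⁻¹, x⁆ ∈ E := hcomm
  have hcomm2 : ⁅x⁻¹, c * x * c⁻¹⁆ ∈ E := by
    have hc' : ⁅x, c * x * c⁻¹⁆ ∈ E := by
      rw [← commutatorElement_inv]; exact inv_mem hcomm'
    rw [comm_inv_left_of_central (hEc hc')]
    exact inv_mem hc'
  refine hΩ _ ?_
  rw [show ⁅c, x⁆ = c * x * c⁻¹ * x⁻¹ from rfl,
    pow_mul_of_central hp2 (hEc hcomm2) (hexp _ hcomm2), hpow, inv_pow, mul_inv_cancel]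

theorem commutator_mem (hp2 : p ≠ 2) (hG : IsPGroup p G) {E : Subgroup G} (hEc : E ≤ center G)
    (hexp : ∀ e ∈ E, e ^ p = 1) (hΩ : ∀ x : G, x ^ p = 1 → x ∈ E) {x : G} (c : G)
    (hx : x ^ p ∈ E) : ⁅c, x⁆ ∈ E :=
  commutator_mem_aux hp2 _ G rfl hG E hEc hexp hΩ x c hx

/-- The next term. -/
def next (hp2 : p ≠ 2) (hG : IsPGroup p G) {E : Subgroup G} (hEc : E ≤ center G)
    (hexp : ∀ e ∈ E, e ^ p = 1) (hΩ : ∀ x : G, x ^ p = 1 → x ∈ E) : Subgroup G where
  carrier := {x | x ^ p ∈ E}
  one_mem' := by show (1 : G) ^ p ∈ E; rw [one_pow]; exact one_mem E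
  inv_mem' := fun {x} hx => by show x⁻¹ ^ p ∈ E; rw [inv_pow]; exact inv_mem hx
  mul_mem' := fun {x y} hx hy => by
    show (x * y) ^ p ∈ E
    have h := commutator_mem hp2 hG hEc hexp hΩ y hx
    rw [pow_mul_of_central hp2 (hEc h) (hexp _ h)]
    exact mul_mem hx hy

/-- The commutator subgroup is cyclic and the group metacyclic. -/
theorem metacyclic_aux (hp2 : p ≠ 2) : ∀ (n : ℕ) (G : Type u) [Group G] [Finite G],
    Nat.card G = n → IsPGroup p G → ∀ E : Subgroup G, E ≤ center G → (∀ e ∈ E, e ^ p = 1) →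
      (∀ x : G, x ^ p = 1 → x ∈ E) → Nat.card E ≤ p ^ 2 →
      IsCyclic (commutator G) ∧ Cfsg.IsMetacyclic G := by
  intro n
  induction n using Nat.strong_induction_on with
  | _ n ih =>
  intro G _ _ hn hG E hEc hexp hΩ hcard
  suffices h : IsCyclic (commutator G) from
    ⟨h, isMetacyclic_of_cyclic_commutator hp2 hG h hcard hΩ⟩
  by_cases hE : E = ⊥
  · haveI : Subsingleton G := by
      by_contra hns
      haveI := not_subsingleton_iff_nontrivial.mp hns
      have hd : p ∣ Nat.card G := hG.card_eq_or_dvd.resolve_left Finite.one_lt_card.ne'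
      obtain ⟨z, hz⟩ := exists_prime_orderOf_dvd_card' p hd
      have := hΩ z (hz ▸ pow_orderOf_eq_one z)
      rw [hE, mem_bot] at this
      rw [this, orderOf_one] at hz
      exact (Fact.out : p.Prime).ne_one hz.symm
    exact isCyclic_of_subsingleton
  haveI : E.Normal := ⟨fun e he g => by rwa [mem_center_iff.mp (hEc he) g, mul_inv_cancel_right]⟩
  set A := next hp2 hG hEc hexp hΩ with hA
  set π := QuotientGroup.mk' E with hπ
  have hEA : E ≤ A := fun e he => by show e ^ p ∈ E; exact pow_mem he p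
  have hlt : Nat.card (G ⧸ E) < n := by
    rw [← hn, ← E.card_mul_index, ← Subgroup.index_eq_card]
    exact lt_mul_of_one_lt_left (Nat.pos_of_ne_zero index_ne_zero_of_finite)
      ((one_lt_card_iff_ne_bot E).mpr hE)
  have hcardA : Nat.card (A.map π) ≤ p ^ 2 := by
    let ψ : A →* E := MonoidHom.mk' (fun x => ⟨(x : G) ^ p, x.2⟩) fun x y => Subtype.ext (by
      show ((x : G) * y) ^ p = (x : G) ^ p * (y : G) ^ p
      have h := commutator_mem hp2 hG hEc hexp hΩ (y : G) x.2
      exact pow_mul_of_central hp2 (hEc h) (hexp _ h))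
    let ρ : A →* G ⧸ E := π.comp A.subtype
    have hk : ρ.ker = ψ.ker := by
      ext x
      rw [MonoidHom.mem_ker, MonoidHom.mem_ker]
      constructor
      · intro h; exact Subtype.ext (hexp _ ((QuotientGroup.eq_one_iff _).mp h))
      · intro h; exact (QuotientGroup.eq_one_iff _).mpr (hΩ _ (congrArg Subtype.val h))
    have hr : ρ.range = A.map π := by rw [MonoidHom.range_comp, range_subtype]
    rw [← hr, ← Subgroup.index_ker, hk, Subgroup.index_ker]
    exact (Subgroup.card_le_card_group _).trans hcard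
  obtain ⟨-, hQ⟩ := ih _ hlt (G ⧸ E) rfl (hG.to_quotient E) (A.map π)
    (by
      rintro _ ⟨x, hx, rfl⟩
      refine mem_center_iff.mpr fun g => ?_
      obtain ⟨g, rfl⟩ := QuotientGroup.mk'_surjective E g
      refine (commutatorElement_eq_one_iff_commute.mp ?_).eq
      rw [← map_commutatorElement]
      exact (QuotientGroup.eq_one_iff _).mpr (commutator_mem hp2 hG hEc hexp hΩ g hx))
    (by
      rintro _ ⟨x, hx, rfl⟩
      rw [← map_pow]
      exact (QuotientGroup.eq_one_iff _).mpr hx)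
    (by
      intro z hz
      obtain ⟨x, rfl⟩ := QuotientGroup.mk'_surjective E z
      rw [← map_pow] at hz
      exact mem_map_of_mem π (show x ∈ A from (QuotientGroup.eq_one_iff (x ^ p)).mp hz))
    hcardA
  obtain ⟨n, b, r, hgen, hre, -⟩ := exists_gens hQ
  set e := (n ^ r)⁻¹ * (b * n * b⁻¹) with he
  have hb : b * n * b⁻¹ = n ^ r * e := by rw [he, mul_inv_cancel_left]
  have hec : ∀ g : G, Commute g e := fun g => mem_center_iff.mp (hEc hre) g
  have hw : ⁅b, n⁆ = n ^ (r - 1) * e := by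
    rw [commutatorElement_def, hb, mul_assoc, ← (hec n⁻¹).eq, ← mul_assoc, zpow_sub, zpow_one]
  have hcyc : commutator G ≤ zpowers ⁅b, n⁆ := by
    refine commutator_le_zpowers hgen (fun x hx y _ => (mem_center_iff.mp (hEc hx) y).symm)
      (mem_zpowers _) ?_ ?_ ?_ ?_ ?_
    · have h1 : Commute n ⁅b, n⁆ := by rw [hw]; exact ((Commute.refl n).zpow_right _).mul_right (hec n)
      rw [h1.eq, mul_inv_cancel_right]; exact mem_zpowers _
    · have h1 : b * ⁅b, n⁆ * b⁻¹ = ⁅b, n⁆ ^ r := by
        rw [hw]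
        calc b * (n ^ (r - 1) * e) * b⁻¹ = (b * n * b⁻¹) ^ (r - 1) * (b * e * b⁻¹) := by
              rw [conj_zpow]; group
          _ = (n ^ r) ^ (r - 1) * e ^ (r - 1) * e := by
              rw [hb, (hec b).eq, mul_inv_cancel_right, (hec (n ^ r)).mul_zpow]
          _ = (n ^ (r - 1) * e) ^ r := by
              rw [(hec (n ^ (r - 1))).mul_zpow, ← zpow_mul, ← zpow_mul, mul_comm r, mul_assoc,
                ← zpow_add_one, sub_add_cancel]
      rw [h1]; exact zpow_mem (mem_zpowers _) r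
    · intro x hx
      rw [← mem_center_iff.mp (hEc hx), mul_inv_cancel_right]; exact mem_zpowers _
    · intro x hx
      rw [commutatorElement_eq_one_iff_commute.mpr (mem_center_iff.mp (hEc hx) n)]; exact one_mem _
    · intro x hx
      rw [commutatorElement_eq_one_iff_commute.mpr (mem_center_iff.mp (hEc hx) b)]; exact one_mem _
  exact Subgroup.isCyclic_of_le hcyc

theorem isMetacyclic_of_central (hp2 : p ≠ 2) (hG : IsPGroup p G) {E : Subgroup G}
    (hEc : E ≤ center G) (hexp : ∀ e ∈ E, e ^ p = 1) (hΩ : ∀ x : G, x ^ p = 1 → x ∈ E)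
    (hcard : Nat.card E ≤ p ^ 2) : IsCyclic (commutator G) ∧ Cfsg.IsMetacyclic G :=
  metacyclic_aux hp2 _ G rfl hG E hEc hexp hΩ hcard

end Central

/-- In a cyclic group, of two elements one is a power of the other, or a power of its `p`-th power. -/
theorem mem_zpowers_or {D : Subgroup G} [IsCyclic D] (hG : IsPGroup p G) {x y : G} (hx : x ∈ D)
    (hy : y ∈ D) : x ∈ zpowers y ∨ y ∈ zpowers (x ^ p) := by
  have key : ∀ {s t : G}, s ∈ D → t ∈ D → orderOf s ∣ orderOf t → s ∈ zpowers t := by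
    intro s t hs ht hd
    classical
    haveI : Fintype D := Fintype.ofFinite D
    haveI : Fintype (zpowers t) := Fintype.ofFinite _
    by_contra hne
    have hle := IsCyclic.card_pow_eq_one_le (α := D) (orderOf_pos t)
    have hsub : insert (⟨s, hs⟩ : D) ((Finset.univ : Finset (zpowers t)).image
        (fun z : zpowers t => (⟨(z : G), zpowers_le.mpr ht z.2⟩ : D))) ⊆
        Finset.univ.filter (fun a : D => a ^ orderOf t = 1) := by
      intro a ha
      rw [Finset.mem_filter]
      refine ⟨Finset.mem_univ _, Subtype.ext ?_⟩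
      rcases Finset.mem_insert.mp ha with rfl | ha
      · exact orderOf_dvd_iff_pow_eq_one.mp hd
      · obtain ⟨z, -, rfl⟩ := Finset.mem_image.mp ha
        obtain ⟨i, hi⟩ := mem_zpowers_iff.mp z.2
        show (z : G) ^ orderOf t = 1
        rw [← hi, ← zpow_natCast, ← zpow_mul, mul_comm, zpow_mul, zpow_natCast, pow_orderOf_eq_one,
          one_zpow]
    have h1 := (Finset.card_le_card hsub).trans hle
    rw [Finset.card_insert_of_notMem, Finset.card_image_of_injective, Finset.card_univ,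
      ← Nat.card_eq_fintype_card, Nat.card_zpowers] at h1
    · omega
    · exact fun a b hab => Subtype.ext (congrArg Subtype.val hab :)
    · intro hm
      obtain ⟨z, -, hz⟩ := Finset.mem_image.mp hm
      have : (z : G) = s := congrArg Subtype.val hz
      exact hne (this ▸ z.2)
  obtain ⟨i, hi⟩ := IsPGroup.iff_orderOf.mp hG x
  obtain ⟨j, hj⟩ := IsPGroup.iff_orderOf.mp hG y
  rcases Nat.lt_or_ge j i with h | h
  · refine Or.inr (key hy (pow_mem hx p) ?_)
    rw [hj, orderOf_pow' x (Fact.out : p.Prime).ne_zero, hi,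
      Nat.gcd_eq_right (dvd_pow_self p (by omega : i ≠ 0))]
    obtain ⟨i, rfl⟩ : ∃ k, i = k + 1 := ⟨i - 1, by omega⟩
    rw [pow_succ, Nat.mul_div_cancel _ (Fact.out : p.Prime).pos]
    exact pow_dvd_pow p (by omega)
  · exact Or.inl (key hx hy (by rw [hi, hj]; exact pow_dvd_pow p h))

end CfsgLib.PGroups.RankTwoOmega
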