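import Cfsg.Agent.Lib.PLocal.PSolvable
import Cfsg.Agent.Lib.Components.FStar
import Cfsg.Agent.Lib.Fusion.PSolvableModel

/-!
# Hall `{p,q}`-subgroups of `p`-solvable groups, and `p`-solvable extensions
-/

set_option autoImplicit false

namespace CfsgLib.PGroups.Automizer

open Subgroup Cfsg

universe u

variable {p q : ℕ} [hp : Fact p.Prime] [hq : Fact q.Prime]

/-- the `{p,q}`-part of a natural number -/
def twoPart (p q n : ℕ) : ℕ := p ^ n.factorization p * q ^ n.factorization q

omit hp hq in
theorem twoPart_mul (p q : ℕ) {a b : ℕ} (ha : a ≠ 0) (hb : b ≠ 0) :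
    twoPart p q (a * b) = twoPart p q a * twoPart p q b := by
  simp only [twoPart, Nat.factorization_mul ha hb, Finsupp.add_apply, pow_add]
  ring

omit hp hq in
theorem twoPart_eq_one {n : ℕ} (h1 : ¬ p ∣ n) (h2 : ¬ q ∣ n) : twoPart p q n = 1 := by
  simp [twoPart, Nat.factorization_eq_zero_of_not_dvd h1, Nat.factorization_eq_zero_of_not_dvd h2]

theorem twoPart_self (hpq : p ≠ q) (a b : ℕ) : twoPart p q (p ^ a * q ^ b) = p ^ a * q ^ b := by
  have hp0 := hp.out.ne_zero
  have hq0 := hq.out.ne_zero
  rw [twoPart, Nat.factorization_mul (pow_ne_zero _ hp0) (pow_ne_zero _ hq0),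
    hp.out.factorization_pow, hq.out.factorization_pow]
  simp [Finsupp.single_apply, hpq, hpq.symm]

/-- Lifting a `{p,q}`-Hall subgroup through a normal `{p,q}`-subgroup. -/
theorem lift_hall {G : Type u} [Group G] [Finite G] (N : Subgroup G) [N.Normal]
    (hN : twoPart p q (Nat.card N) = Nat.card N) (L : Subgroup (G ⧸ N))
    (hL : Nat.card L = twoPart p q (Nat.card (G ⧸ N))) :
    Nat.card (L.comap (QuotientGroup.mk' N)) = twoPart p q (Nat.card G) := by
  rw [Subgroup.card_eq_card_quotient_mul_card_subgroup N,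
    twoPart_mul p q Nat.card_pos.ne' Nat.card_pos.ne', hN, ← hL]
  have h := card_comap_mul (QuotientGroup.mk' N) (QuotientGroup.mk'_surjective N) L
  rw [QuotientGroup.ker_mk'] at h
  exact h
where
  card_comap_mul {G H : Type u} [Group G] [Group H] (f : G →* H) (hf : Function.Surjective f)
      (L : Subgroup H) : Nat.card (L.comap f) = Nat.card L * Nat.card f.ker := by
    have h1 := relIndex_comap (f := f) (⊥ : Subgroup H) (L.comap f)
    rw [MonoidHom.comap_bot, map_comap_eq_self_of_surjective hf, relIndex_bot_left] at h1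
    rw [← h1, ← relIndex_bot_left (L.comap f), ← relIndex_mul_relIndex ⊥ f.ker (L.comap f) bot_le
      (ker_le_comap f L), relIndex_bot_left, mul_comm]

/-- A `p`-solvable group has a Hall `{p,q}`-subgroup. -/
theorem exists_hall (hpq : p ≠ q) : ∀ (n : ℕ) (G : Type u) [Group G] [Finite G],
    Nat.card G = n → IsPSolvable p G →
    ∃ L : Subgroup G, Nat.card L = twoPart p q (Nat.card G) := by
  intro n
  induction n using Nat.strong_induction_on with
  | _ n ih =>
  intro G _ _ hn hsol
  by_cases htriv : Nat.card G = 1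
  · exact ⟨⊥, by rw [card_bot, htriv]; simp [twoPart]⟩
  have hquot : ∀ N : Subgroup G, N.Normal → N ≠ ⊥ →
      twoPart p q (Nat.card N) = Nat.card N →
      ∃ L : Subgroup G, Nat.card L = twoPart p q (Nat.card G) := by
    intro N _ hne hN
    have hlt : Nat.card (G ⧸ N) < n := by
      rw [← hn, Subgroup.card_eq_card_quotient_mul_card_subgroup N]
      exact lt_mul_of_one_lt_right Nat.card_pos ((Subgroup.one_lt_card_iff_ne_bot N).2 hne)
    obtain ⟨L, hL⟩ := ih _ hlt (G ⧸ N) rfl (CfsgLib.PLocal.isPSolvable_quotient hsol N)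
    exact ⟨_, lift_hall N hN L hL⟩
  have hsub : ∀ Y : Subgroup G, Y ≠ ⊤ → twoPart p q (Nat.card Y) = twoPart p q (Nat.card G) →
      ∃ L : Subgroup G, Nat.card L = twoPart p q (Nat.card G) := by
    intro Y hY hc
    have hlt : Nat.card Y < n := hn ▸ lt_of_le_of_ne (Subgroup.card_le_card_group Y)
      (fun e => hY (Subgroup.eq_top_of_card_eq Y e))
    obtain ⟨L, hL⟩ := ih _ hlt Y rfl (CfsgLib.PLocal.isPSolvable_subgroup hsol Y)
    exact ⟨L.map Y.subtype, by rw [card_map_of_injective Y.subtype_injective, hL, hc]⟩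
  by_cases hOp : Cfsg.pCore p G = ⊥
  swap
  · obtain ⟨k, hk⟩ := IsPGroup.iff_card.1 (CfsgLib.Core.isPGroup_pCore p G)
    refine hquot _ (CfsgLib.Core.normal_pCore p G) hOp ?_
    rw [hk]
    have := twoPart_self (p := p) (q := q) hpq k 0
    simpa using this
  -- the `p'`-core is non-trivial
  have hO : pPrimeCore p G ≠ ⊥ := by
    intro hO
    have h := CfsgLib.PLocal.centralizer_pCore_le hsol hO
    rw [hOp] at h
    have h1 : (⊤ : Subgroup G) ≤ ⊥ := fun x _ => h (by simp [mem_centralizer_iff])
    exact htriv (by rw [← card_top, le_bot_iff.1 h1, card_bot])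
  set N := pPrimeCore p G with hN
  haveI : N.Normal := CfsgLib.Components.pPrimeCore_normal p
  have hNp : ¬ p ∣ Nat.card N := (Nat.Prime.coprime_iff_not_dvd hp.out).1
    (CfsgLib.Core.coprime_card_pPrimeCore p G).symm
  -- a Hall subgroup of the quotient
  have hlt : Nat.card (G ⧸ N) < n := by
    rw [← hn, Subgroup.card_eq_card_quotient_mul_card_subgroup N]
    exact lt_mul_of_one_lt_right Nat.card_pos ((Subgroup.one_lt_card_iff_ne_bot N).2 hO)
  obtain ⟨Lq, hLq⟩ := ih _ hlt (G ⧸ N) rfl (CfsgLib.PLocal.isPSolvable_quotient hsol N)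
  set Y := Lq.comap (QuotientGroup.mk' N) with hY
  have hYc : Nat.card Y = twoPart p q (Nat.card (G ⧸ N)) * Nat.card N := by
    have h := lift_hall.card_comap_mul (QuotientGroup.mk' N) (QuotientGroup.mk'_surjective N) Lq
    rw [QuotientGroup.ker_mk', hLq] at h
    exact h
  have hGc := Subgroup.card_eq_card_quotient_mul_card_subgroup N
  have hidem : twoPart p q (twoPart p q (Nat.card (G ⧸ N))) = twoPart p q (Nat.card (G ⧸ N)) :=
    twoPart_self hpq _ _
  have hY2 : twoPart p q (Nat.card Y) = twoPart p q (Nat.card G) := by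
    have hne : twoPart p q (Nat.card (G ⧸ N)) ≠ 0 :=
      (Nat.mul_pos (pow_pos hp.out.pos _) (pow_pos hq.out.pos _)).ne'
    rw [hYc, twoPart_mul p q hne Nat.card_pos.ne', hidem, hGc,
      twoPart_mul p q Nat.card_pos.ne' Nat.card_pos.ne']
  by_cases hYtop : Y = ⊤
  swap
  · exact hsub Y hYtop hY2
  have hcard : Nat.card G = twoPart p q (Nat.card (G ⧸ N)) * Nat.card N := by
    rw [← hYc, hYtop, card_top]
  by_cases hqN : q ∣ Nat.card N
  · -- Frattini argument with a Sylow `q`-subgroup of `N`
    obtain ⟨Q⟩ := (Sylow.nonempty : Nonempty (Sylow q N))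
    set Q' := (Q : Subgroup N).map N.subtype with hQ'
    have hQ'c : Nat.card Q' = q ^ (Nat.card N).factorization q := by
      rw [hQ', card_map_of_injective N.subtype_injective, Q.card_eq_multiplicity]
    set X := normalizer (Q' : Set G) with hX
    have hfr : X ⊔ N = ⊤ := Sylow.normalizer_sup_eq_top Q
    by_cases hXtop : X = ⊤
    · haveI hQn : Q'.Normal := normalizer_eq_top_iff.1 hXtop
      refine hquot Q' hQn ?_ ?_
      · rw [Ne, ← Subgroup.card_eq_one, hQ'c]
        exact (Nat.one_lt_pow (hq.out.factorization_pos_of_dvd Nat.card_pos.ne' hqN).ne'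
          hq.out.one_lt).ne'
      · rw [hQ'c]
        have := twoPart_self (p := p) (q := q) hpq 0 ((Nat.card N).factorization q)
        simpa using this
    · refine hsub X hXtop ?_
      -- the order of `X` is a multiple of the two-part of the order of `G`
      have hQX : Q' ≤ X ⊓ N := le_inf le_normalizer (map_subtype_le _)
      have h1 : Nat.card G * Nat.card ↥(X ⊓ N) = Nat.card X * Nat.card N := by
        have h := CfsgLib.Core.card_sup_mul_card_inf X N (le_normalizer_of_normal)
        rw [hfr, card_top] at h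
        exact h
      have h2 : twoPart p q (Nat.card ↥(X ⊓ N)) = twoPart p q (Nat.card N) := by
        have hd : Nat.card ↥(X ⊓ N) ∣ Nat.card N := card_dvd_of_le inf_le_right
        have hd' : q ^ (Nat.card N).factorization q ∣ Nat.card ↥(X ⊓ N) :=
          hQ'c ▸ card_dvd_of_le hQX
        rw [twoPart, twoPart, Nat.factorization_eq_zero_of_not_dvd hNp,
          Nat.factorization_eq_zero_of_not_dvd (fun h => hNp (h.trans hd))]
        congr 2
        exact le_antisymm ((Nat.factorization_le_iff_dvd Nat.card_pos.ne' Nat.card_pos.ne').2 hd q)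
          ((hq.out.pow_dvd_iff_le_factorization Nat.card_pos.ne').1 hd')
      have h3 := congrArg (twoPart p q) h1
      rw [twoPart_mul p q Nat.card_pos.ne' Nat.card_pos.ne',
        twoPart_mul p q Nat.card_pos.ne' Nat.card_pos.ne', h2] at h3
      exact (Nat.eq_of_mul_eq_mul_right (Nat.mul_pos (pow_pos hp.out.pos _)
        (pow_pos hq.out.pos _)) h3).symm
  · have hN1 : twoPart p q (Nat.card N) = 1 := twoPart_eq_one hNp hqN
    have hidx : N.index = twoPart p q (Nat.card G) := by
      have hi : N.index = twoPart p q (Nat.card (G ⧸ N)) := by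
        refine Nat.eq_of_mul_eq_mul_left (Nat.card_pos (α := N)) ?_
        rw [N.card_mul_index, hcard, mul_comm]
      rw [hi, hGc, twoPart_mul p q Nat.card_pos.ne' Nat.card_pos.ne', hN1, mul_one]
    have hcop : (Nat.card N).Coprime N.index := by
      rw [hidx]
      exact Nat.Coprime.mul_right (((Nat.Prime.coprime_iff_not_dvd hp.out).2 hNp).symm.pow_right _)
        (((Nat.Prime.coprime_iff_not_dvd hq.out).2 hqN).symm.pow_right _)
    obtain ⟨L, hL⟩ := exists_right_complement'_of_coprime hcop
    exact ⟨L, by rw [← hidx, hL.symm.index_eq_card]⟩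

omit hq in
/-- A group with a normal `p`-subgroup `H`, a normal subgroup `M ≥ H` with `|M : H|` prime to `p`
and `G/M` `p`-solvable, is `p`-solvable. -/
theorem isPSolvable_of_sandwich {G : Type u} [Group G] [Finite G] (H M : Subgroup G) [H.Normal]
    [M.Normal] (hHM : H ≤ M) (hH : IsPGroup p H) (hidx : ¬ p ∣ H.relIndex M)
    (hsol : IsPSolvable p (G ⧸ M)) : IsPSolvable p G := by
  refine CfsgLib.Fusion.isPSolvable_of_ker_pGroup (QuotientGroup.mk' H)
    (QuotientGroup.mk'_surjective H) (by rwa [QuotientGroup.ker_mk']) ?_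
  -- the quotient by `H` is an extension of a `p`-solvable group by a `p'`-group
  set f : G ⧸ H →* G ⧸ M := QuotientGroup.map H M (MonoidHom.id G) (by simpa using hHM) with hf
  have hfs : Function.Surjective f := by
    intro y
    obtain ⟨g, rfl⟩ := QuotientGroup.mk_surjective y
    exact ⟨(g : G ⧸ H), rfl⟩
  have hker : Nat.card f.ker = H.relIndex M := by
    have h : f.ker = M.map (QuotientGroup.mk' H) := by
      rw [hf, QuotientGroup.ker_map, Subgroup.comap_id]
    rw [h, ← relIndex_bot_left, ← relIndex_comap, MonoidHom.comap_bot, QuotientGroup.ker_mk']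
  obtain ⟨n, S, h0, hn, hmono, hnorm, hfac⟩ := hsol
  refine ⟨n + 1, Fin.cons ⊥ (fun i => (S i).comap f), rfl, ?_, ?_, fun i => ?_, fun i => ?_⟩
  · rw [← Fin.succ_last, Fin.cons_succ, hn, Subgroup.comap_top]
  · refine Fin.monotone_iff_le_succ.2 fun i => ?_
    induction i using Fin.cases with
    | zero => simp
    | succ j =>
        rw [← Fin.succ_castSucc, Fin.cons_succ, Fin.cons_succ]
        exact Subgroup.comap_mono (hmono (Fin.castSucc_le_succ j))
  · induction i using Fin.cases with
    | zero => simpa using (inferInstance : (⊥ : Subgroup (G ⧸ H)).Normal)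
    | succ j => simpa using (hnorm j).comap f
  · induction i using Fin.cases with
    | zero =>
        right
        simp only [Fin.castSucc_zero, Fin.cons_zero, Fin.cons_succ, Subgroup.relIndex_bot_left,
          h0, MonoidHom.comap_bot]
        rw [hker]
        exact ((Nat.Prime.coprime_iff_not_dvd hp.out).2 hidx).symm
    | succ j =>
        rw [← Fin.succ_castSucc, Fin.cons_succ, Fin.cons_succ, Subgroup.relIndex_comap,
          Subgroup.map_comap_eq_self_of_surjective hfs]
        exact hfac j

end CfsgLib.PGroups.Automizer
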