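import Mathlib
import Cfsg.Agent.Lib.Core.HallHigman
import Cfsg.Agent.Lib.Core.SolvableStruct
import Cfsg.Agent.Lib.Core.UniqueOrderP
import Cfsg.Agent.Lib.LocalEven.Generation
import Cfsg.Agent.Lib.HallGen.Counting

/-!
# Groups of rank two acting coprimely

* `exists_fixed`: two commuting independent elements of order `p` on an abelian group of coprime
  order: some element of the group they generate has a nontrivial fixed point
* `commute_of_fpf`, `commute_of_fpf_abelian`: the Hall-Higman lemma in the language of a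
  homomorphism into `MulAut M`
* `exists_elementary_le`: elementary abelian normal subgroup inside a normal solvable subgroup
-/

set_option autoImplicit false
set_option linter.all false

namespace CfsgLib.PGroups.FixRank

open Subgroup

variable {X : Type*} [Group X]

/-- The element has a nontrivial fixed point. -/
def Fix {M : Type*} [CommGroup M] (φ : X →* MulAut M) (x : X) : Prop := ∃ m : M, m ≠ 1 ∧ φ x m = m

/-- Two commuting independent elements of order `p`. -/
def RankTwo (p : ℕ) (H : Subgroup X) : Prop :=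
  ∃ a b : X, a ∈ H ∧ b ∈ H ∧ orderOf a = p ∧ orderOf b = p ∧ Commute a b ∧ b ∉ zpowers a

theorem closure_pair_comm {a b : X} (h : Commute a b) :
    ∀ x ∈ closure ({a, b} : Set X), ∀ y ∈ closure ({a, b} : Set X), Commute x y := by
  haveI := Subgroup.isMulCommutative_closure (k := ({a, b} : Set X)) (by
    rintro x (rfl | rfl) y (rfl | rfl) <;> first | rfl | exact h | exact h.symm)
  exact fun x hx y hy => congrArg Subtype.val
    (IsMulCommutative.is_comm.comm (⟨x, hx⟩ : closure ({a, b} : Set X)) ⟨y, hy⟩)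

theorem closure_pair_pow {p : ℕ} {a b : X} (h : Commute a b) (ha : a ^ p = 1) (hb : b ^ p = 1) :
    ∀ x ∈ closure ({a, b} : Set X), x ^ p = 1 := by
  intro x hx
  induction hx using closure_induction with
  | mem y hy => rcases hy with rfl | rfl <;> assumption
  | one => exact one_pow _
  | mul y z hy hz e1 e2 => rw [(closure_pair_comm h y hy z hz).mul_pow, e1, e2, one_mul]
  | inv y _ e => rw [inv_pow, e, inv_one]

theorem closure_pair_le {a b : X} {S : Subgroup X} (ha : a ∈ S) (hb : b ∈ S) :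
    closure ({a, b} : Set X) ≤ S := (closure_le S).mpr (by rintro y (rfl | rfl) <;> assumption)

theorem commute_closure_pair {a b z : X} (ha : Commute a z) (hb : Commute b z) :
    ∀ x ∈ closure ({a, b} : Set X), Commute x z := fun x hx =>
  mem_centralizer_singleton_iff.mp
    (closure_pair_le (S := centralizer {z}) (mem_centralizer_singleton_iff.mpr ha.eq)
      (mem_centralizer_singleton_iff.mpr hb.eq) hx)

section Module

variable [Finite X] {M : Type*} [CommGroup M] [Finite M] (φ : X →* MulAut M)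

/-- The fixed points of an element. -/
def fixedSub (x : X) : Subgroup M where
  carrier := {m | φ x m = m}
  one_mem' := map_one _
  mul_mem' := fun {u v} hu hv => by
    show φ x (u * v) = u * v
    rw [map_mul, hu, hv]
  inv_mem' := fun {u} hu => by
    show φ x u⁻¹ = u⁻¹
    rw [map_inv, hu]

theorem fixedSub_invariant {x y : X} (h : Commute x y) {m : M} (hm : m ∈ fixedSub φ x) :
    φ y m ∈ fixedSub φ x := by
  show φ x (φ y m) = φ y m
  rw [← MulAut.mul_apply, ← map_mul, h.eq, map_mul, MulAut.mul_apply, (show φ x m = m from hm)]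

theorem fixedSub_ne_bot {x : X} (h : Fix φ x) : fixedSub φ x ≠ ⊥ := by
  obtain ⟨m, hm1, hm⟩ := h
  exact fun e => hm1 (mem_bot.mp (e ▸ (show m ∈ fixedSub φ x from hm)))

/-- The stabiliser of a subgroup of the module. -/
def stab (M₀ : Subgroup M) : Subgroup X :=
  { carrier := {x | ∀ m, φ x m ∈ M₀ ↔ m ∈ M₀}
    one_mem' := fun m => by simp
    mul_mem' := fun {x y} hx hy m => by rw [map_mul, MulAut.mul_apply, hx, hy]
    inv_mem' := fun {x} hx m => by
      rw [← hx (φ x⁻¹ m), ← MulAut.mul_apply, ← map_mul, mul_inv_cancel, map_one]; rfl }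

theorem mem_stab {M₀ : Subgroup M} {x : X} (h : ∀ m ∈ M₀, φ x m ∈ M₀) : x ∈ stab φ M₀ := by
  intro m
  refine ⟨fun hm => ?_, h m⟩
  have hs : Function.Surjective fun u : M₀ => (⟨φ x u, h u u.2⟩ : M₀) :=
    Finite.surjective_of_injective fun u v e => Subtype.ext ((φ x).injective (congrArg Subtype.val e))
  obtain ⟨u, hu⟩ := hs ⟨φ x m, hm⟩
  exact (φ x).injective (congrArg Subtype.val hu) ▸ u.2

/-- The action on an invariant subgroup. -/
def restr (M₀ : Subgroup M) : stab φ M₀ →* MulAut M₀ where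
  toFun x :=
    { toFun := fun m => ⟨φ x m, (x.2 m).mpr m.2⟩
      invFun := fun m => ⟨φ (x⁻¹ : stab φ M₀) m, ((x⁻¹).2 m).mpr m.2⟩
      left_inv := fun m => Subtype.ext (by
        show φ (x⁻¹ : stab φ M₀) (φ x m) = m
        rw [coe_inv, ← MulAut.mul_apply, ← map_mul, inv_mul_cancel, map_one]; rfl)
      right_inv := fun m => Subtype.ext (by
        show φ x (φ (x⁻¹ : stab φ M₀) m) = m
        rw [coe_inv, ← MulAut.mul_apply, ← map_mul, mul_inv_cancel, map_one]; rfl)
      map_mul' := fun u v => Subtype.ext (map_mul (φ x) _ _) }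
  map_one' := MulEquiv.ext fun m => Subtype.ext (by show φ 1 m = m; rw [map_one]; rfl)
  map_mul' := fun x y => MulEquiv.ext fun m => Subtype.ext (by
    show φ ((x * y : stab φ M₀) : X) m = φ x (φ y m)
    rw [coe_mul, map_mul]; rfl)

theorem exists_fixed_mem {p : ℕ} [Fact p.Prime] (hcop : (Nat.card M).Coprime p) {a b : X}
    (ha : orderOf a = p) (hb : orderOf b = p) (hab : Commute a b) (hba : b ∉ zpowers a)
    (M₀ : Subgroup M) (hne : M₀ ≠ ⊥) (hMa : ∀ m ∈ M₀, φ a m ∈ M₀) (hMb : ∀ m ∈ M₀, φ b m ∈ M₀) :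
    ∃ x ∈ closure ({a, b} : Set X), orderOf x = p ∧ ∃ m ∈ M₀, m ≠ 1 ∧ φ x m = m := by
  classical
  set A := closure ({a, b} : Set X) with hA
  letI : CommGroup A := { (inferInstance : Group A) with
    mul_comm := fun u v => Subtype.ext (closure_pair_comm hab u u.2 v v.2) }
  have hAS : A ≤ stab φ M₀ := closure_pair_le (mem_stab φ hMa) (mem_stab φ hMb)
  let f : A →* Monoid.End M₀ :=
    { toFun := fun x => (restr φ M₀ (Subgroup.inclusion hAS x)).toMonoidHom
      map_one' := by ext m; simp; rfl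
      map_mul' := fun x y => by ext m; simp; rfl }
  by_contra hno
  have hap : a ^ p = 1 := ha ▸ pow_orderOf_eq_one a
  have hbp : b ^ p = 1 := hb ▸ pow_orderOf_eq_one b
  have hW : ∀ c : A, c ≠ 1 → ∀ v, f c v = v → v ∈ (⊥ : Subgroup M₀) := by
    intro c hc v hv
    rw [mem_bot]
    by_contra hv1
    refine hno ⟨c, c.2, ?_, v, v.2, fun h => hv1 (Subtype.ext h), congrArg Subtype.val hv⟩
    exact orderOf_eq_prime (closure_pair_pow hab hap hbp c c.2) fun h => hc (Subtype.ext h)
  have key := CfsgLib.LocalEven.pow_mem_of_fixed_mem f (p := p)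
    (a := (⟨b, subset_closure (by simp)⟩ : A)) (b := (⟨a, subset_closure (by simp)⟩ : A))
    (Subtype.ext hbp) (Subtype.ext hap)
    (fun h => (Fact.out : p.Prime).ne_one (by rw [← ha, show a = 1 from congrArg Subtype.val h, orderOf_one]))
    (fun k h => hba (by
      have : b * a ^ k = 1 := congrArg Subtype.val h
      rw [eq_inv_of_mul_eq_one_left this]
      exact inv_mem (pow_mem (mem_zpowers a) k)))
    ⊥ hW
  apply hne
  rw [eq_bot_iff]
  intro m hm
  have h1 : m ^ p = 1 := congrArg Subtype.val (mem_bot.mp (key ⟨m, hm⟩))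
  rw [mem_bot, ← orderOf_eq_one_iff]
  exact Nat.eq_one_of_dvd_coprimes hcop (orderOf_dvd_natCard m) (orderOf_dvd_of_pow_eq_one h1)

/-- A group of rank two has an element of order `p` with a fixed point. -/
theorem exists_fixed [Nontrivial M] {p : ℕ} [Fact p.Prime] (hcop : (Nat.card M).Coprime p) {a b : X}
    (ha : orderOf a = p) (hb : orderOf b = p) (hab : Commute a b) (hba : b ∉ zpowers a) :
    ∃ x ∈ closure ({a, b} : Set X), orderOf x = p ∧ Fix φ x := by
  obtain ⟨x, hx, ho, m, -, hm⟩ := exists_fixed_mem φ hcop ha hb hab hba ⊤ top_ne_bot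
    (fun m _ => mem_top _) (fun m _ => mem_top _)
  exact ⟨x, hx, ho, m, hm⟩

/-- A group of rank two centralising `z` has an element with a fixed point common with `z`. -/
theorem exists_common_fixed {p : ℕ} [Fact p.Prime] (hcop : (Nat.card M).Coprime p) {a b z : X}
    (ha : orderOf a = p) (hb : orderOf b = p) (hab : Commute a b) (hba : b ∉ zpowers a)
    (haz : Commute a z) (hbz : Commute b z) (hz : Fix φ z) :
    ∃ x ∈ closure ({a, b} : Set X), orderOf x = p ∧ Commute x z ∧
      ∃ m, m ≠ 1 ∧ φ x m = m ∧ φ z m = m := by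
  obtain ⟨x, hx, ho, m, hm0, hm1, hmx⟩ := exists_fixed_mem φ hcop ha hb hab hba (fixedSub φ z)
    (fixedSub_ne_bot φ hz) (fun m hm => fixedSub_invariant φ haz.symm hm)
    (fun m hm => fixedSub_invariant φ hbz.symm hm)
  exact ⟨x, hx, ho, commute_closure_pair haz hbz x hx, m, hm1, hmx, hm0⟩

/-- The homomorphism to endomorphisms of the additive module. -/
def toEnd : X →* AddMonoid.End (Additive M) where
  toFun x := MonoidHom.toAdditive (φ x).toMonoidHom
  map_one' := by rw [map_one]; rfl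
  map_mul' := fun x y => by rw [map_mul]; rfl

theorem card_additive : Nat.card (Additive M) = Nat.card M := Nat.card_congr Additive.toMul

omit [Finite X] [Finite M] in
theorem conj_comp (x y : X) (m : M) : φ x (φ y m) = φ (x * y * x⁻¹) (φ x m) := by
  rw [← MulAut.mul_apply, ← map_mul, ← MulAut.mul_apply, ← map_mul, inv_mul_cancel_right]

variable {s : ℕ} [Fact s.Prime] {x : X} (hx : orderOf x = s) (hfpf : ¬ Fix φ x) (F : Subgroup X)
  (hnorm : ∀ y ∈ F, x * y * x⁻¹ ∈ F) (hfaith : ∀ y ∈ F, (∀ m, φ y m = m) → y = 1)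
  (hFs : (Nat.card F).Coprime s) (hMF : (Nat.card M).Coprime (Nat.card F))

include hx hfpf hnorm hfaith hFs hMF

/-- A fixed point free element of prime order centralises an abelian group of coprime order. -/
theorem commute_of_fpf_abelian (hab : ∀ a ∈ F, ∀ b ∈ F, a * b = b * a) :
    ∀ y ∈ F, Commute x y := by
  have hxs : x ^ s = 1 := hx ▸ pow_orderOf_eq_one x
  intro y hy
  have h := CfsgLib.Core.HH.fixed_of_abelian (toEnd φ) (MulAut.conj x) (toEnd φ x)
    (by rw [← map_pow, hxs, map_one]) (by rw [← map_pow, hxs, map_one])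
    (fun y m => by
      show φ x (φ y m) = φ (x * y * x⁻¹) (φ x m)
      exact conj_comp φ x y (Additive.toMul m))
    (fun m hm => by_contra fun hm1 => hfpf ⟨Additive.toMul m, hm1, hm⟩)
    F hnorm hab hFs (by rwa [card_additive]) (fun a ha h => hfaith a ha fun m => h m) y hy
  exact mul_inv_eq_iff_eq_mul.mp h

/-- A fixed point free element of prime order centralises a nilpotent group of coprime odd order
(Hall and Higman). -/
theorem commute_of_fpf (hMs : (Nat.card M).Coprime s) (hnil : Group.IsNilpotent F)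
    (hodd : ¬ 2 ∣ Nat.card F) : ∀ y ∈ F, Commute x y := by
  have hxs : x ^ s = 1 := hx ▸ pow_orderOf_eq_one x
  intro y hy
  have h := CfsgLib.Core.HH.fixed_of_fpf_module (toEnd φ) (MulAut.conj x) (toEnd φ x)
    (by rw [← map_pow, hxs, map_one]) (by rw [← map_pow, hxs, map_one])
    (fun y m => by
      show φ x (φ y m) = φ (x * y * x⁻¹) (φ x m)
      exact conj_comp φ x y (Additive.toMul m))
    (fun m hm => by_contra fun hm1 => hfpf ⟨Additive.toMul m, hm1, hm⟩)
    (by rwa [card_additive]) hnil hnorm hFs (by rwa [card_additive])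
    (fun a ha h => hfaith a ha fun m => h m) (fun h => hodd h.1) y hy
  exact mul_inv_eq_iff_eq_mul.mp h

end Module

section Groups

variable [Finite X]

/-- An involution without fixed points inverts, so it is central in a faithful group. -/
theorem commute_of_fpf_involution {M : Type*} [CommGroup M] [Finite M] {φ : X →* MulAut M}
    (hinj : Function.Injective φ) {t : X} (ht : t ^ 2 = 1) (hfpf : ¬ Fix φ t) (y : X) :
    Commute t y := by
  have hinv : ∀ m : M, φ t m = m⁻¹ := by
    intro m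
    by_contra h
    refine hfpf ⟨m * φ t m, fun h1 => h (eq_inv_of_mul_eq_one_right h1), ?_⟩
    rw [map_mul, ← MulAut.mul_apply, ← map_mul, ← pow_two, ht, map_one, MulAut.one_apply, mul_comm]
  apply hinj
  ext m
  rw [map_mul, map_mul, MulAut.mul_apply, MulAut.mul_apply, hinv, hinv, map_inv]

/-- An element of prime order `s` moving a normalised subgroup of prime order `q`: `s ∣ q - 1`. -/
theorem dvd_pred_of_moves {q s : ℕ} [Fact q.Prime] [Fact s.Prime] {g w : X} (hg : g ^ s = 1)
    (hw : orderOf w = q) (hn : g * w * g⁻¹ ∈ zpowers w) (hne : ¬ Commute g w) : s ∣ q - 1 := by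
  obtain ⟨k, hk : w ^ k = g * w * g⁻¹⟩ := mem_zpowers_iff.mp hn
  have hpow : ∀ i : ℕ, g ^ i * w * (g ^ i)⁻¹ = w ^ (k ^ i) := fun i =>
    CfsgLib.Core.UniqueOrderP.conj_pow_zpow hk.symm i
  have hks : ((k : ZMod q)) ^ s = 1 := by
    have h := hpow s
    rw [hg, one_mul, inv_one, mul_one] at h
    have h2 : w ^ (k ^ s - 1) = 1 := by rw [zpow_sub, ← h, zpow_one, mul_inv_cancel]
    have h3 := orderOf_dvd_iff_zpow_eq_one.mpr h2
    rw [hw, ← ZMod.intCast_zmod_eq_zero_iff_dvd] at h3
    push_cast at h3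
    exact sub_eq_zero.mp h3
  have hk1 : (k : ZMod q) ≠ 1 := by
    intro h
    apply hne
    have h3 : (q : ℤ) ∣ k - 1 := (ZMod.intCast_zmod_eq_zero_iff_dvd _ _).mp (by push_cast; rw [h, sub_self])
    rw [← hw, orderOf_dvd_iff_zpow_eq_one, zpow_sub, zpow_one, mul_inv_eq_one, hk,
      mul_inv_eq_iff_eq_mul] at h3
    exact h3
  have hk0 : (k : ZMod q) ≠ 0 := fun h => by
    rw [h, zero_pow (Fact.out : s.Prime).ne_zero] at hks; exact zero_ne_one hks
  rw [← orderOf_eq_prime hks hk1]
  exact orderOf_dvd_of_pow_eq_one (ZMod.pow_card_sub_one_eq_one hk0)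

/-- Elementary abelian normal subgroup in a normal `p`-subgroup. -/
theorem exists_elementary_le_pgroup {p : ℕ} [Fact p.Prime] {P : Subgroup X} [hPn : P.Normal]
    (hP : IsPGroup p P) (hP1 : P ≠ ⊥) :
    ∃ W : Subgroup X, W.Normal ∧ W ≤ P ∧ W ≠ ⊥ ∧ (∀ u ∈ W, u ^ p = 1) ∧
      (∀ u ∈ W, ∀ v ∈ P, u * v = v * u) := by
  let W : Subgroup X :=
    { carrier := {u | u ∈ P ∧ u ^ p = 1 ∧ ∀ v ∈ P, u * v = v * u}
      one_mem' := ⟨one_mem _, one_pow _, fun v _ => by rw [one_mul, mul_one]⟩
      mul_mem' := fun {u v} hu hv => ⟨mul_mem hu.1 hv.1,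
        by rw [Commute.mul_pow (hu.2.2 v hv.1), hu.2.1, hv.2.1, one_mul],
        fun w hw => (Commute.mul_left (hu.2.2 w hw) (hv.2.2 w hw)).eq⟩
      inv_mem' := fun {u} hu => ⟨inv_mem hu.1, by rw [inv_pow, hu.2.1, inv_one],
        fun w hw => (Commute.inv_left (hu.2.2 w hw)).eq⟩ }
  refine ⟨W, ⟨fun u hu g => ⟨hPn.conj_mem u hu.1 g, ?_, fun w hw => ?_⟩⟩, fun u hu => hu.1, ?_,
    fun u hu => hu.2.1, fun u hu => hu.2.2⟩
  · rw [← MulAut.conj_apply, ← map_pow, hu.2.1, map_one]
  · have h := hu.2.2 (g⁻¹ * w * g) (by simpa using hPn.conj_mem w hw g⁻¹)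
    calc g * u * g⁻¹ * w = g * (u * (g⁻¹ * w * g)) * g⁻¹ := by group
      _ = g * (g⁻¹ * w * g * u) * g⁻¹ := by rw [h]
      _ = _ := by group
  · haveI : Nontrivial P := (nontrivial_iff_ne_bot P).mpr hP1
    haveI := hP.center_nontrivial
    obtain ⟨k, hk⟩ := IsPGroup.iff_card.mp (hP.to_subgroup (center P))
    have hd : p ∣ Nat.card (center P) := by
      rw [hk]
      refine dvd_pow_self p fun h0 => ?_
      rw [h0, pow_zero] at hk
      exact absurd hk (Finite.one_lt_card (α := center P)).ne'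
    obtain ⟨z, hz⟩ := exists_prime_orderOf_dvd_card' p hd
    intro hbot
    have hmem : ((z : P) : X) ∈ W := ⟨(z : P).2, by
      have := pow_orderOf_eq_one z
      rw [hz] at this
      exact congrArg (fun u : center P => ((u : P) : X)) this,
      fun v hv => (congrArg Subtype.val (mem_center_iff.mp z.2 ⟨v, hv⟩)).symm⟩
    rw [hbot, mem_bot] at hmem
    have h1 : z = 1 := Subtype.ext (Subtype.ext hmem)
    rw [h1, orderOf_one] at hz
    exact (Fact.out : p.Prime).ne_one hz.symm

theorem exists_elementary_pCore (p : ℕ) [Fact p.Prime] (h : Cfsg.pCore p X ≠ ⊥) :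
    ∃ W : Subgroup X, W.Normal ∧ W ≤ Cfsg.pCore p X ∧ W ≠ ⊥ ∧ (∀ u ∈ W, u ^ p = 1) ∧
      (∀ u ∈ W, ∀ v ∈ Cfsg.pCore p X, u * v = v * u) :=
  haveI := CfsgLib.Core.normal_pCore p X
  exists_elementary_le_pgroup (CfsgLib.Core.isPGroup_pCore p X) h

/-- Elementary abelian normal subgroup in a normal solvable subgroup. -/
theorem exists_elementary_le [Group.IsSolvable X] (N : Subgroup X) [hN : N.Normal] (h : N ≠ ⊥) :
    ∃ (p : ℕ) (W : Subgroup X), p.Prime ∧ W.Normal ∧ W ≤ N ∧ W ≠ ⊥ ∧ (∀ u ∈ W, u ^ p = 1) ∧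
      (∀ u ∈ W, ∀ v ∈ W, u * v = v * u) := by
  haveI : Nontrivial N := (nontrivial_iff_ne_bot N).mpr h
  obtain ⟨p, hp, hc⟩ := CfsgLib.HallGen.exists_pCore_ne_bot (G := N) inferInstance
  haveI := Fact.mk hp
  haveI := CfsgLib.Core.normal_pCore p N
  haveI : ((Cfsg.pCore p N).map N.subtype).Normal := by
    refine ⟨fun u hu g => ?_⟩
    obtain ⟨v, hv, rfl⟩ := hu
    let e : N ≃* N := MulAut.conjNormal g
    refine ⟨e v, ?_, MulAut.conjNormal_apply g v⟩
    rw [← CfsgLib.Core.map_equiv_pCore e]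
    exact ⟨v, hv, rfl⟩
  obtain ⟨W, hWn, hWP, hW1, hexp, hc'⟩ := exists_elementary_le_pgroup
    (P := (Cfsg.pCore p N).map N.subtype) ((CfsgLib.Core.isPGroup_pCore p N).map _)
    (by rw [Ne, map_eq_bot_iff_of_injective _ N.subtype_injective]; exact hc)
  exact ⟨p, W, hp, hWn, hWP.trans (map_subtype_le _), hW1, hexp, fun u hu v hv => hc' u hu v (hWP hv)⟩

theorem exists_orderOf_of_ne_bot {p : ℕ} [Fact p.Prime] {W : Subgroup X}
    (hexp : ∀ u ∈ W, u ^ p = 1) (h : W ≠ ⊥) : ∃ w ∈ W, orderOf w = p := by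
  obtain ⟨w, hw⟩ := ne_bot_iff_exists_ne_one.mp h
  exact ⟨w, w.2, orderOf_eq_prime (hexp w w.2) fun e => hw (Subtype.ext e)⟩

theorem coprime_card_of_exp {p m : ℕ} [Fact p.Prime] {W : Subgroup X}
    (hexp : ∀ u ∈ W, u ^ p = 1) (hm : m.Prime) (hne : m ≠ p) : (Nat.card W).Coprime m := by
  refine (hm.coprime_iff_not_dvd.mpr fun hd => ?_).symm
  haveI := Fact.mk hm
  obtain ⟨w, hw⟩ := exists_prime_orderOf_dvd_card' m hd
  have : m ∣ p := hw ▸ orderOf_dvd_of_pow_eq_one (Subtype.ext (hexp w w.2))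
  exact hne ((Nat.prime_dvd_prime_iff_eq hm Fact.out).mp this)

/-- An elementary abelian group without rank two is generated by any of its nontrivial elements. -/
theorem mem_zpowers_of_exp {p : ℕ} [Fact p.Prime] {W : Subgroup X} (hexp : ∀ u ∈ W, u ^ p = 1)
    (hc : ∀ u ∈ W, ∀ v ∈ W, u * v = v * u) (hno : ¬ RankTwo p W) {w : X} (hw : w ∈ W)
    (hwo : orderOf w = p) : ∀ v ∈ W, v ∈ zpowers w := by
  intro v hv
  by_contra hvw
  refine hno ⟨w, v, hw, hv, hwo, orderOf_eq_prime (hexp v hv) ?_, hc w hw v hv, hvw⟩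
  rintro rfl
  exact hvw (one_mem _)

/-- An abelian subgroup as a commutative group. -/
@[reducible] def commGroupOf (W : Subgroup X) (hc : ∀ u ∈ W, ∀ v ∈ W, u * v = v * u) : CommGroup W :=
  { (inferInstance : Group W) with mul_comm := fun u v => Subtype.ext (hc u u.2 v v.2) }

/-- A rank two group of coprime order commutes somewhere with a normal elementary abelian group. -/
theorem exists_commute_pair {p s : ℕ} [Fact p.Prime] [Fact s.Prime] (hps : s ≠ p) {W : Subgroup X}
    [W.Normal] (hc : ∀ u ∈ W, ∀ v ∈ W, u * v = v * u) (hexp : ∀ u ∈ W, u ^ p = 1) (hW : W ≠ ⊥)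
    {a b : X} (ha : orderOf a = s) (hb : orderOf b = s) (hab : Commute a b) (hba : b ∉ zpowers a) :
    ∃ e ∈ closure ({a, b} : Set X), orderOf e = s ∧ ∃ w ∈ W, orderOf w = p ∧ Commute e w := by
  letI := commGroupOf W hc
  haveI : Nontrivial W := (nontrivial_iff_ne_bot W).mpr hW
  obtain ⟨e, he, hes, m, hm1, hm⟩ := exists_fixed (MulAut.conjNormal (H := W))
    (coprime_card_of_exp hexp Fact.out hps) ha hb hab hba
  refine ⟨e, he, hes, m, m.2, orderOf_eq_prime (hexp m m.2) fun h => hm1 (Subtype.ext h), ?_⟩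
  have h := congrArg Subtype.val hm
  rw [MulAut.conjNormal_apply] at h
  exact mul_inv_eq_iff_eq_mul.mp h

end Groups

end CfsgLib.PGroups.FixRank
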