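import Cfsg.Agent.Lib.PGroups.Basic

/-!
Automorphisms of prime order `q ≠ p` of a `p`-group are faithful on the Frattini quotient.
-/

set_option autoImplicit false

namespace CfsgLib.PGroups

theorem eq_one_of_trivial_mod_frattini {P : Type*} [Group P] [Finite P] {p q : ℕ} [Fact p.Prime]
    [Fact q.Prime] (hP : IsPGroup p P) (hqp : q ≠ p) (a : MulAut P) (ha : a ^ q = 1)
    (htriv : ∀ x : P, x⁻¹ * a x ∈ frattini P) : a = 1 := by
  have : Finite (MulAut P) := Finite.of_injective _ MulEquiv.toEquiv_injective
  set A := Subgroup.zpowers a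
  have hA : IsPGroup q A := fun b => ⟨1, by
    obtain ⟨b, hb⟩ := b
    obtain ⟨i, rfl⟩ := Subgroup.mem_zpowers_iff.1 hb
    refine Subtype.ext ?_
    show (a ^ i) ^ q ^ 1 = 1
    rw [pow_one, ← zpow_natCast (a ^ i), ← zpow_mul, mul_comm, zpow_mul, zpow_natCast, ha,
      one_zpow]⟩
  let F : Subgroup P := MonoidHom.eqLocus a.toMonoidHom (MonoidHom.id P)
  have hcov : F ⊔ frattini P = ⊤ := by
    refine eq_top_iff.2 fun x _ => ?_
    let C : SubMulAction A P :=
      { carrier := {y | x⁻¹ * y ∈ frattini P}
        smul_mem' := fun b y hy => by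
          let K : Subgroup (MulAut P) :=
            { carrier := {c | ∀ z : P, z⁻¹ * c z ∈ frattini P}
              mul_mem' := fun {c d} hc hd z => by
                rw [MulAut.mul_apply, show z⁻¹ * c (d z) = (z⁻¹ * d z) * ((d z)⁻¹ * c (d z)) by group]
                exact mul_mem (hd z) (hc _)
              one_mem' := fun z => by simp
              inv_mem' := fun {c} hc z => by
                have h := inv_mem (hc (c⁻¹ z))
                rw [← MulAut.mul_apply, mul_inv_cancel, MulAut.one_apply, mul_inv_rev, inv_inv] at h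
                exact h }
          have hb : (b : MulAut P) ∈ K := Subgroup.zpowers_le.2 (show a ∈ K from htriv) b.2
          show x⁻¹ * (b : MulAut P) y ∈ frattini P
          rw [show x⁻¹ * (b : MulAut P) y = (x⁻¹ * y) * (y⁻¹ * (b : MulAut P) y) by group]
          exact mul_mem hy (hb y) }
    have hne : ¬ q ∣ Nat.card C := by
      have e : C ≃ frattini P :=
        { toFun := fun y => ⟨x⁻¹ * y.1, y.2⟩
          invFun := fun z => ⟨x * z.1, by
            show x⁻¹ * (x * z.1) ∈ frattini P
            rw [inv_mul_cancel_left]; exact z.2⟩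
          left_inv := fun y => Subtype.ext (mul_inv_cancel_left _ _)
          right_inv := fun z => Subtype.ext (inv_mul_cancel_left _ _) }
      rw [Nat.card_congr e]
      obtain ⟨k, hk⟩ := IsPGroup.iff_card.1 (hP.to_subgroup (frattini P))
      rw [hk]
      exact fun h => hqp ((Nat.prime_dvd_prime_iff_eq Fact.out Fact.out).1
        ((Fact.out : q.Prime).dvd_of_dvd_pow h))
    obtain ⟨y, hy⟩ := hA.nonempty_fixed_point_of_prime_not_dvd_card C hne
    have hy' : a y.1 = y.1 := congrArg Subtype.val (hy ⟨a, Subgroup.mem_zpowers a⟩)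
    rw [show x = y.1 * (x⁻¹ * y.1)⁻¹ by group]
    exact mul_mem (Subgroup.mem_sup_left hy') (Subgroup.mem_sup_right (inv_mem y.2))
  have htop : F = ⊤ := by
    have h := closure_eq_top_of_sup_frattini (S := (F : Set P))
      (by rw [Subgroup.closure_eq]; exact hcov)
    rwa [Subgroup.closure_eq] at h
  exact MulEquiv.ext fun x => (htop ▸ Subgroup.mem_top x : x ∈ F)

end CfsgLib.PGroups
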