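import Cfsg.Agent.Lib.ClassSizes.MaxClassPowers

/-!
# `3`-groups of maximal class

Every subgroup is generated by two elements, apart from the elementary abelian maximal subgroup of
`C₃ ≀ C₃`.
-/

set_option autoImplicit false
set_option linter.style.haveILetI false

namespace CfsgLib.PGroups.MaxClassThree

open Subgroup CfsgLib.PGroups CfsgLib.PGroups.MaxClassRank CfsgLib.ClassSizes CfsgLib.ClassSizes.MaxClass
open scoped commutatorElement

theorem exists_gen_le {p : ℕ} [hp : Fact p.Prime] {Q : Type*} [Group Q] [Finite Q] (hQ : IsPGroup p Q)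
    (k : ℕ) (hk : Nat.card Q ≤ p ^ k) :
    ∃ T : Finset Q, T.card ≤ k ∧ Subgroup.closure (T : Set Q) = ⊤ := by
  classical
  have key : ∀ m, ∃ T : Finset Q, T.card ≤ m ∧
      (Subgroup.closure (T : Set Q) = ⊤ ∨ p ^ m ≤ Nat.card (Subgroup.closure (T : Set Q))) := by
    intro m
    induction m with
    | zero => exact ⟨∅, le_rfl, Or.inr (by rw [pow_zero]; exact Nat.card_pos)⟩
    | succ m ih =>
      obtain ⟨T, hT, h⟩ := ih
      by_cases htop : Subgroup.closure (T : Set Q) = ⊤
      · exact ⟨T, hT.trans (Nat.le_succ m), Or.inl htop⟩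
      obtain ⟨g, hg⟩ : ∃ g, g ∉ Subgroup.closure (T : Set Q) := by
        by_contra hall
        push Not at hall
        exact htop (eq_top_iff.2 fun x _ => hall x)
      refine ⟨insert g T, (Finset.card_insert_le g T).trans (Nat.succ_le_succ hT), Or.inr ?_⟩
      have hlt : Subgroup.closure (T : Set Q) < Subgroup.closure ((insert g T : Finset Q) : Set Q) := by
        refine lt_of_le_of_ne (Subgroup.closure_mono (by simp)) fun e => hg ?_
        rw [e]
        exact Subgroup.subset_closure (by simp)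
      obtain ⟨a, ha⟩ := (hQ.to_subgroup (Subgroup.closure (T : Set Q))).exists_card_eq
      obtain ⟨b, hb⟩ := (hQ.to_subgroup (Subgroup.closure ((insert g T : Finset Q) : Set Q))).exists_card_eq
      have h1 := h.resolve_left htop
      rw [ha] at h1
      have hab : a < b := by
        by_contra hle
        exact hlt.ne (Subgroup.eq_of_le_of_card_ge hlt.le
          (ha ▸ hb ▸ Nat.pow_le_pow_right hp.out.pos (not_lt.1 hle)))
      rw [hb]
      exact Nat.pow_le_pow_right hp.out.pos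
        (Nat.succ_le_of_lt (lt_of_le_of_lt ((Nat.pow_le_pow_iff_right hp.out.one_lt).1 h1) hab))
  obtain ⟨T, hT, h⟩ := key k
  exact ⟨T, hT, h.elim id fun h => Subgroup.eq_top_of_card_eq _
    (le_antisymm (Subgroup.card_le_card_group _) (hk.trans h))⟩

/-- A subgroup with Frattini index at most `p ^ 2` is generated by two elements. -/
theorem gen_two {p : ℕ} [hp : Fact p.Prime] {G : Type*} [Group G] [Finite G] (hG : IsPGroup p G)
    (H : Subgroup G) (h : Nat.card H ≤ p ^ 2 * Nat.card ((frattini H).map H.subtype)) :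
    ∃ T : Finset G, T.card ≤ 2 ∧ Subgroup.closure (T : Set G) = H := by
  classical
  have hH := hG.to_subgroup H
  have hQ : Nat.card (H ⧸ frattini H) ≤ p ^ 2 := by
    rw [Subgroup.card_subtype, (frattini H).card_eq_card_quotient_mul_card_subgroup] at h
    exact Nat.le_of_mul_le_mul_right h Nat.card_pos
  obtain ⟨T, hT, hgen⟩ := exists_gen_le (hH.to_quotient _) 2 hQ
  refine ⟨T.image (fun q => ((Quotient.out q : H) : G)), Finset.card_image_le.trans hT, ?_⟩
  have h0 : Subgroup.closure ((T.image Quotient.out : Finset H) : Set H) = ⊤ := by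
    refine PGroups.closure_eq_top_of_sup_frattini ?_
    have h1 : (Subgroup.closure ((T.image Quotient.out : Finset H) : Set H)).map
        (QuotientGroup.mk' (frattini H)) = ⊤ := by
      rw [MonoidHom.map_closure, Finset.coe_image, Set.image_image]
      simpa using hgen
    have h2 := congrArg (Subgroup.comap (QuotientGroup.mk' (frattini H))) h1
    rwa [Subgroup.comap_map_eq, QuotientGroup.ker_mk', Subgroup.comap_top] at h2
  have h3 := congrArg (Subgroup.map H.subtype) h0
  rw [MonoidHom.map_closure, ← MonoidHom.range_eq_map, Subgroup.range_subtype, Finset.coe_image,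
    Set.image_image] at h3
  rw [Finset.coe_image]
  exact h3

variable {S : Type*} [Group S] [Finite S] {n : ℕ}

local notation "L" => Subgroup.lowerCentralSeries (⊤ : Subgroup S)

theorem pow_mem_frattini_map (hS : IsPGroup 3 S) {H : Subgroup S} {h : S} (hh : h ∈ H) :
    h ^ 3 ∈ (frattini H).map H.subtype :=
  haveI : Fact (Nat.Prime 3) := ⟨Nat.prime_three⟩
  ⟨(⟨h, hh⟩ : H) ^ 3, PGroups.pow_mem_frattini (hS.to_subgroup H) _, rfl⟩

theorem comm_mem_frattini_map (hS : IsPGroup 3 S) {H : Subgroup S} {a b : S} (ha : a ∈ H)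
    (hb : b ∈ H) : ⁅a, b⁆ ∈ (frattini H).map H.subtype :=
  haveI : Fact (Nat.Prime 3) := ⟨Nat.prime_three⟩
  ⟨⁅(⟨a, ha⟩ : H), ⟨b, hb⟩⁆, PGroups.commutator_le_frattini' (hS.to_subgroup H)
    (Subgroup.commutator_mem_commutator (mem_top _) (mem_top _)), rfl⟩

theorem L_one_le_twoStep (D : Data S 3 n) : L 1 ≤ twoStep (S := S) 1 := fun b hb => by
  refine mem_twoStep.2 fun a ha => ?_
  exact lowerCentralSeries_commutator_le 1 1 (Subgroup.commutator_mem_commutator ha hb)

theorem comm_L_one (D : Data S 3 n) : ⁅L 1, L 1⁆ ≤ L 4 := by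
  by_cases hn : n ≤ 2
  · exact absurd D.hn (by omega)
  have hlt : ¬ L 1 ≤ L 2 := (D.lt (j := 1) le_rfl (by have := D.hn; omega)).not_ge
  obtain ⟨x, hx, hx'⟩ := SetLike.not_le_iff_exists.1 hlt
  have hc := D.cover le_rfl hx hx'
  have h12 : ∀ v ∈ L 2, ∀ w ∈ L 1, Commute (v : S ⧸ L 4) (w : S ⧸ L 4) := fun v hv w hw =>
    mk_commute_iff.1 (lowerCentralSeries_commutator_le 2 1 (Subgroup.commutator_mem_commutator hv hw))
  refine Subgroup.commutator_le.2 fun a ha b hb => mk_commute_iff.2 ?_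
  obtain ⟨u, hu, v, hv, rfl⟩ := mem_sup_of_normal_right.mp (hc ha)
  obtain ⟨u', hu', v', hv', rfl⟩ := mem_sup_of_normal_right.mp (hc hb)
  obtain ⟨k, rfl⟩ := mem_zpowers_iff.1 hu
  obtain ⟨k', rfl⟩ := mem_zpowers_iff.1 hu'
  have hxk : x ^ k ∈ L 1 := zpow_mem hx k
  have hxk' : x ^ k' ∈ L 1 := zpow_mem hx k'
  rw [QuotientGroup.mk_mul, QuotientGroup.mk_mul]
  refine (Commute.mul_right ?_ (h12 v' hv' _ hxk).symm).mul_left
    (h12 v hv _ (mul_mem hxk' (Subgroup.lowerCentralSeries_antitone _ (by omega) hv')))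
  rw [QuotientGroup.mk_zpow, QuotientGroup.mk_zpow]
  exact Commute.zpow_zpow_self _ k k'

theorem twoStep_two (D : Data S 3 n) : twoStep (S := S) 1 ≤ twoStep (S := S) 2 := by
  intro g hg
  refine mem_twoStep.2 fun x hx => ?_
  set π := QuotientGroup.mk' (L 4) with hπ
  let C : Subgroup (S ⧸ L 4) := (twoStep (S := S) 1).map π
  let A : Subgroup (S ⧸ L 4) := (L 1).map π
  let T : Subgroup (S ⧸ L 4) := (⊤ : Subgroup S).map π
  have hbot : ∀ {X : Subgroup S}, X ≤ L 4 → X.map π = ⊥ := fun h =>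
    (Subgroup.map_eq_bot_iff _).2 (by rwa [hπ, QuotientGroup.ker_mk'])
  have h1 : ⁅⁅T, C⁆, A⁆ = ⊥ := by
    rw [← Subgroup.map_commutator, ← Subgroup.map_commutator]
    refine hbot ((Subgroup.commutator_mono (?_ : ⁅(⊤ : Subgroup S), twoStep (S := S) 1⁆ ≤ L 1) le_rfl).trans
      (comm_L_one D))
    rw [Subgroup.top_lowerCentralSeries_one, _root_.commutator_def]
    exact Subgroup.commutator_mono le_rfl le_top
  have h2 : ⁅⁅C, A⁆, T⁆ = ⊥ := by
    rw [← Subgroup.map_commutator, ← Subgroup.map_commutator]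
    refine hbot ?_
    rw [Subgroup.lowerCentralSeries_succ _ 3]
    refine Subgroup.commutator_mono ?_ le_rfl
    refine Subgroup.commutator_le.2 fun c hc a ha => ?_
    rw [← commutatorElement_inv]
    exact inv_mem (mem_twoStep.1 hc a ha)
  have h3 := Subgroup.commutator_commutator_eq_bot_of_rotate (H₁ := A) h1 h2
  rw [← Subgroup.map_commutator, ← Subgroup.map_commutator, Subgroup.map_eq_bot_iff, hπ,
    QuotientGroup.ker_mk', ← Subgroup.lowerCentralSeries_succ _ 1] at h3
  exact h3 (Subgroup.commutator_mem_commutator hx hg)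

theorem twoStep_eq (D : Data S 3 n) : ∀ j, 1 ≤ j → j + 3 ≤ n → twoStep (S := S) j = twoStep (S := S) 1 := by
  haveI : Fact (Nat.Prime 3) := ⟨Nat.prime_three⟩
  intro j
  induction j using Nat.strong_induction_on with
  | _ j ih =>
    intro h1 hj
    rcases Nat.lt_or_ge j 3 with h | h
    · interval_cases j
      · rfl
      · refine (Subgroup.eq_of_le_of_card_ge (twoStep_two D) ?_).symm
        have a := (twoStep (S := S) 1).card_mul_index
        have b := (twoStep (S := S) 2).card_mul_index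
        have hi := D.twoStep_index_le (j := 1) le_rfl (by omega)
        obtain ⟨e, he⟩ := D.pgrp.index (twoStep (S := S) 2)
        have he1 : 3 ≤ (twoStep (S := S) 2).index := by
          rw [he]
          refine Nat.le_self_pow (fun h0 => ?_) 3
          rw [h0, pow_zero, Subgroup.index_eq_one] at he
          exact D.twoStep_ne_top (by omega) he
        nlinarith [Nat.mul_le_mul_left (Nat.card (twoStep (S := S) 1)) hi,
          Nat.mul_le_mul_left (Nat.card (twoStep (S := S) 2)) he1]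
    · obtain ⟨s, hs⟩ := D.exists_good (n - 1) le_rfl
      have e := D.twoStep_shift (j := j - 2) le_rfl hs (by omega) (by omega)
      rw [show j - 2 + (3 - 1) = j by omega] at e
      rw [← e]
      exact ih _ (by omega) (by omega) (by omega)

theorem good_of_not_mem (D : Data S 3 n) (hn : 4 ≤ n) {g : S} (hg : g ∉ twoStep (S := S) 1) (m : ℕ) :
    Good n m g :=
  ⟨fun h => hg (L_one_le_twoStep D h), fun j h1 _ hj => by rw [twoStep_eq D j h1 hj]; exact hg⟩

theorem card_le_three_mul (D : Data S 3 n) {H : Subgroup S} (htop : H ≠ ⊤) :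
    Nat.card H ≤ 3 * Nat.card (H ⊓ L 1 : Subgroup S) := by
  haveI : Fact (Nat.Prime 3) := ⟨Nat.prime_three⟩
  have hn := D.hn
  obtain ⟨M, hM, hHM⟩ := (eq_top_or_exists_le_coatom H).resolve_left htop
  have hL1M : L 1 ≤ M := by rw [← D.hfrat]; exact frattini_le_coatom hM
  obtain ⟨e, he⟩ := IsPGroup.iff_card.mp (D.pgrp.to_subgroup M)
  have hMlt : e < n := by
    by_contra h
    exact hM.1 (Subgroup.eq_top_of_le_card _ (by
      rw [he, D.hcard]; exact Nat.pow_le_pow_right (by norm_num) (by omega)))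
  have hrelM : (L 1).relIndex M ≤ 3 := by
    have h := Subgroup.relIndex_mul_relIndex ⊥ (L 1) M bot_le hL1M
    rw [Subgroup.relIndex_bot_left, Subgroup.relIndex_bot_left, he, D.hser 1 le_rfl (by omega)] at h
    refine Nat.le_of_mul_le_mul_left ?_ (pow_pos (by norm_num : 0 < 3) (n - 1 - 1))
    rw [h, ← pow_succ]
    exact Nat.pow_le_pow_right (by norm_num) (by omega)
  have h1 := Subgroup.relIndex_mul_relIndex ⊥ (H ⊓ L 1) H bot_le inf_le_left
  rw [Subgroup.relIndex_bot_left, Subgroup.relIndex_bot_left] at h1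
  rw [← h1, mul_comm 3]
  refine Nat.mul_le_mul_left _ ?_
  rw [inf_comm, Subgroup.inf_relIndex_right]
  exact (Subgroup.relIndex_le_of_le_right hHM Subgroup.index_ne_zero_of_finite).trans hrelM

theorem card_L_succ (D : Data S 3 n) {i : ℕ} (h1 : 1 ≤ i) :
    Nat.card (L i) ≤ 3 * Nat.card (L (i + 1)) := by
  rcases Nat.lt_or_ge i (n - 1) with h | h
  · rw [D.hser i h1 (by omega), D.hser (i + 1) (by omega) (by omega), ← pow_succ']
    exact Nat.pow_le_pow_right (by norm_num) (by omega)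
  · rw [le_bot_iff.1 (le_of_le_of_eq (Subgroup.lowerCentralSeries_antitone _ h) D.hbot),
      Subgroup.card_bot]
    have := Nat.card_pos (α := L (i + 1))
    omega

/-- Subgroups not inside the two-step centraliser. -/
theorem frattini_index_of_good (D : Data S 3 n) (hn : 4 ≤ n) {H : Subgroup S} (htop : H ≠ ⊤)
    {g : S} (hgH : g ∈ H) (hg : g ∉ twoStep (S := S) 1) :
    Nat.card H ≤ 3 ^ 2 * Nat.card ((frattini H).map H.subtype) := by
  haveI : Fact (Nat.Prime 3) := ⟨Nat.prime_three⟩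
  have h3 := card_le_three_mul D htop
  set Φ := (frattini H).map H.subtype with hΦ
  by_cases hA : H ⊓ L 1 = ⊥
  · rw [hA, Subgroup.card_bot] at h3
    have := Nat.card_pos (α := Φ)
    omega
  obtain ⟨i, hi1, hle, hnle⟩ : ∃ i, 1 ≤ i ∧ H ⊓ L 1 ≤ L i ∧ ¬ H ⊓ L 1 ≤ L (i + 1) := by
    by_contra hc
    push Not at hc
    refine hA (le_bot_iff.1 (le_of_le_of_eq ?_ D.hbot))
    have : ∀ j, 1 ≤ j → H ⊓ L 1 ≤ L j := by
      intro j hj
      induction j, hj using Nat.le_induction with
      | base => exact inf_le_right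
      | succ j hj ih => exact hc j hj ih
    exact this _ (by omega)
  obtain ⟨x, hxA, hx'⟩ := SetLike.not_le_iff_exists.1 hnle
  have hx : x ∈ L i := hle hxA
  have hxH : x ∈ H := hxA.1
  have hiter : ∀ k, iterComm g x k ∈ H := by
    intro k
    induction k with
    | zero => exact hxH
    | succ k ih =>
      rw [iterComm_succ, stepComm]
      exact H.mul_mem (H.inv_mem ih) (H.mul_mem (H.mul_mem (H.inv_mem hgH) ih) hgH)
  have hfill : ∀ d j, n - 1 ≤ j + d → i + 1 ≤ j → L j ≤ Φ := by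
    intro d
    induction d with
    | zero =>
      intro j hj _
      exact (Subgroup.lowerCentralSeries_antitone _ (show n - 1 ≤ j by omega)).trans
        (D.hbot.le.trans bot_le)
    | succ d ih =>
      intro j hj hij
      rcases Nat.lt_or_ge j (n - 1) with h | h
      · obtain ⟨k, rfl⟩ : ∃ k, j = i + (k + 1) := ⟨j - i - 1, by omega⟩
        have hmem := iterComm_mem (s := g) hx (k + 1)
        have hnot := D.iter_not_mem le_rfl (good_of_not_mem D hn hg (n - 1)) hi1 hx hx' (k + 1) (by omega)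
        refine (D.cover (by omega) hmem hnot).trans (sup_le (Subgroup.zpowers_le.2 ?_)
          (ih _ (by omega) (by omega)))
        rw [iterComm_succ, stepComm_eq]
        exact comm_mem_frattini_map D.pgrp (H.inv_mem (hiter k)) (H.inv_mem hgH)
      · exact (Subgroup.lowerCentralSeries_antitone _ h).trans (D.hbot.le.trans bot_le)
  calc Nat.card H ≤ 3 * Nat.card (H ⊓ L 1 : Subgroup S) := h3
    _ ≤ 3 * (3 * Nat.card (L (i + 1))) :=
        Nat.mul_le_mul_left _ ((Subgroup.card_le_of_le hle).trans (card_L_succ D hi1))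
    _ ≤ 3 * (3 * Nat.card Φ) := Nat.mul_le_mul_left _
        (Nat.mul_le_mul_left _ (Subgroup.card_le_of_le (hfill n _ (by omega) le_rfl)))
    _ = 3 ^ 2 * Nat.card Φ := by ring

/-- Elements of the two-step centraliser outside `L 1` have their cube outside `L 3`. -/
theorem cube_not_mem (D : Data S 3 n) (hn : 5 ≤ n) {y : S} (hy : y ∈ twoStep (S := S) 1)
    (hy' : y ∉ L 1) : y ^ 3 ∉ L 3 := by
  haveI : Fact (Nat.Prime 3) := ⟨Nat.prime_three⟩
  intro h
  obtain ⟨g, hg⟩ := D.exists_pow_not_mem (by omega)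
  have hgC : g ∈ twoStep (S := S) 1 := by
    by_contra hgC
    exact hg (D.pow_deep (m := 4) (by omega) (good_of_not_mem D (by omega) hgC 4) 3 (by omega) le_rfl)
  have hgen : twoStep (S := S) 1 ≤ zpowers y ⊔ L 1 := by
    have hle : zpowers y ⊔ L 1 ≤ twoStep (S := S) 1 :=
      sup_le (zpowers_le.2 hy) (L_one_le_twoStep D)
    refine (Subgroup.eq_of_le_of_card_ge hle ?_).ge
    obtain ⟨a, ha⟩ := IsPGroup.iff_card.mp (D.pgrp.to_subgroup (zpowers y ⊔ L 1 : Subgroup S))
    obtain ⟨b, hb⟩ := IsPGroup.iff_card.mp (D.pgrp.to_subgroup (twoStep (S := S) 1))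
    have h1 : Nat.card (L 1) < Nat.card (zpowers y ⊔ L 1 : Subgroup S) :=
      lt_of_le_of_ne (Subgroup.card_le_of_le le_sup_right) fun e => hy' (by
        rw [Subgroup.eq_of_le_of_card_ge (le_sup_right : L 1 ≤ zpowers y ⊔ L 1) e.ge]
        exact mem_sup_left (mem_zpowers y))
    rw [D.hser 1 le_rfl (by omega), ha, Nat.pow_lt_pow_iff_right (by norm_num)] at h1
    have h2 : b < n := by
      by_contra hb'
      exact D.twoStep_ne_top (j := 1) (by omega) (Subgroup.eq_top_of_le_card _ (by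
        rw [hb, D.hcard]; exact Nat.pow_le_pow_right (by norm_num) (by omega)))
    rw [ha, hb]
    exact Nat.pow_le_pow_right (by norm_num) (by omega)
  obtain ⟨u, hu, x, hx, rfl⟩ := mem_sup_of_normal_right.mp (hgen hgC)
  obtain ⟨k, rfl⟩ := mem_zpowers_iff.1 hu
  refine hg ((QuotientGroup.eq_one_iff _).1 ?_)
  have hcom : Commute (y : S ⧸ L 3) (x : S ⧸ L 3) :=
    (mk_commute_iff.1 (mem_twoStep.1 hy x hx)).symm
  obtain ⟨s, hs⟩ := D.exists_good (n - 1) le_rfl
  have hx3 : x ^ 3 ∈ L 3 := D.pow_mem le_rfl (by omega) hs 1 3 le_rfl (by omega) (by omega) x hx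
  rw [QuotientGroup.mk_pow, QuotientGroup.mk_mul, QuotientGroup.mk_zpow,
    (hcom.zpow_left k).mul_pow, ← zpow_natCast ((y : S ⧸ L 3) ^ k) 3,
    zpow_comm, zpow_natCast, ← QuotientGroup.mk_pow, ← QuotientGroup.mk_pow,
    (QuotientGroup.eq_one_iff _).2 h, (QuotientGroup.eq_one_iff _).2 hx3, one_zpow, one_mul]

/-- The layer bound. -/
theorem card_inf_layer (D : Data S 3 n) {s : S} (hs : Good n (n - 1) s) (H U : Subgroup S)
    (hUpow : ∀ h ∈ H, h ^ 3 ∈ U) :
    ∀ r i, n ≤ i + r + 3 → 1 ≤ i →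
      Nat.card (H ⊓ L i : Subgroup S) ≤ 9 * Nat.card (U ⊓ L (i + 2) : Subgroup S) := by
  haveI : Fact (Nat.Prime 3) := ⟨Nat.prime_three⟩
  intro r
  induction r with
  | zero =>
    intro i hr hi
    refine le_trans ?_ (Nat.le_mul_of_pos_right _ Nat.card_pos)
    refine le_trans (Subgroup.card_le_of_le inf_le_right) ?_
    rcases Nat.lt_or_ge i n with h | h
    · rw [D.hser i hi (by omega)]
      exact (Nat.pow_le_pow_right (by norm_num) (show n - 1 - i ≤ 2 by omega)).trans_eq (by norm_num)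
    · rw [le_bot_iff.1 (le_of_le_of_eq (Subgroup.lowerCentralSeries_antitone _ (show n - 1 ≤ i by omega)) D.hbot),
        Subgroup.card_bot]
      norm_num
  | succ r ih =>
    intro i hr hi
    by_cases hlast : n ≤ i + r + 3
    · exact ih i hlast hi
    have hstep := ih (i + 1) (by omega) (by omega)
    rw [show i + 1 + 2 = i + 2 + 1 by omega] at hstep
    by_cases hall : H ⊓ L i ≤ L (i + 1)
    · refine le_trans ?_ (le_trans hstep (Nat.mul_le_mul_left _ (Subgroup.card_le_of_le
          (inf_le_inf_left U (Subgroup.lowerCentralSeries_antitone _ (Nat.le_succ _))))))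
      exact Subgroup.card_le_of_le (le_inf inf_le_left hall)
    obtain ⟨x, hxm, hx'⟩ := SetLike.not_le_iff_exists.1 hall
    obtain ⟨hxH, hx⟩ := Subgroup.mem_inf.1 hxm
    have hxU : x ^ 3 ∈ (U ⊓ L (i + 2) : Subgroup S) :=
      Subgroup.mem_inf.2 ⟨hUpow x hxH, D.pow_mem le_rfl (by omega) hs i _ hi (by omega) (by omega) x hx⟩
    have hxn : x ^ 3 ∉ (U ⊓ L (i + 2 + 1) : Subgroup S) := fun h =>
      D.pow_not_mem le_rfl hs hi (by omega) hx hx' (Subgroup.mem_inf.1 h).2
    have hA : Nat.card (H ⊓ L i : Subgroup S) ≤ 3 * Nat.card (H ⊓ L (i + 1) : Subgroup S) := by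
      have hle : L (i + 1) ≤ L i := Subgroup.lowerCentralSeries_antitone _ (Nat.le_succ i)
      have h1 := Subgroup.relIndex_mul_relIndex ⊥ (H ⊓ L (i + 1)) (H ⊓ L i) bot_le (inf_le_inf_left H hle)
      rw [Subgroup.relIndex_bot_left, Subgroup.relIndex_bot_left] at h1
      have h2 : (H ⊓ L (i + 1)).relIndex (H ⊓ L i) ≤ (L (i + 1)).relIndex (L i) := by
        rw [show H ⊓ L (i + 1) = L (i + 1) ⊓ (H ⊓ L i) by
          rw [inf_left_comm, inf_eq_left.2 hle], Subgroup.inf_relIndex_right]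
        exact Subgroup.relIndex_le_of_le_right inf_le_right Subgroup.index_ne_zero_of_finite
      have h3 : (L (i + 1)).relIndex (L i) ≤ 3 := by
        have := Subgroup.relIndex_mul_relIndex ⊥ (L (i + 1)) (L i) bot_le hle
        rw [Subgroup.relIndex_bot_left, Subgroup.relIndex_bot_left] at this
        refine Nat.le_of_mul_le_mul_left ?_ (Nat.card_pos (α := L (i + 1)))
        rw [this, mul_comm]
        exact card_L_succ D hi
      rw [← h1, mul_comm 3]
      exact Nat.mul_le_mul_left _ (h2.trans h3)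
    have hB : 3 * Nat.card (U ⊓ L (i + 2 + 1) : Subgroup S) ≤
        Nat.card (U ⊓ L (i + 2) : Subgroup S) := by
      set A := (U ⊓ L (i + 2 + 1) : Subgroup S)
      set B := (U ⊓ L (i + 2) : Subgroup S)
      have hAB : A ≤ B := inf_le_inf_left U (Subgroup.lowerCentralSeries_antitone _ (Nat.le_succ _))
      obtain ⟨a, ha⟩ := IsPGroup.iff_card.mp (D.pgrp.to_subgroup A)
      obtain ⟨b, hb⟩ := IsPGroup.iff_card.mp (D.pgrp.to_subgroup B)
      have hlt : Nat.card A < Nat.card B := lt_of_le_of_ne (Subgroup.card_le_of_le hAB) fun h =>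
        hxn ((Subgroup.eq_of_le_of_card_ge hAB h.ge) ▸ hxU)
      rw [ha, hb] at hlt
      rw [ha, hb, ← pow_succ']
      exact Nat.pow_le_pow_right (by norm_num) ((Nat.pow_lt_pow_iff_right (by norm_num)).mp hlt)
    calc Nat.card (H ⊓ L i : Subgroup S) ≤ 3 * Nat.card (H ⊓ L (i + 1) : Subgroup S) := hA
      _ ≤ 3 * (9 * Nat.card (U ⊓ L (i + 2 + 1) : Subgroup S)) := Nat.mul_le_mul_left _ hstep
      _ = 9 * (3 * Nat.card (U ⊓ L (i + 2 + 1) : Subgroup S)) := by ring
      _ ≤ _ := Nat.mul_le_mul_left _ hB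

/-- Order at least `3 ^ 5`: all subgroups are two-generated. -/
theorem gen_two_of_five_le (D : Data S 3 n) (hn : 5 ≤ n) (H : Subgroup S) :
    ∃ T : Finset S, T.card ≤ 2 ∧ Subgroup.closure (T : Set S) = H := by
  haveI : Fact (Nat.Prime 3) := ⟨Nat.prime_three⟩
  refine gen_two D.pgrp H ?_
  set Φ := (frattini H).map H.subtype with hΦ
  by_cases htop : H = ⊤
  · subst htop
    have hle : L 1 ≤ Φ := by
      rw [Subgroup.top_lowerCentralSeries_one, _root_.commutator_def]
      exact Subgroup.commutator_le.2 fun a _ b _ => comm_mem_frattini_map D.pgrp (mem_top a) (mem_top b)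
    refine le_trans ?_ (Nat.mul_le_mul_left _ (Subgroup.card_le_of_le hle))
    rw [Subgroup.card_top, D.hcard, D.hser 1 le_rfl (by omega), ← pow_add]
    exact Nat.pow_le_pow_right (by norm_num) (by omega)
  by_cases hC : H ≤ twoStep (S := S) 1
  swap
  · obtain ⟨g, hgH, hg⟩ := SetLike.not_le_iff_exists.1 hC
    exact frattini_index_of_good D (by omega) htop hgH hg
  obtain ⟨s, hs⟩ := D.exists_good (n - 1) le_rfl
  have hpow : ∀ h ∈ H, h ^ 3 ∈ Φ := fun h hh => pow_mem_frattini_map D.pgrp hh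
  have hkey : Nat.card (H ⊓ L 1 : Subgroup S) ≤ 9 * Nat.card (Φ ⊓ L (1 + 2) : Subgroup S) :=
    card_inf_layer D hs H Φ hpow n 1 (by omega) le_rfl
  by_cases hH1 : H ≤ L 1
  · rw [inf_eq_left.2 hH1] at hkey
    exact hkey.trans ((Nat.mul_le_mul_left 9
      (Subgroup.card_le_of_le (inf_le_left : (Φ ⊓ L (1 + 2) : Subgroup S) ≤ Φ))).trans_eq rfl)
  obtain ⟨y, hyH, hy⟩ := SetLike.not_le_iff_exists.1 hH1
  have hnot := cube_not_mem D hn (hC hyH) hy
  have hlt : 3 * Nat.card (Φ ⊓ L (1 + 2) : Subgroup S) ≤ Nat.card Φ := by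
    obtain ⟨a, ha⟩ := IsPGroup.iff_card.mp (D.pgrp.to_subgroup (Φ ⊓ L (1 + 2) : Subgroup S))
    obtain ⟨b, hb⟩ := IsPGroup.iff_card.mp (D.pgrp.to_subgroup Φ)
    have h1 : Nat.card (Φ ⊓ L (1 + 2) : Subgroup S) < Nat.card Φ :=
      lt_of_le_of_ne (Subgroup.card_le_of_le inf_le_left) fun h => hnot
        (((Subgroup.eq_of_le_of_card_ge (inf_le_left : Φ ⊓ L (1 + 2) ≤ Φ) h.ge).symm ▸ hpow y hyH :
          y ^ 3 ∈ Φ ⊓ L (1 + 2))).2
    rw [ha, hb] at h1 ⊢
    rw [← pow_succ']
    exact Nat.pow_le_pow_right (by norm_num) ((Nat.pow_lt_pow_iff_right (by norm_num)).mp h1)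
  have h3 := card_le_three_mul D htop
  rw [show (3 : ℕ) ^ 2 = 9 from rfl]
  omega

/-- Order `3 ^ 4`: all subgroups are two-generated unless one is elementary abelian of order `27`. -/
theorem gen_two_or_elementary (D : Data S 3 4) :
    (∀ H : Subgroup S, ∃ T : Finset S, T.card ≤ 2 ∧ Subgroup.closure (T : Set S) = H) ∨
      ∃ A : Subgroup S, Nat.card A = 27 ∧ (∀ a ∈ A, a ^ 3 = 1) ∧ IsMulCommutative A := by
  haveI : Fact (Nat.Prime 3) := ⟨Nat.prime_three⟩
  by_contra hc
  push Not at hc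
  obtain ⟨⟨H, hH⟩, hno⟩ := hc
  have hbad : 3 ^ 2 * Nat.card ((frattini H).map H.subtype) < Nat.card H := by
    by_contra h
    obtain ⟨T, hT, hT'⟩ := gen_two D.pgrp H (not_lt.1 h)
    exact hH T hT hT'
  have htop : H ≠ ⊤ := by
    rintro rfl
    have hle : L 1 ≤ (frattini (⊤ : Subgroup S)).map (⊤ : Subgroup S).subtype := by
      rw [Subgroup.top_lowerCentralSeries_one, _root_.commutator_def]
      exact Subgroup.commutator_le.2 fun a _ b _ => comm_mem_frattini_map D.pgrp (mem_top a) (mem_top b)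
    have := Subgroup.card_le_of_le hle
    rw [D.hser 1 le_rfl (by norm_num)] at this
    rw [Subgroup.card_top, D.hcard] at hbad
    norm_num at this hbad
    omega
  have hH27 : Nat.card H ≤ 27 := by
    refine (card_le_three_mul D htop).trans ?_
    have := Subgroup.card_le_of_le (inf_le_right : (H ⊓ L 1 : Subgroup S) ≤ L 1)
    rw [D.hser 1 le_rfl (by norm_num), show (3 : ℕ) ^ (4 - 1 - 1) = 9 from rfl] at this
    omega
  obtain ⟨e, he⟩ := IsPGroup.iff_card.mp (D.pgrp.to_subgroup H)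
  obtain ⟨f, hf⟩ := IsPGroup.iff_card.mp (D.pgrp.to_subgroup ((frattini H).map H.subtype))
  rw [he, hf, ← pow_add, Nat.pow_lt_pow_iff_right (by norm_num)] at hbad
  rw [he, show (27 : ℕ) = 3 ^ 3 by norm_num, Nat.pow_le_pow_iff_right (by norm_num)] at hH27
  have hΦ : (frattini H).map H.subtype = ⊥ :=
    Subgroup.card_eq_one.1 (by rw [hf, show f = 0 by omega, pow_zero])
  have hexp : ∀ a ∈ H, a ^ 3 = 1 := fun a ha =>
    Subgroup.mem_bot.1 (hΦ ▸ pow_mem_frattini_map D.pgrp ha)
  refine hno H (by rw [he, show e = 3 by omega]; norm_num) hexp ⟨⟨fun a b => Subtype.ext ?_⟩⟩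
  exact commutatorElement_eq_one_iff_mul_comm.1
    (Subgroup.mem_bot.1 (hΦ ▸ comm_mem_frattini_map D.pgrp a.2 b.2))

end CfsgLib.PGroups.MaxClassThree
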