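import Mathlib
import Cfsg.Prelude.Def_PLocal

/-!
# Uniserial actions of `p`-groups on `p`-groups
-/

set_option autoImplicit false

namespace CfsgLib.PGroups.Uniserial

open Subgroup
open scoped commutatorElement Pointwise

variable {L : Type*} [Group L]

theorem comm_le_self {H G : Subgroup L} (h : G ≤ normalizer (H : Set L)) : ⁅H, G⁆ ≤ H := by
  rw [commutator_le]
  intro a ha g hg
  rw [commutatorElement_def, show a * g * a⁻¹ * g⁻¹ = a * (g * a⁻¹ * g⁻¹) by group]
  exact H.mul_mem ha ((mem_normalizer_iff.1 (h hg) a⁻¹).1 (H.inv_mem ha))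

theorem le_normalizer_comm {H G : Subgroup L} (h : G ≤ normalizer (H : Set L)) :
    G ≤ normalizer ((⁅H, G⁆ : Subgroup L) : Set L) := by
  have key : ∀ g ∈ G, ∀ z ∈ ⁅H, G⁆, g * z * g⁻¹ ∈ ⁅H, G⁆ := by
    intro g hg z hz
    refine closure_induction (p := fun z _ => g * z * g⁻¹ ∈ ⁅H, G⁆) ?_ ?_ ?_ ?_ hz
    · rintro _ ⟨a, ha, b, hb, rfl⟩
      rw [conjugate_commutatorElement]
      exact commutator_mem_commutator ((mem_normalizer_iff.1 (h hg) a).1 ha)
        (G.mul_mem (G.mul_mem hg hb) (G.inv_mem hg))
    · simp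
    · intro u v _ _ hu hv
      simpa [mul_assoc] using mul_mem hu hv
    · intro u _ hu
      simpa [mul_assoc] using inv_mem hu
  intro g hg
  rw [mem_normalizer_iff]
  refine fun z => ⟨key g hg z, fun hz => ?_⟩
  have := key g⁻¹ (G.inv_mem hg) _ hz
  rwa [show g⁻¹ * (g * z * g⁻¹) * g⁻¹⁻¹ = z by group] at this

theorem invariant_iter {N G : Subgroup L} (h : G ≤ normalizer (N : Set L)) : ∀ i,
    G ≤ normalizer (Cfsg.iterCommutator N G i : Set L) := by
  intro i
  induction i with
  | zero => exact h
  | succ i ih => exact le_normalizer_comm ih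

theorem iter_le {N G : Subgroup L} (h : G ≤ normalizer (N : Set L)) : ∀ i,
    Cfsg.iterCommutator N G i ≤ N := by
  intro i
  induction i with
  | zero => exact le_refl N
  | succ i ih => exact (comm_le_self (invariant_iter h i)).trans ih

variable [Finite L] {p : ℕ} [Fact p.Prime] {N G : Subgroup L}

theorem comm_lt (hN : IsPGroup p N) (hG : IsPGroup p G) (hGN : G ≤ normalizer (N : Set L))
    {H : Subgroup L} (hH : H ≤ N) (hGH : G ≤ normalizer (H : Set L)) (hne : H ≠ ⊥) :
    ⁅H, G⁆ < H := by
  refine lt_of_le_of_ne (comm_le_self hGH) fun he => hne ?_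
  set X := N ⊔ G with hX
  haveI : Group.IsNilpotent X := (hN.to_sup_of_normal_left' hG hGN).isNilpotent
  obtain ⟨m, hm⟩ := (Subgroup.isNilpotent_iff_lowerCentralSeries X).1 inferInstance
  have hst : ∀ k, H ≤ X.lowerCentralSeries k := by
    intro k
    induction k with
    | zero => exact hH.trans le_sup_left
    | succ k ih =>
      calc H = ⁅H, G⁆ := he.symm
        _ ≤ _ := commutator_mono ih le_sup_right
  exact le_bot_iff.1 ((hst m).trans hm.le)

theorem card_le_of_lt {A B : Subgroup L} (hB : IsPGroup p B) (h : A < B) {k : ℕ}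
    (hk : Nat.card B ≤ p ^ k) : 1 ≤ k ∧ Nat.card A ≤ p ^ (k - 1) := by
  obtain ⟨b, hb⟩ := IsPGroup.iff_card.1 hB
  obtain ⟨a, ha⟩ := IsPGroup.iff_card.1 (hB.to_le h.le)
  have h1 : Nat.card A < Nat.card B := lt_of_le_of_ne (card_le_of_le h.le)
    fun he => h.ne (eq_of_le_of_card_ge h.le he.ge)
  rw [ha, hb, Nat.pow_lt_pow_iff_right (Fact.out : p.Prime).one_lt] at h1
  rw [hb, Nat.pow_le_pow_iff_right (Fact.out : p.Prime).one_lt] at hk
  exact ⟨by omega, ha ▸ Nat.pow_le_pow_right (Fact.out : p.Prime).pos (by omega)⟩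

theorem card_iter_le (hN : IsPGroup p N) (hG : IsPGroup p G) (hGN : G ≤ normalizer (N : Set L))
    {n : ℕ} (hn : Nat.card N = p ^ n) : ∀ i, Nat.card (Cfsg.iterCommutator N G i) ≤ p ^ (n - i) := by
  intro i
  induction i with
  | zero => exact hn.le
  | succ i ih =>
    by_cases hb : Cfsg.iterCommutator N G i = ⊥
    · have : Cfsg.iterCommutator N G (i + 1) = ⊥ :=
        le_bot_iff.1 ((comm_le_self (invariant_iter hGN i)).trans hb.le)
      rw [this, card_bot]
      exact Nat.one_le_pow _ _ (Fact.out : p.Prime).pos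
    · have := (card_le_of_lt (hN.to_le (iter_le hGN i))
        (comm_lt hN hG hGN (iter_le hGN i) (invariant_iter hGN i) hb) ih).2
      rwa [show n - (i + 1) = n - i - 1 by omega]

theorem card_iter_eq (hN : IsPGroup p N) (hG : IsPGroup p G) (hGN : G ≤ normalizer (N : Set L))
    {n : ℕ} (hn : Nat.card N = p ^ n) (h : Cfsg.iterCommutator N G (n - 1) ≠ ⊥) :
    ∀ i, i ≤ n → Nat.card (Cfsg.iterCommutator N G i) = p ^ (n - i) := by
  have hp := (Fact.out : p.Prime)
  have low : ∀ d, d ≤ n - 1 → p ^ (d + 1) ≤ Nat.card (Cfsg.iterCommutator N G (n - 1 - d)) := by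
    intro d
    induction d with
    | zero =>
      intro _
      obtain ⟨b, hb⟩ := IsPGroup.iff_card.1 (hN.to_le (iter_le hGN (n - 1)))
      rw [Nat.sub_zero, hb]
      refine Nat.pow_le_pow_right hp.pos (Nat.one_le_iff_ne_zero.2 fun h0 => h ?_)
      exact card_eq_one.1 (by rw [hb, h0, pow_zero])
    | succ d ih =>
      intro hd
      have h1 := ih (by omega)
      rw [show n - 1 - d = n - 1 - (d + 1) + 1 by omega] at h1
      set j := n - 1 - (d + 1)
      have hne : Cfsg.iterCommutator N G j ≠ ⊥ := fun hb => by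
        have h2 : Cfsg.iterCommutator N G (j + 1) = ⊥ :=
          le_bot_iff.1 ((comm_le_self (invariant_iter hGN j)).trans hb.le)
        rw [h2, card_bot] at h1
        have := Nat.one_lt_pow (show d + 1 ≠ 0 by omega) hp.one_lt
        omega
      obtain ⟨b, hb⟩ := IsPGroup.iff_card.1 (hN.to_le (iter_le hGN j))
      obtain ⟨hb1, h3⟩ := card_le_of_lt (hN.to_le (iter_le hGN j))
        (comm_lt hN hG hGN (iter_le hGN j) (invariant_iter hGN j) hne) hb.le
      have h4 : d + 1 ≤ b - 1 := (Nat.pow_le_pow_iff_right hp.one_lt).1 (h1.trans h3)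
      rw [hb]
      exact Nat.pow_le_pow_right hp.pos (by omega)
  intro i hi
  rcases hi.lt_or_eq with hlt | rfl
  · refine le_antisymm (card_iter_le hN hG hGN hn i) ?_
    have := low (n - 1 - i) (by omega)
    rwa [show n - 1 - (n - 1 - i) = i by omega, show n - 1 - i + 1 = n - i by omega] at this
  · refine le_antisymm (card_iter_le hN hG hGN hn _) ?_
    rw [Nat.sub_self, pow_zero]
    exact Nat.card_pos

/-- under the chain hypothesis the terms are normal in `N` -/
theorem normal_iter (hN : IsPGroup p N) (hG : IsPGroup p G) (hGN : G ≤ normalizer (N : Set L))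
    {n : ℕ} (hn : Nat.card N = p ^ n) (h : Cfsg.iterCommutator N G (n - 1) ≠ ⊥) :
    ∀ i, N ≤ normalizer (Cfsg.iterCommutator N G i : Set L) := by
  set X := N ⊔ G with hX
  have hXp : IsPGroup p X := hN.to_sup_of_normal_left' hG hGN
  have hXN : X ≤ normalizer (N : Set L) := sup_le le_normalizer hGN
  have hR := invariant_iter (N := N) (G := X) hXN
  have hle : ∀ i, Cfsg.iterCommutator N G i ≤ Cfsg.iterCommutator N X i := by
    intro i
    induction i with
    | zero => exact le_refl N
    | succ i ih => exact commutator_mono ih le_sup_right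
  intro i
  rcases le_or_gt i n with hi | hi
  · have heq : Cfsg.iterCommutator N G i = Cfsg.iterCommutator N X i := by
      refine eq_of_le_of_card_ge (hle i) ?_
      rw [card_iter_eq hN hG hGN hn h i hi]
      exact card_iter_le hN hXp hXN hn i
    rw [heq]
    exact le_sup_left.trans (hR i)
  · have hb : Cfsg.iterCommutator N G i = ⊥ := by
      refine card_eq_one.1 (le_antisymm ?_ Nat.card_pos)
      have := card_iter_le hN hG hGN hn i
      rwa [show n - i = 0 by omega, pow_zero] at this
    rw [hb, Subgroup.normalizer_eq_top]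
    exact le_top

/-- every invariant subgroup is a term -/
theorem eq_iter (hN : IsPGroup p N) (hG : IsPGroup p G) (hGN : G ≤ normalizer (N : Set L))
    {n : ℕ} (hn : Nat.card N = p ^ n) (h : Cfsg.iterCommutator N G (n - 1) ≠ ⊥) :
    ∀ d i, i + d = n → ∀ H : Subgroup L, G ≤ normalizer (H : Set L) →
      H ≤ Cfsg.iterCommutator N G i → ∃ j ≤ n, H = Cfsg.iterCommutator N G j := by
  have hp := (Fact.out : p.Prime)
  have hcard := card_iter_eq hN hG hGN hn h
  intro d
  induction d with
  | zero =>
    intro i hi H _ hH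
    refine ⟨i, by omega, le_antisymm hH ?_⟩
    have hb : Cfsg.iterCommutator N G i = ⊥ := card_eq_one.1 (by
      rw [hcard i (by omega), show n - i = 0 by omega, pow_zero])
    rw [hb]
    exact bot_le
  | succ d ih =>
    intro i hi H hGH hH
    set P := Cfsg.iterCommutator N G i with hP
    set P1 := Cfsg.iterCommutator N G (i + 1) with hP1
    have hP1P : P1 ≤ P := comm_le_self (invariant_iter hGN i)
    by_cases hH1 : H ≤ P1
    · exact ih (i + 1) (by omega) H hGH hH1
    refine ⟨i, by omega, le_antisymm hH ?_⟩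
    have hPN : P ≤ N := iter_le hGN i
    have hc : ⁅H, G⁆ ≤ P1 := commutator_mono hH le_rfl
    have hsup : P = H ⊔ P1 := by
      refine (eq_of_le_of_card_ge (sup_le hH hP1P) ?_).symm
      obtain ⟨b, hb⟩ := IsPGroup.iff_card.1 ((hN.to_le hPN).to_le (sup_le hH hP1P))
      have hlt : Nat.card P1 < Nat.card (H ⊔ P1 : Subgroup L) :=
        lt_of_le_of_ne (card_le_of_le le_sup_right) fun he =>
          hH1 (le_sup_left.trans (eq_of_le_of_card_ge le_sup_right he.ge).ge)
      rw [hcard i (by omega), hb]
      rw [hcard (i + 1) (by omega), hb, Nat.pow_lt_pow_iff_right hp.one_lt] at hlt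
      exact Nat.pow_le_pow_right hp.pos (by omega)
    obtain ⟨j, hj, hje⟩ := ih (i + 1) (by omega) ⁅H, G⁆ (le_normalizer_comm hGH) hc
    suffices hP1H : P1 ≤ H from le_of_eq_of_le hsup (sup_le le_rfl hP1H)
    by_cases hji : j ≤ i + 1
    · have h1 : P1 ≤ ⁅H, G⁆ := by
        rw [hje]
        have : ∀ e, Cfsg.iterCommutator N G (j + e) ≤ Cfsg.iterCommutator N G j := by
          intro e
          induction e with
          | zero => exact le_refl _
          | succ e ihe => exact (comm_le_self (invariant_iter hGN (j + e))).trans ihe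
        have h2 := this (i + 1 - j)
        rwa [show j + (i + 1 - j) = i + 1 by omega] at h2
      exact h1.trans (comm_le_self hGH)
    · exfalso
      set P2 := Cfsg.iterCommutator N G (i + 2) with hP2
      have hsub : ⁅H, G⁆ ≤ P2 := by
        rw [hje]
        have : ∀ e, Cfsg.iterCommutator N G (i + 2 + e) ≤ P2 := by
          intro e
          induction e with
          | zero => exact le_refl _
          | succ e ihe => exact (comm_le_self (invariant_iter hGN (i + 2 + e))).trans ihe
        have h2 := this (j - (i + 2))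
        rwa [show i + 2 + (j - (i + 2)) = j by omega] at h2
      have hP2n := normal_iter hN hG hGN hn h (i + 2)
      have hP1n := normal_iter hN hG hGN hn h (i + 1)
      have hle : P1 ≤ P2 := by
        show ⁅P, G⁆ ≤ P2
        rw [commutator_le]
        intro a ha g hg
        rw [hsup] at ha
        obtain ⟨x, hx, y, hy, rfl⟩ : ∃ x ∈ H, ∃ y ∈ P1, x * y = a := by
          have h3 : ((H ⊔ P1 : Subgroup L) : Set L) = (H : Set L) * (P1 : Set L) :=
            Subgroup.coe_mul_of_left_le_normalizer_right H P1 ((hH.trans hPN).trans hP1n)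
          have h4 : a ∈ ((H ⊔ P1 : Subgroup L) : Set L) := ha
          rw [h3] at h4
          obtain ⟨x, hx, y, hy, e⟩ := h4
          exact ⟨x, hx, y, hy, e⟩
        have e : ⁅x * y, g⁆ = (x * ⁅y, g⁆ * x⁻¹) * ⁅x, g⁆ := by
          simp only [commutatorElement_def]; group
        rw [e]
        exact P2.mul_mem ((mem_normalizer_iff.1 (hP2n (hPN (hH hx))) _).1
          (commutator_mem_commutator hy hg)) (hsub (commutator_mem_commutator hx hg))
      have := card_le_of_le hle
      rw [hcard (i + 1) (by omega), hcard (i + 2) (by omega),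
        Nat.pow_le_pow_iff_right hp.one_lt] at this
      omega

theorem chain_of_uniserial (hN : IsPGroup p N) (hG : IsPGroup p G)
    (hGN : G ≤ normalizer (N : Set L)) {n : ℕ} (hn : Nat.card N = p ^ n)
    (h : ∀ H : Subgroup L, H ≤ N → G ≤ normalizer (H : Set L) → H ≠ ⊥ → (⁅H, G⁆).relIndex H = p)
    (hn0 : n ≠ 0) : Cfsg.iterCommutator N G (n - 1) ≠ ⊥ := by
  have hp := (Fact.out : p.Prime)
  have key : ∀ i, i ≤ n - 1 → Nat.card (Cfsg.iterCommutator N G i) = p ^ (n - i) := by
    intro i
    induction i with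
    | zero => exact fun _ => hn
    | succ i ih =>
      intro hi
      have h1 := ih (by omega)
      have hne : Cfsg.iterCommutator N G i ≠ ⊥ := fun hb => by
        rw [hb, card_bot] at h1
        have := Nat.one_lt_pow (show n - i ≠ 0 by omega) hp.one_lt
        omega
      have h2 := h _ (iter_le hGN i) (invariant_iter hGN i) hne
      have h3 := relIndex_mul_relIndex ⊥ (Cfsg.iterCommutator N G (i + 1))
        (Cfsg.iterCommutator N G i) bot_le (comm_le_self (invariant_iter hGN i))
      rw [relIndex_bot_left, relIndex_bot_left, h1] at h3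
      rw [show (Cfsg.iterCommutator N G (i + 1)).relIndex (Cfsg.iterCommutator N G i) = p from h2,
        show n - i = n - (i + 1) + 1 by omega, pow_succ] at h3
      exact Nat.eq_of_mul_eq_mul_right hp.pos h3
  intro hb
  have h1 := key (n - 1) le_rfl
  rw [hb, card_bot, show n - (n - 1) = 1 by omega, pow_one] at h1
  exact hp.one_lt.ne h1

end CfsgLib.PGroups.Uniserial
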