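import Cfsg.Agent.Lib.PGroups.ClassTwo
import Cfsg.Agent.Lib.PGroups.SmallOrder

/-!
# Nonabelian `p`-groups with centre of index `p²`
-/

set_option autoImplicit false

namespace CfsgLib.PGroups

open scoped commutatorElement

variable {p : ℕ} [hp : Fact p.Prime] {G : Type*} [Group G] [Finite G]

/-- Structure of a nonabelian `p`-group whose centre has index at most `p²`. -/
theorem center_square_facts (hG : IsPGroup p G) (hna : ¬ IsMulCommutative G)
    (hidx : (Subgroup.center G).index ≤ p ^ 2) :
    ∃ z : G, orderOf z = p ∧ z ∈ Subgroup.center G ∧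
      (∀ a b : G, ⁅a, b⁆ ∈ Subgroup.zpowers z) ∧ (∀ a : G, a ^ p ∈ Subgroup.center G) ∧
      (∀ a b : G, ¬ Commute a b → ∀ g : G, ∃ c ∈ Subgroup.center G, ∃ j k : ℕ,
        g = c * a ^ j * b ^ k) := by
  classical
  have hp' : p.Prime := hp.out
  have hQ : Nat.card (G ⧸ Subgroup.center G) = p ^ 2 := by
    rw [← Subgroup.index_eq_card]
    exact le_antisymm hidx (sq_le_index_center hG hna)
  have hpow : ∀ a : G, a ^ p ∈ Subgroup.center G := by
    intro a
    rw [← QuotientGroup.eq_one_iff, QuotientGroup.mk_pow]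
    obtain ⟨i, hi, hord⟩ := (Nat.dvd_prime_pow hp').1
      (hQ ▸ orderOf_dvd_natCard (a : G ⧸ Subgroup.center G))
    refine orderOf_dvd_iff_pow_eq_one.1 ?_
    interval_cases i
    · rw [hord, pow_zero]; exact one_dvd p
    · rw [hord, pow_one]
    · have hcy : IsCyclic (G ⧸ Subgroup.center G) :=
        isCyclic_of_orderOf_eq_card (a : G ⧸ Subgroup.center G) (hord.trans hQ.symm)
      exact absurd (isMulCommutative_of_cyclic_quotient le_rfl) hna
  have hQab : ∀ a b : G ⧸ Subgroup.center G, a * b = b * a :=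
    IsPGroup.commutative_of_card_eq_prime_sq hQ
  have hcc : ∀ a b : G, ⁅a, b⁆ ∈ Subgroup.center G := fun a b => by
    rw [← QuotientGroup.eq_one_iff, ← QuotientGroup.mk'_apply, map_commutatorElement,
      commutatorElement_eq_one_iff_mul_comm]
    exact hQab _ _
  have hspan : ∀ a b : G, ¬ Commute a b → ∀ g : G, ∃ c ∈ Subgroup.center G, ∃ j k : ℕ,
      g = c * a ^ j * b ^ k := by
    intro a b hab g
    let f : Fin p × Fin p → G ⧸ Subgroup.center G := fun t =>
      (a : G ⧸ Subgroup.center G) ^ (t.1 : ℕ) * (b : G ⧸ Subgroup.center G) ^ (t.2 : ℕ)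
    have hap : ∀ c : G, (c : G ⧸ Subgroup.center G) ^ p = 1 := fun c => by
      rw [← QuotientGroup.mk_pow, QuotientGroup.eq_one_iff]; exact hpow c
    have hf : Function.Injective f := by
      rintro ⟨i, j⟩ ⟨i', j'⟩ h
      simp only [f] at h
      set A := (a : G ⧸ Subgroup.center G) with hA
      set B := (b : G ⧸ Subgroup.center G) with hB
      have hBj : B ^ ((j : ℕ) + (p - j')) = A ^ ((i' : ℕ) + (p - i)) := by
        calc B ^ ((j : ℕ) + (p - j'))
            = A ^ (p - (i : ℕ)) * (A ^ (i : ℕ) * B ^ (j : ℕ)) * B ^ (p - (j' : ℕ)) := by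
              rw [← mul_assoc (A ^ (p - (i : ℕ))), ← pow_add, Nat.sub_add_cancel i.2.le, hap,
                one_mul, pow_add]
          _ = A ^ ((i' : ℕ) + (p - i)) := by
              rw [h, mul_assoc, mul_assoc, ← pow_add, Nat.add_sub_cancel' j'.2.le, hap, mul_one,
                ← pow_add, add_comm]
      have hdj : p ∣ (j : ℕ) + (p - j') := by
        by_contra hd
        obtain ⟨m, -, hm⟩ := Nat.exists_mul_mod_eq_one_of_coprime
          (hp'.coprime_iff_not_dvd.2 hd).symm hp'.one_lt
        have h1 : B = A ^ (((i' : ℕ) + (p - i)) * m) := by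
          rw [pow_mul, ← hBj, ← pow_mul, pow_eq_pow_mod _ (hap b), hm, pow_one]
        rw [hA, hB, ← QuotientGroup.mk_pow, QuotientGroup.eq] at h1
        refine hab ?_
        have h2 : Commute a (b⁻¹ * a ^ (((i' : ℕ) + (p - i)) * m)) := Subgroup.mem_center_iff.1 h1 a
        have h3 := (h2.mul_right (Commute.pow_self a (((i' : ℕ) + (p - i)) * m)).symm.inv_right)
        rw [mul_inv_cancel_right] at h3
        exact Commute.inv_right_iff.1 h3
      have hdi : p ∣ (i' : ℕ) + (p - i) := by
        by_contra hd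
        obtain ⟨c, hc⟩ := hdj
        rw [hc, pow_mul, hap, one_pow] at hBj
        obtain ⟨m, -, hm⟩ := Nat.exists_mul_mod_eq_one_of_coprime
          (hp'.coprime_iff_not_dvd.2 hd).symm hp'.one_lt
        have h1 : A = 1 := by
          rw [← pow_one A, ← hm, ← pow_eq_pow_mod _ (hap a), pow_mul, ← hBj, one_pow]
        rw [hA, QuotientGroup.eq_one_iff] at h1
        exact hab (Subgroup.mem_center_iff.1 h1 b).symm
      have key : ∀ x y : Fin p, p ∣ (x : ℕ) + (p - y) → x = y := by
        intro x y hxy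
        refine Fin.ext ?_
        have := x.2; have := y.2
        obtain ⟨c, hc⟩ := hxy
        rcases lt_trichotomy c 1 with hc1 | hc1 | hc1
        · interval_cases c; omega
        · subst hc1; omega
        · have : p * 2 ≤ p * c := Nat.mul_le_mul_left p hc1
          omega
      exact Prod.ext (key _ _ hdi).symm (key _ _ hdj)
    obtain ⟨⟨j, k⟩, hjk⟩ := (hf.bijective_of_nat_card_le (by
      rw [hQ, Nat.card_prod, Nat.card_fin, pow_two])).2 (g : G ⧸ Subgroup.center G)
    refine ⟨g * (a ^ (j : ℕ) * b ^ (k : ℕ))⁻¹, ?_, j, k, by group⟩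
    rw [← QuotientGroup.eq_one_iff, QuotientGroup.mk_mul, QuotientGroup.mk_inv,
      QuotientGroup.mk_mul, QuotientGroup.mk_pow, QuotientGroup.mk_pow, ← hjk, mul_inv_cancel]
  obtain ⟨a, b, hab⟩ : ∃ a b : G, ¬ Commute a b := by
    by_contra h
    push Not at h
    exact hna ⟨⟨h⟩⟩
  have hzord : orderOf ⁅a, b⁆ = p := orderOf_eq_prime (by
    rw [← comm_pow_left_of_central (hcc a b), commutatorElement_eq_one_iff_mul_comm]
    exact (Subgroup.mem_center_iff.1 (hpow a) b).symm) fun h =>
      hab (commutatorElement_eq_one_iff_mul_comm.1 h)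
  refine ⟨⁅a, b⁆, hzord, hcc a b, fun g h => ?_, hpow, hspan⟩
  set N := Subgroup.zpowers ⁅a, b⁆ with hN
  have hNn : N.Normal := ⟨fun n hn g => by
    rw [Subgroup.mem_center_iff.1 (Subgroup.zpowers_le.2 (hcc a b) hn) g, mul_inv_cancel_right]
    exact hn⟩
  rw [← QuotientGroup.eq_one_iff, ← QuotientGroup.mk'_apply, map_commutatorElement,
    commutatorElement_eq_one_iff_mul_comm]
  set π := QuotientGroup.mk' N
  have hπ : Commute (π a) (π b) := commutatorElement_eq_one_iff_mul_comm.1 (by
    rw [← map_commutatorElement]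
    exact (QuotientGroup.eq_one_iff _).2 (Subgroup.mem_zpowers _))
  have hgen : ∀ x : G, Commute x a → Commute x b → ∀ y, Commute (π x) (π y) := by
    intro x hxa hxb y
    obtain ⟨c, hc, j, k, rfl⟩ := hspan a b hab y
    rw [map_mul, map_mul, map_pow, map_pow]
    have h1 : Commute x c := Subgroup.mem_center_iff.1 hc x
    exact ((h1.map π).mul_right ((hxa.map π).pow_right j)).mul_right ((hxb.map π).pow_right k)
  obtain ⟨c, hc, j, k, rfl⟩ := hspan a b hab g
  obtain ⟨c', hc', j', k', rfl⟩ := hspan a b hab h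
  have h1 := hgen c (Subgroup.mem_center_iff.1 hc a).symm (Subgroup.mem_center_iff.1 hc b).symm
  have h2 := hgen c' (Subgroup.mem_center_iff.1 hc' a).symm (Subgroup.mem_center_iff.1 hc' b).symm
  rw [map_mul, map_mul, map_pow, map_pow, map_mul, map_mul, map_pow, map_pow]
  refine (Commute.mul_left (Commute.mul_left ?_ ?_) ?_).eq
  · refine ((h1 c').mul_right ?_).mul_right ?_
    · exact (h1 a).pow_right j'
    · exact (h1 b).pow_right k'
  · refine ((h2 a).symm.pow_left j |>.mul_right ?_).mul_right ?_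
    · exact Commute.pow_pow_self (π a) j j'
    · exact hπ.pow_pow j k'
  · refine ((h2 b).symm.pow_left k |>.mul_right ?_).mul_right ?_
    · exact (hπ.pow_pow j' k).symm
    · exact Commute.pow_pow_self (π b) k k'

end CfsgLib.PGroups
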