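import Cfsg.Agent.Lib.PGroups.Basic

/-!
# Two conjugate transvections of an abelian group

`E` is abelian, `u` moves every element into its coset of `⟨z⟩` and fixes `z`, and `⟨u⟩` is a maximal
`p`-subgroup of the group `G` of automorphisms. A conjugate of `u` outside `⟨u⟩` together with `u`
splits off a plane.
-/

set_option autoImplicit false

namespace CfsgLib.PGroups.Transvections

variable {p : ℕ} [hp : Fact p.Prime] {E : Type*} [Group E] [Finite E]

theorem iterate_shift (σ : MulAut E) {e v : E} (h : σ e = e * v) (hv : σ v = v) :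
    ∀ n : ℕ, (σ ^ n) e = e * v ^ n := by
  intro n
  induction n with
  | zero => simp
  | succ n ih =>
    rw [pow_succ', MulAut.mul_apply, ih, map_mul, map_pow, h, hv, mul_assoc, ← pow_succ']

theorem pow_fix {σ : MulAut E} {e v : E} {q : ℕ} (h : σ e = e * v) (hv : σ v = v)
    (hq : v ^ q = 1) : (σ ^ q) e = e := by
  rw [iterate_shift σ h hv, hq, mul_one]

/-- The stabiliser of a short series is a `p`-group. -/
theorem stab_isPGroup (hab : ∀ a b : E, a * b = b * a) {a b : E} (ha : a ^ p = 1) (hb : b ^ p = 1)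
    (H : Subgroup (MulAut E))
    (hH : ∀ σ ∈ H, σ a = a ∧ (∃ i : ℕ, σ b = b * a ^ i) ∧
      ∀ e, ∃ i j : ℕ, σ e = e * (a ^ i * b ^ j)) : IsPGroup p H := by
  intro σ
  obtain ⟨h1, ⟨k, h2⟩, -⟩ := hH σ σ.2
  set τ : MulAut E := (σ : MulAut E) ^ p with hτ
  have hτa : τ a = a := by
    rw [hτ, pow_fix (v := (1 : E)) (by rw [h1, mul_one]) (map_one _) (one_pow p)]
  have hτb : τ b = b := by
    rw [hτ, pow_fix h2 (by rw [map_pow, h1])]
    rw [← pow_mul, mul_comm, pow_mul, ha, one_pow]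
  refine ⟨2, Subtype.ext (MulEquiv.ext fun e => ?_)⟩
  obtain ⟨i, j, he⟩ := (hH τ (pow_mem σ.2 p)).2.2 e
  show ((σ : MulAut E) ^ p ^ 2) e = e
  rw [pow_two, pow_mul, ← hτ]
  refine pow_fix he (by rw [map_mul, map_pow, map_pow, hτa, hτb]) ?_
  rw [Commute.mul_pow (hab _ _), ← pow_mul, mul_comm i, pow_mul, ha, one_pow, one_mul, ← pow_mul,
    mul_comm, pow_mul, hb, one_pow]

variable {G : Subgroup (MulAut E)} {u γ : MulAut E} {z : E}

/-- The series stabiliser, as a subgroup. -/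
theorem exists_stab (G : Subgroup (MulAut E)) (hab : ∀ a b : E, a * b = b * a) (a b : E) :
    ∃ H : Subgroup (MulAut E), H ≤ G ∧
      (∀ σ ∈ H, σ a = a ∧ (∃ i : ℕ, σ b = b * a ^ i) ∧
        ∀ e, ∃ i j : ℕ, σ e = e * (a ^ i * b ^ j)) ∧
      ∀ σ ∈ G, σ a = a → (∃ i : ℕ, σ b = b * a ^ i) →
        (∀ e, ∃ i j : ℕ, σ e = e * (a ^ i * b ^ j)) → σ ∈ H := by
  let M : Submonoid (MulAut E) :=
    { carrier := {σ | σ ∈ G ∧ σ a = a ∧ (∃ i : ℕ, σ b = b * a ^ i) ∧
        ∀ e, ∃ i j : ℕ, σ e = e * (a ^ i * b ^ j)}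
      one_mem' := ⟨G.one_mem, rfl, ⟨0, by simp⟩, fun e => ⟨0, 0, by simp⟩⟩
      mul_mem' := by
        rintro σ τ ⟨hσG, hσa, ⟨i, hσb⟩, hσe⟩ ⟨hτG, hτa, ⟨j, hτb⟩, hτe⟩
        refine ⟨G.mul_mem hσG hτG, by rw [MulAut.mul_apply, hτa, hσa], ⟨i + j, ?_⟩, fun e => ?_⟩
        · rw [MulAut.mul_apply, hτb, map_mul, map_pow, hσa, hσb, mul_assoc, ← pow_add]
        · obtain ⟨k, l, h1⟩ := hτe e
          obtain ⟨k', l', h2⟩ := hσe e
          refine ⟨k' + k + i * l, l' + l, ?_⟩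
          rw [MulAut.mul_apply, h1, map_mul, map_mul, map_pow, map_pow, hσa, hσb, h2,
            Commute.mul_pow (hab b (a ^ i)), pow_add, pow_add, pow_add, ← pow_mul]
          have hc : ∀ x y z : E, x * (y * z) = y * (x * z) := fun x y z => by
            rw [← mul_assoc, hab x y, mul_assoc]
          simp only [mul_assoc]
          congr 1
          rw [hc (b ^ l'), hab (b ^ l) (a ^ (i * l)), hc (b ^ l') (a ^ (i * l))] }
  haveI : Finite (MulAut E) := Finite.of_injective _ (DFunLike.coe_injective (F := E ≃* E))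
  let H : Subgroup (MulAut E) :=
    { M with
      inv_mem' := fun {σ} hσ => by
        show σ⁻¹ ∈ M
        have : σ⁻¹ = σ ^ (orderOf σ - 1) := by
          refine inv_eq_of_mul_eq_one_right ?_
          rw [← pow_succ', Nat.sub_add_cancel (orderOf_pos σ), pow_orderOf_eq_one]
        rw [this]
        exact M.pow_mem hσ _ }
  exact ⟨H, fun σ h => h.1, fun σ h => h.2, fun σ h1 h2 h3 h4 => ⟨h1, h2, h3, h4⟩⟩

theorem conj_move (hu : ∀ e, ∃ i : ℕ, u e = e * z ^ i) (e : E) :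
    ∃ i : ℕ, (γ * u * γ⁻¹) e = e * γ z ^ i := by
  obtain ⟨i, hi⟩ := hu (γ⁻¹ e)
  exact ⟨i, by rw [MulAut.mul_apply, MulAut.mul_apply, hi, map_mul, map_pow, MulAut.apply_inv_self]⟩

theorem conj_fix (huz : u z = z) : (γ * u * γ⁻¹) (γ z) = γ z := by
  rw [MulAut.mul_apply, MulAut.mul_apply, MulAut.inv_apply_self, huz]

section

variable (hab : ∀ a b : E, a * b = b * a) (hzp : z ^ p = 1) (huG : u ∈ G)
  (hu : ∀ e, ∃ i : ℕ, u e = e * z ^ i) (huz : u z = z)
  (hmax : ∀ H : Subgroup (MulAut E), H ≤ G → IsPGroup p H → u ∈ H → H ≤ Subgroup.zpowers u)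

include hab hzp huG hu huz hmax

/-- The two centres are moved. -/
theorem center_moved (hγ : γ ∈ G) (ht : γ * u * γ⁻¹ ∉ Subgroup.zpowers u) :
    u (γ z) ≠ γ z ∧ (γ * u * γ⁻¹) z ≠ z := by
  have hwp : γ z ^ p = 1 := by rw [← map_pow, hzp, map_one]
  have htG : γ * u * γ⁻¹ ∈ G := G.mul_mem (G.mul_mem hγ huG) (G.inv_mem hγ)
  constructor
  · intro h
    obtain ⟨H, hHG, hH, hmem⟩ := exists_stab G hab (γ z) z
    refine ht (hmax H hHG (stab_isPGroup hab hwp hzp H hH) (hmem u huG h ⟨0, by simp [huz]⟩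
      fun e => ?_) (hmem _ htG (conj_fix huz) (conj_move hu z) fun e => ?_))
    · obtain ⟨i, hi⟩ := hu e
      exact ⟨0, i, by simp [hi]⟩
    · obtain ⟨i, hi⟩ := conj_move (γ := γ) hu e
      exact ⟨i, 0, by rw [hi]; simp⟩
  · intro h
    obtain ⟨H, hHG, hH, hmem⟩ := exists_stab G hab z (γ z)
    refine ht (hmax H hHG (stab_isPGroup hab hzp hwp H hH) (hmem u huG huz (hu (γ z)) fun e => ?_)
      (hmem _ htG h ⟨0, by simp [conj_fix huz]⟩ fun e => ?_))
    · obtain ⟨i, hi⟩ := hu e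
      exact ⟨i, 0, by simp [hi]⟩
    · obtain ⟨i, hi⟩ := conj_move (γ := γ) hu e
      exact ⟨0, i, by rw [hi]; simp⟩

/-- Splitting off the plane. -/
theorem decomposition (hγ : γ ∈ G) (ht : γ * u * γ⁻¹ ∉ Subgroup.zpowers u) (e : E) :
    ∃ (a : E) (i j : ℕ), u a = a ∧ (γ * u * γ⁻¹) a = a ∧ e = a * z ^ i * γ z ^ j := by
  obtain ⟨h1, h2⟩ := center_moved hab hzp huG hu huz hmax hγ ht
  have hp' : p.Prime := hp.out
  have hwp : γ z ^ p = 1 := by rw [← map_pow, hzp, map_one]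
  set t := γ * u * γ⁻¹ with htd
  set w := γ z with hw
  have solve : ∀ (σ : MulAut E) (c d : E), c ^ p = 1 → d ^ p = 1 → σ c = c →
      (∀ e, ∃ i : ℕ, σ e = e * c ^ i) → σ d ≠ d →
      ∀ e, ∃ n : ℕ, σ (e * d ^ n) = e * d ^ n := by
    intro σ c d hc hd hσc hσ hσd e
    obtain ⟨k, hk⟩ := hσ d
    obtain ⟨i, hi⟩ := hσ e
    have hpk : ¬ p ∣ k := fun ⟨q, hq⟩ => hσd (by rw [hk, hq, pow_mul, hc, one_pow, mul_one])
    obtain ⟨m, -, hm⟩ := Nat.exists_mul_mod_eq_one_of_coprime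
      (hp'.coprime_iff_not_dvd.2 hpk).symm hp'.one_lt
    refine ⟨m * ((p - 1) * i), ?_⟩
    have e1 : (c ^ k) ^ (m * ((p - 1) * i)) = (c ^ i)⁻¹ := by
      rw [← pow_mul, ← mul_assoc, pow_mul, pow_eq_pow_mod _ hc, hm, pow_one]
      refine eq_inv_of_mul_eq_one_left ?_
      rw [← pow_add, show (p - 1) * i + i = p * i by
        rw [← Nat.succ_mul, Nat.succ_eq_add_one, Nat.sub_add_cancel hp'.one_le], pow_mul, hc, one_pow]
    rw [map_mul, map_pow, hk, Commute.mul_pow (hab _ _), hi, e1,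
      hab (d ^ (m * ((p - 1) * i))), ← mul_assoc, mul_inv_cancel_right]
  obtain ⟨n, hn⟩ := solve u z w hzp hwp huz hu h1 e
  obtain ⟨l, hl⟩ := solve t w z hwp hzp (conj_fix huz) (conj_move hu) h2 (e * w ^ n)
  refine ⟨e * w ^ n * z ^ l, (p - 1) * l, (p - 1) * n, by rw [map_mul, hn, map_pow, huz], hl, ?_⟩
  have e2 : ∀ (c : E) (q : ℕ), c ^ p = 1 → c ^ q * c ^ ((p - 1) * q) = 1 := fun c q hc => by
    rw [← pow_add, show q + (p - 1) * q = p * q by
      rw [add_comm, ← Nat.succ_mul, Nat.succ_eq_add_one, Nat.sub_add_cancel hp'.one_le], pow_mul,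
      hc, one_pow]
  rw [mul_assoc (e * w ^ n), e2 z l hzp, mul_one, mul_assoc e, e2 w n hwp, mul_one]

/-- An automorphism inverting the plane, commuting with `u`. -/
theorem exists_inverting (hγ : γ ∈ G) (ht : γ * u * γ⁻¹ ∉ Subgroup.zpowers u) :
    ∃ τ ∈ G, τ z = z⁻¹ ∧ (∀ a, u a = a → (γ * u * γ⁻¹) a = a → τ a = a) ∧
      τ (γ z) = (γ z)⁻¹ ∧ ∀ e, τ (u e) = u (τ e) := by
  obtain ⟨h1, h2⟩ := center_moved hab hzp huG hu huz hmax hγ ht
  have hp' : p.Prime := hp.out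
  have hwp : γ z ^ p = 1 := by rw [← map_pow, hzp, map_one]
  set t := γ * u * γ⁻¹ with htd
  set w := γ z with hw
  have scale : ∀ (σ : MulAut E) (c d : E) (r : ℕ), c ^ p = 1 → σ c = c →
      (∀ e, ∃ i : ℕ, σ e = e * c ^ i) → σ d ≠ d → ∃ m : ℕ, (σ ^ m) d = d * c ^ r := by
    intro σ c d r hc hσc hσ hσd
    obtain ⟨k, hk⟩ := hσ d
    have hpk : ¬ p ∣ k := fun ⟨q, hq⟩ => hσd (by rw [hk, hq, pow_mul, hc, one_pow, mul_one])
    obtain ⟨m, -, hm⟩ := Nat.exists_mul_mod_eq_one_of_coprime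
      (hp'.coprime_iff_not_dvd.2 hpk).symm hp'.one_lt
    refine ⟨m * r, ?_⟩
    rw [iterate_shift σ hk (by rw [map_pow, hσc]), ← pow_mul, ← mul_assoc, pow_mul,
      pow_eq_pow_mod _ hc, hm, pow_one]
  have htw : t w = w := conj_fix huz
  have fixpow : ∀ (σ : MulAut E) (c : E) (m : ℕ), σ c = c → (σ ^ m) c = c := fun σ c m h => by
    rw [iterate_shift σ (v := (1 : E)) (by rw [h, mul_one]) (map_one _), one_pow, mul_one]
  obtain ⟨m, hm⟩ := scale u z w 1 hzp huz hu h1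
  obtain ⟨m', hm'⟩ := scale t w z (p - 1) hwp htw (conj_move hu) h2
  rw [pow_one] at hm
  have hw' : w ^ (p - 1) = w⁻¹ := eq_inv_of_mul_eq_one_left (by
    rw [← pow_succ, Nat.sub_add_cancel hp'.one_le, hwp])
  rw [hw'] at hm'
  set U := u ^ m with hU
  set V := t ^ m' with hV
  have hUz : U z = z := fixpow u z m huz
  have hVw : V w = w := fixpow t w m' htw
  set T := U * V * U with hT
  have hTz : T z = w⁻¹ := by
    show U (V (U z)) = _
    rw [hUz, hm', map_mul, map_inv, hUz, hm, mul_inv_rev, ← mul_assoc, mul_inv_cancel, one_mul]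
  have hTw : T w = z := by
    show U (V (U w)) = _
    rw [hm, map_mul, hVw, hm', hab z, mul_inv_cancel_left, hUz]
  have hTG : T ∈ G := G.mul_mem (G.mul_mem (G.pow_mem huG m)
    (G.pow_mem (G.mul_mem (G.mul_mem hγ huG) (G.inv_mem hγ)) m')) (G.pow_mem huG m)
  have hτz : (T * T) z = z⁻¹ := by rw [MulAut.mul_apply, hTz, map_inv, hTw]
  have hτw : (T * T) w = w⁻¹ := by rw [MulAut.mul_apply, hTw, hTz]
  have hτa : ∀ a, u a = a → t a = a → (T * T) a = a := fun a hua hta => by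
    have hTa : T a = a := by
      show U (V (U a)) = a
      rw [fixpow u a m hua, fixpow t a m' hta, fixpow u a m hua]
    rw [MulAut.mul_apply, hTa, hTa]
  refine ⟨T * T, G.mul_mem hTG hTG, hτz, hτa, hτw, fun e => ?_⟩
  obtain ⟨a, i, j, hua, hta, rfl⟩ := decomposition hab hzp huG hu huz hmax hγ ht e
  obtain ⟨k, hk⟩ := hu w
  have hwz : (T * T) (u w) = u ((T * T) w) := by
    rw [hk, map_mul, map_pow, hτz, hτw, map_inv, hk, mul_inv_rev, hab, inv_pow]
  simp only [map_mul, map_pow, hτa a hua hta, hua, huz, hτz, map_inv, hw ▸ hwz]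

end

/-- `p = 2`: the group permutes the three transvections. -/
theorem two_transvections {E : Type*} [Group E] [Finite E] {G : Subgroup (MulAut E)}
    {u γ : MulAut E} {z : E} (hab : ∀ a b : E, a * b = b * a) (hzp : z ^ 2 = 1) (huG : u ∈ G)
    (hu : ∀ e, ∃ i : ℕ, u e = e * z ^ i) (huz : u z = z)
    (hmax : ∀ H : Subgroup (MulAut E), H ≤ G → IsPGroup 2 H → u ∈ H → H ≤ Subgroup.zpowers u)
    (hγ : γ ∈ G) (ht : γ * u * γ⁻¹ ∉ Subgroup.zpowers u) :
    ∀ σ ∈ G, (σ z = z ∨ σ z = γ z ∨ σ z = z * γ z) ∧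
      (∀ a, u a = a → (γ * u * γ⁻¹) a = a →
        u (σ a) = σ a ∧ (γ * u * γ⁻¹) (σ a) = σ a) ∧
      ∃ l ∈ G, (∀ a, u a = a → (γ * u * γ⁻¹) a = a → l a = a) ∧ l * σ * u = u * (l * σ) := by
  haveI : Fact (Nat.Prime 2) := ⟨Nat.prime_two⟩
  obtain ⟨h1, h2⟩ := center_moved hab hzp huG hu huz hmax hγ ht
  have h01 : ∀ (c : E) (i : ℕ), c ^ 2 = 1 → c ^ i = 1 ∨ c ^ i = c := fun c i hc => by
    rw [pow_eq_pow_mod i hc]
    rcases Nat.mod_two_eq_zero_or_one i with h | h <;> simp [h]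
  have hmv : ∀ e, u e = e ∨ u e = e * z := fun e => by
    obtain ⟨i, hi⟩ := hu e
    rcases h01 z i hzp with h | h <;> simp [hi, h]
  have hu2 : u * u = 1 := MulEquiv.ext fun e => by
    show u (u e) = e
    rcases hmv e with h | h
    · rw [h, h]
    · rw [h, map_mul, h, huz, mul_assoc e, ← pow_two, hzp, mul_one]
  have hzu : ∀ ψ ∈ Subgroup.zpowers u, ψ = 1 ∨ ψ = u := fun ψ hψ => by
    obtain ⟨n, rfl⟩ := mem_powers_iff_mem_zpowers.2 hψ
    show u ^ n = 1 ∨ u ^ n = u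
    rw [pow_eq_pow_mod n (show u ^ 2 = 1 by rw [pow_two, hu2])]
    rcases Nat.mod_two_eq_zero_or_one n with h | h <;> simp [h]
  have hu1 : u ≠ 1 := fun h => h1 (by rw [h]; rfl)
  set w := γ z with hw
  have hwp : w ^ 2 = 1 := by rw [hw, ← map_pow, hzp, map_one]
  -- transvections and centres correspond
  have hfix : ∀ δ ∈ G, δ z = z → δ * u * δ⁻¹ = u := fun δ hδ hδz => by
    have h : δ * u * δ⁻¹ ∈ Subgroup.zpowers u := by
      by_contra h
      exact (center_moved hab hzp huG hu huz hmax hδ h).1 (by rw [hδz, huz])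
    exact (hzu _ h).resolve_left fun h' => hu1 (by
      rw [← conj_eq_one_iff (a := δ), h'])
  have hfix' : ∀ δ : MulAut E, δ * u * δ⁻¹ = u → δ z = z := fun δ h => by
    by_contra hne
    have hcm : δ * u = u * δ := mul_inv_eq_iff_eq_mul.1 h
    have hh : u (δ w) = δ (u w) := (DFunLike.congr_fun hcm w).symm
    rw [(hmv w).resolve_left h1, map_mul] at hh
    rcases hmv (δ w) with h3 | h3 <;> rw [h3] at hh
    · exact (fun h0 : z = 1 => h1 (by rw [(hmv w).resolve_left h1, h0, mul_one]))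
        (δ.injective (by rw [map_one]; exact left_eq_mul.1 hh))
    · exact hne (mul_left_cancel hh).symm
  have hmove : ∀ δ ∈ G, δ z ≠ z → u (δ z) = δ z * z := fun δ hδ hne => by
    refine (hmv _).resolve_left (center_moved hab hzp huG hu huz hmax hδ fun h => ?_).1
    rcases hzu _ h with h' | h'
    · exact hu1 (by rw [← conj_eq_one_iff (a := δ), h'])
    · exact hne (hfix' δ h')
  have hrel : ∀ δ ∈ G, ∀ σ ∈ G, σ z ≠ δ z → (δ * u * δ⁻¹) (σ z) = σ z * δ z := by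
    intro δ hδ σ hσ hne
    have := hmove (δ⁻¹ * σ) (G.mul_mem (G.inv_mem hδ) hσ) fun h => hne (by
      have h' := congrArg δ h
      rwa [MulAut.mul_apply, MulAut.apply_inv_self] at h')
    rw [MulAut.mul_apply] at this
    rw [MulAut.mul_apply, MulAut.mul_apply, this, map_mul, MulAut.apply_inv_self]
  set t := γ * u * γ⁻¹ with htd
  have htG : t ∈ G := G.mul_mem (G.mul_mem hγ huG) (G.inv_mem hγ)
  have hwz : w ≠ z := fun h => h1 (by rw [h, huz])
  have htz : t z = z * w := by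
    have := hrel γ hγ 1 G.one_mem (fun h => hwz h.symm)
    rw [MulAut.one_apply] at this; exact this
  have htw : t w = w := conj_fix huz
  have ht2 : t * t = 1 := by
    rw [htd, show γ * u * γ⁻¹ * (γ * u * γ⁻¹) = γ * (u * u) * γ⁻¹ by group, hu2, mul_one,
      mul_inv_cancel]
  have hti : t⁻¹ = t := inv_eq_of_mul_eq_one_right ht2
  have hc3 : ∀ σ ∈ G, σ z = z ∨ σ z = w ∨ σ z = z * w := by
    intro σ hσ
    by_contra hne
    push Not at hne
    obtain ⟨n1, n2, n3⟩ := hne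
    have a1 : u (σ z) = σ z * z := hmove σ hσ n1
    have a2 : t (σ z) = σ z * w := hrel γ hγ σ hσ n2
    have a3 : (t * u * t⁻¹) (σ z) = σ z * (z * w) := by
      rw [← htz]
      exact hrel t htG σ hσ (by rw [htz]; exact n3)
    have a4 : (t * u * t⁻¹) (σ z) = σ z := by
      rw [hti]
      show t (u (t (σ z))) = _
      rw [a2, map_mul, a1, (hmv w).resolve_left h1, show σ z * z * (w * z) = σ z * w by
        rw [hab w z, mul_assoc (σ z), ← mul_assoc z z, ← pow_two, hzp, one_mul], map_mul, a2, htw,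
        mul_assoc, ← pow_two, hwp, mul_one]
    rw [a4, left_eq_mul, mul_eq_one_iff_eq_inv] at a3
    exact hwz (by rw [a3, inv_eq_of_mul_eq_one_right (a := w) (by rw [← pow_two]; exact hwp)])
  intro σ hσ
  refine ⟨hc3 σ hσ, fun a hua hta => ?_, ?_⟩
  · have hall : ∀ δ ∈ G, (δ * u * δ⁻¹) a = a := fun δ hδ => by
      have key : ∀ ε ∈ G, δ z = ε z → δ * u * δ⁻¹ = ε * u * ε⁻¹ := fun ε hε h => by
        have := hfix (ε⁻¹ * δ) (G.mul_mem (G.inv_mem hε) hδ) (by
          rw [MulAut.mul_apply, h, MulAut.inv_apply_self])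
        calc δ * u * δ⁻¹ = ε * (ε⁻¹ * δ * u * (ε⁻¹ * δ)⁻¹) * ε⁻¹ := by group
          _ = _ := by rw [this]
      rcases hc3 δ hδ with h | h | h
      · rw [key 1 G.one_mem h]; simpa using hua
      · rw [key γ hγ h]; exact hta
      · rw [key t htG (h.trans htz.symm), hti]
        show t (u (t a)) = a
        rw [hta, hua, hta]
    constructor
    · have h := hall σ⁻¹ (G.inv_mem hσ)
      rw [inv_inv] at h
      apply (σ⁻¹).injective
      rw [MulAut.inv_apply_self]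
      exact h
    · have h := hall (σ⁻¹ * γ) (G.mul_mem (G.inv_mem hσ) hγ)
      apply (σ⁻¹).injective
      rw [MulAut.inv_apply_self]
      simpa [htd, mul_assoc] using h
  · obtain ⟨l, hlG, hla, hlz⟩ : ∃ l ∈ G, (∀ a, u a = a → t a = a → l a = a) ∧ l (σ z) = z := by
      rcases hc3 σ hσ with h | h | h
      · exact ⟨1, G.one_mem, fun a _ _ => rfl, h⟩
      · exact ⟨t * u, G.mul_mem htG huG, fun a hua hta => by rw [MulAut.mul_apply, hua, hta], by
          rw [h, MulAut.mul_apply, (hmv w).resolve_left h1, map_mul, htw, htz, hab z w,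
            ← mul_assoc, ← pow_two, hwp, one_mul]⟩
      · exact ⟨t, htG, fun a _ hta => hta, by
          rw [h, map_mul, htz, htw, mul_assoc, ← pow_two, hwp, mul_one]⟩
    exact ⟨l, hlG, hla, mul_inv_eq_iff_eq_mul.1 (hfix (l * σ) (G.mul_mem hlG hσ) hlz)⟩

end CfsgLib.PGroups.Transvections
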