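import Cfsg.Agent.Lib.PGroups.ClassTwo
import Cfsg.Agent.Lib.PGroups.Extraspecial
import Cfsg.Agent.Lib.Signalizer.Involutions
import Mathlib.GroupTheory.SpecificGroups.Dihedral
import Mathlib.Algebra.Group.TransferInstance

/-!
# Splitting off an elementary central factor from a group with elementary centre and plane quotient
-/

set_option autoImplicit false

namespace CfsgLib.PGroups

open scoped commutatorElement Pointwise

variable {p : ℕ} [hp : Fact p.Prime] {P : Type*} [Group P] [Finite P]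

/-- The structure `⟨w, y⟩ × A`. -/
theorem exists_times_elementary {z w y : P} (hz : orderOf z = p) (hzc : z ∈ Subgroup.center P)
    (hw : w ^ p = 1) (hy : y ^ p = 1) (hyw : y * w * y⁻¹ = w * z)
    (hcexp : ∀ a ∈ Subgroup.center P, a ^ p = 1)
    (hgen : ∀ g : P, ∃ a ∈ Subgroup.center P, ∃ j k : ℕ, g = a * w ^ j * y ^ k) :
    ∃ (E₀ A₀ : Subgroup P), w ∈ E₀ ∧ y ∈ E₀ ∧ A₀ ≤ Subgroup.center P ∧ Nat.card E₀ = p ^ 3 ∧
      (∀ g ∈ E₀, ∃ i j k : ℕ, g = z ^ i * w ^ j * y ^ k) ∧ Nonempty (P ≃* E₀ × A₀) := by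
  classical
  have hp' : p.Prime := hp.out
  have hzp : z ^ p = 1 := by rw [← hz, pow_orderOf_eq_one]
  have hzcom : ∀ g : P, Commute g z := fun g => Subgroup.mem_center_iff.1 hzc g
  have hconj : ∀ k : ℕ, y ^ k * w * (y ^ k)⁻¹ = w * z ^ k := by
    intro k
    induction k with
    | zero => simp
    | succ k ih =>
      calc y ^ (k + 1) * w * (y ^ (k + 1))⁻¹ = y * (y ^ k * w * (y ^ k)⁻¹) * y⁻¹ := by
            rw [pow_succ']; group
        _ = (y * w * y⁻¹) * (y * z ^ k * y⁻¹) := by rw [ih]; group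
        _ = w * z ^ (k + 1) := by
            rw [hyw, ((hzcom y).pow_right k).eq, mul_inv_cancel_right, mul_assoc, ← pow_succ']
  have hswap : ∀ j k : ℕ, y ^ k * w ^ j = z ^ (k * j) * w ^ j * y ^ k := by
    intro j k
    have h : y ^ k * w ^ j * (y ^ k)⁻¹ = (w * z ^ k) ^ j := by rw [← hconj, conj_pow]
    rw [((hzcom w).pow_right k).mul_pow, ← pow_mul] at h
    rw [((hzcom (w ^ j)).pow_right (k * j)).symm.eq, ← h, inv_mul_cancel_right]
  -- the subgroup
  let E₁ : Submonoid P :=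
    { carrier := {g | ∃ i j k : ℕ, g = z ^ i * w ^ j * y ^ k}
      one_mem' := ⟨0, 0, 0, by simp⟩
      mul_mem' := by
        rintro _ _ ⟨i, j, k, rfl⟩ ⟨i', j', k', rfl⟩
        refine ⟨i + i' + k * j', j + j', k + k', ?_⟩
        have c1 : ∀ g : P, ∀ n : ℕ, g * z ^ n = z ^ n * g := fun g n => ((hzcom g).pow_right n).eq
        calc z ^ i * w ^ j * y ^ k * (z ^ i' * w ^ j' * y ^ k')
            = z ^ i * w ^ j * (y ^ k * z ^ i') * w ^ j' * y ^ k' := by group
          _ = z ^ i * (w ^ j * z ^ i') * (y ^ k * w ^ j') * y ^ k' := by rw [c1]; group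
          _ = z ^ i * z ^ i' * (w ^ j * z ^ (k * j')) * w ^ j' * (y ^ k * y ^ k') := by
            rw [c1, hswap]; group
          _ = _ := by
            rw [c1 (w ^ j) (k * j'), pow_add z, pow_add z, pow_add w, pow_add y]
            simp only [mul_assoc] }
  let E₀ : Subgroup P :=
    { E₁ with
      inv_mem' := fun {g} hg => by
        show g⁻¹ ∈ E₁
        have : g⁻¹ = g ^ (orderOf g - 1) := by
          refine inv_eq_of_mul_eq_one_right ?_
          rw [← pow_succ', Nat.sub_add_cancel (orderOf_pos g), pow_orderOf_eq_one]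
        rw [this]
        exact E₁.pow_mem hg _ }
  have hmem : ∀ g, g ∈ E₀ ↔ ∃ i j k : ℕ, g = z ^ i * w ^ j * y ^ k := fun g => Iff.rfl
  have hzi : ∀ i : ℕ, z ^ i = 1 ↔ p ∣ i := fun i => by rw [← orderOf_dvd_iff_pow_eq_one, hz]
  -- central elements of the subgroup
  have hcent : ∀ i j k : ℕ, z ^ i * w ^ j * y ^ k ∈ Subgroup.center P → p ∣ j ∧ p ∣ k := by
    intro i j k h
    have hwk : Commute w (w ^ j * y ^ k) := by
      have h1 := Subgroup.mem_center_iff.1 h w
      rw [mul_assoc (z ^ i), ← mul_assoc w, ((hzcom w).pow_right i).eq, mul_assoc (z ^ i),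
        mul_assoc (z ^ i)] at h1
      exact mul_left_cancel h1
    have hk : p ∣ k := by
      have h1 : w * y ^ k = y ^ k * w := by
        have h2 := hwk.eq
        rw [← mul_assoc, ← pow_succ', pow_succ, mul_assoc, mul_assoc] at h2
        exact mul_left_cancel h2
      have h3 : y ^ k * w * (y ^ k)⁻¹ = w := by rw [← h1, mul_inv_cancel_right]
      rw [hconj, mul_eq_left, hzi] at h3
      exact h3
    have hyk : y ^ k = 1 := by obtain ⟨c, rfl⟩ := hk; rw [pow_mul, hy, one_pow]
    rw [hyk, mul_one] at h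
    refine ⟨?_, hk⟩
    have h1 := Subgroup.mem_center_iff.1 h y
    rw [← mul_assoc, ((hzcom y).pow_right i).eq, mul_assoc, mul_assoc] at h1
    have h2 := mul_left_cancel h1
    have h3 := hswap j 1
    rw [pow_one, one_mul, h2, mul_assoc] at h3
    exact (hzi j).1 (mul_eq_right.1 h3.symm)
  have hcard : Nat.card E₀ = p ^ 3 := by
    let f : Fin p × Fin p × Fin p → E₀ := fun t =>
      ⟨z ^ (t.1 : ℕ) * w ^ (t.2.1 : ℕ) * y ^ (t.2.2 : ℕ), ⟨_, _, _, rfl⟩⟩
    have hf : Function.Bijective f := by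
      constructor
      · rintro ⟨i, j, k⟩ ⟨i', j', k'⟩ h
        have h' : z ^ (i : ℕ) * w ^ (j : ℕ) * y ^ (k : ℕ) = z ^ (i' : ℕ) * w ^ (j' : ℕ) * y ^ (k' : ℕ) :=
          congrArg Subtype.val h
        -- move everything to one side
        have hk : z ^ (i : ℕ) * w ^ (j : ℕ) * y ^ ((k : ℕ) + (p - k')) =
            z ^ (i' : ℕ) * w ^ (j' : ℕ) := by
          rw [pow_add, ← mul_assoc, h', mul_assoc, ← pow_add, Nat.add_sub_cancel' k'.2.le, hy, mul_one]
        have h1 : z ^ ((i : ℕ) + (p - i')) * w ^ ((p - j') + (j : ℕ)) * y ^ ((k : ℕ) + (p - k')) = 1 := by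
          calc _ = z ^ (p - (i' : ℕ)) * (z ^ (i : ℕ) * w ^ (p - (j' : ℕ))) *
                w ^ (j : ℕ) * y ^ ((k : ℕ) + (p - k')) := by
                rw [add_comm (i : ℕ), pow_add z, pow_add w]; group
            _ = z ^ (p - (i' : ℕ)) * w ^ (p - (j' : ℕ)) *
                (z ^ (i : ℕ) * w ^ (j : ℕ) * y ^ ((k : ℕ) + (p - k'))) := by
                rw [← ((hzcom (w ^ (p - (j' : ℕ)))).pow_right (i : ℕ)).eq]; group
            _ = z ^ (p - (i' : ℕ)) * (w ^ (p - (j' : ℕ)) * z ^ (i' : ℕ)) * w ^ (j' : ℕ) := by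
                rw [hk]; group
            _ = 1 := by
                rw [((hzcom (w ^ (p - (j' : ℕ)))).pow_right (i' : ℕ)).eq, ← mul_assoc, mul_assoc,
                  ← pow_add, ← pow_add, Nat.sub_add_cancel i'.2.le, Nat.sub_add_cancel j'.2.le,
                  hzp, hw, one_mul]
        obtain ⟨hdj, hdk⟩ := hcent _ _ _ (h1 ▸ (Subgroup.center P).one_mem)
        have hdi : p ∣ (i : ℕ) + (p - i') := by
          obtain ⟨c, hc⟩ := hdj
          obtain ⟨d, hd⟩ := hdk
          rw [hc, hd, pow_mul, hw, one_pow, pow_mul, hy, one_pow, mul_one, mul_one, hzi] at h1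
          exact h1
        have key : ∀ a b : Fin p, p ∣ (a : ℕ) + (p - b) → a = b := by
          intro a b hab
          refine Fin.ext ?_
          have := a.2; have := b.2
          obtain ⟨c, hc⟩ := hab
          rcases lt_trichotomy c 1 with h | h | h
          · interval_cases c; omega
          · subst h; omega
          · have : p * 2 ≤ p * c := Nat.mul_le_mul_left p h
            omega
        rw [add_comm] at hdj
        exact Prod.ext (key _ _ hdi) (Prod.ext (key _ _ hdj) (key _ _ hdk))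
      · rintro ⟨_, i, j, k, rfl⟩
        refine ⟨(⟨i % p, Nat.mod_lt _ hp'.pos⟩, ⟨j % p, Nat.mod_lt _ hp'.pos⟩,
          ⟨k % p, Nat.mod_lt _ hp'.pos⟩), Subtype.ext ?_⟩
        show z ^ (i % p) * w ^ (j % p) * y ^ (k % p) = _
        rw [← pow_eq_pow_mod _ hzp, ← pow_eq_pow_mod _ hw, ← pow_eq_pow_mod _ hy]
    rw [← Nat.card_congr (Equiv.ofBijective f hf)]
    simp [Nat.card_prod, pow_succ, mul_assoc]
  -- a complement of `z` in the centre
  obtain ⟨A, ⟨hAc, hzA⟩, hAmax⟩ := (Set.toFinite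
    {A : Subgroup P | A ≤ Subgroup.center P ∧ z ∉ A}).exists_maximal ⟨⊥, bot_le, fun h => by
      rw [Subgroup.mem_bot] at h; rw [h, orderOf_one] at hz; exact hp'.one_lt.ne hz⟩
  have hAgen : ∀ a ∈ Subgroup.center P, ∃ i : ℕ, ∃ b ∈ A, a = z ^ i * b := by
    intro a ha
    by_cases haA : a ∈ A
    · exact ⟨0, a, haA, by simp⟩
    by_cases hzin : z ∈ A ⊔ Subgroup.zpowers a
    · have hnorm : A ≤ Subgroup.normalizer (Subgroup.zpowers a : Set P) := fun b hb => by
        rw [Subgroup.mem_normalizer_iff]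
        intro x
        rw [(Subgroup.mem_center_iff.1 (hAc hb) x).symm, mul_inv_cancel_right]
      have hz' : z ∈ (A : Set P) * (Subgroup.zpowers a : Set P) := by
        rw [← Subgroup.coe_mul_of_left_le_normalizer_right A _ hnorm]; exact hzin
      obtain ⟨b, hb, q, hq, hbq⟩ := hz'
      obtain ⟨n, hn⟩ := mem_powers_iff_mem_zpowers.2 hq
      have hn' : ¬ p ∣ n := fun ⟨c, hc⟩ => hzA (by
        rw [← hbq, ← hn]
        show b * a ^ n ∈ A
        rw [hc, pow_mul, hcexp a ha, one_pow, mul_one]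
        exact hb)
      obtain ⟨m, -, hm⟩ := Nat.exists_mul_mod_eq_one_of_coprime
        (hp'.coprime_iff_not_dvd.2 hn').symm hp'.one_lt
      refine ⟨m, (b ^ m)⁻¹, A.inv_mem (A.pow_mem hb m), ?_⟩
      have hba : Commute b q := Subgroup.mem_center_iff.1 (by
        rw [← hn]; exact Subgroup.pow_mem _ ha n) b
      rw [← hbq, hba.mul_pow, ← hn]
      show a = b ^ m * (a ^ n) ^ m * (b ^ m)⁻¹
      rw [(Subgroup.mem_center_iff.1 (Subgroup.pow_mem _ (Subgroup.pow_mem _ ha n) m) (b ^ m)),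
        mul_inv_cancel_right, ← pow_mul, pow_eq_pow_mod _ (hcexp a ha), hm, pow_one]
    · exact absurd (hAmax ⟨sup_le hAc (Subgroup.zpowers_le.2 ha), hzin⟩ le_sup_left
        (Subgroup.mem_sup_right (Subgroup.mem_zpowers a))) haA
  refine ⟨E₀, A, ⟨0, 1, 0, by simp⟩, ⟨0, 0, 1, by simp⟩, hAc, hcard, fun g hg => hg, ?_⟩
  let m : E₀ × A →* P := MonoidHom.mk' (fun t => (t.1 : P) * t.2) fun s t => by
    have : Commute ((t.1 : P)) (s.2 : P) := Subgroup.mem_center_iff.1 (hAc s.2.2) t.1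
    show ((s.1 : P) * t.1) * ((s.2 : P) * t.2) = (s.1 : P) * s.2 * ((t.1 : P) * t.2)
    rw [this.mul_mul_mul_comm]
  refine ⟨(MulEquiv.ofBijective m ⟨(injective_iff_map_eq_one m).2 ?_, fun g => ?_⟩).symm⟩
  · rintro ⟨⟨e, i, j, k, he⟩, b⟩ h
    have h' : e * (b : P) = 1 := h
    have hec : e ∈ Subgroup.center P := by
      rw [eq_inv_of_mul_eq_one_left h']; exact inv_mem (hAc b.2)
    obtain ⟨hj, hk⟩ := hcent i j k (he ▸ hec)
    have hei : e = z ^ i := by
      obtain ⟨c, rfl⟩ := hj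
      obtain ⟨d, rfl⟩ := hk
      rw [he, pow_mul w, hw, pow_mul y, hy, one_pow, one_pow, mul_one, mul_one]
    have hi : z ^ i ∈ A := by
      rw [← hei, eq_inv_of_mul_eq_one_left h']; exact A.inv_mem b.2
    have he1 : e = 1 := by
      rw [hei, hzi]
      by_contra hni
      obtain ⟨m', -, hm'⟩ := Nat.exists_mul_mod_eq_one_of_coprime
        (hp'.coprime_iff_not_dvd.2 hni).symm hp'.one_lt
      refine hzA ?_
      have := A.pow_mem hi m'
      rwa [← pow_mul, pow_eq_pow_mod _ hzp, hm', pow_one] at this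
    refine Prod.ext (Subtype.ext he1) (Subtype.ext ?_)
    rw [he1, one_mul] at h'
    exact h'
  · obtain ⟨a, ha, j, k, rfl⟩ := hgen g
    obtain ⟨i, b, hb, rfl⟩ := hAgen a ha
    refine ⟨(⟨z ^ i * w ^ j * y ^ k, i, j, k, rfl⟩, ⟨b, hb⟩), ?_⟩
    show z ^ i * w ^ j * y ^ k * b = z ^ i * b * w ^ j * y ^ k
    rw [(Subgroup.mem_center_iff.1 (hAc hb) (z ^ i * w ^ j * y ^ k)),
      (Subgroup.mem_center_iff.1 (hAc hb) (z ^ i))]
    group

/-- Transport to a small universe. -/
theorem exists_small_mulEquiv (G : Type*) [Group G] [Finite G] :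
    ∃ (E : Type) (_ : Group E), Nonempty (G ≃* E) := by
  let e : G ≃ {i : Fin (Nat.card G) // True} :=
    (Finite.equivFin G).trans (Equiv.subtypeUnivEquiv fun _ => trivial).symm
  letI := e.symm.group
  exact ⟨_, this, ⟨(e.symm.mulEquiv).symm⟩⟩

/-- Transport to a small universe, abelian case. -/
theorem exists_small_comm_mulEquiv (G : Type*) [CommGroup G] [Finite G] :
    ∃ (E : Type) (_ : CommGroup E), Nonempty (G ≃* E) := by
  let e : G ≃ {i : Fin (Nat.card G) // True} :=
    (Finite.equivFin G).trans (Equiv.subtypeUnivEquiv fun _ => trivial).symm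
  letI := e.symm.commGroup
  exact ⟨_, this, ⟨(e.symm.mulEquiv).symm⟩⟩

/-- The two recognised shapes. -/
theorem extraspecial_times_elementary_shapes {z w y : P} (hz : orderOf z = p)
    (hzc : z ∈ Subgroup.center P) (hw : w ^ p = 1) (hy : y ^ p = 1) (hyw : y * w * y⁻¹ = w * z)
    (hcexp : ∀ a ∈ Subgroup.center P, a ^ p = 1)
    (hgen : ∀ g : P, ∃ a ∈ Subgroup.center P, ∃ j k : ℕ, g = a * w ^ j * y ^ k) :
    (p = 2 → ∃ (A : Type) (_ : CommGroup A), (∀ a : A, a ^ 2 = 1) ∧
      Nonempty (P ≃* DihedralGroup 4 × A)) ∧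
    (p ≠ 2 → ∃ (E : Type) (_ : Group E) (A : Type) (_ : CommGroup A), Cfsg.IsExtraspecial p E ∧
      Nat.card E = p ^ 3 ∧ Monoid.exponent E = p ∧ (∀ a : A, a ^ p = 1) ∧
        Nonempty (P ≃* E × A)) := by
  obtain ⟨E₀, A₀, hwE, hyE, hA, hcard, hform, ⟨eP⟩⟩ :=
    exists_times_elementary hz hzc hw hy hyw hcexp hgen
  letI : CommGroup A₀ := { (inferInstance : Group A₀) with
    mul_comm := fun a b => Subtype.ext (Subgroup.mem_center_iff.1 (hA b.2) a) }
  obtain ⟨A, iA, ⟨eA⟩⟩ := exists_small_comm_mulEquiv A₀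
  have hAexp : ∀ a : A, a ^ p = 1 := fun a => by
    rw [← eA.apply_symm_apply a, ← map_pow, show (eA.symm a) ^ p = 1 from
      Subtype.ext (hcexp _ (hA (eA.symm a).2)), map_one]
  have hp' : p.Prime := hp.out
  have hz1 : z ≠ 1 := fun h => by rw [h, orderOf_one] at hz; exact hp'.one_lt.ne hz
  have hnc : w * y ≠ y * w := fun h => hz1 (by
    rw [← h, mul_inv_cancel_right] at hyw
    exact left_eq_mul.1 hyw)
  refine ⟨fun hp2 => ?_, fun hp2 => ?_⟩
  · subst hp2
    set w' : E₀ := ⟨w, hwE⟩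
    set y' : E₀ := ⟨y, hyE⟩
    have hw1 : orderOf w' = 2 := orderOf_eq_prime (Subtype.ext hw) fun h => hnc (by
      rw [show w = 1 from congrArg Subtype.val h, one_mul, mul_one])
    have hy1 : orderOf y' = 2 := orderOf_eq_prime (Subtype.ext hy) fun h => hnc (by
      rw [show y = 1 from congrArg Subtype.val h, one_mul, mul_one])
    obtain ⟨f, hf, -⟩ := CfsgLib.Signalizer.exists_dihedral_hom hw1 hy1
    have h4 : orderOf (w' * y') = 4 := by
      have hwi : w⁻¹ = w := inv_eq_of_mul_eq_one_left (by rw [← pow_two]; exact hw)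
      have hyi : y⁻¹ = y := inv_eq_of_mul_eq_one_left (by rw [← pow_two]; exact hy)
      have hsq : (w * y) ^ 2 = z := by
        calc (w * y) ^ 2 = w * (y * w * y⁻¹) := by rw [hyi, pow_two]; group
          _ = w * w * z := by rw [hyw, mul_assoc]
          _ = z := by rw [← pow_two, hw, one_mul]
      rw [← Subgroup.orderOf_coe]
      refine orderOf_eq_prime_pow (p := 2) (n := 1) ?_ ?_
      · show ¬ (w * y) ^ 2 ^ 1 = 1
        rw [pow_one, hsq]; exact hz1
      · show (w * y) ^ 2 ^ 2 = 1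
        rw [show (2 : ℕ) ^ 2 = 2 * 2 by norm_num, pow_mul, hsq, show z ^ 2 = 1 by
          rw [← hz, pow_orderOf_eq_one]]
    revert f
    rw [h4]
    intro f hf
    have hb : Function.Bijective f := (Nat.bijective_iff_injective_and_card f).2
      ⟨hf, by rw [DihedralGroup.nat_card, hcard]; norm_num⟩
    exact ⟨A, iA, hAexp, ⟨eP.trans (MulEquiv.prodCongr (MulEquiv.ofBijective f hb).symm eA)⟩⟩
  · obtain ⟨E, iE, ⟨eE⟩⟩ := exists_small_mulEquiv E₀
    have hcardE : Nat.card E = p ^ 3 := by rw [← Nat.card_congr eE.toEquiv, hcard]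
    have hna : ¬ IsMulCommutative E := fun h => hnc (by
      have := congrArg (fun e : E₀ => (e : P)) (eE.injective (show eE (⟨w, hwE⟩ * ⟨y, hyE⟩) =
        eE (⟨y, hyE⟩ * ⟨w, hwE⟩) by rw [map_mul, map_mul]; exact h.is_comm.comm _ _))
      exact this)
    have hexp : ∀ e : E, e ^ p = 1 := by
      intro e
      rw [← eE.apply_symm_apply e, ← map_pow]
      suffices h : (eE.symm e) ^ p = 1 by rw [h, map_one]
      refine Subtype.ext ?_
      obtain ⟨i, j, k, h⟩ := hform _ (eE.symm e).2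
      rw [Subgroup.coe_pow, h, Subgroup.coe_one]
      have hzcom : ∀ g : P, Commute g z := fun g => Subgroup.mem_center_iff.1 hzc g
      rw [mul_assoc, ((hzcom (w ^ j * y ^ k)).symm.pow_left i).mul_pow, ← pow_mul, mul_comm i,
        pow_mul, show z ^ p = 1 by rw [← hz, pow_orderOf_eq_one], one_pow, one_mul]
      have hc : ⁅y ^ k, w ^ j⁆ ∈ Subgroup.center P := by
        suffices ∀ a b : ℕ, ⁅y ^ a, w ^ b⁆ ∈ Subgroup.center P from this k j
        intro a b
        have hN : (Subgroup.center P).Normal := inferInstance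
        rw [← QuotientGroup.eq_one_iff, ← QuotientGroup.mk'_apply, map_commutatorElement,
          commutatorElement_eq_one_iff_mul_comm, map_pow, map_pow]
        refine (Commute.pow_pow ?_ a b).eq
        show QuotientGroup.mk' _ y * QuotientGroup.mk' _ w = QuotientGroup.mk' _ w * QuotientGroup.mk' _ y
        rw [← map_mul, ← map_mul, show y * w = (w * z) * y by rw [← hyw, inv_mul_cancel_right],
          map_mul, map_mul, show QuotientGroup.mk' (Subgroup.center P) z = 1 from
            (QuotientGroup.eq_one_iff z).2 hzc, mul_one, map_mul]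
      have hodd : Odd p := hp'.odd_of_ne_two hp2
      rw [mul_pow_of_central_odd hc hodd (hcexp _ hc)]
      have h1 : (w ^ j) ^ p = 1 := by rw [← pow_mul, mul_comm, pow_mul, hw, one_pow]
      have h2 : (y ^ k) ^ p = 1 := by rw [← pow_mul, mul_comm, pow_mul, hy, one_pow]
      rw [h1, h2, one_mul]
    refine ⟨E, iE, A, iA, ?_, hcardE, ?_, hAexp, ⟨eP.trans (MulEquiv.prodCongr eE eA)⟩⟩
    · haveI : Finite E := Finite.of_equiv _ eE.toEquiv
      exact isExtraspecial_of_card_cube hna hcardE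
    · refine ((Nat.dvd_prime hp').1 (Monoid.exponent_dvd_of_forall_pow_eq_one hexp)).resolve_left
        fun h => hna ⟨⟨fun a b => ?_⟩⟩
      have := Monoid.pow_exponent_eq_one a
      rw [h, pow_one] at this
      rw [this, one_mul, mul_one]

end CfsgLib.PGroups
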