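import Cfsg.Agent.Lib.PGroups.Extraspecial
import Cfsg.Agent.Lib.PGroups.SmallOrder
import Cfsg.Agent.Lib.Classical.SL2Structure

/-!
# Groups of order `p⁴` without an invariant flag

A group of order `p⁴` has a series of invariant subgroups with all factors of order `p`, or is one
of a short list of groups.
-/

set_option autoImplicit false

namespace CfsgLib.PGroups.OrderFourth

open scoped commutatorElement

variable {H : Type*} [Group H] {p : ℕ}

/-- Invariance under every automorphism. -/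
def Inv' (D : Subgroup H) : Prop := ∀ (σ : MulAut H), ∀ e ∈ D, σ e ∈ D

/-- An invariant series with factors of order `p`. -/
def HasFlag (p : ℕ) (H : Type*) [Group H] : Prop :=
  ∃ D₁ D₂ D₃ : Subgroup H, D₁ ≤ D₂ ∧ D₂ ≤ D₃ ∧ Nat.card D₁ = p ∧ Nat.card D₂ = p ^ 2 ∧
    Nat.card D₃ = p ^ 3 ∧ Inv' D₁ ∧ Inv' D₂ ∧ Inv' D₃

theorem inv_center : Inv' (Subgroup.center H) := fun σ e he =>
  Subgroup.mem_center_iff.2 fun g => by
    rw [← σ.apply_symm_apply g, ← map_mul, ← map_mul, Subgroup.mem_center_iff.1 he]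

theorem inv_ker {X : Type*} [Group X] (ψ : H →* X)
    (h : ∀ (σ : MulAut H) e, ψ e = 1 → ψ (σ e) = 1) : Inv' ψ.ker :=
  fun σ e he => MonoidHom.mem_ker.2 (h σ e (MonoidHom.mem_ker.1 he))

section

variable [Finite H] [hp : Fact p.Prime]

theorem card_pow (hc : Nat.card H = p ^ 4) (A : Subgroup H) :
    ∃ k ≤ 4, Nat.card A = p ^ k :=
  (Nat.dvd_prime_pow hp.out).1 (hc ▸ A.card_subgroup_dvd_card)

theorem card_ge_of_lt (hc : Nat.card H = p ^ 4) {A B : Subgroup H} (h : A < B) {k : ℕ}
    (hA : p ^ k ≤ Nat.card A) : p ^ (k + 1) ≤ Nat.card B := by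
  obtain ⟨a, -, ha⟩ := card_pow hc A
  obtain ⟨b, -, hb⟩ := card_pow hc B
  rw [ha, Nat.pow_le_pow_iff_right hp.out.one_lt] at hA
  rw [hb, Nat.pow_le_pow_iff_right hp.out.one_lt]
  by_contra hlt
  refine h.ne (Subgroup.eq_of_le_of_card_ge h.le ?_)
  rw [ha, hb]
  exact Nat.pow_le_pow_right hp.out.pos (by omega)

theorem card_eq_cube (hc : Nat.card H = p ^ 4) {A : Subgroup H} (h : p ^ 3 ≤ Nat.card A)
    (hne : A ≠ ⊤) : Nat.card A = p ^ 3 := by
  obtain ⟨a, ha4, ha⟩ := card_pow hc A
  rw [ha, Nat.pow_le_pow_iff_right hp.out.one_lt] at h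
  rcases eq_or_lt_of_le ha4 with rfl | h4
  · exact absurd (Subgroup.eq_top_of_card_eq A (ha.trans hc.symm)) hne
  · rw [ha, show a = 3 by omega]

theorem eq_top_of_card_ge (hc : Nat.card H = p ^ 4) {A : Subgroup H} (h : p ^ 4 ≤ Nat.card A) :
    A = ⊤ := Subgroup.eq_top_of_card_eq A (le_antisymm (Subgroup.card_le_card_group A) (hc ▸ h))

/-- A nontrivial homomorphism with image of order at most `p` has kernel of order `p³`. -/
theorem card_ker_eq_cube (hc : Nat.card H = p ^ 4) {X : Type*} [Group X] (ψ : H →* X)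
    (hne : ∃ x, ψ x ≠ 1) (hr : Nat.card ψ.range ≤ p) : Nat.card ψ.ker = p ^ 3 := by
  refine card_eq_cube hc ?_ fun h => ?_
  · have h1 := ψ.ker.card_eq_card_quotient_mul_card_subgroup
    rw [hc, Nat.card_congr (QuotientGroup.quotientKerEquivRange ψ).toEquiv] at h1
    refine Nat.le_of_mul_le_mul_left ?_ hp.out.pos
    rw [← pow_succ', h1]
    exact Nat.mul_le_mul_right _ hr
  · obtain ⟨x, hx⟩ := hne
    exact hx (MonoidHom.mem_ker.1 (h ▸ Subgroup.mem_top x))

omit [Finite H] hp in
/-- The homomorphism from `ℤ/n` given by an element. -/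
def zhom (n : ℕ) (x : H) (h : x ^ n = 1) : Multiplicative (ZMod n) →* H :=
  AddMonoidHom.toMultiplicativeLeft
    (ZMod.lift n ⟨zmultiplesHom (Additive H) (Additive.ofMul x), by
      simp [← ofMul_pow, h]⟩)

omit [Finite H] hp in
theorem zhom_one (n : ℕ) (x : H) (h : x ^ n = 1) :
    zhom n x h (Multiplicative.ofAdd 1) = x := by
  show Additive.toMul (ZMod.lift n _ (1 : ZMod n)) = x
  rw [show (1 : ZMod n) = ((1 : ℤ) : ZMod n) by simp, ZMod.lift_coe]
  simp

omit [Finite H] hp in
theorem mem_range_zhom (n : ℕ) (x : H) (h : x ^ n = 1) : x ∈ (zhom n x h).range :=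
  ⟨_, zhom_one n x h⟩

omit [Finite H] hp in
theorem range_zhom_le (n : ℕ) (x : H) (h : x ^ n = 1) :
    (zhom n x h).range ≤ Subgroup.zpowers x := by
  rintro _ ⟨w, rfl⟩
  obtain ⟨k, hk⟩ := ZMod.intCast_surjective (Multiplicative.toAdd w)
  refine ⟨k, ?_⟩
  show x ^ k = Additive.toMul (ZMod.lift n _ (Multiplicative.toAdd w))
  rw [← hk, ZMod.lift_coe]
  simp

/-- A surjection between groups of order `p⁴`. -/
theorem nonempty_mulEquiv {X : Type*} [Group X] (hX : Nat.card X = p ^ 4)
    (hc : Nat.card H = p ^ 4) (f : X →* H) (hf : f.range = ⊤) : Nonempty (H ≃* X) := by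
  have : Finite X := Nat.finite_of_card_ne_zero (by rw [hX]; exact pow_ne_zero _ hp.out.ne_zero)
  exact ⟨(MulEquiv.ofBijective f ((Nat.bijective_iff_surjective_and_card f).2
    ⟨MonoidHom.range_eq_top.1 hf, hX.trans hc.symm⟩)).symm⟩

omit hp in
theorem card_sup_le (A B : Subgroup H) [A.Normal] :
    Nat.card (A ⊔ B : Subgroup H) ≤ Nat.card A * Nat.card B := by
  rw [← Nat.card_prod]
  refine Nat.card_le_card_of_surjective
    (fun x : A × B => (⟨x.1 * x.2, mul_mem (Subgroup.mem_sup_left x.1.2)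
      (Subgroup.mem_sup_right x.2.2)⟩ : (A ⊔ B : Subgroup H))) ?_
  rintro ⟨y, hy⟩
  obtain ⟨a, ha, b, hb, rfl⟩ := Subgroup.mem_sup_of_normal_left.1 hy
  exact ⟨(⟨a, ha⟩, ⟨b, hb⟩), rfl⟩

/-- The abelian groups of order `p⁴`. -/
theorem shape_abelian (hc : Nat.card H = p ^ 4) (hab : ∀ a b : H, a * b = b * a) :
    (∀ x : H, x ^ p = 1) ∨ Nonempty (H ≃* Multiplicative (ZMod (p ^ 2) × ZMod p × ZMod p)) ∨
      ((∀ x : H, x ^ p ^ 2 = 1) ∧ (∀ x : H, x ^ p = 1 ↔ ∃ y, y ^ p = x) ∧
        Nonempty (H ≃* Multiplicative (ZMod (p ^ 2) × ZMod (p ^ 2)))) ∨ HasFlag p H := by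
  let π : H →* H := MonoidHom.mk' (fun x => x ^ p) fun a b => Commute.mul_pow (hab a b) p
  have hπ : ∀ x, π x = x ^ p := fun _ => rfl
  have hsplit : Nat.card π.range * Nat.card π.ker = p ^ 4 := by
    rw [← hc, π.ker.card_eq_card_quotient_mul_card_subgroup,
      Nat.card_congr (QuotientGroup.quotientKerEquivRange π).toEquiv]
  obtain ⟨u, hu4, hu⟩ := card_pow hc π.range
  obtain ⟨w, hw4, hw⟩ := card_pow hc π.ker
  rw [hu, hw, ← pow_add] at hsplit
  have huw : u + w = 4 := Nat.pow_right_injective hp.out.two_le hsplit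
  have hpG : IsPGroup p H := IsPGroup.of_card hc
  rcases Nat.eq_zero_or_pos u with rfl | hu0
  · refine Or.inl fun x => ?_
    have h1 : π.range = ⊥ := Subgroup.card_eq_one.1 (by rw [hu, pow_zero])
    exact Subgroup.mem_bot.1 (h1 ▸ ⟨x, rfl⟩ : π x ∈ (⊥ : Subgroup H))
  -- a nontrivial power map has nontrivial kernel
  have hw0 : 0 < w := by
    by_contra h
    obtain ⟨x, hx⟩ := exists_prime_orderOf_dvd_card' (G := H) p (by rw [hc]; exact dvd_pow_self p (by omega))
    have h1 : π.ker = ⊥ := Subgroup.card_eq_one.1 (by rw [hw, show w = 0 by omega, pow_zero])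
    have h2 : x ∈ π.ker := by rw [MonoidHom.mem_ker, hπ, ← hx, pow_orderOf_eq_one]
    rw [h1, Subgroup.mem_bot] at h2
    rw [h2, orderOf_one] at hx
    exact hp.out.ne_one hx.symm
  rcases eq_or_lt_of_le (show 1 ≤ u from hu0) with rfl | hu1
  · -- `ℤ/p² × ℤ/p × ℤ/p`
    refine Or.inr (Or.inl ?_)
    have hker : Nat.card π.ker = p ^ 3 := by rw [hw, show w = 3 by omega]
    obtain ⟨a, ha⟩ : ∃ a : H, π a ≠ 1 := by
      by_contra h
      push Not at h
      have h1 : π.range = ⊥ := (Subgroup.eq_bot_iff_forall _).2 fun y ⟨x, hx⟩ => hx ▸ h x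
      rw [h1, Subgroup.card_bot] at hu
      exact (Nat.one_lt_pow (by omega) hp.out.one_lt).ne hu
    have haU : π a ∈ π.ker := by
      have h2 : (⟨π a, a, rfl⟩ : π.range) ^ p = 1 := by
        have := pow_card_eq_one' (x := (⟨π a, a, rfl⟩ : π.range))
        rwa [hu, pow_one] at this
      exact MonoidHom.mem_ker.2 (congrArg Subtype.val h2 :)
    have hU : Subgroup.zpowers (π a) ≤ π.ker := Subgroup.zpowers_le.2 haU
    have hUc : p ^ 1 ≤ Nat.card (Subgroup.zpowers (π a)) := by
      refine card_ge_of_lt hc (A := ⊥) (k := 0) (bot_lt_iff_ne_bot.2 ?_) (by simp)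
      rwa [Ne, Subgroup.zpowers_eq_bot]
    obtain ⟨b, hb, hb'⟩ : ∃ b ∈ π.ker, b ∉ Subgroup.zpowers (π a) := by
      by_contra h
      push Not at h
      have h1 := Subgroup.card_le_of_le (h : π.ker ≤ Subgroup.zpowers (π a))
      rw [Nat.card_zpowers, hker] at h1
      have h2 : orderOf (π a) ≤ p := Nat.le_of_dvd hp.out.pos
        (orderOf_dvd_of_pow_eq_one (MonoidHom.mem_ker.1 haU))
      have : p ^ 1 < p ^ 3 := Nat.pow_lt_pow_right hp.out.one_lt (by omega)
      rw [pow_one] at this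
      omega
    set V := Subgroup.zpowers (π a) ⊔ Subgroup.zpowers b
    have hV : V ≤ π.ker := sup_le hU (Subgroup.zpowers_le.2 hb)
    have hVc : p ^ 2 ≤ Nat.card V := card_ge_of_lt hc (SetLike.lt_iff_le_and_exists.2
      ⟨le_sup_left, b, Subgroup.mem_sup_right (Subgroup.mem_zpowers b), hb'⟩) hUc
    have hle : ∀ y ∈ π.ker, Nat.card (Subgroup.zpowers y) ≤ p := fun y hy => by
      rw [Nat.card_zpowers]
      exact Nat.le_of_dvd hp.out.pos (orderOf_dvd_of_pow_eq_one (MonoidHom.mem_ker.1 hy))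
    obtain ⟨c, hcker, hc'⟩ : ∃ c ∈ π.ker, c ∉ V := by
      by_contra h
      push Not at h
      have : (Subgroup.zpowers (π a)).Normal :=
        ⟨fun n hn g => by rw [hab g n, mul_inv_cancel_right]; exact hn⟩
      have h1 := (Subgroup.card_le_of_le (h : π.ker ≤ V)).trans
        ((card_sup_le _ _).trans (Nat.mul_le_mul (hle _ haU) (hle _ hb)))
      rw [hker, ← pow_two] at h1
      exact absurd ((Nat.pow_le_pow_iff_right hp.out.one_lt).1 h1) (by omega)
    have ha2 : a ^ p ^ 2 = 1 := by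
      rw [pow_two, pow_mul]
      exact MonoidHom.mem_ker.1 haU
    set f₁ := zhom (p ^ 2) a ha2
    set f₂ := zhom p b (MonoidHom.mem_ker.1 hb)
    set f₃ := zhom p c (MonoidHom.mem_ker.1 hcker)
    let f : Multiplicative (ZMod (p ^ 2) × ZMod p × ZMod p) →* H :=
      MonoidHom.mk' (fun x => f₁ (.ofAdd x.toAdd.1) * (f₂ (.ofAdd x.toAdd.2.1) *
        f₃ (.ofAdd x.toAdd.2.2))) fun x y => by
        simp only [toAdd_mul, Prod.fst_add, Prod.snd_add, ofAdd_add, map_mul]
        have : Std.Commutative (α := H) (· * ·) := ⟨hab⟩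
        ac_rfl
    refine nonempty_mulEquiv ?_ hc f (eq_top_of_card_ge hc ?_)
    · rw [Nat.card_congr Multiplicative.toAdd, Nat.card_prod, Nat.card_prod, Nat.card_zmod,
        Nat.card_zmod]
      ring
    have ha' : a ∈ f.range := ⟨.ofAdd (1, 0, 0), by simp [f, f₁, zhom_one]⟩
    have hb2 : b ∈ f.range := ⟨.ofAdd (0, 1, 0), by simp [f, f₂]; exact zhom_one _ _ _⟩
    have hc2 : c ∈ f.range := ⟨.ofAdd (0, 0, 1), by simp [f, f₃]; exact zhom_one _ _ _⟩
    have hVR : V < f.range := SetLike.lt_iff_le_and_exists.2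
      ⟨sup_le (Subgroup.zpowers_le.2 (Subgroup.pow_mem _ ha' p)) (Subgroup.zpowers_le.2 hb2),
        c, hc2, hc'⟩
    have h3 : π.ker ⊓ f.range < f.range := SetLike.lt_iff_le_and_exists.2
      ⟨inf_le_right, a, ha', fun h => ha (MonoidHom.mem_ker.1 h.1)⟩
    refine card_ge_of_lt hc h3 (le_trans ?_ (Subgroup.card_le_of_le
      (le_inf (sup_le hV (Subgroup.zpowers_le.2 hcker))
        (sup_le hVR.le (Subgroup.zpowers_le.2 hc2)))))
    exact card_ge_of_lt hc (SetLike.lt_iff_le_and_exists.2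
      ⟨le_sup_left, c, Subgroup.mem_sup_right (Subgroup.mem_zpowers c), hc'⟩) hVc
  have hmaplt : ∀ A : Subgroup H, A ≠ ⊥ → A.map π < A := by
    intro A hA
    refine lt_of_le_of_ne (by rintro _ ⟨x, hx, rfl⟩; exact A.pow_mem hx p) fun h => hA ?_
    have hmem : ∀ x : A, π x ∈ A := fun x => A.pow_mem x.2 p
    have hsurj : Function.Surjective (fun x : A => (⟨π x, hmem x⟩ : A)) := fun y => by
      obtain ⟨x, hx, e⟩ := h.ge y.2
      exact ⟨⟨x, hx⟩, Subtype.ext e⟩
    by_contra hA'
    have : Nontrivial A := (Subgroup.nontrivial_iff_ne_bot A).2 hA'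
    obtain ⟨k, hk4, hk⟩ := card_pow hc A
    have hk0 : k ≠ 0 := by
      rintro rfl
      exact hA' (Subgroup.card_eq_one.1 (by rw [hk, pow_zero]))
    obtain ⟨x, hx⟩ := exists_prime_orderOf_dvd_card' (G := A) p (by rw [hk]; exact dvd_pow_self p hk0)
    have h2 := (Finite.injective_iff_surjective.2 hsurj) (a₁ := x) (a₂ := 1)
      (Subtype.ext (by
        show (x : H) ^ p = ((1 : A) : H) ^ p
        rw [← Subgroup.coe_pow, ← Subgroup.coe_pow, ← hx, pow_orderOf_eq_one, one_pow]))
    rw [h2, orderOf_one] at hx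
    exact hp.out.ne_one hx.symm
  have hmapge : ∀ A : Subgroup H, Nat.card A ≤ Nat.card (A.map π) * p ^ w := by
    intro A
    rw [← hw]
    have h1 := (π.comp A.subtype).ker.card_eq_card_quotient_mul_card_subgroup
    rw [Nat.card_congr (QuotientGroup.quotientKerEquivRange (π.comp A.subtype)).toEquiv,
      MonoidHom.range_comp, Subgroup.range_subtype] at h1
    rw [h1]
    refine Nat.mul_le_mul_left _ (Nat.card_le_card_of_injective
      (fun x => (⟨((x : A) : H), x.2⟩ : π.ker)) fun x y e => ?_)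
    exact Subtype.ext (Subtype.ext (congrArg Subtype.val e :))
  have hinvmap : ∀ A : Subgroup H, Inv' A → Inv' (A.map π) := by
    rintro A hA σ _ ⟨x, hx, rfl⟩
    exact ⟨σ x, hA σ x hx, (map_pow σ x p).symm⟩
  have hinvU : Inv' π.range := by
    rintro σ _ ⟨x, rfl⟩
    exact ⟨σ x, (map_pow σ x p).symm⟩
  have hUne : π.range ≠ ⊥ := fun h => by
    rw [h, Subgroup.card_bot] at hu
    exact (Nat.one_lt_pow (by omega) hp.out.one_lt).ne hu
  obtain ⟨v, hv4, hv⟩ := card_pow hc (π.range.map π)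
  have hvu : v < u := by
    have h1 := hmaplt _ hUne
    have h2 : Nat.card (π.range.map π) < Nat.card π.range := lt_of_le_of_ne
      (Subgroup.card_le_of_le h1.le) fun e => h1.ne (Subgroup.eq_of_le_of_card_ge h1.le e.ge)
    rwa [hv, hu, Nat.pow_lt_pow_iff_right hp.out.one_lt] at h2
  have huv : u ≤ v + w := by
    have h := hmapge π.range
    rwa [hu, hv, ← pow_add, Nat.pow_le_pow_iff_right hp.out.one_lt] at h
  rcases eq_or_lt_of_le (show 2 ≤ u from hu1) with rfl | hu2
  · by_cases hexp : ∀ x : H, x ^ p ^ 2 = 1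
    · -- `ℤ/p² × ℤ/p²`
      have hUK : π.range = π.ker := by
        refine Subgroup.eq_of_le_of_card_ge ?_ (by rw [hu, hw, show w = 2 by omega])
        rintro _ ⟨x, rfl⟩
        rw [MonoidHom.mem_ker, hπ, hπ, ← pow_mul, ← pow_two, hexp]
      refine Or.inr (Or.inr (Or.inl ⟨hexp, fun x => ?_, ?_⟩))
      · rw [← hπ, ← MonoidHom.mem_ker, ← hUK, MonoidHom.mem_range]
        rfl
      obtain ⟨a, ha⟩ : ∃ a : H, π a ≠ 1 := by
        by_contra h
        push Not at h
        exact hUne ((Subgroup.eq_bot_iff_forall _).2 fun y ⟨x, hx⟩ => hx ▸ h x)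
      obtain ⟨_, ⟨b, rfl⟩, hb⟩ : ∃ y ∈ π.range, y ∉ Subgroup.zpowers (π a) := by
        by_contra h
        push Not at h
        have h1 := Subgroup.card_le_of_le (h : π.range ≤ Subgroup.zpowers (π a))
        have h2 : Nat.card (Subgroup.zpowers (π a)) ≤ p ^ 1 := by
          rw [Nat.card_zpowers, pow_one]
          exact Nat.le_of_dvd hp.out.pos (orderOf_dvd_of_pow_eq_one
            (by rw [hπ, ← pow_mul, ← pow_two, hexp]))
        rw [hu] at h1
        exact absurd ((Nat.pow_le_pow_iff_right hp.out.one_lt).1 (h1.trans h2)) (by omega)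
      set f₁ := zhom (p ^ 2) a (hexp a)
      set f₂ := zhom (p ^ 2) b (hexp b)
      let f : Multiplicative (ZMod (p ^ 2) × ZMod (p ^ 2)) →* H :=
        MonoidHom.mk' (fun x => f₁ (.ofAdd x.toAdd.1) * f₂ (.ofAdd x.toAdd.2)) fun x y => by
          simp only [toAdd_mul, Prod.fst_add, Prod.snd_add, ofAdd_add, map_mul]
          have : Std.Commutative (α := H) (· * ·) := ⟨hab⟩
          ac_rfl
      refine nonempty_mulEquiv ?_ hc f (eq_top_of_card_ge hc ?_)
      · rw [Nat.card_congr Multiplicative.toAdd, Nat.card_prod, Nat.card_zmod]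
        ring
      have ha' : a ∈ f.range := ⟨.ofAdd (1, 0), by simp [f, f₁, zhom_one]⟩
      have hb' : b ∈ f.range := ⟨.ofAdd (0, 1), by simp [f, f₂]; exact zhom_one _ _ _⟩
      have hUR : π.range ≤ f.range := by
        have h2 : p ^ 2 ≤ Nat.card (Subgroup.zpowers (π a) ⊔ Subgroup.zpowers (π b) : Subgroup H) :=
          card_ge_of_lt hc (SetLike.lt_iff_le_and_exists.2
            ⟨le_sup_left, _, Subgroup.mem_sup_right (Subgroup.mem_zpowers _), hb⟩)
            (card_ge_of_lt hc (A := ⊥) (k := 0)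
              (bot_lt_iff_ne_bot.2 (by rwa [Ne, Subgroup.zpowers_eq_bot])) (by simp))
        have hle2 : Subgroup.zpowers (π a) ⊔ Subgroup.zpowers (π b) ≤ π.range :=
          sup_le (Subgroup.zpowers_le.2 ⟨a, rfl⟩) (Subgroup.zpowers_le.2 ⟨b, rfl⟩)
        rw [← Subgroup.eq_of_le_of_card_ge hle2 (hu.le.trans h2)]
        exact sup_le (Subgroup.zpowers_le.2 (Subgroup.pow_mem _ ha' p))
          (Subgroup.zpowers_le.2 (Subgroup.pow_mem _ hb' p))
      set V := π.range ⊔ Subgroup.zpowers a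
      have hbV : b ∉ V := by
        intro h
        have : π.range.Normal := ⟨fun n hn g => by rw [hab g n, mul_inv_cancel_right]; exact hn⟩
        obtain ⟨_, ⟨x, rfl⟩, _, ⟨i, rfl⟩, e⟩ := Subgroup.mem_sup_of_normal_left.1 h
        refine hb ⟨i, ?_⟩
        show π a ^ i = π b
        rw [← e, map_mul, ← map_zpow, hπ (π x), hπ x, ← pow_mul, ← pow_two, hexp, one_mul]
      refine card_ge_of_lt hc (SetLike.lt_iff_le_and_exists.2
        ⟨sup_le hUR (Subgroup.zpowers_le.2 ha'), b, hb', hbV⟩) ?_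
      refine card_ge_of_lt hc (SetLike.lt_iff_le_and_exists.2
        ⟨le_sup_left, a, Subgroup.mem_sup_right (Subgroup.mem_zpowers a), fun h => ?_⟩) hu.ge
      rw [hUK] at h
      exact ha h
    · -- an element of order `p³`
      push Not at hexp
      obtain ⟨x, hx⟩ := hexp
      have hv1 : v = 1 := by
        have h1 : π.range.map π ≠ ⊥ := fun h => hx (by
          have : π (π x) ∈ π.range.map π := Subgroup.mem_map_of_mem _ ⟨x, rfl⟩
          rw [h, Subgroup.mem_bot, hπ, hπ, ← pow_mul, ← pow_two] at this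
          exact this)
        rcases Nat.eq_zero_or_pos v with rfl | h
        · exact absurd (Subgroup.card_eq_one.1 (by rw [hv, pow_zero])) h1
        · omega
      refine Or.inr (Or.inr (Or.inr ⟨π.range.map π, π.range, (π.comp π).ker, (hmaplt _ hUne).le,
        ?_, by rw [hv, hv1, pow_one], hu, ?_, hinvmap _ hinvU, hinvU, ?_⟩))
      · rintro _ ⟨y, rfl⟩
        rw [MonoidHom.mem_ker, MonoidHom.comp_apply, hπ, hπ, hπ, ← pow_mul, ← pow_mul]
        have h1 : (⟨π y, y, rfl⟩ : π.range) ^ p ^ 2 = 1 := by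
          have := pow_card_eq_one' (x := (⟨π y, y, rfl⟩ : π.range))
          rwa [hu] at this
        have h2 : (π y) ^ p ^ 2 = 1 := congrArg Subtype.val h1
        rw [hπ, ← pow_mul, pow_two] at h2
        exact h2
      · refine card_ker_eq_cube hc (π.comp π) ⟨x, ?_⟩ ?_
        · rw [MonoidHom.comp_apply, hπ, hπ, ← pow_mul, ← pow_two]
          exact hx
        · rw [MonoidHom.range_comp, hv, hv1, pow_one]
      · exact inv_ker _ fun σ e he => by
          simp only [MonoidHom.comp_apply, hπ, ← pow_mul] at he ⊢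
          rw [← map_pow, he, map_one]
  · have hu3 : u = 3 := by omega
    subst hu3
    have hv2 : v = 2 := by omega
    obtain ⟨z, hz4, hz⟩ := card_pow hc ((π.range.map π).map π)
    have hne2 : π.range.map π ≠ ⊥ := fun h => by
      rw [h, Subgroup.card_bot, hv2] at hv
      exact (Nat.one_lt_pow (by omega) hp.out.one_lt).ne hv
    have hz1 : z = 1 := by
      have h1 := hmaplt _ hne2
      have h2 : Nat.card ((π.range.map π).map π) < Nat.card (π.range.map π) := lt_of_le_of_ne
        (Subgroup.card_le_of_le h1.le) fun e => h1.ne (Subgroup.eq_of_le_of_card_ge h1.le e.ge)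
      rw [hv, hz, Nat.pow_lt_pow_iff_right hp.out.one_lt] at h2
      have h3 := hmapge (π.range.map π)
      rw [hv, hz, ← pow_add, Nat.pow_le_pow_iff_right hp.out.one_lt] at h3
      omega
    exact Or.inr (Or.inr (Or.inr ⟨(π.range.map π).map π, π.range.map π, π.range,
      (hmaplt _ hne2).le, (hmaplt _ hUne).le, by rw [hz, hz1, pow_one], by rw [hv, hv2], hu,
      hinvmap _ (hinvmap _ hinvU), hinvmap _ hinvU, hinvU⟩))

theorem commutator_mem_center_of_gen (hc : Nat.card H = p ^ 4) {x : H}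
    (h : ∀ y, ⁅x, y⁆ ∈ Subgroup.center H) (hx : x ∉ Subgroup.center H)
    (hZ : Nat.card (Subgroup.center H) = p) :
    Nat.card (Subgroup.centralizer ({x} : Set H)) = p ^ 3 := by
  let ψ : H →* H := MonoidHom.mk' (fun y => ⁅x, y⁆) fun y z =>
    comm_mul_right_of_central (h z)
  have hker : ψ.ker = Subgroup.centralizer ({x} : Set H) := by
    ext y
    rw [MonoidHom.mem_ker, Subgroup.mem_centralizer_singleton_iff]
    exact commutatorElement_eq_one_iff_mul_comm.trans eq_comm
  rw [← hker]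
  refine card_ker_eq_cube hc ψ ?_ ?_
  · by_contra h'
    push Not at h'
    exact hx (Subgroup.mem_center_iff.2 fun y => (commutatorElement_eq_one_iff_mul_comm.1 (h' y)).symm)
  · exact (Subgroup.card_le_of_le (by rintro _ ⟨y, rfl⟩; exact h y)).trans hZ.le

/-- A nonabelian group of order `p⁴` with centre of order `p` has an invariant series. -/
theorem flag_of_center_prime (hc : Nat.card H = p ^ 4) (hna : ¬ IsMulCommutative H)
    (hZ : Nat.card (Subgroup.center H) = p) : HasFlag p H := by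
  have hp4 : IsPGroup p H := IsPGroup.of_card hc
  set Z := Subgroup.center H with hZdef
  set q := QuotientGroup.mk' Z
  set D : Subgroup H := (Subgroup.center (H ⧸ Z)).comap q with hD
  have hmem : ∀ x, x ∈ D ↔ ∀ y, ⁅x, y⁆ ∈ Z := by
    intro x
    rw [hD, Subgroup.mem_comap, Subgroup.mem_center_iff]
    constructor
    · intro h y
      rw [← QuotientGroup.eq_one_iff]
      show q ⁅x, y⁆ = 1
      rw [map_commutatorElement, commutatorElement_eq_one_iff_mul_comm]
      exact (h (q y)).symm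
    · intro h g
      obtain ⟨y, rfl⟩ := QuotientGroup.mk'_surjective Z g
      have h1 : q ⁅x, y⁆ = 1 := (QuotientGroup.eq_one_iff _).2 (h y)
      rw [map_commutatorElement, commutatorElement_eq_one_iff_mul_comm] at h1
      exact h1.symm
  have hZD : Z < D := by
    refine SetLike.lt_iff_le_and_exists.2 ⟨fun z hz => (hmem z).2 fun y => ?_, ?_⟩
    · rw [commutatorElement_eq_one_iff_mul_comm.2 (Subgroup.mem_center_iff.1 hz y).symm]
      exact one_mem Z
    · have : Nontrivial (H ⧸ Z) := by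
        rw [QuotientGroup.nontrivial_iff]
        intro h
        rw [h, Subgroup.card_top, hc] at hZ
        exact (Nat.pow_lt_pow_right hp.out.one_lt (show 1 < 4 by omega)).ne (by simpa using hZ.symm)
      have := (hp4.to_quotient Z).center_nontrivial
      obtain ⟨z, hz, hz1⟩ := (Subgroup.nontrivial_iff_exists_ne_one _).1 this
      obtain ⟨x, rfl⟩ := QuotientGroup.mk'_surjective Z z
      exact ⟨x, Subgroup.mem_comap.2 hz, fun h => hz1 ((QuotientGroup.eq_one_iff x).2 h)⟩
  -- the commutators are not all central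
  have hDtop : D ≠ ⊤ := by
    intro htop
    have hall : ∀ x y, ⁅x, y⁆ ∈ Z := fun x => (hmem x).1 (htop ▸ Subgroup.mem_top x)
    obtain ⟨a, b, hab⟩ : ∃ a b : H, a * b ≠ b * a := by
      by_contra h
      push Not at h
      exact hna ⟨⟨h⟩⟩
    have ha : a ∉ Z := fun h => hab (Subgroup.mem_center_iff.1 h b).symm
    have hb : b ∉ Z := fun h => hab (Subgroup.mem_center_iff.1 h a)
    set Ca := Subgroup.centralizer ({a} : Set H)
    set Cb := Subgroup.centralizer ({b} : Set H)
    have hCa : Nat.card Ca = p ^ 3 := commutator_mem_center_of_gen hc (hall a) ha hZ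
    have hCb : Nat.card Cb = p ^ 3 := commutator_mem_center_of_gen hc (hall b) hb hZ
    have hN : p ^ 2 ≤ Nat.card (Ca ⊓ Cb : Subgroup H) := by
      have h1 : (Ca ⊓ Cb).relIndex Ca ≤ p := by
        rw [Subgroup.inf_relIndex_left]
        have h2 : Cb.index = p := by
          have := Cb.card_mul_index
          rw [hCb, hc] at this
          exact Nat.eq_of_mul_eq_mul_left (pow_pos hp.out.pos 3) this
        rw [← h2, ← Subgroup.relIndex_top_right Cb]
        exact Subgroup.relIndex_le_of_le_right le_top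
          (by rw [Subgroup.relIndex_top_right, h2]; exact hp.out.ne_zero)
      have h3 := card_mul_relIndex (inf_le_left : Ca ⊓ Cb ≤ Ca)
      rw [hCa] at h3
      by_contra hlt
      push Not at hlt
      have : Nat.card (Ca ⊓ Cb : Subgroup H) * (Ca ⊓ Cb).relIndex Ca < p ^ 2 * p :=
        lt_of_le_of_lt (Nat.mul_le_mul_left _ h1) (Nat.mul_lt_mul_of_pos_right hlt hp.out.pos)
      rw [h3, ← pow_succ] at this
      exact lt_irrefl _ this
    obtain ⟨c, hcN, hcZ⟩ : ∃ c ∈ Ca ⊓ Cb, c ∉ Z := by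
      by_contra h
      push Not at h
      have h1 := hN.trans (Subgroup.card_le_of_le (h : Ca ⊓ Cb ≤ Z))
      rw [hZ] at h1
      exact absurd h1 (by rw [pow_two]; exact (Nat.lt_mul_self_iff.2 hp.out.one_lt).not_ge)
    have hca : c * a = a * c := Subgroup.mem_centralizer_singleton_iff.1 hcN.1
    have hcb : c * b = b * c := Subgroup.mem_centralizer_singleton_iff.1 hcN.2
    set C := Subgroup.centralizer ({c} : Set H)
    have hC : Nat.card C = p ^ 3 := commutator_mem_center_of_gen hc (hall c) hcZ hZ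
    set T := Z ⊔ Subgroup.zpowers a ⊔ Subgroup.zpowers b
    have hTC : T ≤ C := by
      refine sup_le (sup_le (Subgroup.center_le_centralizer _) ?_) ?_
      · exact Subgroup.zpowers_le.2 (Subgroup.mem_centralizer_singleton_iff.2 hca.symm)
      · exact Subgroup.zpowers_le.2 (Subgroup.mem_centralizer_singleton_iff.2 hcb.symm)
    have hab' : IsMulCommutative (Z ⊔ Subgroup.zpowers a : Subgroup H) :=
      isMulCommutative_center_sup_zpowers a
    have hbT : b ∉ Z ⊔ Subgroup.zpowers a := fun h => hab (congrArg Subtype.val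
      (hab'.is_comm.comm ⟨a, Subgroup.mem_sup_right (Subgroup.mem_zpowers a)⟩ ⟨b, h⟩))
    have hTc : Nat.card T = p ^ 3 := by
      refine le_antisymm (hC ▸ Subgroup.card_le_of_le hTC) ?_
      refine card_ge_of_lt hc (SetLike.lt_iff_le_and_exists.2
        ⟨le_sup_left, b, Subgroup.mem_sup_right (Subgroup.mem_zpowers b), hbT⟩) ?_
      refine card_ge_of_lt hc (SetLike.lt_iff_le_and_exists.2
        ⟨le_sup_left, a, Subgroup.mem_sup_right (Subgroup.mem_zpowers a), ha⟩) ?_
      rw [pow_one, hZ]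
    have hTC' : T = C := Subgroup.eq_of_le_of_card_ge hTC (by rw [hTc, hC])
    have hTna : ¬ IsMulCommutative T := fun h => hab (congrArg Subtype.val (h.is_comm.comm
      ⟨a, Subgroup.mem_sup_left (Subgroup.mem_sup_right (Subgroup.mem_zpowers a))⟩
      ⟨b, Subgroup.mem_sup_right (Subgroup.mem_zpowers b)⟩))
    have hcT : c ∈ T := hTC' ▸ Subgroup.mem_centralizer_singleton_iff.2 rfl
    have hle : Z ⊔ Subgroup.zpowers c ≤ (Subgroup.center T).map T.subtype := by
      refine sup_le (fun z hz => ⟨⟨z, Subgroup.mem_sup_left (Subgroup.mem_sup_left hz)⟩,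
        Subgroup.mem_center_iff.2 fun t => Subtype.ext (Subgroup.mem_center_iff.1 hz t), rfl⟩) ?_
      exact Subgroup.zpowers_le.2 ⟨⟨c, hcT⟩, Subgroup.mem_center_iff.2 fun t => Subtype.ext
        (Subgroup.mem_centralizer_singleton_iff.1 (hTC t.2)), rfl⟩
    have h2 : p ^ 2 ≤ Nat.card (Subgroup.center T) := by
      rw [← Subgroup.card_map_of_injective T.subtype_injective]
      refine le_trans ?_ (Subgroup.card_le_of_le hle)
      refine card_ge_of_lt hc (SetLike.lt_iff_le_and_exists.2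
        ⟨le_sup_left, c, Subgroup.mem_sup_right (Subgroup.mem_zpowers c), hcZ⟩) ?_
      rw [pow_one, hZ]
    have h3 := sq_le_index_center (IsPGroup.of_card hTc) hTna
    have h4 := Nat.mul_le_mul h2 h3
    rw [(Subgroup.center T).card_mul_index, hTc, ← pow_add] at h4
    exact absurd ((Nat.pow_le_pow_iff_right hp.out.one_lt).1 h4) (by omega)
  -- the second centre has order `p²`
  have hDc : Nat.card D = p ^ 2 := by
    have h2 : p ^ 2 ≤ Nat.card D := card_ge_of_lt hc hZD (by rw [pow_one, hZ])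
    obtain ⟨d, hd4, hd⟩ := card_pow hc D
    rw [hd, Nat.pow_le_pow_iff_right hp.out.one_lt] at h2
    rw [hd]
    by_contra hne
    have hd3 : 3 ≤ d := by
      by_contra h
      exact hne (by rw [show d = 2 by omega])
    obtain ⟨x, -, hxD⟩ := SetLike.exists_of_lt (lt_top_iff_ne_top.2 hDtop)
    set C := (Subgroup.centralizer ({q x} : Set (H ⧸ Z))).comap q
    have hDC : D < C := SetLike.lt_iff_le_and_exists.2
      ⟨Subgroup.comap_mono (Subgroup.center_le_centralizer _),
        x, Subgroup.mem_comap.2 (Subgroup.mem_centralizer_singleton_iff.2 rfl), hxD⟩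
    have hCt : C = ⊤ := eq_top_of_card_ge hc
      (card_ge_of_lt hc hDC (hd ▸ Nat.pow_le_pow_right hp.out.pos hd3))
    refine hxD (Subgroup.mem_comap.2 (Subgroup.mem_center_iff.2 fun g => ?_))
    obtain ⟨y, rfl⟩ := QuotientGroup.mk'_surjective Z g
    exact Subgroup.mem_centralizer_singleton_iff.1 (Subgroup.mem_comap.1 (hCt ▸ Subgroup.mem_top y : y ∈ C))
  obtain ⟨x, hxD, hxZ⟩ := SetLike.exists_of_lt hZD
  have hDx : Z ⊔ Subgroup.zpowers x = D := by
    refine Subgroup.eq_of_le_of_card_ge (sup_le hZD.le (Subgroup.zpowers_le.2 hxD)) ?_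
    rw [hDc]
    refine card_ge_of_lt hc (SetLike.lt_iff_le_and_exists.2
      ⟨le_sup_left, x, Subgroup.mem_sup_right (Subgroup.mem_zpowers x), hxZ⟩) ?_
    rw [pow_one, hZ]
  have hCD : Subgroup.centralizer (D : Set H) = Subgroup.centralizer ({x} : Set H) := by
    refine le_antisymm (Subgroup.centralizer_le (Set.singleton_subset_iff.2 hxD)) ?_
    rw [Subgroup.le_centralizer_iff, ← hDx]
    refine sup_le (Subgroup.center_le_centralizer _) (Subgroup.zpowers_le.2 ?_)
    exact Subgroup.mem_centralizer_iff.2 fun y hy => Subgroup.mem_centralizer_singleton_iff.1 hy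
  have hDab : D ≤ Subgroup.centralizer (D : Set H) := by
    rw [hCD, ← hDx]
    exact center_le_centralizer_zpowers x
  have hinvD : Inv' D := fun σ e he => (hmem _).2 fun y => by
    rw [← σ.apply_symm_apply y]
    show ⁅σ.toMonoidHom e, σ.toMonoidHom (σ.symm y)⁆ ∈ Z
    rw [← map_commutatorElement]
    exact inv_center σ _ ((hmem e).1 he _)
  refine ⟨Z, D, Subgroup.centralizer (D : Set H), hZD.le, hDab, hZ, hDc, ?_, inv_center, hinvD,
    fun σ e he => Subgroup.mem_centralizer_iff.2 fun d hd => ?_⟩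
  · rw [hCD]
    exact commutator_mem_center_of_gen hc ((hmem x).1 hxD) hxZ hZ
  · have h := Subgroup.mem_centralizer_iff.1 he _ (hinvD σ.symm d hd)
    rw [← σ.apply_symm_apply d, ← map_mul, ← map_mul, h]


/-- Nonabelian groups of order `p⁴` with centre of order `p²`. -/
theorem shape_of_center_sq (hc : Nat.card H = p ^ 4) (hna : ¬ IsMulCommutative H)
    (hZ : Nat.card (Subgroup.center H) = p ^ 2) :
    HasFlag p H ∨ (IsCyclic (Subgroup.center H) ∧ ∀ x : H, x ^ p ^ 2 = 1) ∨
      (Odd p ∧ ∃ E : Subgroup H, ¬ IsMulCommutative E ∧ Nat.card E = p ^ 3 ∧ (∀ x ∈ E, x ^ p = 1) ∧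
        Nonempty (H ≃* E × Multiplicative (ZMod p))) ∨
      (p = 2 ∧ Nonempty (H ≃* QuaternionGroup 2 × Multiplicative (ZMod 2))) := by
  set Z := Subgroup.center H with hZdef
  obtain ⟨a, b, hab⟩ : ∃ a b : H, a * b ≠ b * a := by
    by_contra h
    push Not at h
    exact hna ⟨⟨h⟩⟩
  have ha : a ∉ Z := fun h => hab (Subgroup.mem_center_iff.1 h b).symm
  have hba : b ∉ Z ⊔ Subgroup.zpowers a := fun h => hab (congrArg Subtype.val
    ((isMulCommutative_center_sup_zpowers a).is_comm.comm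
      ⟨a, Subgroup.mem_sup_right (Subgroup.mem_zpowers a)⟩ ⟨b, h⟩))
  have hZa : p ^ 3 ≤ Nat.card (Z ⊔ Subgroup.zpowers a : Subgroup H) :=
    card_ge_of_lt hc (SetLike.lt_iff_le_and_exists.2
      ⟨le_sup_left, a, Subgroup.mem_sup_right (Subgroup.mem_zpowers a), ha⟩) hZ.ge
  have hgen : ∀ K : Subgroup H, Z ≤ K → a ∈ K → b ∈ K → K = ⊤ := fun K hZK haK hbK =>
    eq_top_of_card_ge hc (card_ge_of_lt hc (SetLike.lt_iff_le_and_exists.2
      ⟨sup_le hZK (Subgroup.zpowers_le.2 haK), b, hbK, hba⟩) hZa)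
  have hq2 : Nat.card (H ⧸ Z) = p ^ 2 := by
    have h := Z.card_eq_card_quotient_mul_card_subgroup
    rw [hc, hZ] at h
    exact Nat.eq_of_mul_eq_mul_right (pow_pos hp.out.pos 2) (by rw [← h, ← pow_add])
  have hcen : ∀ x y : H, ⁅x, y⁆ ∈ Z := fun x y => by
    letI := IsPGroup.commGroupOfCardEqPrimeSq hq2
    rw [← QuotientGroup.eq_one_iff]
    show QuotientGroup.mk' Z ⁅x, y⁆ = 1
    rw [map_commutatorElement]
    exact commutatorElement_eq_one_iff_mul_comm.2 (mul_comm _ _)
  have hpow : ∀ x : H, x ^ p ∈ Z := by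
    intro x
    rw [← QuotientGroup.eq_one_iff, QuotientGroup.mk_pow]
    by_contra h
    refine hna ?_
    have : IsCyclic (H ⧸ Z) := by
      refine isCyclic_of_orderOf_eq_card (QuotientGroup.mk x) ?_
      rw [hq2]
      exact orderOf_eq_prime_pow (n := 1) (by rwa [pow_one])
        (by rw [← hq2, pow_card_eq_one'])
    exact isMulCommutative_of_cyclic_quotient le_rfl
  set c₀ := ⁅a, b⁆ with hc₀
  set L := Subgroup.zpowers c₀ with hL
  have hLZ : L ≤ Z := Subgroup.zpowers_le.2 (hcen a b)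
  have hcL : ∀ x y : H, ⁅x, y⁆ ∈ L := by
    have hK : ∀ u : H, ⁅u, a⁆ ∈ L → ⁅u, b⁆ ∈ L → ∀ y, ⁅u, y⁆ ∈ L := by
      intro u hu1 hu2 y
      let ψ : H →* H := MonoidHom.mk' (fun z => ⁅u, z⁆) fun v w =>
        comm_mul_right_of_central (hcen u w)
      have h := hgen (L.comap ψ) (fun z hz => by
        show ⁅u, z⁆ ∈ L
        rw [commutatorElement_eq_one_iff_mul_comm.2 (Subgroup.mem_center_iff.1 hz u)]
        exact one_mem L) hu1 hu2
      exact (h ▸ Subgroup.mem_top y : y ∈ L.comap ψ)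
    have hswap : ∀ u v : H, ⁅u, v⁆ ∈ L → ⁅v, u⁆ ∈ L := fun u v h => by
      rw [← commutatorElement_inv]
      exact L.inv_mem h
    have h1 := hK a (by simp) (Subgroup.mem_zpowers c₀)
    have h2 := hK b (hswap _ _ (Subgroup.mem_zpowers c₀)) (by simp)
    exact fun x => hK x (hswap _ _ (h1 x)) (hswap _ _ (h2 x))
  have hc₀1 : c₀ ≠ 1 := fun h => hab (commutatorElement_eq_one_iff_mul_comm.1 h)
  have hc₀p : c₀ ^ p = 1 := by
    rw [hc₀, ← comm_pow_left_of_central (hcen a b)]
    exact commutatorElement_eq_one_iff_mul_comm.2 (Subgroup.mem_center_iff.1 (hpow a) b).symm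
  have hLc : Nat.card L = p := by
    rw [hL, Nat.card_zpowers]
    exact orderOf_eq_prime hc₀p hc₀1
  have hinvL : Inv' L := by
    rintro σ _ ⟨i, rfl⟩
    show σ (c₀ ^ i) ∈ L
    rw [map_zpow]
    refine L.zpow_mem ?_ i
    show σ.toMonoidHom ⁅a, b⁆ ∈ L
    rw [map_commutatorElement]
    exact hcL _ _
  have hflag : ∀ M : Subgroup H, Z ≤ M → Nat.card M = p ^ 3 → Inv' M → HasFlag p H :=
    fun M hM hMc hMi => ⟨L, Z, M, hLZ, hM, hLc, hZ, hMc, hinvL, inv_center, hMi⟩
  have hZp2 : ∀ z ∈ Z, z ^ p ^ 2 = 1 := fun z hz => by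
    have := pow_card_eq_one' (x := (⟨z, hz⟩ : Z))
    rw [hZ] at this
    exact congrArg Subtype.val this
  by_cases hexp : ∀ x : H, x ^ p ^ 2 = 1
  swap
  · -- an element of order `p³`
    push Not at hexp
    obtain ⟨x₀, hx₀⟩ := hexp
    let ψ : H →* H := MonoidHom.mk' (fun x => x ^ p ^ 2) fun x y => by
      rw [mul_pow_of_central (hcen y x)]
      have h1 : (⁅y, x⁆ : H) ^ p = 1 := by
        have := pow_card_eq_one' (x := (⟨_, hcL y x⟩ : L))
        rw [hLc] at this
        exact congrArg Subtype.val this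
      obtain ⟨k, hk⟩ : p ∣ (p ^ 2).choose 2 := by
        have h4 := Nat.pow_le_pow_left hp.out.two_le 2
        exact hp.out.dvd_choose_pow (by norm_num) (by omega)
      rw [hk, pow_mul, h1, one_pow, mul_one]
    refine Or.inl (hflag ψ.ker (fun z hz => MonoidHom.mem_ker.2 (hZp2 z hz))
      (card_ker_eq_cube hc ψ ⟨x₀, hx₀⟩ ?_) (inv_ker _ fun σ e he => ?_))
    · let π : Z →* H := MonoidHom.mk' (fun z => (z : H) ^ p) fun u v =>
        Commute.mul_pow (Subgroup.mem_center_iff.1 v.2 u) p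
      refine (Subgroup.card_le_of_le (K := π.range) ?_).trans ?_
      · rintro _ ⟨x, rfl⟩
        refine ⟨⟨x ^ p, hpow x⟩, ?_⟩
        show (x ^ p) ^ p = x ^ p ^ 2
        rw [← pow_mul, pow_two]
      · have h1 := π.ker.card_eq_card_quotient_mul_card_subgroup
        rw [Nat.card_congr (QuotientGroup.quotientKerEquivRange π).toEquiv, hZ] at h1
        have h2 : p ≤ Nat.card π.ker := by
          have h3 : (⟨c₀, hLZ (Subgroup.mem_zpowers c₀)⟩ : Z) ∈ π.ker := hc₀p
          have h4 := Subgroup.card_le_of_le (Subgroup.zpowers_le.2 h3)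
          rwa [Nat.card_zpowers, Subgroup.orderOf_mk, orderOf_eq_prime hc₀p hc₀1] at h4
        refine Nat.le_of_mul_le_mul_right ?_ hp.out.pos
        calc Nat.card π.range * p ≤ Nat.card π.range * Nat.card π.ker := Nat.mul_le_mul_left _ h2
          _ = p * p := by rw [← h1, pow_two]
    · show σ e ^ p ^ 2 = 1
      rw [← map_pow, show e ^ p ^ 2 = 1 from he, map_one]
  by_cases hcyc : IsCyclic Z
  · exact Or.inr (Or.inl ⟨hcyc, hexp⟩)
  have hZel : ∀ z ∈ Z, z ^ p = 1 := by
    intro z hz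
    by_contra h
    refine hcyc (isCyclic_of_orderOf_eq_card (⟨z, hz⟩ : Z) ?_)
    rw [hZ]
    exact orderOf_eq_prime_pow (n := 1) (by rw [pow_one]; exact fun e => h (congrArg Subtype.val e :))
      (Subtype.ext (hZp2 z hz))
  obtain ⟨c, hcZ, hcLn⟩ : ∃ c ∈ Z, c ∉ L := by
    by_contra h
    push Not at h
    have h1 := Subgroup.card_le_of_le (h : Z ≤ L)
    rw [hZ, hLc, pow_two] at h1
    exact absurd h1 (Nat.lt_mul_self_iff.2 hp.out.one_lt).not_ge
  have hZeq : L ⊔ Subgroup.zpowers c = Z := by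
    refine Subgroup.eq_of_le_of_card_ge (sup_le hLZ (Subgroup.zpowers_le.2 hcZ)) ?_
    rw [hZ]
    exact card_ge_of_lt hc (SetLike.lt_iff_le_and_exists.2
      ⟨le_sup_left, c, Subgroup.mem_sup_right (Subgroup.mem_zpowers c), hcLn⟩) (by rw [pow_one, hLc])
  have hcomm : ∀ y : H, Commute y c := fun y => Subgroup.mem_center_iff.1 hcZ y
  have : L.Normal := ⟨fun n hn g => by
    rw [Subgroup.mem_center_iff.1 (hLZ hn) g, mul_inv_cancel_right]; exact hn⟩
  rcases hp.out.eq_two_or_odd' with h2 | hodd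
  · subst h2
    -- the squares
    let θ : H →* H ⧸ L := MonoidHom.mk' (fun x => QuotientGroup.mk' L (x ^ 2)) fun x y => by
      rw [sq_mul_of_central (hcen y x), map_mul, map_mul,
        show QuotientGroup.mk' L ⁅y, x⁆ = 1 from (QuotientGroup.eq_one_iff _).2 (hcL y x), mul_one]
    by_cases hθ : ∃ x, θ x ≠ 1
    · refine Or.inl (hflag θ.ker (fun z hz => ?_) (card_ker_eq_cube hc θ hθ ?_)
        (inv_ker _ fun σ e he => ?_))
      · show QuotientGroup.mk' L (z ^ 2) = 1
        rw [hZel z hz, map_one]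
      · refine (Subgroup.card_le_of_le (K := Z.map (QuotientGroup.mk' L)) ?_).trans ?_
        · rintro _ ⟨x, rfl⟩
          exact Subgroup.mem_map_of_mem _ (hpow x)
        · have h1 := ((QuotientGroup.mk' L).comp Z.subtype).ker.card_eq_card_quotient_mul_card_subgroup
          rw [Nat.card_congr (QuotientGroup.quotientKerEquivRange _).toEquiv,
            MonoidHom.range_comp, Subgroup.range_subtype, hZ] at h1
          have h3 : L.subgroupOf Z ≤ ((QuotientGroup.mk' L).comp Z.subtype).ker := fun z hz =>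
            (QuotientGroup.eq_one_iff _).2 hz
          have h4 := Subgroup.card_le_of_le h3
          rw [Nat.card_congr (Subgroup.subgroupOfEquivOfLe hLZ).toEquiv, hLc] at h4
          refine Nat.le_of_mul_le_mul_right (c := 2) ?_ two_pos
          calc _ ≤ Nat.card (Z.map (QuotientGroup.mk' L)) * _ := Nat.mul_le_mul_left _ h4
            _ = 2 * 2 := by rw [← h1, pow_two]
      · have h1 : e ^ 2 ∈ L := (QuotientGroup.eq_one_iff _).1 he
        show QuotientGroup.mk' L (σ e ^ 2) = 1
        rw [← map_pow]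
        exact (QuotientGroup.eq_one_iff _).2 (hinvL σ _ h1)
    push Not at hθ
    have hz2 : c₀ ^ (2 : ℤ) = 1 := by exact_mod_cast hc₀p
    have hsq : ∀ x : H, x ^ 2 = 1 ∨ x ^ 2 = c₀ := fun x => by
      have h1 : x ^ 2 ∈ L := (QuotientGroup.eq_one_iff _).1 (hθ x)
      obtain ⟨i, hi⟩ := Subgroup.mem_zpowers_iff.1 h1
      rcases Int.even_or_odd' i with ⟨k, rfl | rfl⟩
      · left
        rw [← hi, zpow_mul]
        simp [hz2]
      · right
        rw [← hi, zpow_add, zpow_mul]
        simp [hz2]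
    have hcc : ∀ x y : H, x * y ≠ y * x → ⁅y, x⁆ = c₀ := by
      intro x y hxy
      obtain ⟨i, hi⟩ := Subgroup.mem_zpowers_iff.1 (hcL y x)
      rcases Int.even_or_odd' i with ⟨k, rfl | rfl⟩
      · exact absurd (commutatorElement_eq_one_iff_mul_comm.1 (by
          rw [← hi, zpow_mul]; simp [hz2])).symm hxy
      · rw [← hi, zpow_add, zpow_mul]
        simp [hz2]
    have hmul : ∀ x y : H, x * y ≠ y * x → (x * y) ^ 2 = x ^ 2 * y ^ 2 * c₀ := fun x y hxy => by
      rw [sq_mul_of_central (hcen y x), hcc x y hxy]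
    have hc₀2 : c₀ * c₀ = 1 := by rw [← pow_two, hc₀p]
    by_cases hQ : a ^ 2 = c₀ ∧ b ^ 2 = c₀
    · -- the quaternion case
      refine Or.inr (Or.inr (Or.inr ⟨rfl, ?_⟩))
      obtain ⟨haq, hbq⟩ := hQ
      have h4 : a ^ 4 = 1 := by rw [show 4 = 2 * 2 from rfl, pow_mul, haq, hc₀p]
      have hbab : b * a * b = a := by
        have h1 : ⁅b, a⁆ = c₀ := hcc a b hab
        have h2 : b * a * b⁻¹ = c₀ * a := by rw [← h1, commutatorElement_def]; group
        calc b * a * b = b * a * b⁻¹ * b ^ 2 := by rw [pow_two]; group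
          _ = c₀ * a * c₀ := by rw [h2, hbq]
          _ = c₀ * (c₀ * a) := by rw [mul_assoc, Subgroup.mem_center_iff.1 (hcen _ _) a]
          _ = a := by rw [← mul_assoc, hc₀2, one_mul]
      let f₁ := CfsgLib.Classical.Two.quatOfPair a b h4 (by rw [← pow_two, hbq, haq]) hbab
      let f₂ := zhom 2 c (hZel c hcZ)
      have hf₂ : f₂.range ≤ Z := (range_zhom_le _ _ _).trans (Subgroup.zpowers_le.2 hcZ)
      let f : QuaternionGroup 2 × Multiplicative (ZMod 2) →* H := MonoidHom.noncommCoprod f₁ f₂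
        fun u v => Subgroup.mem_center_iff.1 (hf₂ ⟨v, rfl⟩) (f₁ u)
      refine nonempty_mulEquiv ?_ hc f (hgen _ ?_ ?_ ?_)
      · rw [Nat.card_prod, Nat.card_congr Multiplicative.toAdd, Nat.card_zmod,
          Nat.card_eq_fintype_card, QuaternionGroup.card]
        norm_num
      · rw [← hZeq]
        refine sup_le (Subgroup.zpowers_le.2 ?_) (Subgroup.zpowers_le.2 ?_)
        · refine ⟨(QuaternionGroup.a 2, 1), ?_⟩
          show f₁ (QuaternionGroup.a 2) * f₂ 1 = c₀
          rw [map_one, mul_one, ← haq]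
          rfl
        · refine ⟨(1, Multiplicative.ofAdd 1), ?_⟩
          show f₁ 1 * f₂ (Multiplicative.ofAdd 1) = c
          rw [map_one, one_mul]
          exact zhom_one _ _ _
      · refine ⟨(QuaternionGroup.a 1, 1), ?_⟩
        show f₁ (QuaternionGroup.a 1) * f₂ 1 = a
        rw [map_one, mul_one]
        exact pow_one a
      · refine ⟨(QuaternionGroup.xa 0, 1), ?_⟩
        show f₁ (QuaternionGroup.xa 0) * f₂ 1 = b
        rw [map_one, mul_one]
        show b * a ^ (0 : ZMod (2 * 2)).val = b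
        simp
    · -- a pair of involutions
      obtain ⟨a', b', ha', hb', hab'⟩ : ∃ a' b' : H, a' ^ 2 = 1 ∧ b' ^ 2 = 1 ∧ a' * b' ≠ b' * a' := by
        rcases hsq a with h | h
        · rcases hsq b with h' | h'
          · exact ⟨a, b, h, h', hab⟩
          · refine ⟨a, a * b, h, by rw [hmul a b hab, h, h', one_mul, hc₀2], fun e => hab ?_⟩
            exact mul_left_cancel (e.trans (mul_assoc a b a))
        · rcases hsq b with h' | h'
          · refine ⟨b, a * b, h', by rw [hmul a b hab, h, h', mul_one, hc₀2], fun e => hab ?_⟩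
            rw [← mul_assoc] at e
            exact mul_right_cancel e.symm
          · exact absurd ⟨h, h'⟩ hQ
      have hy : (a' * b') ^ 2 ≠ 1 := by
        rw [hmul _ _ hab', ha', hb', one_mul, one_mul]; exact hc₀1
      have hyZ : a' * b' ∉ Z := fun h => hy (hZel _ h)
      have ha'Z : a' ∉ Z := fun h => hab' (Subgroup.mem_center_iff.1 h b').symm
      have hb'Z : b' ∉ Z := fun h => hab' (Subgroup.mem_center_iff.1 h a')
      set M := Z ⊔ Subgroup.zpowers (a' * b') with hM
      have hMab : IsMulCommutative M := isMulCommutative_center_sup_zpowers _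
      have ha'M : a' ∉ M := by
        intro h
        have e : a' * (a' * b') = a' * b' * a' := congrArg Subtype.val (hMab.is_comm.comm
          ⟨a', h⟩ ⟨a' * b', Subgroup.mem_sup_right (Subgroup.mem_zpowers _)⟩)
        exact hab' (mul_left_cancel (e.trans (mul_assoc a' b' a')))
      have hMc : Nat.card M = 2 ^ 3 := by
        refine card_eq_cube hc (card_ge_of_lt hc (SetLike.lt_iff_le_and_exists.2
          ⟨le_sup_left, _, Subgroup.mem_sup_right (Subgroup.mem_zpowers _), hyZ⟩) hZ.ge) fun h => ?_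
        exact ha'M (h ▸ Subgroup.mem_top a')
      have hidx : M.index = 2 := by
        have h := M.card_mul_index
        rw [hMc, hc] at h
        omega
      have haa : a' * a' = 1 := by rw [← pow_two, ha']
      have hout : ∀ y, y ∉ M → y ^ 2 = 1 := by
        intro y hy'
        have h1 : y * a' ∈ M := (Subgroup.mul_mem_iff_of_index_two hidx).2 (iff_of_false hy' ha'M)
        have : Z.Normal := inferInstance
        obtain ⟨z, hz, w, ⟨k, rfl⟩, e⟩ := Subgroup.mem_sup_of_normal_left.1 h1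
        have e' : z * (a' * b') ^ k = y * a' := e
        have hy2 : y = z * ((a' * b') ^ k * a') := by
          rw [← mul_assoc, e', mul_assoc, haa, mul_one]
        have hcz : ∀ v : H, Commute z v := fun v => (Subgroup.mem_center_iff.1 hz v).symm
        have hab2 : (a' * b') ^ (2 : ℤ) ∈ Z := by
          rw [zpow_two, ← pow_two, hmul _ _ hab', ha', hb', one_mul, one_mul]
          exact hcen a b
        rcases Int.even_or_odd' k with ⟨j, rfl | rfl⟩
        · rw [hy2, zpow_mul, ← mul_assoc, Commute.mul_pow ?_ 2, hZel _ (mul_mem hz (Z.zpow_mem hab2 j)),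
            ha', one_mul]
          exact (Subgroup.mem_center_iff.1 (mul_mem hz (Z.zpow_mem hab2 j)) a').symm
        · rw [hy2, zpow_add, zpow_mul, zpow_one, mul_assoc (((a' * b') ^ (2 : ℤ)) ^ j), ← mul_assoc z,
            Commute.mul_pow ?_ 2, hZel _ (mul_mem hz (Z.zpow_mem hab2 j)), one_mul, pow_two,
            show a' * b' * a' * (a' * b' * a') = a' * (b' * (a' * a') * b') * a' by group,
            haa, mul_one, ← pow_two b', hb', mul_one, haa]
          exact (Subgroup.mem_center_iff.1 (mul_mem hz (Z.zpow_mem hab2 j)) _).symm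
      refine Or.inl (hflag M le_sup_left hMc fun σ e he => ?_)
      suffices M.map σ.toMonoidHom ≤ M from this (Subgroup.mem_map_of_mem σ.toMonoidHom he)
      rw [hM, Subgroup.map_sup, sup_le_iff, MonoidHom.map_zpowers]
      refine ⟨?_, Subgroup.zpowers_le.2 ?_⟩
      · rintro _ ⟨z, hz, rfl⟩
        exact Subgroup.mem_sup_left (inv_center σ z hz)
      · by_contra h
        refine hy (σ.injective ?_)
        rw [map_pow, map_one]
        exact hout _ h
  -- `p` odd: the `p`-th power map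
  let π : H →* H := MonoidHom.mk' (fun x => x ^ p) fun x y => by
    refine mul_pow_of_central_odd (hcen y x) hodd ?_
    have := pow_card_eq_one' (x := (⟨_, hcL y x⟩ : L))
    rw [hLc] at this
    exact congrArg Subtype.val this
  by_cases hπ : ∃ x, π x ≠ 1
  · by_cases hπL : ∀ x, π x ∈ L
    · refine Or.inl (hflag π.ker (fun z hz => hZel z hz) (card_ker_eq_cube hc π hπ ?_)
        (inv_ker _ fun σ e he => ?_))
      · exact (Subgroup.card_le_of_le (by rintro _ ⟨x, rfl⟩; exact hπL x)).trans hLc.le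
      · show σ e ^ p = 1
        rw [← map_pow, show e ^ p = 1 from he, map_one]
    · push Not at hπL
      obtain ⟨x₁, hx₁⟩ := hπL
      let θ : H →* H ⧸ L := (QuotientGroup.mk' L).comp π
      refine Or.inl (hflag θ.ker (fun z hz => ?_) (card_ker_eq_cube hc θ ⟨x₁, fun h =>
        hx₁ ((QuotientGroup.eq_one_iff _).1 h)⟩ ?_) (inv_ker _ fun σ e he => ?_))
      · show QuotientGroup.mk' L (z ^ p) = 1
        rw [hZel z hz, map_one]
      · refine (Subgroup.card_le_of_le (K := (Subgroup.zpowers c).map (QuotientGroup.mk' L)) ?_).trans ?_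
        · rintro _ ⟨x, rfl⟩
          have h1 : x ^ p ∈ L ⊔ Subgroup.zpowers c := hZeq ▸ hpow x
          obtain ⟨l, hl, w, hw, e⟩ := Subgroup.mem_sup_of_normal_left.1 h1
          refine ⟨w, hw, ?_⟩
          show QuotientGroup.mk' L w = QuotientGroup.mk' L (x ^ p)
          rw [← e, map_mul, show QuotientGroup.mk' L l = 1 from (QuotientGroup.eq_one_iff l).2 hl,
            one_mul]
        · rw [MonoidHom.map_zpowers, Nat.card_zpowers]
          exact Nat.le_of_dvd hp.out.pos (orderOf_dvd_of_pow_eq_one (by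
            rw [← map_pow, hZel c hcZ, map_one]))
      · have h1 : e ^ p ∈ L := (QuotientGroup.eq_one_iff _).1 he
        show QuotientGroup.mk' L (σ e ^ p) = 1
        rw [← map_pow]
        exact (QuotientGroup.eq_one_iff _).2 (hinvL σ _ h1)
  push Not at hπ
  have hxp : ∀ x : H, x ^ p = 1 := hπ
  set E := L ⊔ Subgroup.zpowers a ⊔ Subgroup.zpowers b with hE
  have hEne : E ≠ ⊤ := by
    intro h
    have : (L ⊔ Subgroup.zpowers a).Normal := ⟨fun n hn g => by
      rw [show g * n * g⁻¹ = ⁅g, n⁆ * n by rw [commutatorElement_def]; group]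
      exact mul_mem (Subgroup.mem_sup_left (hcL g n)) hn⟩
    have hz : ∀ y : H, Nat.card (Subgroup.zpowers y) ≤ p := fun y => by
      rw [Nat.card_zpowers]
      exact Nat.le_of_dvd hp.out.pos (orderOf_dvd_of_pow_eq_one (hxp y))
    have h1 := (card_sup_le (L ⊔ Subgroup.zpowers a) (Subgroup.zpowers b)).trans
      (Nat.mul_le_mul ((card_sup_le L _).trans (Nat.mul_le_mul hLc.le (hz a))) (hz b))
    rw [← hE, h, Subgroup.card_top, hc, show p * p * p = p ^ 3 by ring,
      Nat.pow_le_pow_iff_right hp.out.one_lt] at h1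
    omega
  have haE : a ∈ E := Subgroup.mem_sup_left (Subgroup.mem_sup_right (Subgroup.mem_zpowers a))
  have hbE : b ∈ E := Subgroup.mem_sup_right (Subgroup.mem_zpowers b)
  have hcE : c ∉ E := by
    intro h
    refine hEne (hgen E ?_ haE hbE)
    rw [← hZeq]
    exact sup_le (le_sup_left.trans le_sup_left) (Subgroup.zpowers_le.2 h)
  let f₂ := zhom p c (hxp c)
  have hf₂ : f₂.range ≤ Z := (range_zhom_le _ _ _).trans (Subgroup.zpowers_le.2 hcZ)
  let f : E × Multiplicative (ZMod p) →* H := MonoidHom.noncommCoprod E.subtype f₂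
    fun u v => Subgroup.mem_center_iff.1 (hf₂ ⟨v, rfl⟩) (u : H)
  have hfr : f.range = ⊤ := by
    have hf1 : ∀ u : E, (u : H) ∈ f.range := fun u => ⟨(u, 1), by
      show (u : H) * f₂ 1 = u
      rw [map_one, mul_one]⟩
    refine hgen _ ?_ (hf1 ⟨a, haE⟩) (hf1 ⟨b, hbE⟩)
    rw [← hZeq]
    refine sup_le (fun l hl => hf1 ⟨l, Subgroup.mem_sup_left (Subgroup.mem_sup_left hl)⟩)
      (Subgroup.zpowers_le.2 ⟨(1, Multiplicative.ofAdd 1), ?_⟩)
    show ((1 : E) : H) * f₂ (Multiplicative.ofAdd 1) = c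
    rw [Subgroup.coe_one, one_mul]
    exact zhom_one _ _ _
  have hEc : Nat.card E = p ^ 3 := by
    refine card_eq_cube hc ?_ hEne
    have h := Nat.card_le_card_of_surjective f (MonoidHom.range_eq_top.1 hfr)
    rw [hc, Nat.card_prod, Nat.card_congr Multiplicative.toAdd, Nat.card_zmod, pow_succ] at h
    exact Nat.le_of_mul_le_mul_right h hp.out.pos
  refine Or.inr (Or.inr (Or.inl ⟨hodd, E, fun h => hab (congrArg Subtype.val
    (h.is_comm.comm ⟨a, haE⟩ ⟨b, hbE⟩)), hEc, fun x _ => hxp x, nonempty_mulEquiv ?_ hc f hfr⟩))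
  rw [Nat.card_prod, hEc, Nat.card_congr Multiplicative.toAdd, Nat.card_zmod]
  ring

end

end CfsgLib.PGroups.OrderFourth
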