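import Mathlib
import Cfsg.Agent.S0127
import Cfsg.Agent.Lib.PGroups.RankTwoOmega
import Cfsg.Agent.Lib.PGroups.Extraspecial
import Cfsg.Prelude.Def_CaseTheorems

/-!
# `p`-groups of rank two with a normal nonabelian subgroup of order `p³` and exponent `p`
-/

set_option autoImplicit false
set_option linter.all false

open scoped commutatorElement

namespace CfsgLib.PGroups.BlackburnExtra

open Subgroup RankTwoOmega

variable {G : Type*} [Group G] [Finite G] {p : ℕ} [Fact p.Prime]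

theorem pow_gen {H : Subgroup G} (hH : Nat.card H = p) {z a : G} (hz : z ∈ H) (hz1 : z ≠ 1)
    (ha : a ∈ H) : a ∈ zpowers z := by
  have h := mem_zpowers_of_prime_card (g' := (⟨a, ha⟩ : H)) hH
    (g := (⟨z, hz⟩ : H)) (fun h => hz1 (congrArg Subtype.val h))
  obtain ⟨i, hi⟩ := mem_zpowers_iff.mp h
  exact mem_zpowers_iff.mpr ⟨i, congrArg Subtype.val hi⟩

theorem exists_pow_gen {H : Subgroup G} (hH : Nat.card H = p) {z a : G} (hz : z ∈ H) (hz1 : z ≠ 1)
    (ha : a ∈ H) : ∃ k : ℕ, z ^ k = a ∧ (a ≠ 1 → ¬ p ∣ k) := by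
  obtain ⟨k, hk⟩ := (mem_powers_iff_mem_zpowers.mpr (pow_gen hH hz hz1 ha))
  refine ⟨k, hk, fun ha1 hpk => ha1 ?_⟩
  obtain ⟨j, rfl⟩ := hpk
  have hzp : z ^ p = 1 := by
    have := pow_card_eq_one' (x := (⟨z, hz⟩ : H))
    rw [hH] at this
    exact congrArg Subtype.val this
  rw [← hk]
  show z ^ (p * j) = 1
  rw [pow_mul, hzp, one_pow]

/-- An element of order `p` commuting with an elementary abelian subgroup of order `p²` is in it. -/
theorem mem_of_commute (hG : IsPGroup p G) (hrk : Cfsg.PRankLE p 2 G) {Y : Subgroup G}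
    (hYc : ∀ a ∈ Y, ∀ b ∈ Y, a * b = b * a) (hYexp : ∀ a ∈ Y, a ^ p = 1)
    (hYcard : Nat.card Y = p ^ 2) {x : G} (hx : x ^ p = 1) (hxY : ∀ a ∈ Y, a * x = x * a) :
    x ∈ Y := by
  set S : Set G := insert x (Y : Set G)
  have hSc : ∀ a ∈ S, ∀ b ∈ S, a * b = b * a := by
    rintro a (rfl | ha) b (rfl | hb)
    · rfl
    · exact (hxY b hb).symm
    · exact hxY a ha
    · exact hYc a ha b hb
  haveI hA : IsMulCommutative (closure S) := isMulCommutative_closure hSc
  have hAexp : ∀ a ∈ closure S, a ^ p = 1 := by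
    intro a ha
    induction ha using closure_induction with
    | mem a ha => rcases ha with rfl | ha
                  · exact hx
                  · exact hYexp a ha
    | one => exact one_pow p
    | mul a b ha hb iha ihb =>
      have hab : Commute a b := congrArg Subtype.val (mul_comm' (⟨a, ha⟩ : closure S) ⟨b, hb⟩)
      rw [hab.mul_pow, iha, ihb, one_mul]
    | inv a _ iha => rw [inv_pow, iha, inv_one]
  have hle : Y ≤ closure S := fun a ha => subset_closure (Set.mem_insert_of_mem x ha)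
  have heq : Y = closure S := eq_of_le_of_card_ge hle ((hrk _ hA hAexp).trans hYcard.ge)
  exact heq.ge (subset_closure (Set.mem_insert x _))

/-- The elementary structure of a normal nonabelian subgroup of order `p³` and exponent `p`. -/
theorem classify (hp2 : p ≠ 2) {n : ℕ} (hn : Nat.card G = p ^ n) (hrk : Cfsg.PRankLE p 2 G)
    (E₀ : Subgroup G) [E₀.Normal] (hcard : Nat.card E₀ = p ^ 3) (hexp : ∀ e ∈ E₀, e ^ p = 1)
    (hna : ¬ IsMulCommutative E₀) :
    (3 ≤ n ∧ ∃ x y z : G, Subgroup.closure ({x, y, z} : Set G) = ⊤ ∧ x ^ p = 1 ∧ y ^ p = 1 ∧ z ^ p ^ (n - 2) = 1 ∧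
        x * z = z * x ∧ y * z = z * y ∧ x⁻¹ * y * x = y * z ^ p ^ (n - 3)) ∨
    (4 ≤ n ∧ ∃ (s : ℕ) (x y z : G), (s = 1 ∨ ¬ IsSquare (s : ZMod p)) ∧ Subgroup.closure ({x, y, z} : Set G) = ⊤ ∧
        x ^ p = 1 ∧ y ^ p = 1 ∧ z ^ p ^ (n - 2) = 1 ∧ y * z = z * y ∧ x⁻¹ * y * x = y * z ^ (s * p ^ (n - 3)) ∧
        x⁻¹ * z * x = y * z) := by
  have hp := (Fact.out : p.Prime)
  have hG : IsPGroup p G := IsPGroup.of_card hn
  set C₀ : Subgroup G := centralizer (E₀ : Set G) with hC₀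
  set Z₀ : Subgroup G := E₀ ⊓ C₀ with hZ₀
  have hZcard : Nat.card Z₀ = p := by
    have hZeq : (center E₀).map E₀.subtype = Z₀ := by
      ext a
      constructor
      · rintro ⟨b, hb, rfl⟩
        exact ⟨b.2, mem_centralizer_iff.mpr fun e he =>
          congrArg Subtype.val (mem_center_iff.mp hb ⟨e, he⟩)⟩
      · rintro ⟨ha, hac⟩
        exact ⟨⟨a, ha⟩, mem_center_iff.mpr fun e =>
          Subtype.ext (mem_centralizer_iff.mp hac e e.2), rfl⟩
    rw [← hZeq, card_map_of_injective E₀.subtype_injective]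
    exact (isExtraspecial_of_card_cube hna hcard).2
  have hZc : Z₀ ≤ center G := le_center_of_card_le hG hZcard.le
  have hZexp : ∀ a ∈ Z₀, a ^ p = 1 := fun a ha => hexp a ha.1
  set π := QuotientGroup.mk' Z₀ with hπ
  have hπ1 : ∀ a, π a = 1 ↔ a ∈ Z₀ := fun a => QuotientGroup.eq_one_iff a
  have hπC : ∀ a b, Commute (π a) (π b) ↔ ⁅a, b⁆ ∈ Z₀ := fun a b => by
    rw [← hπ1, map_commutatorElement, commutatorElement_eq_one_iff_commute]
  have hne : E₀.map π ≠ ⊥ := fun h => by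
    have hle : E₀ ≤ Z₀ := fun a ha => (hπ1 a).mp ((mem_bot).mp (h ▸ mem_map_of_mem π ha))
    have := card_le_of_le hle
    rw [hcard, hZcard] at this
    have h2 : p ^ 1 < p ^ 3 := Nat.pow_lt_pow_right hp.one_lt (by norm_num)
    rw [pow_one] at h2
    omega
  haveI : (E₀.map π).Normal := ‹E₀.Normal›.map π (QuotientGroup.mk'_surjective Z₀)
  obtain ⟨q, hq, hq1, hqc⟩ := OddLocal.exists_ne_one_mem_center (hG.to_quotient Z₀) hne
  obtain ⟨y₀, hy₀, rfl⟩ := hq
  have hy₀Z : y₀ ∉ Z₀ := fun h => hq1 ((hπ1 _).mpr h)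
  have hy₀comm : ∀ g : G, ⁅g, y₀⁆ ∈ Z₀ := fun g =>
    (hπC g y₀).mp (mem_center_iff.mp hqc (π g))
  set Y : Subgroup G := Z₀ ⊔ zpowers y₀ with hY
  have hYE : Y ≤ E₀ := sup_le inf_le_left (zpowers_le.mpr hy₀)
  have hy₀Y : y₀ ∈ Y := mem_sup_right (mem_zpowers y₀)
  have hZY : Z₀ ≤ Y := le_sup_left
  have hmapY : Y.map π = zpowers (π y₀) := by
    rw [hY, Subgroup.map_sup, MonoidHom.map_zpowers,
      (Z₀.map_eq_bot_iff).2 (QuotientGroup.ker_mk' Z₀).ge, bot_sup_eq]
  have hcardYπ : Nat.card (Y.map π) = p := by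
    rw [hmapY, Nat.card_zpowers]
    exact orderOf_eq_prime (by rw [← map_pow, hexp y₀ hy₀, map_one]) hq1
  have hcardY : Nat.card Y = p ^ 2 := by
    have h1 := relIndex_mul_relIndex ⊥ Z₀ Y bot_le hZY
    rw [relIndex_bot_left, relIndex_bot_left] at h1
    have h2 := relIndex_ker Y π
    rw [hπ, QuotientGroup.ker_mk'] at h2
    rw [← h1, h2, hcardYπ, hZcard, pow_two]
  haveI hYn : Y.Normal := ⟨fun a ha g => by
    have h : ⁅g, a⁆ ∈ Y := by
      refine hZY ((hπC g a).mp ?_)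
      have hac : π a ∈ center (G ⧸ Z₀) := by
        refine (hmapY.trans_le (zpowers_le.mpr hqc)) (mem_map_of_mem π ha)
      exact mem_center_iff.mp hac (π g)
    rw [show g * a * g⁻¹ = ⁅g, a⁆ * a by rw [commutatorElement_def]; group]
    exact Y.mul_mem h ha⟩
  have hYcomm : ∀ a ∈ Y, ∀ b ∈ Y, a * b = b * a := by
    have hle : Y ≤ centralizer ((zpowers y₀ : Subgroup G) : Set G) := sup_le
      (fun z hz => mem_centralizer_iff.mpr fun t _ => mem_center_iff.mp (hZc hz) t)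
      (zpowers_le.mpr (mem_centralizer_iff.mpr fun t ht => by
        obtain ⟨i, rfl⟩ := mem_zpowers_iff.mp ht
        exact ((Commute.refl y₀).zpow_left i).eq))
    intro a ha b hb
    have hb' : b ∈ centralizer ({a} : Set G) := by
      refine (sup_le ?_ (zpowers_le.mpr ?_) : Y ≤ _) hb
      · exact fun z hz => mem_centralizer_singleton_iff.mpr (mem_center_iff.mp (hZc hz) a).symm
      · exact mem_centralizer_singleton_iff.mpr (mem_centralizer_iff.mp (hle ha) y₀ (mem_zpowers y₀))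
    exact (mem_centralizer_singleton_iff.mp hb').symm
  obtain ⟨x₀, hx₀, hx₀Y⟩ : ∃ x₀ ∈ E₀, x₀ ∉ Y := by
    by_contra h
    push Not at h
    have := card_le_of_le (fun a ha => h a ha : E₀ ≤ Y)
    rw [hcard, hcardY] at this
    have := (Nat.pow_le_pow_iff_right hp.one_lt).mp this
    omega
  have hgenE : Y ⊔ zpowers x₀ = E₀ := by
    refine eq_of_le_of_card_ge (sup_le hYE (zpowers_le.mpr hx₀)) ?_
    obtain ⟨k, hk⟩ := IsPGroup.iff_card.mp (hG.to_subgroup (Y ⊔ zpowers x₀))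
    rw [hcard, hk]
    refine pow_le_pow_right₀ hp.one_le ?_
    by_contra hk3
    have hle : Y ⊔ zpowers x₀ ≤ Y := (eq_of_le_of_card_ge le_sup_left (by
      rw [hk, hcardY]; exact pow_le_pow_right₀ hp.one_le (by omega))).ge
    exact hx₀Y (hle (mem_sup_right (mem_zpowers x₀)))
  have hmemC₀ : ∀ g, Commute g x₀ → Commute g y₀ → g ∈ C₀ := fun g h1 h2 => by
    have hle : E₀ ≤ centralizer ({g} : Set G) := hgenE.ge.trans (sup_le (sup_le
      (fun z hz => mem_centralizer_singleton_iff.mpr (mem_center_iff.mp (hZc hz) g).symm)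
      (zpowers_le.mpr (mem_centralizer_singleton_iff.mpr h2.symm.eq)))
      (zpowers_le.mpr (mem_centralizer_singleton_iff.mpr h1.symm.eq)))
    exact mem_centralizer_iff.mpr fun e he => mem_centralizer_singleton_iff.mp (hle he)
  have hC₀c : ∀ g ∈ C₀, ∀ e ∈ E₀, Commute g e := fun g hg e he =>
    (mem_centralizer_iff.mp hg e he).symm
  set ζ := ⁅x₀, y₀⁆ with hζ
  have hζZ : ζ ∈ Z₀ := hy₀comm x₀
  have hζ1 : ζ ≠ 1 := fun h => hy₀Z ⟨hy₀, hmemC₀ y₀
    (commutatorElement_eq_one_iff_commute.mp h).symm (Commute.refl y₀)⟩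
  have hζp : ζ ^ p = 1 := hZexp ζ hζZ
  -- the centralizer is cyclic
  have hC₀cyc : IsCyclic C₀ := by
    refine CfsgLib.Transfer.isCyclic_of_unique_order_p hp2 (hG.to_subgroup C₀) fun a b ha ha1 hb => ?_
    have key : ∀ a : C₀, a ^ p = 1 → (a : G) ∈ Z₀ := fun a ha =>
      ⟨hYE (mem_of_commute hG hrk hYcomm (fun e he => hexp e (hYE he)) hcardY
        (congrArg Subtype.val ha) fun e he => (hC₀c a a.2 e (hYE he)).eq.symm), a.2⟩
    obtain ⟨i, hi⟩ := mem_zpowers_iff.mp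
      (pow_gen hZcard (key a ha) (fun h => ha1 (Subtype.ext h)) (key b hb))
    exact mem_zpowers_iff.mpr ⟨i, Subtype.ext hi⟩
  obtain ⟨⟨c, hcC⟩, hcgen⟩ := hC₀cyc.exists_generator
  have hC₀eq : zpowers c = C₀ := by
    refine le_antisymm (zpowers_le.mpr hcC) fun a ha => ?_
    obtain ⟨i, hi⟩ := mem_zpowers_iff.mp (hcgen ⟨a, ha⟩)
    exact mem_zpowers_iff.mpr ⟨i, congrArg Subtype.val hi⟩
  obtain ⟨m, hm⟩ := IsPGroup.iff_card.mp (hG.to_subgroup C₀)
  have hm1 : 1 ≤ m := by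
    by_contra h
    have := card_le_of_le (inf_le_right : Z₀ ≤ C₀)
    rw [hZcard, hm, show m = 0 by omega, pow_zero] at this
    have := hp.one_lt
    omega
  -- any generator of the centralizer gives a generator of the centre of `E₀`
  have hω : ∀ w : G, zpowers w = C₀ → w ^ p ^ (m - 1) ∈ Z₀ ∧ w ^ p ^ (m - 1) ≠ 1 ∧
      w ^ p ^ m = 1 := by
    intro w hw
    have hord : orderOf w = p ^ m := by rw [← Nat.card_zpowers, hw, hm]
    have h1 : w ^ p ^ m = 1 := hord ▸ pow_orderOf_eq_one w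
    have h2 : w ^ p ^ (m - 1) ≠ 1 := pow_ne_one_of_lt_orderOf (pow_pos hp.pos _).ne'
      (hord ▸ Nat.pow_lt_pow_right hp.one_lt (by omega))
    refine ⟨⟨hYE (mem_of_commute hG hrk hYcomm (fun e he => hexp e (hYE he)) hcardY ?_ ?_), ?_⟩, h2, h1⟩
    · rw [← pow_mul, ← pow_succ, show m - 1 + 1 = m by omega, h1]
    · exact fun e he => (hC₀c _ (hw ▸ pow_mem (mem_zpowers w) _) e (hYE he)).eq.symm
    · exact hw ▸ pow_mem (mem_zpowers w) _
  have hC₀n : C₀.Normal := inferInstance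
  have hZ₀n : Z₀.Normal := inferInstance
  set H : Subgroup G := (centralizer ({π x₀} : Set (G ⧸ Z₀))).comap π with hH
  have hmemH : ∀ g, g ∈ H ↔ ⁅g, x₀⁆ ∈ Z₀ := fun g => by
    rw [hH, mem_comap, mem_centralizer_singleton_iff, ← hπC]
    rfl
  have hEH : E₀ ≤ H := by
    refine hgenE.ge.trans (sup_le (sup_le (fun z hz => (hmemH z).mpr ?_) (zpowers_le.mpr ?_))
      (zpowers_le.mpr ((hmemH x₀).mpr (by rw [commutatorElement_self]; exact one_mem _))))
    · rw [commutatorElement_eq_one_iff_commute.mpr (mem_center_iff.mp (hZc hz) x₀).symm]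
      exact one_mem _
    · rw [hmemH, ← commutatorElement_inv]; exact inv_mem (hy₀comm x₀)
  have hCH : C₀ ≤ H := fun g hg => (hmemH g).mpr (by
    rw [commutatorElement_eq_one_iff_commute.mpr (hC₀c g hg x₀ hx₀)]; exact one_mem _)
  have hHeq : H = C₀ ⊔ E₀ := by
    refine le_antisymm (fun g hg => ?_) (sup_le hCH hEH)
    obtain ⟨i, hi⟩ := mem_zpowers_iff.mp (pow_gen hZcard hζZ hζ1 ((hmemH g).mp hg))
    obtain ⟨j, hj⟩ := mem_zpowers_iff.mp (pow_gen hZcard hζZ hζ1 (hy₀comm g))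
    set e : G := y₀ ^ i * x₀ ^ (-j) with he
    have heE : e ∈ E₀ := mul_mem (zpow_mem hy₀ i) (zpow_mem hx₀ _)
    have hbim : ∀ a b x : G, ⁅a, x⁆ ∈ Z₀ → ⁅b, x⁆ ∈ Z₀ → ⁅a * b, x⁆ = ⁅a, x⁆ * ⁅b, x⁆ :=
      fun a b x ha hb => by
        rw [show ⁅a * b, x⁆ = a * ⁅b, x⁆ * a⁻¹ * ⁅a, x⁆ by
          simp only [commutatorElement_def]; group,
          mem_center_iff.mp (hZc hb) a, mul_inv_cancel_right, mem_center_iff.mp (hZc hb) ⁅a, x⁆]
    have hpw : ∀ (a x : G) (k : ℤ), ⁅a, x⁆ ∈ Z₀ → ⁅a ^ k, x⁆ = ⁅a, x⁆ ^ k := by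
      intro a x k ha
      have hall : ∀ k : ℤ, ⁅a ^ k, x⁆ ∈ Z₀ := fun k => (hπC _ _).mp (by
        rw [map_zpow]; exact ((hπC a x).mpr ha).zpow_left k)
      induction k using Int.induction_on with
      | zero => simp
      | succ k ih => rw [zpow_add_one, hbim _ _ _ (hall _) ha, ih, zpow_add_one]
      | pred k ih =>
        have := hbim (a ^ (-(k : ℤ) - 1)) a x (hall _) ha
        rw [← zpow_add_one, sub_add_cancel, ih] at this
        rw [zpow_sub_one ⁅a, x⁆, this, mul_inv_cancel_right]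
    have hyx : ⁅y₀, x₀⁆ = ζ⁻¹ := by rw [hζ, commutatorElement_inv]
    have hyxZ : ⁅y₀, x₀⁆ ∈ Z₀ := hyx ▸ inv_mem hζZ
    have hxxZ : ⁅x₀, x₀⁆ ∈ Z₀ := by rw [commutatorElement_self]; exact one_mem _
    have hyyZ : ⁅y₀, y₀⁆ ∈ Z₀ := by rw [commutatorElement_self]; exact one_mem _
    have h1 : ⁅e * g, x₀⁆ = 1 := by
      rw [hbim _ _ _ ((hmemH e).mp (hEH heE)) ((hmemH g).mp hg), he,
        hbim _ _ _ (by rw [hpw _ _ _ hyxZ]; exact zpow_mem hyxZ _)
          (by rw [hpw _ _ _ hxxZ]; exact zpow_mem hxxZ _),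
        hpw _ _ _ hyxZ, hpw _ _ _ hxxZ, commutatorElement_self, one_zpow, hyx, ← hi, inv_zpow,
        mul_one, inv_mul_cancel]
    have h2 : ⁅e * g, y₀⁆ = 1 := by
      rw [hbim _ _ _ (hy₀comm e) (hy₀comm g), he,
        hbim _ _ _ (by rw [hpw _ _ _ hyyZ]; exact zpow_mem hyyZ _)
          (by rw [hpw _ _ _ hζZ]; exact zpow_mem hζZ _),
        hpw _ _ _ hyyZ, hpw _ _ _ hζZ, commutatorElement_self, one_zpow, ← hj, zpow_neg,
        one_mul, inv_mul_cancel]
    have h3 := hmemC₀ _ (commutatorElement_eq_one_iff_commute.mp h1)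
      (commutatorElement_eq_one_iff_commute.mp h2)
    rw [show g = e⁻¹ * (e * g) by group]
    exact mul_mem (mem_sup_right (inv_mem heE)) (mem_sup_left h3)
  have hC₀rel : C₀.relIndex H = p ^ 2 := by
    rw [hHeq, relIndex_sup_left, show C₀.relIndex E₀ = Z₀.relIndex E₀ from (inf_relIndex_left _ _).symm]
    have h1 := relIndex_mul_relIndex ⊥ Z₀ E₀ bot_le inf_le_left
    rw [relIndex_bot_left, relIndex_bot_left, hZcard, hcard, pow_succ' p 2] at h1
    exact Nat.eq_of_mul_eq_mul_left hp.pos h1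
  have hGcard : Nat.card G = p ^ (m + 2) * H.index := by
    rw [← card_mul_index C₀, ← relIndex_mul_index hCH, hC₀rel, hm, ← mul_assoc, ← pow_add]
  by_cases htop : H = ⊤
  · -- the central product
    rw [htop, index_top, mul_one, hn] at hGcard
    have hnm : n = m + 2 := Nat.pow_right_injective hp.two_le hGcard
    obtain ⟨hωZ, hω1, hωm⟩ := hω c hC₀eq
    rw [hnm, show m + 2 - 2 = m by omega, show m + 2 - 3 = m - 1 by omega]
    set ω := c ^ p ^ (m - 1) with hωdef
    have hconj : y₀⁻¹ * (x₀⁻¹ * y₀ * x₀) ∈ Z₀ := by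
      rw [show y₀⁻¹ * (x₀⁻¹ * y₀ * x₀) = y₀⁻¹ * (⁅x₀⁻¹, y₀⁆) * y₀ by
        simp only [commutatorElement_def]; group]
      rw [mem_center_iff.mp (hZc (hy₀comm x₀⁻¹)) y₀⁻¹, inv_mul_cancel_right]
      exact hy₀comm x₀⁻¹
    have hconj1 : y₀⁻¹ * (x₀⁻¹ * y₀ * x₀) ≠ 1 := fun h => hζ1 (by
      rw [hζ, commutatorElement_eq_one_iff_commute]
      have h' : y₀ = x₀⁻¹ * y₀ * x₀ := inv_mul_eq_one.mp h
      show x₀ * y₀ = y₀ * x₀
      conv_lhs => rw [h']
      group)
    obtain ⟨k, hk, hpk⟩ := exists_pow_gen hZcard hconj hconj1 hωZ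
    have hpow : ∀ j : ℕ, (x₀ ^ j)⁻¹ * y₀ * x₀ ^ j = y₀ * (y₀⁻¹ * (x₀⁻¹ * y₀ * x₀)) ^ j := by
      intro j
      induction j with
      | zero => simp
      | succ j ih =>
        set d := y₀⁻¹ * (x₀⁻¹ * y₀ * x₀)
        have hd : x₀⁻¹ * y₀ * x₀ = y₀ * d := (mul_inv_cancel_left y₀ _).symm
        calc (x₀ ^ (j + 1))⁻¹ * y₀ * x₀ ^ (j + 1) = x₀⁻¹ * ((x₀ ^ j)⁻¹ * y₀ * x₀ ^ j) * x₀ := by
              rw [pow_succ]; group
          _ = x₀⁻¹ * y₀ * x₀ * (x₀⁻¹ * d ^ j * x₀) := by rw [ih]; group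
          _ = y₀ * d ^ (j + 1) := by
              rw [hd, mem_center_iff.mp (hZc (pow_mem hconj j)) x₀⁻¹, inv_mul_cancel_right,
                mul_assoc, ← pow_succ']
    refine Or.inl ⟨by omega, x₀ ^ k, y₀, c, ?_, by rw [← pow_mul, mul_comm, pow_mul, hexp x₀ hx₀, one_pow],
      hexp y₀ hy₀, hωm, ((hC₀c c hcC x₀ hx₀).symm.pow_left k).eq, (hC₀c c hcC y₀ hy₀).symm.eq, ?_⟩
    · rw [eq_top_iff, ← htop, hHeq]
      set K := Subgroup.closure ({x₀ ^ k, y₀, c} : Set G) with hK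
      have hcK : C₀ ≤ K := hC₀eq ▸ zpowers_le.mpr (subset_closure (by simp))
      refine sup_le hcK (hgenE.ge.trans (sup_le (sup_le (inf_le_right.trans hcK)
        (zpowers_le.mpr (subset_closure (by simp)))) (zpowers_le.mpr ?_)))
      have hcop : k.Coprime (orderOf x₀) := by
        rw [orderOf_eq_prime (hexp x₀ hx₀) (fun h => hx₀Y (h ▸ one_mem Y))]
        exact (hp.coprime_iff_not_dvd.mpr (hpk hω1)).symm
      obtain ⟨i, hi⟩ := exists_pow_eq_self_of_coprime hcop
      exact hi ▸ pow_mem (subset_closure (by simp)) i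
    · rw [hpow k, hk]
  · -- `G` is larger
    have hπY : ∀ a ∈ Y, π a ∈ center (G ⧸ Z₀) := fun a ha =>
      (hmapY.trans_le (zpowers_le.mpr hqc)) (mem_map_of_mem π ha)
    have hEY : ∀ (g : G), ∀ e ∈ E₀, ⁅g, e⁆ ∈ Y := by
      set ν := QuotientGroup.mk' Y
      haveI : (E₀.map ν).Normal := ‹E₀.Normal›.map ν (QuotientGroup.mk'_surjective Y)
      have hc : Nat.card (E₀.map ν) ≤ p := by
        have h2 := relIndex_ker E₀ ν
        rw [QuotientGroup.ker_mk'] at h2
        have h1 := relIndex_mul_relIndex ⊥ Y E₀ bot_le hYE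
        rw [relIndex_bot_left, relIndex_bot_left, hcardY, hcard, h2, pow_succ p 2] at h1
        exact (Nat.eq_of_mul_eq_mul_left (pow_pos hp.pos 2) h1).le
      intro g e he
      refine (QuotientGroup.eq_one_iff _).mp ?_
      show ν ⁅g, e⁆ = 1
      rw [map_commutatorElement, commutatorElement_eq_one_iff_commute]
      exact mem_center_iff.mp (le_center_of_card_le (hG.to_quotient Y) hc (mem_map_of_mem ν he)) (ν g)
    let f : G →* G ⧸ Z₀ := MonoidHom.mk' (fun g => π ⁅g, x₀⁆) fun a b => by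
      rw [show ⁅a * b, x₀⁆ = a * ⁅b, x₀⁆ * a⁻¹ * ⁅a, x₀⁆ by simp only [commutatorElement_def]; group]
      have hc := mem_center_iff.mp (hπY _ (hEY b x₀ hx₀))
      rw [map_mul, map_mul, map_mul, map_inv, hc, mul_inv_cancel_right, hc]
    have hfker : f.ker = H := by
      ext g; rw [MonoidHom.mem_ker, hmemH]; exact hπ1 _
    have hHidx : H.index = p := by
      have hle : f.range ≤ Y.map π := by
        rintro _ ⟨g, rfl⟩; exact mem_map_of_mem π (hEY g x₀ hx₀)
      have h1 : H.index ≤ p := by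
        rw [← hfker, index_ker]; exact (card_le_of_le hle).trans hcardYπ.le
      obtain ⟨k, hk⟩ := hG.index H
      rcases k with _ | _ | k
      · rw [pow_zero] at hk; exact absurd (index_eq_one.mp hk) htop
      · rw [hk, zero_add, pow_one]
      · rw [hk] at h1
        have := Nat.pow_lt_pow_right hp.one_lt (show 1 < k + 1 + 1 by omega)
        rw [pow_one] at this
        omega
    rw [hHidx, ← pow_succ, hn] at hGcard
    have hnm : n = m + 3 := Nat.pow_right_injective hp.two_le hGcard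
    obtain ⟨u₀, hu₀⟩ : ∃ u, u ∉ H := by
      by_contra h; push Not at h; exact htop (eq_top_iff' _ |>.mpr h)
    obtain ⟨b, hb⟩ := mem_zpowers_iff.mp (pow_gen hZcard hζZ hζ1 (hy₀comm u₀))
    obtain ⟨u, hu⟩ : ∃ u, u = x₀ ^ (-b) * u₀ := ⟨_, rfl⟩
    have huH : u ∉ H := fun h => hu₀ (by
      rw [show u₀ = (x₀ ^ (-b))⁻¹ * u by rw [hu, inv_mul_cancel_left]]
      exact mul_mem (inv_mem (hEH (zpow_mem hx₀ _))) h)
    have hxy : x₀ * y₀ * x₀⁻¹ = ζ * y₀ := by rw [hζ, commutatorElement_def]; group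
    have hxyb : ∀ i : ℤ, x₀ ^ i * y₀ * (x₀ ^ i)⁻¹ = ζ ^ i * y₀ := by
      intro i
      induction i using Int.induction_on with
      | zero => simp
      | succ k ih =>
        rw [show x₀ ^ ((k : ℤ) + 1) * y₀ * (x₀ ^ ((k : ℤ) + 1))⁻¹
            = x₀ * (x₀ ^ (k : ℤ) * y₀ * (x₀ ^ (k : ℤ))⁻¹) * x₀⁻¹ by
          rw [zpow_add_one, ((Commute.refl x₀).zpow_left _).eq]; group,
          ih, show x₀ * (ζ ^ (k : ℤ) * y₀) * x₀⁻¹ = x₀ * ζ ^ (k : ℤ) * x₀⁻¹ * (x₀ * y₀ * x₀⁻¹) by group,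
          mem_center_iff.mp (hZc (zpow_mem hζZ _)) x₀, mul_inv_cancel_right, hxy, ← mul_assoc,
          ← zpow_add_one]
      | pred k ih =>
        have h' : x₀⁻¹ * y₀ * x₀ = ζ⁻¹ * y₀ := by
          have e1 : x₀⁻¹ * (ζ * y₀) * x₀ = y₀ := by rw [← hxy]; group
          rw [show x₀⁻¹ * (ζ * y₀) * x₀ = x₀⁻¹ * ζ * x₀ * (x₀⁻¹ * y₀ * x₀) by group,
            mem_center_iff.mp (hZc hζZ) x₀⁻¹, inv_mul_cancel_right] at e1
          exact eq_inv_mul_of_mul_eq e1
        rw [show x₀ ^ (-(k : ℤ) - 1) * y₀ * (x₀ ^ (-(k : ℤ) - 1))⁻¹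
            = x₀⁻¹ * (x₀ ^ (-(k : ℤ)) * y₀ * (x₀ ^ (-(k : ℤ)))⁻¹) * x₀ by
          rw [zpow_sub_one, ((Commute.refl x₀).inv_right.zpow_left _).eq]; group,
          ih, show x₀⁻¹ * (ζ ^ (-(k : ℤ)) * y₀) * x₀
            = x₀⁻¹ * ζ ^ (-(k : ℤ)) * x₀ * (x₀⁻¹ * y₀ * x₀) by group,
          mem_center_iff.mp (hZc (zpow_mem hζZ _)) x₀⁻¹, inv_mul_cancel_right, h', ← mul_assoc,
          ← zpow_sub_one]
    have huy₀ : Commute u y₀ := by
      have h1 : u₀ * y₀ * u₀⁻¹ = ζ ^ b * y₀ := by rw [hb, commutatorElement_def]; group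
      have h2 : u * y₀ * u⁻¹ = y₀ := by
        rw [show u * y₀ * u⁻¹ = x₀ ^ (-b) * (u₀ * y₀ * u₀⁻¹) * (x₀ ^ (-b))⁻¹ by rw [hu]; group, h1,
          show x₀ ^ (-b) * (ζ ^ b * y₀) * (x₀ ^ (-b))⁻¹
            = x₀ ^ (-b) * ζ ^ b * (x₀ ^ (-b))⁻¹ * (x₀ ^ (-b) * y₀ * (x₀ ^ (-b))⁻¹) by group,
          mem_center_iff.mp (hZc (zpow_mem hζZ _)) (x₀ ^ (-b)), mul_inv_cancel_right, hxyb,
          ← mul_assoc, ← zpow_add, add_neg_cancel, zpow_zero, one_mul]
      exact mul_inv_eq_iff_eq_mul.mp h2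
    have huY : ∀ a ∈ Y, Commute u a := fun a ha => by
      have hle : Y ≤ centralizer ({u} : Set G) := sup_le
        (fun z hz => mem_centralizer_singleton_iff.mpr (mem_center_iff.mp (hZc hz) u).symm)
        (zpowers_le.mpr (mem_centralizer_singleton_iff.mpr huy₀.symm.eq))
      exact (mem_centralizer_singleton_iff.mp (hle ha)).symm
    obtain ⟨y, hy⟩ : ∃ y, y = u⁻¹ * (x₀⁻¹ * u * x₀) := ⟨_, rfl⟩
    have hyY : y ∈ Y := by
      rw [show y = ⁅u⁻¹, x₀⁻¹⁆ by rw [hy, commutatorElement_def]; group]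
      exact hEY _ _ (inv_mem hx₀)
    have hconju : x₀⁻¹ * u * x₀ = u * y := by rw [hy, mul_inv_cancel_left]
    have hπc : ∀ z ∈ Z₀, ∀ a : G, π (z * a) = π a := fun z hz a => by
      rw [map_mul, (hπ1 z).mpr hz, one_mul]
    have hyZ : y ∉ Z₀ := fun h => huH ((hmemH u).mpr ((hπC u x₀).mp (by
      have h1 := congrArg π hconju
      rw [map_mul, map_mul, map_mul, map_inv, (hπ1 y).mpr h, mul_one, mul_assoc,
        inv_mul_eq_iff_eq_mul] at h1
      exact h1)))
    have hupC : u ^ p ∈ C₀ := by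
      refine hmemC₀ _ ?_ (huy₀.pow_left p)
      have h2 : x₀⁻¹ * u ^ p * x₀ = u ^ p := by
        calc x₀⁻¹ * u ^ p * x₀ = (x₀⁻¹ * u * x₀) ^ p := by
              have := (conj_pow (i := p) (a := x₀⁻¹) (b := u)).symm
              rwa [inv_inv] at this
          _ = u ^ p := by rw [hconju, (huY y hyY).mul_pow, hexp y (hYE hyY), mul_one]
      show u ^ p * x₀ = x₀ * u ^ p
      rw [← inv_mul_eq_iff_eq_mul, ← mul_assoc]
      exact h2
    have hupgen : zpowers (u ^ p) = C₀ := by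
      set K : Subgroup G := C₀ ⊔ zpowers u with hK
      have hCK : C₀ ≤ K := le_sup_left
      set τ := QuotientGroup.mk' C₀
      have hKτ : K.map τ = zpowers (τ u) := by
        rw [hK, Subgroup.map_sup, MonoidHom.map_zpowers,
          (C₀.map_eq_bot_iff).2 (QuotientGroup.ker_mk' C₀).ge, bot_sup_eq]
      have hidx : (C₀.subgroupOf K).index = p := by
        rw [show (C₀.subgroupOf K).index = C₀.relIndex K from rfl]
        have h2 := relIndex_ker K τ
        rw [QuotientGroup.ker_mk'] at h2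
        rw [h2, hKτ, Nat.card_zpowers]
        refine orderOf_eq_prime ?_ fun h => huH (hCH ((QuotientGroup.eq_one_iff u).mp h))
        rw [← map_pow]
        exact (QuotientGroup.eq_one_iff _).mpr hupC
      haveI : IsCyclic (C₀.subgroupOf K) :=
        isCyclic_of_surjective (subgroupOfEquivOfLe hCK).symm (subgroupOfEquivOfLe hCK).symm.surjective
      by_contra hne
      have hlt : zpowers (u ^ p) < C₀ := lt_of_le_of_ne (zpowers_le.mpr hupC) hne
      have hnc : ¬ IsCyclic K := fun hKc => by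
        haveI := hKc
        have huK : u ∈ K := mem_sup_right (mem_zpowers u)
        rcases mem_zpowers_or hG (D := K) (hCK hcC) huK with h | h
        · -- `c` is a power of `u`
          obtain ⟨i, hi⟩ := mem_zpowers_iff.mp h
          have hiC : u ^ i ∈ C₀ := hi ▸ hcC
          have hdvd : (p : ℤ) ∣ i := by
            have ho : orderOf (τ u) = p := orderOf_eq_prime (by
              rw [← map_pow]; exact (QuotientGroup.eq_one_iff _).mpr hupC)
              fun h => huH (hCH ((QuotientGroup.eq_one_iff u).mp h))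
            have h3 := orderOf_dvd_iff_zpow_eq_one.mpr
              (show τ u ^ i = 1 by rw [← map_zpow]; exact (QuotientGroup.eq_one_iff _).mpr hiC)
            rwa [ho] at h3
          obtain ⟨j, rfl⟩ := hdvd
          refine hlt.not_ge (hC₀eq ▸ zpowers_le.mpr ?_)
          exact mem_zpowers_iff.mpr ⟨j, by rw [← zpow_natCast u p, ← zpow_mul, hi]⟩
        · exact huH (hCH (zpowers_le.mpr (pow_mem hcC p) h))
      obtain ⟨hT, hTc⟩ := Cfsg.Agent.S0127.result hp2 (hG.to_subgroup K) hnc _ inferInstance hidx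
      obtain ⟨w, hwT, hwC⟩ : ∃ w ∈ Subgroup.closure {w : K | w ^ p = 1}, w ∉ C₀.subgroupOf K := by
        by_contra hc
        push Not at hc
        obtain ⟨g, hg⟩ := (Subgroup.isCyclic_of_le hc).exists_generator
        have h5 : orderOf g ≤ p := orderOf_le_of_pow_eq_one hp.pos (Subtype.ext (hT.2 g g.2))
        rw [orderOf_eq_card_of_forall_mem_zpowers hg, hTc, pow_two] at h5
        nlinarith [hp.two_le]
      have hwp : (w : G) ^ p = 1 := congrArg Subtype.val (hT.2 w hwT)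
      have hKY : ∀ a ∈ Y, a * (w : G) = w * a := fun a ha => by
        have hle : K ≤ centralizer ({a} : Set G) := sup_le
          (fun g hg => mem_centralizer_singleton_iff.mpr (hC₀c g hg a (hYE ha)).eq)
          (zpowers_le.mpr (mem_centralizer_singleton_iff.mpr (huY a ha).eq))
        exact (mem_centralizer_singleton_iff.mp (hle w.2)).symm
      have hwY : (w : G) ∈ Y :=
        mem_of_commute hG hrk hYcomm (fun e he => hexp e (hYE he)) hcardY hwp hKY
      have hKgen : C₀ ⊔ zpowers (w : G) = K := by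
        refine eq_of_le_of_card_ge (sup_le hCK (zpowers_le.mpr w.2)) ?_
        have hlt' : C₀ < C₀ ⊔ zpowers (w : G) :=
          lt_of_le_not_ge le_sup_left fun h => hwC (h (mem_sup_right (mem_zpowers (w : G))))
        have h1 := card_le_of_le (sup_le hCK (zpowers_le.mpr w.2))
        obtain ⟨k, hk⟩ := IsPGroup.iff_card.mp (hG.to_subgroup (C₀ ⊔ zpowers (w : G)))
        have hlt'' : m < k := by
          by_contra hh
          exact hlt'.ne (eq_of_le_of_card_ge hlt'.le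
            (by rw [hk, hm]; exact pow_le_pow_right₀ hp.one_le (by omega)))
        have hKcard : Nat.card K = p ^ (m + 1) := by
          have h3 := relIndex_mul_relIndex ⊥ C₀ K bot_le hCK
          rw [relIndex_bot_left, relIndex_bot_left, hm,
            show C₀.relIndex K = p from hidx] at h3
          rw [← h3, pow_succ]
        rw [hk, hKcard]
        exact pow_le_pow_right₀ hp.one_le (by omega)
      exact huH ((hKgen.ge.trans (sup_le hCH (zpowers_le.mpr (hEH (hYE hwY)))))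
        (mem_sup_right (mem_zpowers u)))
    obtain ⟨hωZ, hω1, hωm⟩ := hω _ hupgen
    set ω := (u ^ p) ^ p ^ (m - 1) with hωdef
    have hωu : ω = u ^ p ^ m := by
      rw [hωdef, ← pow_mul, ← pow_succ', show m - 1 + 1 = m by omega]
    have hyconj : x₀⁻¹ * y * x₀ * y⁻¹ ∈ Z₀ := by
      refine (hπ1 _).mp ?_
      have hc := mem_center_iff.mp (hπY y hyY) (π x₀)⁻¹
      rw [map_mul, map_mul, map_mul, map_inv, map_inv, hc, inv_mul_cancel_right, mul_inv_cancel]
    have hyconj1 : x₀⁻¹ * y * x₀ * y⁻¹ ≠ 1 := fun h => by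
      have hcomm : Commute y x₀ := by
        have h1 : x₀⁻¹ * y * x₀ = y := mul_inv_eq_one.mp h
        show y * x₀ = x₀ * y
        rw [← inv_mul_eq_iff_eq_mul, ← mul_assoc]; exact h1
      exact hyZ ⟨hYE hyY, hmemC₀ y hcomm (hYcomm y hyY y₀ hy₀Y)⟩
    obtain ⟨t, ht, htp⟩ := exists_pow_gen hZcard hωZ hω1 hyconj
    have htp' : ¬ p ∣ t := htp hyconj1
    have hyx₀ : x₀⁻¹ * y * x₀ = y * ω ^ t := by
      rw [mem_center_iff.mp (hZc (pow_mem hωZ t)) y, ht, inv_mul_cancel_right]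
    have hωord : orderOf ω = p := orderOf_eq_prime (hZexp ω hωZ) hω1
    -- scaling `x₀`
    have main : ∀ l : ℕ, ¬ p ∣ l → ∃ x y' : G, Subgroup.closure ({x, y', u} : Set G) = ⊤ ∧
        x ^ p = 1 ∧ y' ^ p = 1 ∧ y' * u = u * y' ∧ x⁻¹ * y' * x = y' * ω ^ (t * (l * l)) ∧
        x⁻¹ * u * x = y' * u := by
      intro l hl
      set x := x₀ ^ l with hx
      have hπu : ∀ i : ℕ, π (x₀ ^ i)⁻¹ * π u * π (x₀ ^ i) = π u * π y ^ i := by
        intro i
        induction i with
        | zero => simp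
        | succ i ih =>
          have hc := mem_center_iff.mp (hπY (y ^ i) (pow_mem hyY i)) (π x₀)⁻¹
          have h0 : (π x₀)⁻¹ * π u * π x₀ = π u * π y := by
            rw [← map_inv, ← map_mul, ← map_mul, hconju, map_mul]
          calc π (x₀ ^ (i + 1))⁻¹ * π u * π (x₀ ^ (i + 1))
              = (π x₀)⁻¹ * (π (x₀ ^ i)⁻¹ * π u * π (x₀ ^ i)) * π x₀ := by
                rw [pow_succ, map_inv, map_mul, map_inv]; group
            _ = (π x₀)⁻¹ * π u * π x₀ * ((π x₀)⁻¹ * π (y ^ i) * π x₀) := by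
                rw [ih, map_pow]; group
            _ = π u * π y ^ (i + 1) := by
                rw [h0, hc, inv_mul_cancel_right, map_pow, pow_succ', mul_assoc]
      obtain ⟨y', hy'⟩ : ∃ y', y' = u⁻¹ * (x⁻¹ * u * x) := ⟨_, rfl⟩
      have hd : (y ^ l)⁻¹ * y' ∈ Z₀ := by
        rw [← hπ1, hy', map_mul, map_inv, map_mul, map_inv, map_mul, map_mul, hπu, inv_mul_cancel_left,
          map_pow, inv_mul_cancel]
      obtain ⟨d, hdd⟩ : ∃ d, d = (y ^ l)⁻¹ * y' := ⟨_, rfl⟩
      rw [← hdd] at hd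
      have hy'eq : y' = y ^ l * d := by rw [hdd, mul_inv_cancel_left]
      have hy'Y : y' ∈ Y := hy'eq ▸ mul_mem (pow_mem hyY l) (hZY hd)
      have hiter : ∀ i : ℕ, (x₀ ^ i)⁻¹ * y * x₀ ^ i = y * ω ^ (t * i) := by
        intro i
        induction i with
        | zero => simp
        | succ i ih =>
          calc (x₀ ^ (i + 1))⁻¹ * y * x₀ ^ (i + 1) = x₀⁻¹ * ((x₀ ^ i)⁻¹ * y * x₀ ^ i) * x₀ := by
                rw [pow_succ]; group
            _ = x₀⁻¹ * y * x₀ * (x₀⁻¹ * ω ^ (t * i) * x₀) := by rw [ih]; group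
            _ = y * ω ^ (t * (i + 1)) := by
                rw [hyx₀, mem_center_iff.mp (hZc (pow_mem hωZ _)) x₀⁻¹, inv_mul_cancel_right,
                  mul_assoc, ← pow_add, Nat.mul_succ, add_comm t]
      have hxy' : x⁻¹ * y' * x = y' * ω ^ (t * (l * l)) := by
        have h1 : x⁻¹ * y ^ l * x = y ^ l * ω ^ (t * (l * l)) := by
          have := (conj_pow (i := l) (a := x⁻¹) (b := y)).symm
          rw [inv_inv] at this
          rw [this, hiter l, (Commute.pow_right (mem_center_iff.mp (hZc hωZ) y : Commute y ω) _).mul_pow,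
            ← pow_mul ω, mul_assoc t l l]
        rw [hy'eq, show x⁻¹ * (y ^ l * d) * x = x⁻¹ * y ^ l * x * (x⁻¹ * d * x) by group, h1,
          mem_center_iff.mp (hZc hd) x⁻¹, inv_mul_cancel_right, mul_assoc,
          mem_center_iff.mp (hZc hd) (ω ^ _), ← mul_assoc]
      have hy'Z : y' ∉ Z₀ := fun h => by
        have hylZ : y ^ l ∈ Z₀ := by
          rw [show y ^ l = y' * d⁻¹ by rw [hy'eq, mul_inv_cancel_right]]
          exact mul_mem h (inv_mem hd)
        have h1 : π y ^ l = 1 := by rw [← map_pow]; exact (hπ1 _).mpr hylZ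
        have h2 : orderOf (π y) = p := orderOf_eq_prime
          (by rw [← map_pow, hexp y (hYE hyY), map_one]) fun h => hyZ ((hπ1 y).mp h)
        exact hl (h2 ▸ orderOf_dvd_of_pow_eq_one h1)
      refine ⟨x, y', ?_, by rw [hx, ← pow_mul, mul_comm, pow_mul, hexp x₀ hx₀, one_pow],
        hexp y' (hYE hy'Y), (huY y' hy'Y).symm.eq, hxy', ?_⟩
      · set K := Subgroup.closure ({x, y', u} : Set G) with hK
        have huK : u ∈ K := subset_closure (by simp)
        have hCK : C₀ ≤ K := hupgen ▸ zpowers_le.mpr (pow_mem huK p)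
        have hYK : Y ≤ K := by
          have hle : Z₀ ⊔ zpowers y' ≤ K :=
            sup_le (inf_le_right.trans hCK) (zpowers_le.mpr (subset_closure (by simp)))
          refine le_trans (le_of_eq ?_) hle
          refine (eq_of_le_of_card_ge (sup_le hZY (zpowers_le.mpr hy'Y)) ?_).symm
          obtain ⟨k, hk⟩ := IsPGroup.iff_card.mp (hG.to_subgroup (Z₀ ⊔ zpowers y'))
          rw [hcardY, hk]
          refine pow_le_pow_right₀ hp.one_le ?_
          by_contra hk2
          refine hy'Z ((eq_of_le_of_card_ge (le_sup_left : Z₀ ≤ Z₀ ⊔ zpowers y') ?_).ge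
            (mem_sup_right (mem_zpowers y')))
          rw [hk, hZcard]
          calc p ^ k ≤ p ^ 1 := pow_le_pow_right₀ hp.one_le (by omega)
            _ = p := pow_one p
        have hx₀K : x₀ ∈ K := by
          have hcop : l.Coprime (orderOf x₀) := by
            rw [orderOf_eq_prime (hexp x₀ hx₀) (fun h => hx₀Y (h ▸ one_mem Y))]
            exact (hp.coprime_iff_not_dvd.mpr hl).symm
          obtain ⟨i, hi⟩ := exists_pow_eq_self_of_coprime hcop
          exact hi ▸ pow_mem (subset_closure (by simp [hx])) i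
        have hHK : H ≤ K := hHeq.trans_le (sup_le hCK (hgenE.ge.trans (sup_le hYK (zpowers_le.mpr hx₀K))))
        by_contra hne
        have hlt : H < K := lt_of_le_not_ge hHK fun h => huH (h huK)
        have hdvd := index_dvd_of_le hHK
        rw [hHidx, Nat.dvd_prime hp] at hdvd
        rcases hdvd with h | h
        · exact hne (index_eq_one.mp h)
        · have := index_strictAnti hlt
          omega
      · rw [(huY y' hy'Y).symm.eq, hy', mul_inv_cancel_left]
    rw [hnm, show m + 3 - 2 = m + 1 by omega, show m + 3 - 3 = m by omega]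
    have hu1 : u ^ p ^ (m + 1) = 1 := by rw [pow_succ' p m, pow_mul, hωm]
    by_cases hsq : IsSquare (t : ZMod p)
    · obtain ⟨k, hk⟩ := hsq
      have ht0 : (t : ZMod p) ≠ 0 := fun h => htp' ((ZMod.natCast_eq_zero_iff t p).mp h)
      have hk0 : k ≠ 0 := fun h => ht0 (by rw [hk, h, mul_zero])
      have hl : ¬ p ∣ (k⁻¹).val := fun h => by
        rw [← ZMod.natCast_eq_zero_iff, ZMod.natCast_zmod_val] at h
        exact inv_ne_zero hk0 h
      obtain ⟨x, y', hgen, h1, h2, h3, h4, h5⟩ := main _ hl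
      refine Or.inr ⟨by omega, 1, x, y', u, Or.inl rfl, hgen, h1, h2, hu1, h3, ?_, h5⟩
      have hω' : ω ^ (t * ((k⁻¹).val * (k⁻¹).val)) = ω ^ 1 := by
        rw [pow_eq_pow_iff_modEq, hωord, ← ZMod.natCast_eq_natCast_iff]
        push_cast
        rw [ZMod.natCast_zmod_val, hk]
        field_simp
      rw [h4, hω', pow_one, one_mul, hωu]
    · obtain ⟨x, y', hgen, h1, h2, h3, h4, h5⟩ := main 1 hp.not_dvd_one
      refine Or.inr ⟨by omega, t, x, y', u, Or.inr hsq, hgen, h1, h2, hu1, h3, ?_, h5⟩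
      rw [h4, mul_one, mul_one, hωu, ← pow_mul, mul_comm t]

end CfsgLib.PGroups.BlackburnExtra
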