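import Mathlib
import Cfsg.Agent.S0126
import Cfsg.Agent.Lib.PGroups.BlackburnExtra

/-!
# `3`-groups of rank two: metacyclic, extraspecial core, or maximal class
-/

set_option autoImplicit false
set_option linter.all false

open scoped commutatorElement

namespace CfsgLib.PGroups.BlackburnThree

open Subgroup RankTwoOmega

universe u

local instance fact_three : Fact (Nat.Prime 3) := ⟨Nat.prime_three⟩

variable {G : Type u} [Group G] [Finite G]

/-- An element outside a subgroup of index `p` with centralizer of order `p` inside forces maximal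
class. -/
theorem maxClass {p n : ℕ} [Fact p.Prime] (hn : Nat.card G = p ^ n) (C : Subgroup G) [C.Normal]
    (hC : C.index = p) (u : G) (hfix : Nat.card (C ⊓ centralizer ({u} : Set G) : Subgroup G) = p) :
    2 ≤ n ∧ (⊤ : Subgroup G).lowerCentralSeries (n - 2) ≠ ⊥ := by
  classical
  have hp := (Fact.out : p.Prime)
  haveI : Fintype G := Fintype.ofFinite G
  set L : ℕ → Subgroup G := (⊤ : Subgroup G).lowerCentralSeries with hL
  have hCcard : Nat.card C * p = p ^ n := by rw [← hn, ← C.card_mul_index, hC]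
  have hn2 : 2 ≤ n := by
    have h1 := card_le_of_le (inf_le_left : C ⊓ centralizer ({u} : Set G) ≤ C)
    rw [hfix] at h1
    by_contra h
    have h2 : p * p ≤ p ^ n := hCcard ▸ Nat.mul_le_mul_right p h1
    have h3 : p ^ n ≤ p ^ 1 := pow_le_pow_right₀ hp.one_le (by omega)
    rw [pow_one] at h3
    nlinarith [hp.two_le]
  refine ⟨hn2, fun hbot => ?_⟩
  set φ : G → G := fun x => ⁅u, x⁆ with hφ
  set S : ℕ → Finset G := fun k => Finset.univ.filter fun c => c ∈ C ∧ φ^[k] c = 1
  have hφC : ∀ c ∈ C, φ c ∈ C := fun c hc => by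
    show u * c * u⁻¹ * c⁻¹ ∈ C
    exact C.mul_mem (‹C.Normal›.conj_mem c hc u) (C.inv_mem hc)
  have hmemS : ∀ k c, c ∈ S k ↔ c ∈ C ∧ φ^[k] c = 1 := fun k c => by simp [S]
  have hS : ∀ k, (S k).card ≤ p ^ k := by
    intro k
    induction k with
    | zero =>
      rw [pow_zero, Finset.card_le_one]
      intro a ha b hb
      exact ((hmemS 0 a).mp ha).2.trans ((hmemS 0 b).mp hb).2.symm
    | succ k ih =>
      have hsub : (S (k + 1)).image φ ⊆ S k := by
        intro y hy
        obtain ⟨x, hx, rfl⟩ := Finset.mem_image.mp hy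
        obtain ⟨hxC, hx1⟩ := (hmemS _ x).mp hx
        rw [Function.iterate_succ_apply] at hx1
        exact (hmemS _ _).mpr ⟨hφC x hxC, hx1⟩
      refine (Finset.card_le_mul_card_image (f := φ) (S (k + 1)) p fun b _ => ?_).trans ?_
      · by_cases hne : ((S (k + 1)).filter fun a => φ a = b).Nonempty
        · obtain ⟨d, hd⟩ := hne
          obtain ⟨hdS, hdb⟩ := Finset.mem_filter.mp hd
          refine le_trans (Finset.card_le_card_of_injOn (fun a => d⁻¹ * a)
            (t := Finset.univ.filter fun x => x ∈ C ⊓ centralizer ({u} : Set G)) ?_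
            (fun a _ b _ h => mul_left_cancel h)) ?_
          · intro a ha
            obtain ⟨haS, hab⟩ := Finset.mem_filter.mp (Finset.mem_coe.mp ha)
            refine Finset.mem_coe.mpr (Finset.mem_filter.mpr ⟨Finset.mem_univ _,
              C.mul_mem (C.inv_mem ((hmemS _ d).mp hdS).1) ((hmemS _ a).mp haS).1,
              mem_centralizer_singleton_iff.mpr ?_⟩)
            have h1 : ⁅u, a⁆ = ⁅u, d⁆ := hab.trans hdb.symm
            have h3 : u * (d⁻¹ * a) * u⁻¹ = d⁻¹ * a := by
              rw [show u * (d⁻¹ * a) * u⁻¹ = (⁅u, d⁆ * d)⁻¹ * (⁅u, a⁆ * a) by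
                simp only [commutatorElement_def]; group, h1]
              group
            exact (mul_inv_eq_iff_eq_mul.mp h3).symm
          · rw [← Fintype.card_subtype, ← Nat.card_eq_fintype_card]
            exact hfix.le
        · rw [Finset.not_nonempty_iff_eq_empty.mp hne]; simp
      · rw [pow_succ']
        exact Nat.mul_le_mul_left p ((Finset.card_le_card hsub).trans ih)
  have hall : (Finset.univ.filter fun c => c ∈ C) ⊆ S (n - 2) := by
    intro c hc
    refine (hmemS _ c).mpr ⟨(Finset.mem_filter.mp hc).2, ?_⟩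
    have key : ∀ k, φ^[k] c ∈ L k := by
      intro k
      induction k with
      | zero => exact mem_top c
      | succ k ih =>
        rw [Function.iterate_succ_apply']
        show ⁅u, φ^[k] c⁆ ∈ L (k + 1)
        rw [← commutatorElement_inv]
        exact inv_mem (Subgroup.commutator_mem_commutator ih (mem_top u))
    exact mem_bot.mp (hbot ▸ key (n - 2))
  have h1 := (Finset.card_le_card hall).trans (hS (n - 2))
  rw [← Fintype.card_subtype, ← Nat.card_eq_fintype_card] at h1
  have h2 : Nat.card C * p ≤ p ^ (n - 2) * p := Nat.mul_le_mul_right p h1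
  rw [hCcard, ← pow_succ] at h2
  have h3 := (Nat.pow_le_pow_iff_right hp.one_lt).mp h2
  omega

section Setup

variable {E : Subgroup G} [E.Normal]

/-- Basic facts on a normal elementary subgroup of order at most nine which is not central. -/
theorem setup (hG : IsPGroup 3 G) (hcard : Nat.card E ≤ 9) (hC : centralizer (E : Set G) ≠ ⊤) :
    Nat.card E = 9 ∧ Nat.card (E ⊓ center G : Subgroup G) = 3 ∧
      (∀ g : G, ∀ e ∈ E, ⁅g, e⁆ ∈ E ⊓ center G) ∧ (centralizer (E : Set G)).index = 3 ∧
      (∀ u, u ∉ centralizer (E : Set G) → ∀ e ∈ E, Commute u e → e ∈ E ⊓ center G) := by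
  have hnc : ¬ E ≤ center G := fun h => hC (top_le_iff.mp fun g _ =>
    mem_centralizer_iff.mpr fun e he => (mem_center_iff.mp (h he) g).symm)
  obtain ⟨k, hk⟩ := IsPGroup.iff_card.mp (hG.to_subgroup E)
  have hk2 : k = 2 := by
    rcases k with _ | _ | _ | k
    · exact absurd (le_center_of_card_le hG (Z := E) (by omega)) hnc
    · exact absurd (le_center_of_card_le hG (Z := E) (by omega)) hnc
    · rfl
    · rw [hk, show k + 1 + 1 + 1 = k + 3 from rfl, pow_add] at hcard
      have : 1 ≤ 3 ^ k := Nat.one_le_pow _ _ (by norm_num)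
      omega
  rw [hk2] at hk
  have hE1 : E ≠ ⊥ := fun h => hnc (h ▸ bot_le)
  obtain ⟨z, hz, hz1, hzc⟩ := OddLocal.exists_ne_one_mem_center hG hE1
  set Z := E ⊓ center G with hZ
  have hZcard : Nat.card Z = 3 := by
    obtain ⟨j, hj⟩ := IsPGroup.iff_card.mp (hG.to_subgroup Z)
    have h1 := card_le_of_le (inf_le_left : Z ≤ E)
    rw [hj, hk] at h1
    have h2 := (Nat.pow_le_pow_iff_right (by norm_num : 1 < 3)).mp h1
    interval_cases j
    · rw [pow_zero, card_eq_one] at hj
      exact absurd (mem_bot.mp (hj ▸ (⟨hz, hzc⟩ : z ∈ Z))) hz1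
    · exact hj
    · exact absurd ((eq_of_le_of_card_ge (inf_le_left : Z ≤ E) (by rw [hj, hk])).ge.trans
        inf_le_right) hnc
  haveI : Z.Normal := inferInstance
  set π := QuotientGroup.mk' Z
  haveI : (E.map π).Normal := ‹E.Normal›.map π (QuotientGroup.mk'_surjective Z)
  have hcπ : Nat.card (E.map π) ≤ 3 := by
    have h2 := relIndex_ker E π
    rw [QuotientGroup.ker_mk'] at h2
    have h1 := relIndex_mul_relIndex ⊥ Z E bot_le inf_le_left
    rw [relIndex_bot_left, relIndex_bot_left, hZcard, hk, h2] at h1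
    omega
  have hEZ : ∀ g : G, ∀ e ∈ E, ⁅g, e⁆ ∈ Z := fun g e he => by
    refine (QuotientGroup.eq_one_iff _).mp ?_
    show π ⁅g, e⁆ = 1
    rw [map_commutatorElement, commutatorElement_eq_one_iff_commute]
    exact mem_center_iff.mp (le_center_of_card_le (hG.to_quotient Z) hcπ (mem_map_of_mem π he)) (π g)
  have hgen : ∀ e ∈ E, e ∉ Z → Z ⊔ zpowers e = E := fun e he hne => by
    refine eq_of_le_of_card_ge (sup_le inf_le_left (zpowers_le.mpr he)) ?_
    obtain ⟨j, hj⟩ := IsPGroup.iff_card.mp (hG.to_subgroup (Z ⊔ zpowers e))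
    rw [hj, hk]
    refine Nat.pow_le_pow_right (by norm_num) ?_
    by_contra hj2
    refine hne ((eq_of_le_of_card_ge (le_sup_left : Z ≤ Z ⊔ zpowers e) ?_).ge
      (mem_sup_right (mem_zpowers e)))
    rw [hj, hZcard]
    calc 3 ^ j ≤ 3 ^ 1 := Nat.pow_le_pow_right (by norm_num) (by omega)
      _ = 3 := rfl
  obtain ⟨e₀, he₀, he₀Z⟩ : ∃ e ∈ E, e ∉ Z := by
    by_contra h
    push Not at h
    exact hnc fun e he => (h e he).2
  have hcent : ∀ e ∈ E, e ∉ Z → ∀ g, Commute g e → g ∈ centralizer (E : Set G) := fun e he hne g hg => by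
    refine mem_centralizer_iff.mpr fun a ha => ?_
    have hle : E ≤ centralizer ({g} : Set G) := (hgen e he hne).ge.trans (sup_le
      (fun z hz => mem_centralizer_singleton_iff.mpr (mem_center_iff.mp hz.2 g).symm)
      (zpowers_le.mpr (mem_centralizer_singleton_iff.mpr hg.symm.eq)))
    exact mem_centralizer_singleton_iff.mp (hle ha)
  let f : G →* G := MonoidHom.mk' (fun g => ⁅g, e₀⁆) fun a b => by
    rw [show ⁅a * b, e₀⁆ = a * ⁅b, e₀⁆ * a⁻¹ * ⁅a, e₀⁆ by simp only [commutatorElement_def]; group,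
      mem_center_iff.mp (hEZ b e₀ he₀).2 a, mul_inv_cancel_right,
      mem_center_iff.mp (hEZ b e₀ he₀).2 ⁅a, e₀⁆]
  have hker : f.ker = centralizer (E : Set G) := by
    ext g
    rw [MonoidHom.mem_ker]
    show ⁅g, e₀⁆ = 1 ↔ _
    rw [commutatorElement_eq_one_iff_commute]
    exact ⟨hcent e₀ he₀ he₀Z g, fun h => (mem_centralizer_iff.mp h e₀ he₀).symm⟩
  have hidx : (centralizer (E : Set G)).index = 3 := by
    have h1 : f.ker.index ≤ 3 := by
      rw [index_ker]
      refine (card_le_of_le ?_).trans hZcard.le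
      rintro _ ⟨g, rfl⟩
      exact hEZ g e₀ he₀
    rw [hker] at h1
    obtain ⟨j, hj⟩ := hG.index (centralizer (E : Set G))
    rw [hj] at h1 ⊢
    rcases j with _ | _ | j
    · exact absurd (index_eq_one.mp (by rw [hj, pow_zero])) hC
    · rfl
    · rw [show j + 1 + 1 = j + 2 from rfl, pow_add] at h1
      have : 1 ≤ 3 ^ j := Nat.one_le_pow _ _ (by norm_num)
      omega
  refine ⟨hk, hZcard, hEZ, hidx, fun u hu e he hue => ?_⟩
  by_contra hne
  exact hu (hcent e he hne u hue)

end Setup

/-- The formula for the commutator with a cube. -/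
theorem cube_comm {u c a e f : G} (ha : u * c * u⁻¹ = a * c) (he : u * a * u⁻¹ = e * a)
    (hf : u * e * u⁻¹ = f * e) (hea : Commute e a) (he3 : e ^ 3 = 1) :
    ⁅u ^ 3, c⁆ = f * a ^ 3 := by
  have h1 : u ^ 3 * c * (u ^ 3)⁻¹ = u * (u * (u * c * u⁻¹) * u⁻¹) * u⁻¹ := by
    simp only [pow_succ, pow_zero, one_mul, mul_inv_rev]; group
  have h2 : u * (a * c) * u⁻¹ = e * a * (a * c) := by
    rw [show u * (a * c) * u⁻¹ = (u * a * u⁻¹) * (u * c * u⁻¹) by group, he, ha]
  have h3 : u * (e * a * (a * c)) * u⁻¹ = f * e * (e * a) * (e * a) * (a * c) := by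
    rw [show u * (e * a * (a * c)) * u⁻¹
      = (u * e * u⁻¹) * (u * a * u⁻¹) * ((u * a * u⁻¹) * (u * c * u⁻¹)) by group, hf, he, ha]
    group
  rw [commutatorElement_def, h1, ha, h2, h3]
  have h4 : f * e * (e * a) * (e * a) * (a * c) * c⁻¹ = f * (e * (e * (a * e))) * (a * a) := by group
  have h5 : e * (e * e) = 1 := by rw [← he3, pow_succ, pow_two, mul_assoc]
  rw [h4, hea.symm.eq, show f * (e * (e * (e * a))) * (a * a) = f * (e * (e * e)) * (a * (a * a)) by group,
    h5, mul_one, pow_succ, pow_two]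
  group

/-- An element of order three outside `C` with large centralizer gives an extraspecial subgroup. -/
theorem exists_extraspecial (hG : IsPGroup 3 G) (hrk : Cfsg.PRankLE 3 2 G) {E : Subgroup G}
    [E.Normal] (hE : Cfsg.IsElementaryAbelian 3 E) (hcard : Nat.card E = 9) {u : G}
    (hu : u ∉ centralizer (E : Set G)) (hu3 : u ^ 3 = 1)
    (hfix : Nat.card (centralizer (E : Set G) ⊓ centralizer ({u} : Set G) : Subgroup G) ≠ 3) :
    ∃ E₀ : Subgroup G, E₀.Normal ∧ Nat.card E₀ = 3 ^ 3 ∧ (∀ e ∈ E₀, e ^ 3 = 1) ∧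
      ¬ IsMulCommutative E₀ := by
  set C := centralizer (E : Set G) with hCdef
  obtain ⟨-, hZcard, hEZ, hidx, hfixE⟩ := setup hG hcard.le (fun h => hu (h.ge (mem_top u)))
  set Z := E ⊓ center G with hZ
  have hcomm : ∀ a ∈ E, ∀ b ∈ E, a * b = b * a := fun a ha b hb =>
    haveI := hE.1
    congrArg Subtype.val (mul_comm' (⟨a, ha⟩ : E) ⟨b, hb⟩)
  have hEC : E ≤ C := fun a ha => mem_centralizer_iff.mpr fun b hb => hcomm b hb a ha
  have hΩ : ∀ x ∈ C, x ^ 3 = 1 → x ∈ E := fun x hx hx3 =>
    BlackburnExtra.mem_of_commute hG hrk hcomm hE.2 (hcard.trans (by norm_num)) hx3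
      fun a ha => mem_centralizer_iff.mp hx a ha
  set F := C ⊓ centralizer ({u} : Set G) with hF
  have hZF : Z ≤ F := fun z hz => ⟨hEC hz.1,
    mem_centralizer_singleton_iff.mpr (mem_center_iff.mp hz.2 u).symm⟩
  have hFΩ : ∀ x ∈ F, x ^ 3 = 1 → x ∈ Z := fun x hx hx3 =>
    hfixE u hu x (hΩ x hx.1 hx3) (mem_centralizer_singleton_iff.mp hx.2).symm
  obtain ⟨d, hdF, hd3, hd1⟩ : ∃ d ∈ F, d ^ 3 ∈ Z ∧ d ^ 3 ≠ 1 := by
    obtain ⟨y, hyF, hyZ⟩ : ∃ y ∈ F, y ∉ Z := by
      by_contra h
      push Not at h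
      exact hfix ((congrArg (fun K : Subgroup G => Nat.card K) (le_antisymm h hZF)).trans hZcard)
    obtain ⟨k, hk⟩ := IsPGroup.iff_orderOf.mp hG y
    rcases k with _ | _ | k
    · rw [pow_zero, orderOf_eq_one_iff] at hk
      exact absurd (hk ▸ one_mem Z) hyZ
    · exact absurd (hFΩ y hyF (by have := pow_orderOf_eq_one y; rwa [hk, zero_add, pow_one] at this)) hyZ
    · refine ⟨y ^ 3 ^ k, pow_mem hyF _, hFΩ _ (pow_mem (pow_mem hyF _) 3) ?_, ?_⟩
      · rw [← pow_mul, ← pow_mul, ← mul_assoc, ← pow_succ, ← pow_succ, ← hk, pow_orderOf_eq_one]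
      · rw [← pow_mul, ← pow_succ]
        exact pow_ne_one_of_lt_orderOf (pow_pos (by norm_num) _).ne'
          (hk ▸ Nat.pow_lt_pow_right (by norm_num) (by omega))
  have hpC : ∀ x ∈ C, ∀ y ∈ C, x ^ 3 ∈ E → (x * y) ^ 3 = x ^ 3 * y ^ 3 := by
    intro x hx y hy hx3
    have hc : E.subgroupOf C ≤ center C := fun e he => mem_center_iff.mpr fun g =>
      Subtype.ext (mem_centralizer_iff.mp g.2 e he).symm
    have h := commutator_mem (G := C) (p := 3) (by norm_num) (hG.to_subgroup C) hc
      (fun e he => Subtype.ext (hE.2 _ he)) (fun e he => hΩ _ e.2 (congrArg Subtype.val he))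
      (x := ⟨x, hx⟩) ⟨y, hy⟩ hx3
    exact congrArg Subtype.val
      (pow_mul_of_central (G := C) (p := 3) (by norm_num) (hc h) (Subtype.ext (hE.2 _ h)))
  set φ : G → G := fun x => ⁅u, x⁆ with hφ
  have hφC : ∀ c ∈ C, φ c ∈ C := fun c hc => by
    show u * c * u⁻¹ * c⁻¹ ∈ C
    exact C.mul_mem ((inferInstance : C.Normal).conj_mem c hc u) (C.inv_mem hc)
  have step : ∀ c ∈ C, φ (φ c) ∈ E → φ c ∈ E := by
    intro c hc he
    set a := φ c
    set e := φ a
    set f := φ e
    have haC : a ∈ C := hφC c hc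
    have hfa : f * a ^ 3 = 1 := by
      rw [← cube_comm (u := u) (c := c) (a := a) (e := e) (f := f)
        (by simp [a, φ, commutatorElement_def]) (by simp [e, φ, commutatorElement_def])
        (by simp [f, φ, commutatorElement_def]) (mem_centralizer_iff.mp haC e he) (hE.2 e he),
        hu3, commutatorElement_one_left]
    by_cases heZ : e ∈ Z
    · have hf1 : f = 1 := commutatorElement_eq_one_iff_commute.mpr (mem_center_iff.mp heZ.2 u)
      rw [hf1, one_mul] at hfa
      exact hΩ a haC hfa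
    · have ha3 : a ^ 3 ∈ Z := by
        rw [eq_inv_of_mul_eq_one_right hfa]; exact inv_mem (hEZ u e he)
      obtain ⟨j, hj⟩ := mem_zpowers_iff.mp (BlackburnExtra.pow_gen hZcard hd3 hd1 ha3)
      set d' := d ^ (-j)
      have hd'F : d' ∈ F := zpow_mem hdF _
      have had : (a * d') ^ 3 = 1 := by
        rw [hpC a haC d' hd'F.1 ha3.1, ← hj, show d' ^ 3 = ((d ^ 3) ^ j)⁻¹ by
          simp only [d', ← zpow_natCast, ← zpow_mul, ← zpow_neg]
          congr 1; ring, mul_inv_cancel]
      have hm := hΩ _ (C.mul_mem haC hd'F.1) had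
      exfalso
      refine heZ ?_
      have ha : a = a * d' * d'⁻¹ := by group
      have hud : Commute u d'⁻¹ :=
        Commute.inv_right ((mem_centralizer_singleton_iff.mp hd'F.2).symm : Commute u d')
      show ⁅u, a⁆ ∈ Z
      rw [ha, show ⁅u, a * d' * d'⁻¹⁆ = ⁅u, a * d'⁆ * ((a * d') * ⁅u, d'⁻¹⁆ * (a * d')⁻¹) by
        simp only [commutatorElement_def]; group,
        commutatorElement_eq_one_iff_commute.mpr hud, mul_one, mul_inv_cancel, mul_one]
      exact hEZ u _ hm
  have hCu : ∀ c ∈ C, φ c ∈ E := by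
    intro c hc
    haveI := hG.isNilpotent
    obtain ⟨N, hN⟩ := Subgroup.nilpotent_iff_lowerCentralSeries.mp ‹Group.IsNilpotent G›
    have key : ∀ k, φ^[k] c ∈ (⊤ : Subgroup G).lowerCentralSeries k ∧ φ^[k] c ∈ C := by
      intro k
      induction k with
      | zero => exact ⟨mem_top c, hc⟩
      | succ k ih =>
        rw [Function.iterate_succ_apply']
        refine ⟨?_, hφC _ ih.2⟩
        show ⁅u, φ^[k] c⁆ ∈ _
        rw [← commutatorElement_inv]
        exact inv_mem (Subgroup.commutator_mem_commutator ih.1 (mem_top u))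
    have down : ∀ k, φ^[k + 1] c ∈ E → φ c ∈ E := by
      intro k
      induction k with
      | zero => exact id
      | succ k ih =>
        intro h
        rw [Function.iterate_succ_apply', Function.iterate_succ_apply'] at h
        refine ih ?_
        rw [Function.iterate_succ_apply']
        exact step _ (key k).2 h
    refine down N ?_
    have h1 : φ^[N] c = 1 := mem_bot.mp (hN ▸ (key N).1)
    rw [Function.iterate_succ_apply', h1]
    show ⁅u, (1 : G)⁆ ∈ E
    rw [commutatorElement_one_right]; exact one_mem E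
  set π := QuotientGroup.mk' E with hπ
  have hcent : ∀ g : G, Commute (π g) (π u) := by
    have hle : C ≤ (centralizer ({π u} : Set _)).comap π := fun c hc => by
      refine mem_centralizer_singleton_iff.mpr (commutatorElement_eq_one_iff_commute.mp ?_).symm.eq
      rw [← map_commutatorElement]
      exact (QuotientGroup.eq_one_iff _).mpr (hCu c hc)
    have htop : (centralizer ({π u} : Set _)).comap π = ⊤ := by
      have hlt : C < (centralizer ({π u} : Set _)).comap π :=
        lt_of_le_not_ge hle fun h => hu (h (mem_centralizer_singleton_iff.mpr rfl))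
      have hdvd := index_dvd_of_le hle
      rw [hidx, Nat.dvd_prime Nat.prime_three] at hdvd
      rcases hdvd with h | h
      · exact index_eq_one.mp h
      · have := index_strictAnti hlt
        rw [show C.index = 3 from hidx] at this
        omega
    exact fun g => mem_centralizer_singleton_iff.mp (htop.ge (mem_top g) : g ∈ _)
  set E₀ := (zpowers (π u)).comap π with hE₀
  haveI : (zpowers (π u)).Normal := ⟨fun q hq g => by
    obtain ⟨g, rfl⟩ := QuotientGroup.mk'_surjective E g
    obtain ⟨i, rfl⟩ := mem_zpowers_iff.mp hq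
    rw [((hcent g).zpow_right i).eq, mul_inv_cancel_right]
    exact hq⟩
  have hEE₀ : E ≤ E₀ := fun a ha => by
    show π a ∈ zpowers (π u)
    rw [show π a = 1 from (QuotientGroup.eq_one_iff a).mpr ha]; exact one_mem _
  have hu₀ : u ∈ E₀ := mem_zpowers (π u)
  refine ⟨E₀, inferInstance, ?_, ?_, ?_⟩
  · have h1 := relIndex_mul_relIndex ⊥ E E₀ bot_le hEE₀
    rw [relIndex_bot_left, relIndex_bot_left, hcard] at h1
    have h2 := relIndex_ker E₀ π
    rw [QuotientGroup.ker_mk'] at h2
    rw [← h1, h2, hE₀, map_comap_eq_self_of_surjective (QuotientGroup.mk'_surjective E),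
      Nat.card_zpowers, orderOf_eq_prime (p := 3) (show (π u) ^ 3 = 1 by
        rw [← map_pow, hu3, map_one]) fun h => hu (hEC ((QuotientGroup.eq_one_iff u).mp h))]
    norm_num
  · intro x hx
    obtain ⟨i, hi⟩ := mem_zpowers_iff.mp (show π x ∈ zpowers (π u) from hx)
    have he : x * (u ^ i)⁻¹ ∈ E := by
      refine (QuotientGroup.eq_one_iff _).mp ?_
      show π _ = 1
      rw [map_mul, map_inv, map_zpow, hi, mul_inv_cancel]
    set e := x * (u ^ i)⁻¹ with hedef
    have hx' : x = e * u ^ i := by rw [hedef, inv_mul_cancel_right]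
    have hc := hEZ (u ^ i) e he
    rw [hx', pow_mul_of_central (p := 3) (by norm_num) hc.2 (hE.2 _ hc.1), hE.2 e he, one_mul,
      ← zpow_natCast, ← zpow_mul, mul_comm, zpow_mul, zpow_natCast, hu3, one_zpow]
  · intro hab
    haveI := hab
    refine hu (mem_centralizer_iff.mpr fun a ha => ?_)
    exact congrArg Subtype.val (mul_comm' (⟨a, hEE₀ ha⟩ : E₀) ⟨u, hu₀⟩)

/-- A `3`-group whose elements of order three generate a normal subgroup of order at most nine. -/
theorem metacyclic_or_small_aux : ∀ (N : ℕ) (G : Type u) [Group G] [Finite G],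
    Nat.card G = N → IsPGroup 3 G → ∀ E : Subgroup G, E.Normal →
      (∀ a ∈ E, ∀ b ∈ E, a * b = b * a) → (∀ e ∈ E, e ^ 3 = 1) → Nat.card E ≤ 9 →
      (∀ x : G, x ^ 3 = 1 → x ∈ E) →
      Cfsg.IsMetacyclic G ∨ ∃ u, u ∉ centralizer (E : Set G) ∧
        Nat.card (centralizer (E : Set G) ⊓ centralizer ({u} : Set G) : Subgroup G) = 3 ∧
        (centralizer (E : Set G)).index = 3 := by
  intro N
  induction N using Nat.strong_induction_on with
  | _ N ih =>
  intro G _ _ hN hG E hEn hcomm hexp hle hΩ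
  haveI := hEn
  set C := centralizer (E : Set G) with hCdef
  by_cases hC : C = ⊤
  · left
    have hEc : E ≤ center G := fun e he => mem_center_iff.mpr fun g =>
      (mem_centralizer_iff.mp (hC.ge (mem_top g) : g ∈ C) e he).symm
    exact (isMetacyclic_of_central (p := 3) (by norm_num) hG hEc hexp hΩ hle).2
  obtain ⟨hcard, hZcard, hEZ, hidx, hfixE⟩ := setup hG hle hC
  set Z := E ⊓ center G with hZdef
  have hidxC : C.index = 3 := hidx
  have hEC : E ≤ C := fun a ha => mem_centralizer_iff.mpr fun b hb => hcomm b hb a ha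
  have hCn : C.Normal := inferInstance
  haveI hZn : Z.Normal := inferInstance
  have hcube : ∀ u : G, u ^ 3 ∈ C := fun u => by
    have := C.pow_index_mem u
    rwa [hidxC] at this
  -- an element outside `C` with cube in `E`
  by_cases hv : ∃ u, u ∉ C ∧ u ^ 3 ∈ E
  · obtain ⟨u, hu, hu3⟩ := hv
    right
    refine ⟨u, hu, ?_, hidxC⟩
    set F := C ⊓ centralizer ({u} : Set G) with hF
    have hZF : Z ≤ F := fun z hz => ⟨hEC hz.1,
      mem_centralizer_singleton_iff.mpr (mem_center_iff.mp hz.2 u).symm⟩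
    suffices h : F ≤ Z by rw [le_antisymm h hZF]; exact hZcard
    intro y hy
    by_contra hyZ
    obtain ⟨k, hk⟩ := IsPGroup.iff_orderOf.mp hG y
    have hcu : ∀ x ∈ F, Commute u x := fun x hx => (mem_centralizer_singleton_iff.mp hx.2).symm
    rcases k with _ | _ | k
    · rw [pow_zero, orderOf_eq_one_iff] at hk
      exact hyZ (hk ▸ one_mem Z)
    · refine hyZ (hfixE u hu y (hΩ y ?_) (hcu y hy))
      have := pow_orderOf_eq_one y
      rwa [hk, zero_add, pow_one] at this
    · set d := y ^ 3 ^ k with hd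
      have hdF : d ∈ F := pow_mem hy _
      have hd3 : (d ^ 3) ^ 3 = 1 := by
        rw [hd, ← pow_mul, ← pow_mul, ← mul_assoc, ← pow_succ, ← pow_succ, ← hk, pow_orderOf_eq_one]
      have hd1 : d ^ 3 ≠ 1 := by
        rw [hd, ← pow_mul, ← pow_succ]
        exact pow_ne_one_of_lt_orderOf (pow_pos (by norm_num) _).ne'
          (hk ▸ Nat.pow_lt_pow_right (by norm_num) (by omega))
      have hdZ : d ^ 3 ∈ Z := hfixE u hu _ (hΩ _ hd3) ((hcu d hdF).pow_right 3)
      have huZ : u ^ 3 ∈ Z := hfixE u hu _ hu3 ((Commute.refl u).pow_right 3)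
      obtain ⟨j, hj⟩ := mem_zpowers_iff.mp (BlackburnExtra.pow_gen hZcard hdZ hd1 huZ)
      have hone : (u * d ^ (-j)) ^ 3 = 1 := by
        rw [((hcu d hdF).zpow_right (-j)).mul_pow, ← hj,
          show (d ^ (-j)) ^ 3 = ((d ^ 3) ^ j)⁻¹ by
            simp only [← zpow_natCast, ← zpow_mul, ← zpow_neg]
            congr 1; ring, mul_inv_cancel]
      refine hu ?_
      rw [show u = u * d ^ (-j) * (d ^ (-j))⁻¹ by group]
      exact C.mul_mem (hEC (hΩ _ hone)) (C.inv_mem (zpow_mem hdF _).1)
  push Not at hv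
  by_cases hcyc : IsCyclic (commutator G)
  · left
    exact isMetacyclic_of_cyclic_commutator (p := 3) (by norm_num) hG hcyc (O := E)
      (hle.trans (by norm_num)) hΩ
  exfalso
  -- the derived group contains `E`
  have hEG' : E ≤ commutator G := by
    obtain ⟨A, -, hA, hA9⟩ := Cfsg.Agent.S0126.result (p := 3) (by norm_num)
      (hG.to_subgroup (commutator G)) hcyc
    have hsub : A.map (commutator G).subtype ≤ E := by
      rintro _ ⟨a, ha, rfl⟩
      exact hΩ _ (congrArg Subtype.val (hA.2 a ha))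
    have h9 : Nat.card (A.map (commutator G).subtype) = 9 := by
      rw [card_map_of_injective (commutator G).subtype_injective, hA9]; rfl
    refine (eq_of_le_of_card_ge hsub (hcard.trans h9.symm).le).ge.trans ?_
    exact Subgroup.map_subtype_le A
  have hnotcyc : ∀ w : G, ¬ commutator G ≤ zpowers w := fun w h => hcyc (Subgroup.isCyclic_of_le h)
  have hnotZ : ¬ commutator G ≤ Z := fun h => by
    have := card_le_of_le (hEG'.trans h)
    rw [hcard, hZcard] at this
    omega
  -- `C` is `p`-central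
  have hcC : E.subgroupOf C ≤ center C := fun e he => mem_center_iff.mpr fun g =>
    Subtype.ext (mem_centralizer_iff.mp g.2 e he).symm
  have hexpC : ∀ e ∈ E.subgroupOf C, e ^ 3 = 1 := fun e he => Subtype.ext (hexp _ he)
  have hΩC : ∀ x : C, x ^ 3 = 1 → x ∈ E.subgroupOf C := fun x hx => hΩ _ (congrArg Subtype.val hx)
  have hcm : ∀ x ∈ C, ∀ y ∈ C, x ^ 3 ∈ E → ⁅y, x⁆ ∈ E := fun x hx y hy hx3 =>
    commutator_mem (G := C) (p := 3) (by norm_num) (hG.to_subgroup C) hcC hexpC hΩC
      (x := ⟨x, hx⟩) ⟨y, hy⟩ hx3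
  have hpC : ∀ x ∈ C, ∀ y ∈ C, x ^ 3 ∈ E → (x * y) ^ 3 = x ^ 3 * y ^ 3 := by
    intro x hx y hy hx3
    have h := commutator_mem (G := C) (p := 3) (by norm_num) (hG.to_subgroup C) hcC hexpC hΩC
      (x := ⟨x, hx⟩) ⟨y, hy⟩ hx3
    exact congrArg Subtype.val
      (pow_mul_of_central (G := C) (p := 3) (by norm_num) (hcC h) (hexpC _ h))
  have hAC : ∀ x : G, x ^ 3 ∈ E → x ∈ C := fun x hx => by
    by_contra h
    exact hv x h hx
  let A : Subgroup G :=
    { carrier := {x | x ^ 3 ∈ E}
      one_mem' := by show (1 : G) ^ 3 ∈ E; rw [one_pow]; exact one_mem E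
      inv_mem' := fun {x} hx => by show x⁻¹ ^ 3 ∈ E; rw [inv_pow]; exact inv_mem hx
      mul_mem' := fun {x y} hx hy => by
        show (x * y) ^ 3 ∈ E
        rw [hpC x (hAC x hx) y (hAC y hy) hx]
        exact mul_mem hx hy }
  have hAmem : ∀ x, x ∈ A ↔ x ^ 3 ∈ E := fun x => Iff.rfl
  haveI hAn : A.Normal := ⟨fun x hx g => by
    rw [hAmem, conj_pow]; exact hEn.conj_mem _ hx g⟩
  set π := QuotientGroup.mk' E with hπdef
  have hπ1 : ∀ a, π a = 1 ↔ a ∈ E := fun a => QuotientGroup.eq_one_iff a
  have hπC : ∀ a b, Commute (π a) (π b) ↔ ⁅a, b⁆ ∈ E := fun a b => by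
    rw [← hπ1, map_commutatorElement, commutatorElement_eq_one_iff_commute]
  set A' := A.map π with hA'
  have hA'comm : ∀ a ∈ A', ∀ b ∈ A', a * b = b * a := by
    rintro _ ⟨x, hx, rfl⟩ _ ⟨y, hy, rfl⟩
    exact ((hπC x y).mpr (hcm y (hAC y hy) x (hAC x hx) hy)).eq
  have hA'exp : ∀ a ∈ A', a ^ 3 = 1 := by
    rintro _ ⟨x, hx, rfl⟩
    rw [← map_pow]; exact (hπ1 _).mpr hx
  have hA'card : Nat.card A' ≤ 9 := by
    let ψ : A →* E := MonoidHom.mk' (fun x => ⟨(x : G) ^ 3, x.2⟩) fun x y => Subtype.ext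
      (hpC _ (hAC _ x.2) _ (hAC _ y.2) x.2)
    let ρ : A →* G ⧸ E := π.comp A.subtype
    have hk : ρ.ker = ψ.ker := by
      ext x
      rw [MonoidHom.mem_ker, MonoidHom.mem_ker]
      exact ⟨fun h => Subtype.ext (hexp _ ((hπ1 _).mp h)),
        fun h => (hπ1 _).mpr (hΩ _ (congrArg Subtype.val h))⟩
    have hr : ρ.range = A' := by rw [MonoidHom.range_comp, range_subtype]
    rw [← hr, ← Subgroup.index_ker, hk, Subgroup.index_ker]
    exact (Subgroup.card_le_card_group _).trans hle
  have hA'Ω : ∀ q : G ⧸ E, q ^ 3 = 1 → q ∈ A' := by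
    intro q hq
    obtain ⟨x, rfl⟩ := QuotientGroup.mk'_surjective E q
    rw [← map_pow] at hq
    exact mem_map_of_mem π (show x ∈ A from (hπ1 _).mp hq)
  have hlt : Nat.card (G ⧸ E) < N := by
    rw [← hN, ← E.card_mul_index, ← Subgroup.index_eq_card, hcard]
    exact lt_mul_of_one_lt_left (Nat.pos_of_ne_zero index_ne_zero_of_finite) (by norm_num)
  have hFfix : ∀ u, u ∉ C → ∀ x ∈ E, Commute u x → x ∈ Z := hfixE
  rcases ih _ hlt (G ⧸ E) rfl (hG.to_quotient E) A' (hAn.map π (QuotientGroup.mk'_surjective E))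
    hA'comm hA'exp hA'card hA'Ω with hQ | ⟨q, hq, hFq, hCq⟩
  swap
  · -- the quotient has small centralizer
    set C' := centralizer (A' : Set (G ⧸ E)) with hC'
    have hCle : C.map π ≤ C' := by
      rintro _ ⟨c, hc, rfl⟩
      refine mem_centralizer_iff.mpr ?_
      rintro _ ⟨x, hx, rfl⟩
      exact ((hπC c x).mpr (hcm x (hAC x hx) c hc hx)).eq.symm
    have hCeq : C.map π = C' := by
      have h1 : (C.map π).index = 3 := by
        rw [index_map_eq _ (QuotientGroup.mk'_surjective E)
          ((QuotientGroup.ker_mk' E).trans_le hEC), hidxC]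
      rcases hCle.lt_or_eq with h | h
      · have := index_strictAnti h
        rw [h1, hCq] at this
        omega
      · exact h
    have hmemC : ∀ c, π c ∈ C' → c ∈ C := fun c hc => by
      obtain ⟨d, hd, hdc⟩ := hCeq.ge hc
      have h : d⁻¹ * c ∈ E := (hπ1 _).mp (by rw [map_mul, map_inv, hdc, inv_mul_cancel])
      rw [show c = d * (d⁻¹ * c) by group]
      exact C.mul_mem hd (hEC h)
    obtain ⟨u, rfl⟩ := QuotientGroup.mk'_surjective E q
    have hu : u ∉ C := fun h => hq (hCeq.le (mem_map_of_mem π h))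
    set F' := C' ⊓ centralizer ({π u} : Set (G ⧸ E)) with hF'
    set v := u ^ 3 with hvdef
    have hvC : v ∈ C := hcube u
    have hvE : v ∉ E := hv u hu
    have huv : Commute u v := (Commute.refl u).pow_right 3
    have hvF : π v ∈ F' := ⟨hCeq.le (mem_map_of_mem π hvC),
      mem_centralizer_singleton_iff.mpr ((huv.map π).symm).eq⟩
    have hπv3 : π v ^ 3 = 1 := by
      have h := pow_card_eq_one' (x := (⟨π v, hvF⟩ : F'))
      rw [hFq] at h
      exact congrArg Subtype.val h
    have hv3 : v ^ 3 ∈ E := (hπ1 _).mp (by rw [map_pow, hπv3])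
    have hv3Z : v ^ 3 ∈ Z := hfixE u hu _ hv3 (huv.pow_right 3)
    have hv31 : v ^ 3 ≠ 1 := fun h => hvE (hΩ v h)
    have hπv1 : π v ≠ 1 := fun h => hvE ((hπ1 v).mp h)
    have hF'gen : ∀ f ∈ F', f ∈ zpowers (π v) := fun f hf =>
      BlackburnExtra.pow_gen hFq hvF hπv1 hf
    have hφC : ∀ c ∈ C, ⁅u, c⁆ ∈ C := fun c hc => by
      show u * c * u⁻¹ * c⁻¹ ∈ C
      exact C.mul_mem (hCn.conj_mem c hc u) (C.inv_mem hc)
    have hvcomm : ∀ c ∈ C, ⁅c, v⁆ ∈ E := fun c hc => hcm v hvC c hc hv3
    have hA3 : ∀ c ∈ C, π ⁅u, c⁆ ∈ F' → π ⁅u, c⁆ ≠ 1 →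
        ⁅v, c⁆ ∈ Z ∧ ⁅v, c⁆ ≠ 1 ∧ ⁅u, c⁆ ^ 3 = ⁅v, c⁆ ∧ ⁅u, ⁅u, c⁆⁆ ∈ Z := by
      intro c hc hF hne
      obtain ⟨j, hj⟩ := mem_zpowers_iff.mp (hF'gen _ hF)
      set a := ⁅u, c⁆ with ha
      set e' := a * (v ^ j)⁻¹ with he'
      have he'E : e' ∈ E := (hπ1 _).mp (by rw [he', map_mul, map_inv, map_zpow, hj, mul_inv_cancel])
      have hae : a = e' * v ^ j := by rw [he', inv_mul_cancel_right]
      have hae2 : ⁅u, a⁆ = ⁅u, e'⁆ := by
        rw [hae, show ⁅u, e' * v ^ j⁆ = ⁅u, e'⁆ * (e' * ⁅u, v ^ j⁆ * e'⁻¹) by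
          simp only [commutatorElement_def]; group,
          commutatorElement_eq_one_iff_commute.mpr (huv.zpow_right j), mul_one, mul_inv_cancel,
          mul_one]
      have heZ : ⁅u, a⁆ ∈ Z := hae2 ▸ hEZ u e' he'E
      have hva : ⁅v, c⁆ = a ^ 3 := by
        rw [cube_comm (u := u) (c := c) (a := a) (e := ⁅u, a⁆) (f := 1)
          (by simp [ha, commutatorElement_def]) (by simp [commutatorElement_def])
          (by rw [mem_center_iff.mp heZ.2 u, mul_inv_cancel_right, one_mul])
          (mem_centralizer_iff.mp (hφC c hc) _ heZ.1) (hexp _ heZ.1), one_mul]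
      have ha3 : a ^ 3 = (v ^ 3) ^ j := by
        rw [hae, Commute.mul_pow (mem_centralizer_iff.mp (zpow_mem hvC j) e' he'E : Commute e' (v ^ j)),
          hexp e' he'E, one_mul, ← zpow_natCast, ← zpow_mul, ← zpow_natCast v, ← zpow_mul, mul_comm]
      refine ⟨?_, ?_, hva.symm, heZ⟩
      · rw [hva, ha3]; exact zpow_mem hv3Z j
      · rw [hva]; exact fun h => hne ((hπ1 _).mpr (hΩ a h))
    set φ : G ⧸ E → G ⧸ E := fun x => ⁅π u, x⁆ with hφ
    have hφC' : ∀ x ∈ C', φ x ∈ C' := fun x hx => by
      show π u * x * (π u)⁻¹ * x⁻¹ ∈ C'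
      haveI : C'.Normal := hCeq ▸ (hCn.map π (QuotientGroup.mk'_surjective E))
      exact C'.mul_mem (‹C'.Normal›.conj_mem x hx _) (C'.inv_mem hx)
    have hφF : ∀ x ∈ C', φ x = 1 → x ∈ F' := fun x hx h =>
      ⟨hx, mem_centralizer_singleton_iff.mpr (commutatorElement_eq_one_iff_commute.mp h).symm.eq⟩
    have hF1 : ∀ x ∈ F', φ x = 1 := fun x hx =>
      commutatorElement_eq_one_iff_commute.mpr (mem_centralizer_singleton_iff.mp hx.2).symm
    by_cases hflat : ∀ x ∈ C', φ x ∈ F'
    · -- one step: the derived group is cyclic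
      by_cases hall : ∀ x ∈ C', φ x = 1
      · refine hnotZ ?_
        have hCv : ∀ c ∈ C, π c ∈ zpowers (π v) := fun c hc =>
          hF'gen _ (hφF _ (hCeq.le (mem_map_of_mem π hc)) (hall _ (hCeq.le (mem_map_of_mem π hc))))
        set ρ := QuotientGroup.mk' Z
        have hρE : ∀ e ∈ E, ∀ g : G, Commute (ρ g) (ρ e) := fun e he g => by
          refine commutatorElement_eq_one_iff_commute.mp ?_
          rw [← map_commutatorElement]
          exact (QuotientGroup.eq_one_iff _).mpr (hEZ g e he)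
        have hgen : closure (insert u (E : Set G)) = ⊤ := by
          have hCK : C ≤ closure (insert u (E : Set G)) := fun c hc => by
            obtain ⟨i, hi⟩ := mem_zpowers_iff.mp (hCv c hc)
            have h : c * ((u ^ 3) ^ i)⁻¹ ∈ E :=
              (hπ1 _).mp (by rw [map_mul, map_inv, map_zpow, ← hvdef, hi, mul_inv_cancel])
            rw [show c = c * ((u ^ 3) ^ i)⁻¹ * (u ^ 3) ^ i by group]
            exact mul_mem (subset_closure (Or.inr h))
              (zpow_mem (pow_mem (subset_closure (Set.mem_insert u _)) 3) i)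
          have hlt' : C < closure (insert u (E : Set G)) :=
            lt_of_le_not_ge hCK fun h => hu (h (subset_closure (Set.mem_insert u _)))
          have hdvd := index_dvd_of_le hCK
          rw [hidxC, Nat.dvd_prime Nat.prime_three] at hdvd
          rcases hdvd with h | h
          · exact index_eq_one.mp h
          · have := index_strictAnti hlt'
            omega
        rw [commutator_def, Subgroup.commutator_le]
        intro x _ y _
        refine (QuotientGroup.eq_one_iff _).mp ?_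
        show ρ ⁅x, y⁆ = 1
        rw [map_commutatorElement, commutatorElement_eq_one_iff_commute]
        have h1 : ∀ g : G, Commute (ρ g) (ρ u) := fun g => by
          have hle' : closure (insert u (E : Set G)) ≤ (centralizer ({ρ u} : Set _)).comap ρ :=
            (closure_le _).mpr fun s hs => by
              rcases hs with rfl | hs
              · exact mem_centralizer_singleton_iff.mpr rfl
              · exact mem_centralizer_singleton_iff.mpr (hρE s hs u).symm.eq
          exact mem_centralizer_singleton_iff.mp (hle' (hgen.ge (mem_top g)))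
        have hle' : closure (insert u (E : Set G)) ≤ (centralizer ({ρ y} : Set _)).comap ρ :=
          (closure_le _).mpr fun s hs => by
            rcases hs with rfl | hs
            · exact mem_centralizer_singleton_iff.mpr (h1 y).symm.eq
            · exact mem_centralizer_singleton_iff.mpr (hρE s hs y).symm.eq
        exact mem_centralizer_singleton_iff.mp (hle' (hgen.ge (mem_top x)))
      push Not at hall
      obtain ⟨x, hx, hx1⟩ := hall
      obtain ⟨c, hc, rfl⟩ := hCeq.ge hx
      set a := ⁅u, c⁆ with ha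
      have hπa : π a = φ (π c) := map_commutatorElement π u c
      obtain ⟨hvcZ, hvc1, ha3, heZ⟩ := hA3 c hc (show π a ∈ F' from hπa ▸ hflat _ hx)
        (show π a ≠ 1 from hπa ▸ hx1)
      have haC : a ∈ C := hφC c hc
      have ha3Z : a ^ 3 ∈ Z := ha3 ▸ hvcZ
      have ha31 : a ^ 3 ≠ 1 := ha3 ▸ hvc1
      have hZa : ∀ z ∈ Z, z ∈ zpowers a := fun z hz =>
        zpowers_le.mpr (pow_mem (mem_zpowers a) 3) (BlackburnExtra.pow_gen hZcard ha3Z ha31 hz)
      refine hnotcyc a (commutator_le_zpowers (n := u) (b := c) ?_ hcomm ?_ ?_ ?_ ?_ ?_ ?_)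
      · set K := closure ({u, c} ∪ (E : Set G)) with hK
        have hEK : E ≤ K := fun e he => subset_closure (Or.inr he)
        have huK : u ∈ K := subset_closure (Or.inl (Set.mem_insert u _))
        have hcK : c ∈ K := subset_closure (Or.inl (Set.mem_insert_of_mem u rfl))
        have hCK : C ≤ K := by
          intro d hd
          have hdC' : π d ∈ C' := hCeq.le (mem_map_of_mem π hd)
          obtain ⟨i, hi⟩ := mem_zpowers_iff.mp
            (BlackburnExtra.pow_gen hFq (hflat _ hx) hx1 (hflat _ hdC'))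
          have hFcent : ∀ f ∈ F', ∀ y ∈ C', Commute y f := fun f hf y hy => by
            obtain ⟨k, rfl⟩ := mem_zpowers_iff.mp (hF'gen f hf)
            obtain ⟨y, hy', rfl⟩ := hCeq.ge hy
            exact ((hπC y v).mpr (hvcomm y hy')).zpow_right k
          let ψ : C' →* G ⧸ E := MonoidHom.mk' (fun y => φ y) fun y z => by
            show ⁅π u, (y : G ⧸ E) * z⁆ = ⁅π u, (y : G ⧸ E)⁆ * ⁅π u, (z : G ⧸ E)⁆
            rw [show ⁅π u, (y : G ⧸ E) * z⁆ = ⁅π u, (y : G ⧸ E)⁆ * ((y : G ⧸ E) * ⁅π u, (z : G ⧸ E)⁆ * (y : G ⧸ E)⁻¹) by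
              simp only [commutatorElement_def]; group]
            have := hFcent _ (hflat z z.2) y y.2
            rw [show (y : G ⧸ E) * ⁅π u, (z : G ⧸ E)⁆ = ⁅π u, (z : G ⧸ E)⁆ * y from this.eq,
              mul_inv_cancel_right]
          have h1 : ψ (⟨π d, hdC'⟩ * (⟨π c, hx⟩ ^ i)⁻¹) = 1 := by
            rw [map_mul, map_inv, map_zpow]
            show φ (π d) * (φ (π c) ^ i)⁻¹ = 1
            rw [hi, mul_inv_cancel]
          have h2 : π d * (π c ^ i)⁻¹ ∈ F' :=
            hφF _ (C'.mul_mem hdC' (C'.inv_mem (C'.zpow_mem hx i))) h1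
          obtain ⟨j, hj⟩ := mem_zpowers_iff.mp (hF'gen _ h2)
          have h3 : ((u ^ 3) ^ j * c ^ i)⁻¹ * d ∈ E := (hπ1 _).mp (by
            rw [map_mul, map_inv, map_mul, map_zpow, map_zpow, ← hvdef, hj, inv_mul_cancel_right,
              inv_mul_cancel])
          rw [show d = (u ^ 3) ^ j * c ^ i * (((u ^ 3) ^ j * c ^ i)⁻¹ * d) by group]
          exact mul_mem (mul_mem (zpow_mem (pow_mem huK 3) j) (zpow_mem hcK i)) (hEK h3)
        by_contra hne
        have hlt' : C < K := lt_of_le_not_ge hCK fun h => hu (h huK)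
        have hdvd := index_dvd_of_le hCK
        rw [hidxC, Nat.dvd_prime Nat.prime_three] at hdvd
        rcases hdvd with h | h
        · exact hne (index_eq_one.mp h)
        · have := index_strictAnti hlt'
          omega
      · rw [← commutatorElement_inv, ← ha]; exact inv_mem (mem_zpowers a)
      · rw [show u * a * u⁻¹ = ⁅u, a⁆ * a by simp [commutatorElement_def]]
        exact mul_mem (hZa _ heZ) (mem_zpowers a)
      · rw [show c * a * c⁻¹ = ⁅c, a⁆ * a by simp [commutatorElement_def]]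
        refine mul_mem ?_ (mem_zpowers a)
        obtain ⟨j, hj⟩ := mem_zpowers_iff.mp (hF'gen _ (show π a ∈ F' from hπa ▸ hflat _ hx))
        have he' : a * (v ^ j)⁻¹ ∈ E :=
          (hπ1 _).mp (by rw [map_mul, map_inv, map_zpow, hj, mul_inv_cancel])
        have hvcC : ⁅c, v⁆ ∈ center G := by rw [← commutatorElement_inv]; exact inv_mem hvcZ.2
        have hcv : ⁅c, v ^ j⁆ ∈ zpowers a := by
          set τ := QuotientGroup.mk' Z
          have hcomm' : Commute (τ c) (τ v) := by
            refine commutatorElement_eq_one_iff_commute.mp ?_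
            rw [← map_commutatorElement]
            refine (QuotientGroup.eq_one_iff _).mpr ?_
            rw [← commutatorElement_inv]; exact inv_mem hvcZ
          refine hZa _ ((QuotientGroup.eq_one_iff _).mp ?_)
          show τ _ = 1
          rw [map_commutatorElement, map_zpow, commutatorElement_eq_one_iff_commute]
          exact hcomm'.zpow_right j
        have hce' : ⁅c, a⁆ = ⁅c, v ^ j⁆ := by
          obtain ⟨e', he'2, hae⟩ : ∃ e' ∈ E, a = e' * v ^ j := ⟨_, he', by group⟩
          rw [hae, show ⁅c, e' * v ^ j⁆ = ⁅c, e'⁆ * (e' * ⁅c, v ^ j⁆ * e'⁻¹) by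
            simp only [commutatorElement_def]; group,
            commutatorElement_eq_one_iff_commute.mpr (mem_centralizer_iff.mp hc e' he'2).symm,
            one_mul]
          have hmem : ⁅c, v ^ j⁆ ∈ C := by
            show c * v ^ j * c⁻¹ * (v ^ j)⁻¹ ∈ C
            exact C.mul_mem (C.mul_mem (C.mul_mem hc (C.zpow_mem hvC j)) (C.inv_mem hc))
              (C.inv_mem (C.zpow_mem hvC j))
          rw [mem_centralizer_iff.mp hmem e' he'2, mul_inv_cancel_right]
        rw [hce']; exact hcv
      · intro e he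
        rw [mem_centralizer_iff.mp haC e he, mul_inv_cancel_right]; exact mem_zpowers a
      · exact fun e he => hZa _ (hEZ u e he)
      · intro e he
        rw [commutatorElement_eq_one_iff_commute.mpr
          (mem_centralizer_iff.mp hc e he).symm]
        exact one_mem _
    -- two steps
    push Not at hflat
    obtain ⟨x, hx, hxF⟩ := hflat
    haveI := (hG.to_quotient E).isNilpotent
    obtain ⟨M, hM⟩ := Subgroup.nilpotent_iff_lowerCentralSeries.mp ‹Group.IsNilpotent (G ⧸ E)›
    have key : ∀ k, φ^[k] x ∈ (⊤ : Subgroup (G ⧸ E)).lowerCentralSeries k ∧ φ^[k] x ∈ C' := by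
      intro k
      induction k with
      | zero => exact ⟨mem_top x, hx⟩
      | succ k ih =>
        rw [Function.iterate_succ_apply']
        refine ⟨?_, hφC' _ ih.2⟩
        show ⁅π u, φ^[k] x⁆ ∈ _
        rw [← commutatorElement_inv]
        exact inv_mem (Subgroup.commutator_mem_commutator ih.1 (mem_top (π u)))
    have hex : ∃ k, φ^[k] x = 1 := ⟨M, mem_bot.mp (hM ▸ (key M).1)⟩
    classical
    have hk := Nat.find_spec hex
    have h3 : 2 < Nat.find hex := by
      by_contra hle3
      have h2 : φ^[2] x = 1 := by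
        obtain ⟨j, hj⟩ := Nat.exists_eq_add_of_le (not_lt.mp hle3)
        rw [hj, add_comm, Function.iterate_add_apply, hk]
        exact Function.iterate_fixed (commutatorElement_one_right (π u)) j
      exact hxF (hφF _ (hφC' x hx) h2)
    obtain ⟨m, hm⟩ : ∃ m, Nat.find hex = m + 3 := ⟨Nat.find hex - 3, by omega⟩
    obtain ⟨y, hy, hyy⟩ : ∃ y ∈ C', φ (φ y) ≠ 1 ∧ φ (φ (φ y)) = 1 := by
      refine ⟨φ^[m] x, (key m).2, ?_, ?_⟩
      · have := Nat.find_min hex (m := m + 2) (by omega)
        rwa [Function.iterate_succ_apply', Function.iterate_succ_apply'] at this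
      · rw [hm, Function.iterate_succ_apply', Function.iterate_succ_apply',
          Function.iterate_succ_apply'] at hk
        exact hk
    obtain ⟨c', hc', rfl⟩ := hCeq.ge hy
    set c := ⁅u, c'⁆ with hc
    have hπc : π c = φ (π c') := map_commutatorElement π u c'
    have hπuc : π ⁅u, c⁆ = φ (φ (π c')) := by rw [map_commutatorElement, hπc]
    have hcC1 : c ∈ C := hφC c' hc'
    obtain ⟨hvcZ, hvc1, -, -⟩ := hA3 c hcC1
      (hπuc ▸ hφF _ (hφC' _ (hφC' _ hy)) hyy.2) (hπuc ▸ hyy.1)
    refine hvc1 ?_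
    set b := ⁅v, c'⁆ with hb
    have hbE : b ∈ E := by
      rw [hb, ← commutatorElement_inv]; exact inv_mem (hvcomm c' hc')
    have hbZ : b ∈ Z := by
      haveI : IsCyclic (commutator C) :=
        (isMetacyclic_of_central (p := 3) (by norm_num) (hG.to_subgroup C) hcC hexpC hΩC
          (by rw [Nat.card_congr (subgroupOfEquivOfLe hEC).toEquiv]; exact hle.trans (by norm_num))).1
      set K := (commutator C).map C.subtype with hK
      haveI : IsCyclic K :=
        isCyclic_of_surjective ((commutator C).equivMapOfInjective C.subtype C.subtype_injective)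
          ((commutator C).equivMapOfInjective C.subtype C.subtype_injective).surjective
      have hKn : K.Normal := by
        rw [hK, commutator_def, Subgroup.map_commutator, ← MonoidHom.range_eq_map, range_subtype]
        infer_instance
      haveI := hKn
      haveI : IsCyclic (E ⊓ K : Subgroup G) := Subgroup.isCyclic_of_le inf_le_right
      obtain ⟨g, hg⟩ := (inferInstance : IsCyclic (E ⊓ K : Subgroup G)).exists_generator
      have h3 : Nat.card (E ⊓ K : Subgroup G) ≤ 3 := by
        rw [← orderOf_eq_card_of_forall_mem_zpowers hg]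
        exact orderOf_le_of_pow_eq_one (by norm_num) (Subtype.ext (hexp _ g.2.1))
      have hbK : b ∈ K := ⟨⁅(⟨v, hvC⟩ : C), ⟨c', hc'⟩⁆,
        commutator_mem_commutator (mem_top _) (mem_top _), rfl⟩
      exact ⟨hbE, le_center_of_card_le hG h3 (⟨hbE, hbK⟩ : b ∈ E ⊓ K)⟩
    have h1 : u * b * u⁻¹ = b := by rw [mem_center_iff.mp hbZ.2 u, mul_inv_cancel_right]
    have h2 : u * b * u⁻¹ = ⁅v, c⁆ * b := by
      rw [hb, show u * ⁅v, c'⁆ * u⁻¹ = ⁅u * v * u⁻¹, u * c' * u⁻¹⁆ by
        simp only [commutatorElement_def]; group, huv.eq, mul_inv_cancel_right,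
        show u * c' * u⁻¹ = c * c' by rw [hc, commutatorElement_def]; group,
        show ⁅v, c * c'⁆ = ⁅v, c⁆ * (c * ⁅v, c'⁆ * c⁻¹) by
          simp only [commutatorElement_def]; group,
        mem_center_iff.mp hbZ.2 c, mul_inv_cancel_right]
    rw [h1] at h2
    exact mul_eq_right.mp h2.symm
  · -- the quotient is metacyclic
    obtain ⟨n, b, r, hgen, he0, hnn⟩ := exists_gens hQ
    set e₀ := (n ^ r)⁻¹ * (b * n * b⁻¹) with he₀
    have hbn : b * n * b⁻¹ = n ^ r * e₀ := by rw [he₀, mul_inv_cancel_left]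
    set e₁ := n * e₀ * n⁻¹ with he₁
    have he₁E : e₁ ∈ E := hEn.conj_mem _ he0 n
    set w := ⁅b, n⁆ with hw
    have hwe : w = n ^ (r - 1) * e₁ := by
      rw [hw, commutatorElement_def, hbn, he₁, zpow_sub_one]; group
    set ρ := QuotientGroup.mk' Z with hρdef
    have hρ1 : ∀ a, ρ a = 1 ↔ a ∈ Z := fun a => QuotientGroup.eq_one_iff a
    have hρE : ∀ e ∈ E, ∀ g : G, Commute (ρ g) (ρ e) := fun e he g => by
      refine commutatorElement_eq_one_iff_commute.mp ?_
      rw [← map_commutatorElement]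
      exact (hρ1 _).mpr (hEZ g e he)
    have hnb : n ∉ C ∨ b ∉ C := by
      by_contra h
      push Not at h
      refine hC (top_le_iff.mp (hgen.ge.trans ((closure_le _).mpr ?_)))
      rintro s ((rfl | rfl) | hs)
      · exact h.1
      · exact h.2
      · exact hEC hs
    by_cases hwE : w ∈ E
    · -- the quotient is abelian
      have hab : ∀ g h : G, Commute (π g) (π h) := by
        have hs : ∀ s ∈ ({n, b} ∪ (E : Set G)), ∀ t ∈ ({n, b} ∪ (E : Set G)),
            Commute (π s) (π t) := by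
          have hE1 : ∀ e ∈ E, ∀ g, Commute (π g) (π e) := fun e he g => by
            rw [(hπ1 e).mpr he]; exact Commute.one_right _
          have hbnc : Commute (π b) (π n) := (hπC b n).mpr hwE
          rintro s ((rfl | rfl) | hs) t ((rfl | rfl) | ht)
          · exact Commute.refl _
          · exact hbnc.symm
          · exact hE1 t ht _
          · exact hbnc
          · exact Commute.refl _
          · exact hE1 t ht _
          · exact (hE1 s hs _).symm
          · exact (hE1 s hs _).symm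
          · exact hE1 t ht _
        intro g h
        have h1 : ∀ s ∈ ({n, b} ∪ (E : Set G)), ∀ g, Commute (π g) (π s) := fun s hs' g => by
          have := (closure_le ((centralizer ({π s} : Set _)).comap π)).mpr fun t ht =>
            mem_centralizer_singleton_iff.mpr (hs t ht s hs').eq
          exact mem_centralizer_singleton_iff.mp (this (hgen.ge (mem_top g)))
        have := (closure_le ((centralizer ({π h} : Set _)).comap π)).mpr fun t ht =>
          mem_centralizer_singleton_iff.mpr (h1 t ht h).symm.eq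
        exact mem_centralizer_singleton_iff.mp (this (hgen.ge (mem_top g)))
      have hwZ : w ∉ Z := fun hwZ => by
        obtain ⟨⟨z, hz⟩, hz1⟩ := exists_prime_orderOf_dvd_card' (G := Z) 3 (by rw [hZcard])
        have hz1' : z ≠ 1 := fun h => by
          simp [h] at hz1
        have hZz : ∀ a ∈ Z, a ∈ zpowers z := fun a ha => BlackburnExtra.pow_gen hZcard hz hz1' ha
        have hcz : ∀ g : G, g * z * g⁻¹ ∈ zpowers z := fun g => by
          rw [mem_center_iff.mp hz.2 g, mul_inv_cancel_right]; exact mem_zpowers z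
        exact hnotcyc z (commutator_le_zpowers hgen hcomm (hZz _ hwZ) (hcz n) (hcz b)
          (fun e _ => hcz e) (fun e he => hZz _ (hEZ n e he)) (fun e he => hZz _ (hEZ b e he)))
      -- choose `u ∉ C` and `c ∈ C`
      obtain ⟨u, c, hu, hc, hucE, hucZ⟩ : ∃ u c, u ∉ C ∧ c ∈ C ∧ ⁅u, c⁆ ∈ E ∧ ⁅u, c⁆ ∉ Z := by
        have hE' : ⁅n, b⁆ ∈ E ∧ ⁅n, b⁆ ∉ Z := by
          rw [← commutatorElement_inv]
          exact ⟨inv_mem hwE, fun h => hwZ (inv_mem_iff.mp h)⟩
        by_cases hbC : b ∈ C
        · exact ⟨n, b, hnb.resolve_right (not_not_intro hbC), hbC, hE'⟩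
        · by_cases hnC : n ∈ C
          · exact ⟨b, n, hbC, hnC, hwE, hwZ⟩
          · obtain ⟨i, hi⟩ : ∃ i : ℤ, b * n ^ i ∈ C := by
              have hq : Nat.card (G ⧸ C) = 3 := by rw [← Subgroup.index_eq_card, hidxC]
              have hne : QuotientGroup.mk' C n ≠ 1 := fun h => hnC ((QuotientGroup.eq_one_iff n).mp h)
              obtain ⟨i, hi⟩ := mem_zpowers_iff.mp
                (mem_zpowers_of_prime_card (g' := QuotientGroup.mk' C b⁻¹) hq hne)
              refine ⟨i, (QuotientGroup.eq_one_iff _).mp ?_⟩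
              show QuotientGroup.mk' C (b * n ^ i) = 1
              rw [map_mul, map_zpow, hi, ← map_mul, mul_inv_cancel, map_one]
            refine ⟨n, b * n ^ i, hnC, hi, ?_⟩
            rw [show ⁅n, b * n ^ i⁆ = ⁅n, b⁆ * (b * ⁅n, n ^ i⁆ * b⁻¹) by
              simp only [commutatorElement_def]; group,
              commutatorElement_eq_one_iff_commute.mpr ((Commute.refl n).zpow_right i), mul_one,
              mul_inv_cancel, mul_one]
            exact hE'
      set a := ⁅u, c⁆ with ha
      have haC : a ∈ C := hEC hucE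
      have hconj : u * c * u⁻¹ = a * c := by rw [ha, commutatorElement_def]; group
      have hva : Commute (u ^ 3) c := by
        rw [← commutatorElement_eq_one_iff_commute, cube_comm (a := a) (e := ⁅u, a⁆) (f := 1) hconj
          (by simp [commutatorElement_def])
          (by rw [mem_center_iff.mp (hEZ u a hucE).2 u, mul_inv_cancel_right, one_mul])
          (hcomm _ (hEZ u a hucE).1 a hucE) (hexp _ (hEZ u a hucE).1), one_mul, hexp a hucE]
      have hc3 : Commute u (c ^ 3) := by
        have h : u * c ^ 3 * u⁻¹ = c ^ 3 := by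
          rw [← conj_pow, hconj, Commute.mul_pow (mem_centralizer_iff.mp hc a hucE : Commute a c),
            hexp a hucE, one_mul]
        exact mul_inv_eq_iff_eq_mul.mp h
      set v := u ^ 3 with hvdef
      set D := C ⊓ centralizer ({u} : Set G) with hD
      have hvD : v ∈ D :=
        ⟨hcube u, mem_centralizer_singleton_iff.mpr ((Commute.refl u).pow_left 3).eq⟩
      have hc3D : c ^ 3 ∈ D := ⟨pow_mem hc 3, mem_centralizer_singleton_iff.mpr hc3.symm.eq⟩
      haveI : IsCyclic D := by
        refine CfsgLib.Transfer.isCyclic_of_unique_order_p (p := 3) (by norm_num)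
          (hG.to_subgroup D) fun s t hs hs1 ht => ?_
        have key : ∀ s : D, s ^ 3 = 1 → (s : G) ∈ Z := fun s hs =>
          hfixE u hu _ (hΩ _ (congrArg Subtype.val hs))
            (mem_centralizer_singleton_iff.mp s.2.2).symm
        obtain ⟨i, hi⟩ := mem_zpowers_iff.mp
          (BlackburnExtra.pow_gen hZcard (key s hs) (fun h => hs1 (Subtype.ext h)) (key t ht))
        exact mem_zpowers_iff.mpr ⟨i, Subtype.ext hi⟩
      rcases mem_zpowers_or hG (D := D) (x := v) (y := c ^ 3) hvD hc3D with h | h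
      · obtain ⟨j, hj⟩ := mem_zpowers_iff.mp h
        have hu' : u * c ^ (-j) ∉ C := fun hm => hu (by
          rw [show u = u * c ^ (-j) * (c ^ (-j))⁻¹ by group]
          exact C.mul_mem hm (C.inv_mem (C.zpow_mem hc _)))
        refine hv _ hu' ((hπ1 _).mp ?_)
        rw [map_pow, map_mul, (hab u (c ^ (-j))).mul_pow, ← map_pow, ← map_pow, ← map_mul,
          show u ^ 3 * (c ^ (-j)) ^ 3 = 1 by
            rw [← hvdef, ← hj, ← zpow_natCast, ← zpow_natCast, ← zpow_mul, ← zpow_mul, ← zpow_add]
            rw [show ((3 : ℕ) : ℤ) * j + -j * ((3 : ℕ) : ℤ) = 0 by ring, zpow_zero], map_one]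
      · obtain ⟨s, hs⟩ := mem_zpowers_iff.mp h
        have hone : (c * v ^ (-s)) ^ 3 = 1 := by
          rw [(hva.symm.zpow_right (-s)).mul_pow, ← hs, ← zpow_natCast v 3, ← zpow_natCast,
            ← zpow_mul, ← zpow_mul, ← zpow_add,
            show ((3 : ℕ) : ℤ) * s + -s * ((3 : ℕ) : ℤ) = 0 by ring, zpow_zero]
        have hm := hΩ _ hone
        refine hucZ ?_
        have hcv : c = c * v ^ (-s) * v ^ s := by group
        show ⁅u, c⁆ ∈ Z
        rw [hcv, show ⁅u, c * v ^ (-s) * v ^ s⁆
          = ⁅u, c * v ^ (-s)⁆ * ((c * v ^ (-s)) * ⁅u, v ^ s⁆ * (c * v ^ (-s))⁻¹) by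
          simp only [commutatorElement_def]; group,
          commutatorElement_eq_one_iff_commute.mpr (((Commute.refl u).pow_right 3).zpow_right s),
          mul_one, mul_inv_cancel, mul_one]
        exact hEZ u _ hm
    · -- the derived group is cyclic
      have hr : (r : ZMod 3) = 1 := by
        have hbne : π n ≠ 1 := fun h => hwE ((hπ1 _).mp (by
          rw [hw, map_commutatorElement, h, commutatorElement_one_right]))
        have hconj : π b * π n * (π b)⁻¹ = π n ^ r := by
          rw [← map_inv, ← map_mul, ← map_mul, hbn, map_mul, (hπ1 _).mpr he0, mul_one, map_zpow]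
        have hit : ∀ k : ℕ, π b ^ k * π n * (π b ^ k)⁻¹ = π n ^ (r ^ k) := by
          intro k
          induction k with
          | zero => simp
          | succ k ih =>
            rw [show π b ^ (k + 1) * π n * (π b ^ (k + 1))⁻¹
              = π b * (π b ^ k * π n * (π b ^ k)⁻¹) * (π b)⁻¹ by rw [pow_succ']; group,
              ih, ← conj_zpow, hconj, ← zpow_mul, pow_succ']
        obtain ⟨t, ht⟩ := IsPGroup.iff_orderOf.mp (hG.to_quotient E) (π b)
        have h1 : π n ^ (r ^ orderOf (π b)) = π n ^ (1 : ℤ) := by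
          rw [← hit, pow_orderOf_eq_one, one_mul, inv_one, mul_one, zpow_one]
        rw [zpow_eq_zpow_iff_modEq] at h1
        obtain ⟨i, hi⟩ := IsPGroup.iff_orderOf.mp (hG.to_quotient E) (π n)
        have hi0 : i ≠ 0 := fun h => hbne (orderOf_eq_one_iff.mp (by rw [hi, h, pow_zero]))
        have h2 : r ^ orderOf (π b) ≡ 1 [ZMOD (3 : ℤ)] := by
          refine Int.ModEq.of_dvd ?_ h1
          rw [hi]; push_cast; exact dvd_pow_self _ hi0
        have h3 := (ZMod.intCast_eq_intCast_iff _ _ 3).mpr h2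
        rw [ht] at h3
        push_cast at h3
        rwa [ZMod.pow_card_pow] at h3
      obtain ⟨k, hk⟩ : (3 : ℤ) ∣ r - 1 :=
        (ZMod.intCast_zmod_eq_zero_iff_dvd (r - 1) 3).mp (by push_cast; rw [hr, sub_self])
      have hn3 : n ^ (r - 1) ∈ C := by
        rw [hk, zpow_mul]; exact C.zpow_mem (by exact_mod_cast hcube n) k
      have hw3 : w ^ 3 = n ^ ((r - 1) * 3) := by
        rw [hwe, Commute.mul_pow (mem_centralizer_iff.mp hn3 e₁ he₁E).symm, hexp e₁ he₁E, mul_one,
          zpow_mul]
        exact (zpow_natCast _ 3).symm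
      obtain ⟨i, hi⟩ := IsPGroup.iff_orderOf.mp hG w
      obtain ⟨j, rfl⟩ : ∃ j, i = j + 2 := by
        refine ⟨i - 2, ?_⟩
        by_contra h
        refine hwE (hΩ w ?_)
        have h1 : orderOf w ∣ 3 := hi ▸ (pow_dvd_pow 3 (show i ≤ 1 by omega)).trans (pow_one 3).dvd
        exact orderOf_dvd_iff_pow_eq_one.mp h1
      set z := (w ^ 3) ^ 3 ^ j with hz
      have hz3 : z ^ 3 = 1 := by
        rw [hz, ← pow_mul, ← pow_mul, ← pow_succ, ← pow_succ', ← hi, pow_orderOf_eq_one]
      have hz1 : z ≠ 1 := by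
        rw [hz, ← pow_mul, ← pow_succ']
        exact pow_ne_one_of_lt_orderOf (pow_pos (by norm_num) _).ne'
          (hi ▸ Nat.pow_lt_pow_right (by norm_num) (by omega))
      have hzn : z = n ^ ((r - 1) * 3 * (3 ^ j : ℕ)) := by
        rw [hz, hw3, ← zpow_natCast, ← zpow_mul]
      have hzZ : z ∈ Z := by
        have hzE := hΩ z hz3
        rcases em (n ∈ C) with hn | hn
        · refine hfixE b (hnb.resolve_left (not_not_intro hn)) z hzE ?_
          have h1 : b * z * b⁻¹ = z := by
            rw [hzn, ← conj_zpow, hbn,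
              Commute.mul_zpow (Commute.zpow_left (mem_centralizer_iff.mp hn e₀ he0).symm r),
              mul_comm (r - 1) 3, mul_assoc, zpow_mul e₀]
            have he03 : e₀ ^ (3 : ℤ) = 1 := by exact_mod_cast hexp e₀ he0
            rw [he03, one_zpow, mul_one, ← mul_assoc, mul_comm 3 (r - 1), ← zpow_mul, mul_comm r,
              zpow_mul, ← hzn]
            rw [show r = 1 + 3 * k by omega, zpow_add, zpow_one, zpow_mul]
            have hz3' : z ^ (3 : ℤ) = 1 := by exact_mod_cast hz3
            rw [hz3', one_zpow, mul_one]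
          exact mul_inv_eq_iff_eq_mul.mp h1
        · refine hfixE n hn z hzE ?_
          rw [hzn]; exact (Commute.refl n).zpow_right _
      have hZw : ∀ a ∈ Z, a ∈ zpowers w := fun a ha =>
        zpowers_le.mpr (pow_mem (pow_mem (mem_zpowers w) 3) (3 ^ j))
          (BlackburnExtra.pow_gen hZcard hzZ hz1 ha)
      have hρw : ∀ x : G, ∀ i : ℤ, ρ x = ρ w ^ i → x ∈ zpowers w := fun x i hx => by
        have h : (w ^ i)⁻¹ * x ∈ Z :=
          (hρ1 _).mp (by rw [map_mul, map_inv, map_zpow, hx, inv_mul_cancel])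
        rw [show x = w ^ i * ((w ^ i)⁻¹ * x) by group]
        exact mul_mem (zpow_mem (mem_zpowers w) i) (hZw _ h)
      have hρe : ρ e₁ = ρ e₀ := by
        rw [he₁, map_mul, map_mul, map_inv, (hρE e₀ he0 n).eq, mul_inv_cancel_right]
      have hρww : ρ w = ρ n ^ (r - 1) * ρ e₀ := by rw [hwe, map_mul, map_zpow, hρe]
      have hρb : ρ b * ρ n * (ρ b)⁻¹ = ρ n ^ r * ρ e₀ := by
        rw [← map_inv, ← map_mul, ← map_mul, hbn, map_mul, map_zpow]
      refine hnotcyc w (commutator_le_zpowers hgen hcomm (mem_zpowers w) ?_ ?_ ?_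
        (fun e he => hZw _ (hEZ n e he)) (fun e he => hZw _ (hEZ b e he)))
      · refine hρw _ 1 ?_
        have hc1 : Commute (ρ n) (ρ w) := by
          rw [hρww]; exact ((Commute.refl (ρ n)).zpow_right _).mul_right (hρE e₀ he0 n)
        rw [map_mul, map_mul, map_inv, hc1.eq, mul_inv_cancel_right, zpow_one]
      · refine hρw _ r ?_
        rw [map_mul, map_mul, map_inv, hρww]
        have hce : ∀ x : G, Commute (ρ x) (ρ e₀) := hρE e₀ he0
        calc ρ b * (ρ n ^ (r - 1) * ρ e₀) * (ρ b)⁻¹
            = (ρ b * ρ n * (ρ b)⁻¹) ^ (r - 1) * (ρ b * ρ e₀ * (ρ b)⁻¹) := by rw [conj_zpow]; group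
          _ = ρ n ^ (r * (r - 1)) * ρ e₀ ^ (r - 1) * ρ e₀ := by
              rw [hρb, (hce b).eq, mul_inv_cancel_right, ((hce n).zpow_left r).mul_zpow, ← zpow_mul]
          _ = (ρ n ^ (r - 1) * ρ e₀) ^ r := by
              rw [((hce n).zpow_left (r - 1)).mul_zpow, ← zpow_mul, mul_comm r, mul_assoc,
                ← zpow_add_one, sub_add_cancel]
      · intro e he
        refine hρw _ 1 ?_
        rw [map_mul, map_mul, map_inv, ← (hρE e he w).eq, mul_inv_cancel_right, zpow_one]

/-- Rank two `3`-groups. -/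
theorem classify_three {n : ℕ} (hn : Nat.card G = 3 ^ n) (hrk : Cfsg.PRankLE 3 2 G) :
    Cfsg.IsMetacyclic G ∨
    (∃ E₀ : Subgroup G, E₀.Normal ∧ Nat.card E₀ = 3 ^ 3 ∧ (∀ e ∈ E₀, e ^ 3 = 1) ∧
      ¬ IsMulCommutative E₀) ∨
    (2 ≤ n ∧ (⊤ : Subgroup G).lowerCentralSeries (n - 2) ≠ ⊥) := by
  have hG : IsPGroup 3 G := IsPGroup.of_card hn
  by_cases hcyc : IsCyclic G
  · left
    refine ⟨⊤, inferInstance, ?_, ?_⟩
    · exact isCyclic_of_surjective (Subgroup.topEquiv (G := G)).symm
        (Subgroup.topEquiv (G := G)).symm.surjective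
    · haveI : Subsingleton (G ⧸ (⊤ : Subgroup G)) := QuotientGroup.subsingleton_quotient_top
      exact isCyclic_of_subsingleton
  obtain ⟨E, hEn, hE, hcard⟩ := Cfsg.Agent.S0126.result (p := 3) (by norm_num) hG hcyc
  haveI := hEn
  have hcard9 : Nat.card E = 9 := hcard.trans (by norm_num)
  set C := centralizer (E : Set G) with hCdef
  have hcomm : ∀ a ∈ E, ∀ b ∈ E, a * b = b * a := fun a ha b hb =>
    haveI := hE.1
    congrArg Subtype.val (mul_comm' (⟨a, ha⟩ : E) ⟨b, hb⟩)
  by_cases hA : ∃ u, u ∉ C ∧ u ^ 3 = 1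
  · obtain ⟨u, hu, hu3⟩ := hA
    by_cases hfix : Nat.card (C ⊓ centralizer ({u} : Set G) : Subgroup G) = 3
    · obtain ⟨-, -, -, hidx, -⟩ := setup hG hcard9.le (fun h => hu (h.ge (mem_top u)))
      exact Or.inr (Or.inr (maxClass hn C hidx u hfix))
    · exact Or.inr (Or.inl (exists_extraspecial hG hrk hE hcard9 hu hu3 hfix))
  push Not at hA
  have hΩ : ∀ x : G, x ^ 3 = 1 → x ∈ E := fun x hx => by
    have hxC : x ∈ C := by
      by_contra h; exact hA x h hx
    exact BlackburnExtra.mem_of_commute hG hrk hcomm hE.2 hcard hx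
      fun a ha => mem_centralizer_iff.mp hxC a ha
  rcases metacyclic_or_small_aux _ G rfl hG E hEn hcomm hE.2 hcard9.le hΩ with h | ⟨u, hu, hfix, hidx⟩
  · exact Or.inl h
  · exact Or.inr (Or.inr (maxClass hn C hidx u hfix))

end CfsgLib.PGroups.BlackburnThree
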