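import Cfsg.Agent.Lib.Transfer.SmallClass
import Cfsg.Agent.Lib.Transfer.RankTwo
import Cfsg.Agent.Lib.PGroups.ClassTwo
import Cfsg.Agent.S0127
import Cfsg.Agent.Lib.PGroups.Omega
import Cfsg.Agent.Lib.PGroups.MaxAbelian
import Cfsg.Agent.Lib.PGroups.MaxClassRank
import Cfsg.Prelude.Def_OddOrderLocal

/-!
# `Ω₁ ≤ p ^ 2` for `p > 3`: quotients, and Huppert's criterion
-/

set_option autoImplicit false
set_option linter.style.haveILetI false

namespace CfsgLib.PGroups.Huppert

open Subgroup
open scoped commutatorElement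

universe u

variable {R : Type u} [Group R] [Finite R] {p : ℕ} [Fact p.Prime]

theorem omega_le_of_forall {k : ℕ} (A : Subgroup R) (h : ∀ x : R, x ^ p = 1 → x ∈ A)
    (hA : Nat.card A ≤ k) : Nat.card (Cfsg.omegaOne p (⊤ : Subgroup R)) ≤ k := by
  refine le_trans (card_le_of_le ?_) hA
  exact (closure_le _).2 fun x hx => h x hx.2

/-- commutators with a normal subgroup of order `p ^ 2` are central -/
theorem comm_normal_sq (hR : IsPGroup p R) {E : Subgroup R} [E.Normal] (hEc : Nat.card E = p ^ 2)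
    {g e : R} (he : e ∈ E) : ⁅e, g⁆ ∈ center R := by
  have hp := (Fact.out : p.Prime)
  have hle : ⁅E, (⊤ : Subgroup R)⁆ ≤ E := commutator_le_left _ _
  have hmem := commutator_mem_commutator he (mem_top g)
  obtain ⟨k, hk⟩ := IsPGroup.iff_card.1 (hR.to_subgroup ⁅E, (⊤ : Subgroup R)⁆)
  have hk2 : k ≤ 1 := by
    by_contra hk2
    have heq : ⁅E, (⊤ : Subgroup R)⁆ = E := eq_of_le_of_card_ge hle (by
      rw [hEc, hk]; exact Nat.pow_le_pow_right hp.pos (by omega))
    have hst : ∀ n, E ≤ (⊤ : Subgroup R).lowerCentralSeries n := by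
      intro n
      induction n with
      | zero => exact le_top
      | succ n ih =>
        calc E = ⁅E, (⊤ : Subgroup R)⁆ := heq.symm
          _ ≤ _ := commutator_mono ih le_rfl
    obtain ⟨m, hm⟩ := (Subgroup.isNilpotent_iff_lowerCentralSeries (⊤ : Subgroup R)).1
      (hR.to_subgroup ⊤).isNilpotent
    have h1 := le_bot_iff.1 ((hst m).trans hm.le)
    rw [h1, card_bot] at hEc
    exact absurd hEc (Nat.one_lt_pow (by norm_num) hp.one_lt).ne
  rcases (show k = 0 ∨ k = 1 by omega) with rfl | rfl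
  · rw [card_eq_one.1 (by simpa using hk : Nat.card (⁅E, (⊤ : Subgroup R)⁆ : Subgroup R) = 1), mem_bot] at hmem
    rw [hmem]
    exact one_mem _
  · exact le_center_of_card_prime hR (by simpa using hk) hmem

/-- factor by a central subgroup of order `p` -/
theorem omega_quot_step (hp : 3 < p) (hR : IsPGroup p R)
    (hO : Nat.card (Cfsg.omegaOne p (⊤ : Subgroup R)) ≤ p ^ 2) (T : Subgroup R) [T.Normal]
    (hT : Nat.card T = p) : Nat.card (Cfsg.omegaOne p (⊤ : Subgroup (R ⧸ T))) ≤ p ^ 2 := by
  classical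
  have hp' := (Fact.out : p.Prime)
  have hp2 : p ≠ 2 := by omega
  have hodd : Odd p := hp'.odd_of_ne_two hp2
  have hTz : T ≤ center R := le_center_of_card_prime hR hT
  set X := R ⧸ T
  set π := QuotientGroup.mk' T with hπdef
  have hπ : Function.Surjective π := QuotientGroup.mk'_surjective T
  have hXp : IsPGroup p X := hR.to_quotient T
  by_cases hc : IsCyclic X
  · obtain ⟨g, hg⟩ := IsCyclic.exists_generator (α := Cfsg.omegaOne p (⊤ : Subgroup X))
    rw [← orderOf_eq_card_of_forall_mem_zpowers hg]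
    refine le_trans (orderOf_le_of_pow_eq_one hp'.pos (Subtype.ext ?_)) (Nat.le_self_pow two_ne_zero p)
    haveI : IsMulCommutative (⊤ : Subgroup X) :=
      ⟨⟨fun a b => Subtype.ext ((IsCyclic.commGroup (α := X)).mul_comm a b)⟩⟩
    exact (mem_omegaOne_iff_of_comm.1 g.2).2
  obtain ⟨E, hEn, hE, hEc⟩ := CfsgLib.Transfer.exists_normal_elementary_card_sq hp2 hXp hc
  haveI := hEn
  by_cases hall : ∀ x : X, x ^ p = 1 → x ∈ E
  · exact omega_le_of_forall E hall hEc.le
  exfalso
  push Not at hall
  obtain ⟨x, hx, hxE⟩ := hall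
  set Bb := E ⊔ zpowers x with hBb
  have hcen : ∀ e ∈ E, ∀ g : X, ⁅e, g⁆ ∈ center X := fun e he g => comm_normal_sq hXp hEc he
  have hexp : ∀ y ∈ Bb, y ^ p = 1 := by
    intro y hy
    obtain ⟨e, he, v, hv, rfl⟩ := mem_sup_of_normal_left.1 hy
    obtain ⟨i, rfl⟩ := mem_powers_iff_mem_zpowers.2 hv
    show (e * x ^ i) ^ p = 1
    have h1 : ⁅x ^ i, e⁆ ∈ center X := by
      rw [← commutatorElement_inv]; exact inv_mem (hcen e he _)
    have h2 : ⁅x ^ i, e⁆ ^ p = 1 := by
      rw [← comm_pow_right_of_central h1, hE.2 e he, commutatorElement_one_right]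
    rw [mul_pow_of_central_odd h1 hodd h2, hE.2 e he, one_mul, ← pow_mul, mul_comm, pow_mul, hx,
      one_pow]
  have hcommB : ∀ g ∈ Bb, ∀ h ∈ Bb, ⁅g, h⁆ ∈ center X := by
    intro g hg h hh
    obtain ⟨e, he, v, hv, rfl⟩ := mem_sup_of_normal_left.1 hg
    obtain ⟨e', he', v', hv', rfl⟩ := mem_sup_of_normal_left.1 hh
    obtain ⟨i, rfl⟩ := mem_zpowers_iff.1 hv
    obtain ⟨j, rfl⟩ := mem_zpowers_iff.1 hv'
    have h1 : ⁅e * x ^ i, e' * x ^ j⁆ = (e * ⁅x ^ i, e' * x ^ j⁆ * e⁻¹) * ⁅e, e' * x ^ j⁆ := by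
      simp only [commutatorElement_def]; group
    have h2 : ⁅x ^ i, e' * x ^ j⁆ = ⁅x ^ i, e'⁆ := by
      have h3 : ⁅x ^ i, e' * x ^ j⁆ = ⁅x ^ i, e'⁆ * (e' * ⁅x ^ i, x ^ j⁆ * e'⁻¹) := by
        simp only [commutatorElement_def]; group
      rw [h3, commutatorElement_eq_one_iff_commute.2 ((Commute.refl x).zpow_zpow i j)]
      group
    rw [h1, h2]
    exact mul_mem ((inferInstance : (center X).Normal).conj_mem _
      (by rw [← commutatorElement_inv]; exact inv_mem (hcen e' he' _)) e) (hcen e he _)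
  set B := Bb.comap π with hB
  have hBcard : p ^ 4 ≤ Nat.card B := by
    obtain ⟨k, hk⟩ := IsPGroup.iff_card.1 (hXp.to_subgroup Bb)
    have hlt : Nat.card E < Nat.card Bb := lt_of_le_of_ne (card_le_of_le le_sup_left)
      fun he => hxE ((eq_of_le_of_card_ge le_sup_left he.ge).ge (mem_sup_right (mem_zpowers x)))
    rw [hEc, hk, Nat.pow_lt_pow_iff_right hp'.one_lt] at hlt
    have h1 := relIndex_mul_relIndex ⊥ T B bot_le (by
      intro t ht
      show π t ∈ Bb
      rw [hπdef, QuotientGroup.mk'_apply, (QuotientGroup.eq_one_iff t).2 ht]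
      exact one_mem _)
    rw [relIndex_bot_left, relIndex_bot_left] at h1
    have h2 := relIndex_ker B π
    rw [hπdef, QuotientGroup.ker_mk'] at h2
    rw [← h1, h2, hT, hB, map_comap_eq_self_of_surjective hπ, hk, ← pow_succ']
    exact Nat.pow_le_pow_right hp'.pos (by omega)
  have hTpow : ∀ t ∈ T, t ^ p = 1 := fun t ht => by
    have := pow_card_eq_one' (x := (⟨t, ht⟩ : T))
    rw [hT] at this
    exact congrArg Subtype.val this
  have hd : ∀ a ∈ B, ∀ b ∈ B, ∀ c ∈ B, ⁅⁅a, b⁆, c⁆ ∈ T := by
    intro a ha b hb c _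
    rw [← QuotientGroup.eq_one_iff]
    show π _ = 1
    rw [map_commutatorElement, map_commutatorElement, commutatorElement_eq_one_iff_mul_comm]
    exact (mem_center_iff.1 (hcommB _ ha _ hb) _).symm
  have hcexp : ∀ a b : B, ⁅a, b⁆ ^ p = 1 := by
    rintro ⟨a, ha⟩ ⟨b, hb⟩
    refine Subtype.ext ?_
    show ⁅a, b⁆ ^ p = 1
    set c := ⁅a, b⁆ with hc
    set d := ⁅a, c⁆ with hdd
    have hdT : d ∈ T := by
      rw [hdd, ← commutatorElement_inv]
      exact inv_mem (hd a ha b hb a ha)
    have hdz : ∀ z : R, z * d = d * z := mem_center_iff.1 (hTz hdT)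
    have key : ∀ n : ℕ, a ^ n * b * (a ^ n)⁻¹ = c ^ n * d ^ n.choose 2 * b := by
      intro n
      induction n with
      | zero => simp
      | succ n ih =>
        have e1 : a * c * a⁻¹ = d * c := by rw [hdd, commutatorElement_def]; group
        have e2 : a * b * a⁻¹ = c * b := by rw [hc, commutatorElement_def]; group
        have e3 : a * d * a⁻¹ = d := by rw [hdz, mul_inv_cancel_right]
        have hcd : Commute c d := hdz c
        calc a ^ (n + 1) * b * (a ^ (n + 1))⁻¹ = a * (a ^ n * b * (a ^ n)⁻¹) * a⁻¹ := by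
              rw [pow_succ']; group
          _ = (a * c * a⁻¹) ^ n * (a * d * a⁻¹) ^ n.choose 2 * (a * b * a⁻¹) := by
              rw [ih, conj_pow, conj_pow]; group
          _ = c ^ n * d ^ n * d ^ n.choose 2 * (c * b) := by
              rw [e1, e2, e3, hcd.symm.mul_pow, (hcd.pow_pow n n).symm.eq]
          _ = c ^ n * (d ^ n * d ^ n.choose 2) * c * b := by group
          _ = c ^ n * (c * (d ^ n * d ^ n.choose 2)) * b := by
              rw [mul_assoc (c ^ n), ((hcd.pow_right n).mul_right (hcd.pow_right _)).eq]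
          _ = c ^ (n + 1) * d ^ (n + 1).choose 2 * b := by
              rw [← mul_assoc (c ^ n), ← pow_succ, ← pow_add, show (n + 1).choose 2 = n + n.choose 2 by
                rw [Nat.choose_succ_succ' n 1, Nat.choose_one_right]]
    have hap : a ^ p ∈ T := by
      rw [← QuotientGroup.eq_one_iff, QuotientGroup.mk_pow]
      exact hexp _ ha
    have h1 := key p
    rw [← mem_center_iff.1 (hTz hap) b, mul_inv_cancel_right] at h1
    have h2 : d ^ p.choose 2 = 1 := by
      obtain ⟨l, hl⟩ := hp'.dvd_choose_self (k := 2) two_ne_zero (by omega)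
      rw [hl, pow_mul, hTpow d hdT, one_pow]
    rw [h2, mul_one] at h1
    exact mul_eq_right.1 h1.symm
  have hsc : CfsgLib.Transfer.SmallClass p B := by
    refine Or.inr ⟨hp, ?_⟩
    have h1 : ⁅_root_.commutator B, (⊤ : Subgroup B)⁆ ≤ T.subgroupOf B := by
      have hle : _root_.commutator B ≤ (center X).comap (π.comp B.subtype) := by
        rw [_root_.commutator_def, commutator_le]
        intro a _ b _
        show π ⁅(a : R), (b : R)⁆ ∈ center X
        rw [map_commutatorElement]
        exact hcommB _ a.2 _ b.2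
      rw [commutator_le]
      intro a ha b _
      show ⁅(a : R), (b : R)⁆ ∈ T
      rw [← QuotientGroup.eq_one_iff]
      show π _ = 1
      rw [map_commutatorElement, commutatorElement_eq_one_iff_mul_comm]
      exact (mem_center_iff.1 (hle ha) _).symm
    rw [eq_bot_iff, commutator_le]
    intro a ha b _
    rw [mem_bot, commutatorElement_eq_one_iff_mul_comm]
    exact Subtype.ext ((mem_center_iff.1 (hTz (h1 ha)) b).symm)
  have hder : _root_.commutator B ≤ Subgroup.closure {x : B | x ^ p = 1} := by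
    rw [_root_.commutator_def, commutator_le]
    intro a _ b _
    exact subset_closure (hcexp a b)
  let φ : B →* T := MonoidHom.mk'
    (fun y => ⟨((y : R)) ^ p, by
      rw [← QuotientGroup.eq_one_iff, QuotientGroup.mk_pow]
      exact hexp _ y.2⟩)
    fun a b => Subtype.ext (by
      simpa using congrArg Subtype.val (hsc.mul_pow_of_commutator_le (hR.to_subgroup B) hder a b))
  have h1 : Nat.card B ≤ p * Nat.card φ.ker := by
    rw [card_eq_card_quotient_mul_card_subgroup φ.ker,
      Nat.card_congr (QuotientGroup.quotientKerEquivRange φ).toEquiv, ← hT]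
    exact Nat.mul_le_mul_right _ (card_le_card_group φ.range)
  have h2 : Nat.card φ.ker ≤ p ^ 2 := by
    rw [← Subgroup.card_map_of_injective (K := φ.ker) B.subtype_injective]
    refine le_trans (card_le_of_le ?_) hO
    rintro _ ⟨y, hy, rfl⟩
    exact mem_omegaOne (mem_top _) (congrArg Subtype.val hy)
  have := hBcard.trans (h1.trans (Nat.mul_le_mul_left p h2))
  rw [← pow_succ', Nat.pow_le_pow_iff_right hp'.one_lt] at this
  omega

omit [Finite R] [Fact p.Prime] in
theorem card_omega_congr {R' : Type*} [Group R'] (e : R ≃* R') :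
    Nat.card (Cfsg.omegaOne p (⊤ : Subgroup R)) = Nat.card (Cfsg.omegaOne p (⊤ : Subgroup R')) := by
  have h := omegaOne_map (p := p) (⊤ : Subgroup R) (f := e.toMonoidHom) e.injective
  rw [map_top_of_surjective e.toMonoidHom e.surjective] at h
  rw [← h]
  exact Nat.card_congr ((Cfsg.omegaOne p (⊤ : Subgroup R)).equivMapOfInjective e.toMonoidHom
    e.injective).toEquiv

theorem omega_quotient_aux (hp : 3 < p) : ∀ n : ℕ, ∀ (R : Type u) [Group R] [Finite R],
    Nat.card R ≤ n → IsPGroup p R → Nat.card (Cfsg.omegaOne p (⊤ : Subgroup R)) ≤ p ^ 2 →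
      ∀ (T : Subgroup R) [T.Normal], Nat.card (Cfsg.omegaOne p (⊤ : Subgroup (R ⧸ T))) ≤ p ^ 2 := by
  intro n
  induction n with
  | zero => exact fun R _ _ hn => absurd hn (Nat.card_pos (α := R)).not_ge
  | succ n ih =>
    intro R _ _ hn hR hO T _
    by_cases hT : T = ⊥
    · subst hT
      rwa [← card_omega_congr (QuotientGroup.quotientBot (G := R)).symm]
    have hdvd : p ∣ Nat.card T := by
      rcases (hR.to_subgroup T).card_eq_or_dvd with h | h
      · exact absurd (card_eq_one.1 h) hT
      · exact h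
    obtain ⟨T1, hT1n, hT1, hT1c, -⟩ := CfsgLib.Transfer.exists_normal_card hR T 1
      (by rw [pow_one]; exact Nat.le_of_dvd Nat.card_pos hdvd)
    rw [pow_one] at hT1c
    haveI := hT1n
    have h1 := omega_quot_step hp hR hO T1 hT1c
    have hlt : Nat.card (R ⧸ T1) ≤ n := by
      have h2 := card_eq_card_quotient_mul_card_subgroup T1
      rw [hT1c] at h2
      have : 0 < Nat.card (R ⧸ T1) := Nat.card_pos
      nlinarith
    have h3 := ih (R ⧸ T1) hlt (hR.to_quotient T1) h1 (T.map (QuotientGroup.mk' T1))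
    rwa [card_omega_congr (QuotientGroup.quotientQuotientEquivQuotient T1 T hT1)] at h3

theorem omega_quotient (hp : 3 < p) (hR : IsPGroup p R)
    (hO : Nat.card (Cfsg.omegaOne p (⊤ : Subgroup R)) ≤ p ^ 2) (T : Subgroup R) [T.Normal] :
    Nat.card (Cfsg.omegaOne p (⊤ : Subgroup (R ⧸ T))) ≤ p ^ 2 :=
  omega_quotient_aux hp _ R le_rfl hR hO T

theorem commutator_isCyclic (hp : 3 < p) (hR : IsPGroup p R)
    (hO : Nat.card (Cfsg.omegaOne p (⊤ : Subgroup R)) ≤ p ^ 2) :
    IsCyclic (_root_.commutator R) := by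
  classical
  have hp' := (Fact.out : p.Prime)
  set P1 := Cfsg.powerClosure p 1 (⊤ : Subgroup R) with hP1
  haveI : P1.Normal := by
    refine ⟨fun y hy g => ?_⟩
    have h1 := mem_map_of_mem (MulAut.conj g).toMonoidHom hy
    rw [hP1, powerClosure_map, map_top_of_surjective _ (MulAut.conj g).surjective] at h1
    exact h1
  have hQexp : ∀ x : R ⧸ P1, x ^ p = 1 := fun x => by
    obtain ⟨x, rfl⟩ := QuotientGroup.mk_surjective x
    rw [← QuotientGroup.mk_pow, QuotientGroup.eq_one_iff]
    exact subset_closure ⟨x, mem_top x, by rw [pow_one]⟩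
  have hQc : Nat.card (R ⧸ P1) ≤ p ^ 2 := by
    rw [← card_top]
    refine le_trans (card_le_of_le fun x _ => ?_) (omega_quotient hp hR hO P1)
    exact mem_omegaOne (mem_top x) (hQexp x)
  obtain ⟨k, hk⟩ := IsPGroup.iff_card.1 (hR.to_quotient P1)
  have hk2 : k ≤ 2 := (Nat.pow_le_pow_iff_right hp'.one_lt).1 (hk ▸ hQc)
  have hQab : ∀ x y : R ⧸ P1, x * y = y * x := by
    rcases (show k ≤ 1 ∨ k = 2 by omega) with h | rfl
    · haveI : IsCyclic (R ⧸ P1) := by
        rcases (show k = 0 ∨ k = 1 by omega) with rfl | rfl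
        · have := (Nat.card_eq_one_iff_unique.1 (by simpa using hk)).1
          exact isCyclic_of_subsingleton
        · exact isCyclic_of_prime_card (p := p) (by simpa using hk)
      exact (IsCyclic.commGroup (α := R ⧸ P1)).mul_comm
    · exact IsPGroup.commutative_of_card_eq_prime_sq hk
  have hRP : _root_.commutator R ≤ P1 := by
    rw [_root_.commutator_def, commutator_le]
    intro a _ b _
    rw [← QuotientGroup.eq_one_iff]
    show QuotientGroup.mk' P1 ⁅a, b⁆ = 1
    rw [map_commutatorElement, commutatorElement_eq_one_iff_mul_comm]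
    exact hQab _ _
  have hP1Φ : P1 ≤ frattini R := (closure_le _).2 (by
    rintro _ ⟨x, -, rfl⟩
    rw [pow_one]
    exact pow_mem_frattini hR x)
  set R' := _root_.commutator R with hR'
  set Q := (frattini R').map R'.subtype with hQ
  haveI : Q.Normal := inferInstance
  set L := (⊤ : Subgroup R).lowerCentralSeries with hL
  have hL1 : L 1 = R' := top_lowerCentralSeries_one ..
  -- the third term lies in `Q`
  have h2Q : L 2 ≤ Q := by
    obtain ⟨m, hm⟩ := (Subgroup.isNilpotent_iff_lowerCentralSeries (⊤ : Subgroup R)).1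
      (hR.to_subgroup ⊤).isNilpotent
    refine CfsgLib.PGroups.MaxClassRank.le_of_normal (i := 2) hm Q ?_
    set D := Q ⊔ L 3 with hD
    haveI : D.Normal := inferInstance
    set π := QuotientGroup.mk' D with hπdef
    have hπ : Function.Surjective π := QuotientGroup.mk'_surjective D
    have hmapc : R'.map π = _root_.commutator (R ⧸ D) := by
      rw [hR', _root_.commutator_def, map_commutator, map_top_of_surjective π hπ,
        ← _root_.commutator_def]
    have hcl : CfsgLib.Transfer.SmallClass p (R ⧸ D) := by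
      refine Or.inr ⟨hp, ?_⟩
      rw [← hmapc, ← map_top_of_surjective π hπ, ← map_commutator, ← map_commutator, eq_bot_iff]
      rintro _ ⟨z, hz, rfl⟩
      rw [mem_bot, hπdef, QuotientGroup.mk'_apply, QuotientGroup.eq_one_iff]
      refine mem_sup_right ?_
      rw [hL, Subgroup.lowerCentralSeries_succ, Subgroup.lowerCentralSeries_succ, top_lowerCentralSeries_one]
      exact hz
    have hder : _root_.commutator (R ⧸ D) ≤ Subgroup.closure {x : R ⧸ D | x ^ p = 1} := by
      rw [← hmapc]
      rintro _ ⟨z, hz, rfl⟩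
      refine subset_closure (show (π z) ^ p = 1 from ?_)
      rw [← map_pow, hπdef, QuotientGroup.mk'_apply, QuotientGroup.eq_one_iff]
      exact mem_sup_left ⟨(⟨z, hz⟩ : R') ^ p, pow_mem_frattini (hR.to_subgroup R') _, rfl⟩
    have hhom := hcl.mul_pow_of_commutator_le (hR.to_quotient D) hder
    have hpc : ∀ u v : R ⧸ D, Commute u (v ^ p) := by
      intro u v
      obtain ⟨j, hj⟩ := IsPGroup.iff_orderOf.1 (hR.to_quotient D) u
      obtain ⟨l, hl⟩ := exists_pow_eq_self_of_coprime (x := u) (n := p - 1) (by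
        rw [hj]
        refine Nat.Coprime.pow_right j ((hp'.coprime_iff_not_dvd.2 fun hd => ?_).symm)
        have := Nat.le_of_dvd (by omega) hd
        omega)
      have h1 : u * v ^ p * u⁻¹ = u ^ p * v ^ p * (u ^ p)⁻¹ := by
        rw [← conj_pow, hhom, hhom, inv_pow]
      have h2 : Commute (u ^ (p - 1)) (v ^ p) := by
        refine mul_inv_eq_iff_eq_mul.1 ?_
        calc u ^ (p - 1) * v ^ p * (u ^ (p - 1))⁻¹
            = u⁻¹ * ((u * u ^ (p - 1)) * v ^ p * (u * u ^ (p - 1))⁻¹) * u := by group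
          _ = u⁻¹ * (u * v ^ p * u⁻¹) * u := by
              rw [← pow_succ', Nat.sub_add_cancel (by omega), h1]
          _ = v ^ p := by group
      exact hl ▸ h2.pow_left l
    have hcen : R'.map π ≤ center (R ⧸ D) := by
      refine (map_mono hRP).trans ?_
      rw [hP1, powerClosure_map]
      refine (closure_le _).2 ?_
      rintro _ ⟨v, -, rfl⟩
      rw [pow_one]
      exact mem_center_iff.2 fun u => (hpc u v).eq
    rw [Subgroup.lowerCentralSeries_succ, top_lowerCentralSeries_one, commutator_le]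
    intro a ha b _
    rw [← QuotientGroup.eq_one_iff]
    show π ⁅a, b⁆ = 1
    rw [map_commutatorElement, commutatorElement_eq_one_iff_mul_comm]
    exact (mem_center_iff.1 (hcen (mem_map_of_mem π ha)) (π b)).symm
  -- two generators
  obtain ⟨a, b, hab⟩ : ∃ a b : R, closure ({a, b} : Set R) = ⊤ := by
    obtain ⟨u, w, huw⟩ : ∃ u w : R ⧸ P1, closure ({u, w} : Set (R ⧸ P1)) = ⊤ := by
      by_cases hone : ∀ u : R ⧸ P1, u = 1
      · exact ⟨1, 1, eq_top_iff.2 fun x _ => (hone x).symm ▸ one_mem _⟩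
      push Not at hone
      obtain ⟨u, hu⟩ := hone
      by_cases htop : zpowers u = ⊤
      · refine ⟨u, u, eq_top_iff.2 ?_⟩
        rw [← htop, zpowers_le]
        exact subset_closure (Or.inl rfl)
      obtain ⟨w, -, hw⟩ := SetLike.exists_of_lt (lt_top_iff_ne_top.2 htop)
      refine ⟨u, w, ?_⟩
      have hule : zpowers u < closure ({u, w} : Set _) :=
        lt_of_le_of_ne (zpowers_le.2 (subset_closure (Or.inl rfl)))
          fun h => hw (h.ge (subset_closure (Or.inr rfl)))
      refine eq_top_of_le_card _ ?_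
      obtain ⟨c, hc⟩ := IsPGroup.iff_card.1
        ((hR.to_quotient P1).to_subgroup (closure ({u, w} : Set (R ⧸ P1))))
      have h1 : p < p ^ c := by
        have h2 : Nat.card (zpowers u) = p := by
          rw [Nat.card_zpowers, orderOf_eq_prime (hQexp u) hu]
        rw [← hc, ← h2]
        exact lt_of_le_of_ne (card_le_of_le hule.le)
          fun he => hule.ne (eq_of_le_of_card_ge hule.le he.ge)
      have h3 : 2 ≤ c := by
        by_contra hcc
        exact absurd h1 (not_lt.2 ((Nat.pow_le_pow_right hp'.pos (show c ≤ 1 by omega)).trans (pow_one p).le))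
      rw [hk, hc]
      exact Nat.pow_le_pow_right hp'.pos (by omega)
    obtain ⟨a, rfl⟩ := QuotientGroup.mk_surjective u
    obtain ⟨b, rfl⟩ := QuotientGroup.mk_surjective w
    refine ⟨a, b, frattini_nongenerating ?_⟩
    refine top_le_iff.1 (le_trans ?_ (sup_le_sup_left hP1Φ _))
    intro x _
    have hx : QuotientGroup.mk' P1 x ∈ (closure ({a, b} : Set R)).map (QuotientGroup.mk' P1) := by
      rw [MonoidHom.map_closure, Set.image_pair]
      exact huw.ge (mem_top _)
    have hx' := comap_map_eq (QuotientGroup.mk' P1) (closure ({a, b} : Set R))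
    rw [QuotientGroup.ker_mk'] at hx'
    exact hx'.le hx
  -- `R'` is generated by the commutator modulo `Q`
  set W := zpowers ⁅a, b⁆ ⊔ Q with hW
  haveI hWn : W.Normal := by
    refine ⟨fun z hz g => ?_⟩
    obtain ⟨i, hi, q, hq, rfl⟩ := mem_sup_of_normal_right.1 hz
    obtain ⟨i, rfl⟩ := mem_zpowers_iff.1 hi
    have hmem : ⁅⁅a, b⁆ ^ i, g⁆ ∈ Q := h2Q (by
      rw [hL, Subgroup.lowerCentralSeries_succ, top_lowerCentralSeries_one]
      exact commutator_mem_commutator
        (zpow_mem (commutator_mem_commutator (mem_top a) (mem_top b)) i) (mem_top g))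
    rw [show g * (⁅a, b⁆ ^ i * q) * g⁻¹ = (g * ⁅a, b⁆ ^ i * g⁻¹) * (g * q * g⁻¹) by group,
      show g * ⁅a, b⁆ ^ i * g⁻¹ = ⁅⁅a, b⁆ ^ i, g⁆⁻¹ * ⁅a, b⁆ ^ i by
        simp only [commutatorElement_def]; group]
    exact mul_mem (mul_mem (mem_sup_right (inv_mem hmem))
      (mem_sup_left (zpow_mem (mem_zpowers _) i))) (mem_sup_right (‹Q.Normal›.conj_mem q hq g))
  have hle : R' ≤ W := by
    rw [hR', _root_.commutator_def, commutator_le]
    intro x _ y _
    rw [← QuotientGroup.eq_one_iff]
    show QuotientGroup.mk' W ⁅x, y⁆ = 1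
    set π := QuotientGroup.mk' W
    have hcomm : Commute (π a) (π b) := by
      rw [← commutatorElement_eq_one_iff_commute, ← map_commutatorElement, QuotientGroup.mk'_apply,
        QuotientGroup.eq_one_iff]
      exact mem_sup_left (mem_zpowers _)
    have htop : closure ({π a, π b} : Set (R ⧸ W)) = ⊤ := by
      rw [← Set.image_pair, ← MonoidHom.map_closure, hab,
        map_top_of_surjective π (QuotientGroup.mk'_surjective W)]
    have hcl : closure ({π a, π b} : Set (R ⧸ W)) ≤
        centralizer (closure ({π a, π b} : Set (R ⧸ W)) : Set (R ⧸ W)) := by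
      rw [centralizer_closure, closure_le]
      rintro v (rfl | rfl) <;> refine mem_centralizer_iff.2 ?_ <;> rintro v (rfl | rfl)
      exacts [rfl, hcomm.eq.symm, hcomm.eq, rfl]
    rw [map_commutatorElement, commutatorElement_eq_one_iff_mul_comm]
    exact (mem_centralizer_iff.1 (hcl (htop.ge (mem_top (π x)))) (π y) (htop.ge (mem_top _))).symm
  -- hence cyclic
  refine isCyclic_of_surjective (zpowers
    (⟨⁅a, b⁆, commutator_mem_commutator (mem_top a) (mem_top b)⟩ : R')).subtype ?_
  rw [← MonoidHom.range_eq_top, range_subtype]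
  refine frattini_nongenerating (eq_top_iff.2 fun z _ => ?_)
  obtain ⟨i, hi, q, hq, hiq⟩ := mem_sup_of_normal_right.1 (hle z.2)
  obtain ⟨i, rfl⟩ := mem_zpowers_iff.1 hi
  obtain ⟨q', hq', rfl⟩ := hq
  have : z = (⟨⁅a, b⁆, commutator_mem_commutator (mem_top a) (mem_top b)⟩ : R') ^ i * q' :=
    Subtype.ext (by simpa using hiq.symm)
  rw [this]
  exact mul_mem (mem_sup_left (zpow_mem (mem_zpowers _) i)) (mem_sup_right hq')

/-- **Huppert's criterion** -/
theorem isMetacyclic (hp : 3 < p) (hR : IsPGroup p R)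
    (hO : Nat.card (Cfsg.omegaOne p (⊤ : Subgroup R)) ≤ p ^ 2) : Cfsg.IsMetacyclic R := by
  classical
  have hp' := (Fact.out : p.Prime)
  have hp2 : p ≠ 2 := by omega
  have hR' := commutator_isCyclic hp hR hO
  obtain ⟨N, ⟨hNc, hRN⟩, hmax⟩ := Set.exists_max_image
    {N : Subgroup R | IsCyclic N ∧ _root_.commutator R ≤ N} (fun N => Nat.card N) (Set.toFinite _)
    ⟨_root_.commutator R, hR', le_rfl⟩
  have hN : N.Normal := by
    refine ⟨fun x hx g => ?_⟩
    rw [show g * x * g⁻¹ = ⁅g, x⁆ * x by rw [commutatorElement_def]; group]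
    exact N.mul_mem (hRN (commutator_mem_commutator (mem_top g) (mem_top x))) hx
  haveI := hN
  haveI := hNc
  refine ⟨N, hN, hNc, ?_⟩
  by_cases hbot : N = ⊥
  · by_contra hnc
    have hRbot : ∀ x : R, x = 1 := fun x => by
      have hRN' : _root_.commutator R ≤ zpowers x :=
        (hRN.trans hbot.le).trans bot_le
      have h1 := hmax (zpowers x) ⟨inferInstance, hRN'⟩
      rw [hbot, card_bot, Nat.card_zpowers] at h1
      exact orderOf_eq_one_iff.1 (le_antisymm h1 (orderOf_pos x))
    haveI : Subsingleton (R ⧸ N) := ⟨fun x y => by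
      obtain ⟨x, rfl⟩ := QuotientGroup.mk_surjective x
      obtain ⟨y, rfl⟩ := QuotientGroup.mk_surjective y
      rw [hRbot x, hRbot y]⟩
    exact hnc isCyclic_of_subsingleton
  set O := Cfsg.omegaOne p (⊤ : Subgroup R) with hOdef
  set π := QuotientGroup.mk' N with hπdef
  have himg : Nat.card (O.map π) ≤ p := by
    have h1 := relIndex_mul_relIndex ⊥ (N ⊓ O) O bot_le inf_le_right
    rw [relIndex_bot_left, relIndex_bot_left, inf_relIndex_right] at h1
    have h2 := relIndex_ker O π
    rw [hπdef, QuotientGroup.ker_mk'] at h2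
    rw [h2] at h1
    have h3 : p ≤ Nat.card (N ⊓ O : Subgroup R) := by
      have hdvd : p ∣ Nat.card N := by
        rcases (hR.to_subgroup N).card_eq_or_dvd with h | h
        · exact absurd (card_eq_one.1 h) hbot
        · exact h
      obtain ⟨z, hz⟩ := exists_prime_orderOf_dvd_card' p hdvd
      rw [← Subgroup.orderOf_coe] at hz
      have hzO : zpowers (z : R) ≤ N ⊓ O := zpowers_le.2
        ⟨z.2, mem_omegaOne (mem_top _) (by rw [← hz, pow_orderOf_eq_one])⟩
      have := card_le_of_le hzO
      rwa [Nat.card_zpowers, hz] at this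
    have h4 := Nat.mul_le_mul_right (Nat.card (O.map π)) h3
    rw [h1] at h4
    exact Nat.le_of_mul_le_mul_left ((h4.trans hO).trans (pow_two p).le) hp'.pos
  have hall : ∀ x : R ⧸ N, x ^ p = 1 → x ∈ O.map π := by
    intro x0 hx0
    obtain ⟨x, rfl⟩ := QuotientGroup.mk_surjective x0
    rw [← QuotientGroup.mk_pow, QuotientGroup.eq_one_iff] at hx0
    by_cases hxN : x ∈ N
    · rw [(QuotientGroup.eq_one_iff x).2 hxN]
      exact one_mem _
    set H := N ⊔ zpowers x with hH
    have hNπ : N.map π = ⊥ := (N.map_eq_bot_iff).2 (QuotientGroup.ker_mk' N).ge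
    have hHπ : H.map π = zpowers (π x) := by
      rw [hH, Subgroup.map_sup, hNπ, bot_sup_eq, MonoidHom.map_zpowers]
    have hidx : (N.subgroupOf H).index = p := by
      rw [show (N.subgroupOf H).index = N.relIndex H from rfl]
      have h2 := relIndex_ker H π
      rw [hπdef, QuotientGroup.ker_mk'] at h2
      rw [h2]
      show Nat.card (H.map π) = p
      rw [hHπ, Nat.card_zpowers]
      refine orderOf_eq_prime ?_ fun h => hxN ((QuotientGroup.eq_one_iff x).1 h)
      rw [← map_pow]
      exact (QuotientGroup.eq_one_iff _).2 hx0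
    have hHnc : ¬ IsCyclic H := fun hHc => by
      have h1 := hmax H ⟨hHc, hRN.trans le_sup_left⟩
      exact hxN ((eq_of_le_of_card_ge le_sup_left h1).ge (mem_sup_right (mem_zpowers x)))
    haveI : IsCyclic (N.subgroupOf H) :=
      isCyclic_of_surjective (subgroupOfEquivOfLe (le_sup_left : N ≤ H)).symm
        (subgroupOfEquivOfLe (le_sup_left : N ≤ H)).symm.surjective
    obtain ⟨hT, hTc⟩ := Cfsg.Agent.S0127.result hp2 (hR.to_subgroup H) hHnc _ inferInstance hidx
    obtain ⟨y, hyT, hyN⟩ : ∃ y ∈ Subgroup.closure {z : H | z ^ p = 1}, y ∉ N.subgroupOf H := by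
      by_contra hc
      push Not at hc
      obtain ⟨g, hg⟩ := (Subgroup.isCyclic_of_le hc).exists_generator
      have h5 : orderOf g ≤ p := orderOf_le_of_pow_eq_one hp'.pos (Subtype.ext (hT.2 g g.2))
      rw [orderOf_eq_card_of_forall_mem_zpowers hg, hTc, pow_two] at h5
      nlinarith
    have hyp : (y : R) ^ p = 1 := congrArg Subtype.val (hT.2 y hyT)
    have hyO : π (y : R) ∈ O.map π := mem_map_of_mem π (mem_omegaOne (mem_top _) hyp)
    have hy1 : π (y : R) ∈ zpowers (π x) := by
      have := mem_map_of_mem π y.2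
      rwa [hHπ] at this
    have hyne : π (y : R) ≠ 1 := fun h => hyN ((QuotientGroup.eq_one_iff (y : R)).1 h)
    have hxe : zpowers (π (y : R)) = zpowers (π x) := eq_of_le_of_card_ge (zpowers_le.2 hy1) (by
      rw [Nat.card_zpowers, Nat.card_zpowers,
        orderOf_eq_prime (by rw [← map_pow, hyp, map_one]) hyne]
      exact orderOf_le_of_pow_eq_one hp'.pos (by
        rw [← map_pow]; exact (QuotientGroup.eq_one_iff _).2 hx0))
    exact zpowers_le.2 hyO (hxe.ge (mem_zpowers (π x)))
  refine CfsgLib.Transfer.isCyclic_of_unique_order_p hp2 (hR.to_quotient N) fun u v hu hu1 hv => ?_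
  have heq : zpowers u = O.map π := eq_of_le_of_card_ge (zpowers_le.2 (hall u hu)) (by
    rw [Nat.card_zpowers, orderOf_eq_prime hu hu1]; exact himg)
  rw [heq]
  exact hall v hv

end CfsgLib.PGroups.Huppert
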