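import Cfsg.Agent.Lib.PGroups.TwoPrimeModules

/-!
# Solvable groups of three primes of rank two on a faithful module

`Setup.false`: no faithful module on which an element with fixed points commutes with elements of
at most one other prime order and commuting elements of different prime orders have no common fixed
point, when no three elements of the three orders commute pairwise.
-/

set_option autoImplicit false
set_option linter.all false

namespace CfsgLib.PGroups.FixRank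

open Subgroup

section Tools

variable {X : Type*} [Group X] [Finite X]

theorem le_piHall [Group.IsSolvable X] {π : Set ℕ} {K : Subgroup X} (hK : Cfsg.IsPiHall π K)
    {N : Subgroup X} [N.Normal] (hN : ∀ t : ℕ, t.Prime → t ∣ Nat.card N → t ∈ π) : N ≤ K := by
  obtain ⟨g, hg⟩ := CfsgLib.Core.exists_conj_le_piHall hK hN
  rwa [Subgroup.Normal.conj_smul_eq_self] at hg

theorem primes_of_pgroup {p : ℕ} (hp : p.Prime) {P : Subgroup X} (hP : IsPGroup p P) {π : Set ℕ}
    (hπ : p ∈ π) : ∀ t : ℕ, t.Prime → t ∣ Nat.card P → t ∈ π := by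
  intro t ht hd
  haveI := Fact.mk ht
  obtain ⟨x, hx⟩ := exists_prime_orderOf_dvd_card' t hd
  rw [eq_of_mem_pgroup hp ht hP x.2 (by rw [Subgroup.orderOf_coe]; exact hx)]
  exact hπ

theorem rank2_of_mem {p : ℕ} {H : Subgroup X} {a b : X} (ha : a ∈ H) (hb : b ∈ H)
    (hao : orderOf a = p) (hbo : orderOf b = p) (hab : Commute a b) (hba : b ∉ zpowers a) :
    Rank2 p H := by
  refine ⟨⟨a, ha⟩, ⟨b, hb⟩, mem_top _, mem_top _, by rw [Subgroup.orderOf_mk, hao],
    by rw [Subgroup.orderOf_mk, hbo], Subtype.ext hab.eq, fun h => hba ?_⟩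
  obtain ⟨k, hk⟩ := mem_zpowers_iff.mp h
  exact mem_zpowers_iff.mpr ⟨k, congrArg Subtype.val hk⟩

theorem rankTwo_of_rank2 {p : ℕ} {H : Subgroup X} (h : Rank2 p H) : RankTwo p H := by
  obtain ⟨a, b, -, -, ha, hb, hab, hba⟩ := h
  refine ⟨a, b, a.2, b.2, by rw [Subgroup.orderOf_coe, ha], by rw [Subgroup.orderOf_coe, hb],
    hab.map H.subtype, fun h => hba ?_⟩
  obtain ⟨k, hk⟩ := mem_zpowers_iff.mp h
  exact mem_zpowers_iff.mpr ⟨k, Subtype.ext (by simpa using hk)⟩

theorem rank2_piHall [Group.IsSolvable X] {π : Set ℕ} {K : Subgroup X} (hK : Cfsg.IsPiHall π K)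
    {p : ℕ} [Fact p.Prime] (hπ : p ∈ π) (h : Rank2 p X) : Rank2 p K := by
  obtain ⟨a, b, -, -, ha, hb, hab, hba⟩ := h
  obtain ⟨g, hg⟩ := CfsgLib.Core.exists_conj_le_piHall hK
    (primes_of_pgroup Fact.out (isPGroup_of_exp (P := closure ({a, b} : Set X))
      (closure_pair_pow hab (ha ▸ pow_orderOf_eq_one a) (hb ▸ pow_orderOf_eq_one b))) hπ)
  have hmem : ∀ x ∈ closure ({a, b} : Set X), MulAut.conj g x ∈ K := fun x hx =>
    hg (Subgroup.smul_mem_pointwise_smul x (MulAut.conj g) _ hx)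
  refine rank2_of_mem (hmem a (subset_closure (by simp))) (hmem b (subset_closure (by simp)))
    (by rw [MulEquiv.orderOf_eq, ha]) (by rw [MulEquiv.orderOf_eq, hb])
    (hab.map (MulAut.conj g).toMonoidHom) fun h => hba ?_
  obtain ⟨k, hk⟩ := mem_zpowers_iff.mp h
  exact mem_zpowers_iff.mpr ⟨k, (MulAut.conj g).injective (by rw [map_zpow]; exact hk)⟩

/-- A `p`-group of odd order without rank two is cyclic. -/
theorem isCyclic_of_no_rankTwo {p : ℕ} [Fact p.Prime] (hp2 : p ≠ 2) {P : Subgroup X}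
    (hP : IsPGroup p P) (hno : ¬ RankTwo p P) : IsCyclic P := by
  by_cases hbot : P = ⊥
  · rw [hbot]; infer_instance
  haveI : Nontrivial P := (nontrivial_iff_ne_bot P).mpr hbot
  haveI := hP.center_nontrivial
  obtain ⟨z, hz1⟩ := exists_ne (1 : center P)
  obtain ⟨k, hk⟩ := exists_pow_orderOf (P := (center P)) (hP.to_subgroup _) z.2
    (fun h => hz1 (Subtype.ext h))
  set c : P := (z : P) ^ k
  have hcc : ∀ x : P, Commute c x := fun x =>
    (show Commute (z : P) x from ((mem_center_iff.mp z.2) x).symm).pow_left k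
  have key : ∀ x : P, orderOf x = p → x ∈ zpowers c := by
    intro x hx
    by_contra hxc
    refine hno (rankTwo_of_rank2 ⟨c, x, mem_top _, mem_top _, hk, hx, hcc x, hxc⟩)
  have hle : ∀ A : Subgroup P, Nat.card A = p → A = zpowers c := by
    intro A hA
    obtain ⟨x, hx⟩ := exists_prime_orderOf_dvd_card' (G := A) p (by rw [hA])
    refine eq_of_le_of_card_ge ?_ (by rw [hA, Nat.card_zpowers, hk])
    have hA1 : A = zpowers (x : P) := (eq_of_le_of_card_ge (zpowers_le.mpr x.2)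
      (by rw [hA, Nat.card_zpowers, Subgroup.orderOf_coe, hx])).symm
    rw [hA1, zpowers_le]
    exact key x (by rw [Subgroup.orderOf_coe, hx])
  rcases CfsgLib.Core.UniqueOrderP.isCyclic_or_quaternion_of_unique hP
    (fun A B hA hB => (hle A hA).trans (hle B hB).symm) with h | h
  · exact h
  · exact absurd h.1 hp2

theorem comm_centralizes_cyclic {P : Subgroup X} [hPn : P.Normal] [hc : IsCyclic P] (x y : X) :
    ∀ v ∈ P, Commute (x * y * x⁻¹ * y⁻¹) v := by
  obtain ⟨c, hgen⟩ := IsCyclic.exists_generator (α := P)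
  intro v hv
  have hpow : ∀ w ∈ P, ∃ i : ℤ, w = (c : X) ^ i := fun w hw => by
    obtain ⟨i, hi⟩ := mem_zpowers_iff.mp (hgen ⟨w, hw⟩)
    exact ⟨i, (congrArg Subtype.val hi).symm.trans (by simp)⟩
  obtain ⟨i, hi⟩ := hpow _ (hPn.conj_mem c c.2 x)
  obtain ⟨j, hj⟩ := hpow _ (hPn.conj_mem c c.2 y)
  have hxy : x * y * (c : X) * (x * y)⁻¹ = y * x * c * (y * x)⁻¹ := by
    calc x * y * (c : X) * (x * y)⁻¹ = x * (y * c * y⁻¹) * x⁻¹ := by group
      _ = (x * c * x⁻¹) ^ j := by rw [hj, conj_zpow]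
      _ = (c : X) ^ (i * j) := by rw [hi, ← zpow_mul]
      _ = (y * c * y⁻¹) ^ i := by rw [hj, ← zpow_mul, mul_comm]
      _ = y * (c : X) ^ i * y⁻¹ := by rw [conj_zpow]
      _ = y * (x * c * x⁻¹) * y⁻¹ := by rw [hi]
      _ = _ := by group
  obtain ⟨k, rfl⟩ := hpow v hv
  refine Commute.zpow_right ?_ k
  obtain ⟨l, hl⟩ := hpow _ (hPn.conj_mem c c.2 (y * x)⁻¹)
  have hgc : Commute ((y * x)⁻¹ * (x * y)) (c : X) := by
    rw [commute_iff_eq, ← mul_inv_eq_iff_eq_mul]
    calc (y * x)⁻¹ * (x * y) * (c : X) * ((y * x)⁻¹ * (x * y))⁻¹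
        = (y * x)⁻¹ * (x * y * c * (x * y)⁻¹) * (y * x) := by group
      _ = (c : X) := by rw [hxy]; group
  have h := congrArg (fun t => (y * x) * t * (y * x)⁻¹)
    ((hgc.zpow_right l).eq)
  have hl' : y * x * (c : X) ^ l * (y * x)⁻¹ = c := by rw [← hl]; group
  rw [commute_iff_eq]
  calc x * y * x⁻¹ * y⁻¹ * (c : X)
      = y * x * ((y * x)⁻¹ * (x * y) * (c : X) ^ l) * (y * x)⁻¹ := by
        conv_lhs => rw [← hl']
        group
    _ = y * x * ((c : X) ^ l * ((y * x)⁻¹ * (x * y))) * (y * x)⁻¹ := h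
    _ = y * x * (c : X) ^ l * (y * x)⁻¹ * (x * y * x⁻¹ * y⁻¹) := by group
    _ = _ := by rw [hl']

/-- An element of prime order fixing the elements of order `q` of an abelian `q`-group centralises it. -/
theorem commute_of_fixes_omega {q s : ℕ} [Fact q.Prime] [Fact s.Prime] (hne : s ≠ q) {P : Subgroup X}
    [hPn : P.Normal] (hP : IsPGroup q P) (hab : ∀ u ∈ P, ∀ v ∈ P, u * v = v * u) {f : X}
    (hf : orderOf f = s) (hfix : ∀ u ∈ P, orderOf u = q → Commute f u) : ∀ v ∈ P, Commute f v := by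
  have hfs : f ^ s = 1 := hf ▸ pow_orderOf_eq_one f
  letI := commGroupOf P hab
  let E : P →* P :=
    { toFun := fun v => MulAut.conjNormal f v * v⁻¹
      map_one' := by simp
      map_mul' := fun u v => by
        show MulAut.conjNormal f (u * v) * (u * v)⁻¹ =
          MulAut.conjNormal f u * u⁻¹ * (MulAut.conjNormal f v * v⁻¹)
        rw [map_mul, mul_inv, mul_mul_mul_comm] }
  have hfixed : ∀ v : P, MulAut.conjNormal f (E v) = E v → E v = 1 := by
    intro v hv
    have h : ∀ i : ℕ, (MulAut.conjNormal (H := P) (f ^ i)) v = E v ^ i * v := by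
      intro i
      induction i with
      | zero => simp
      | succ i ih =>
        rw [pow_succ', map_mul, MulAut.mul_apply, ih, map_mul, map_pow, hv, pow_succ, mul_assoc]
        congr 1
        exact (inv_mul_cancel_right _ _).symm
    have h' := h s
    rw [hfs, map_one, MulAut.one_apply, eq_comm, mul_eq_right] at h'
    refine orderOf_eq_one_iff.mp (Nat.eq_one_of_dvd_coprimes
      (pgroup_coprime Fact.out Fact.out hne hP) (orderOf_dvd_natCard _) (orderOf_dvd_of_pow_eq_one h'))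
  intro v hv
  by_contra hne'
  have hE : E ⟨v, hv⟩ ≠ 1 := by
    intro h
    apply hne'
    have h1 := congrArg Subtype.val h
    simp [E] at h1
    exact mul_inv_eq_iff_eq_mul.mp (mul_inv_eq_one.mp h1)
  obtain ⟨k, hk⟩ := exists_pow_orderOf hP (E ⟨v, hv⟩).2 fun h => hE (Subtype.ext h)
  have hmem : ((E ⟨v, hv⟩ ^ k : P) : X) = ((E ⟨v, hv⟩ : P) : X) ^ k := SubgroupClass.coe_pow _ _
  have hc := hfix _ (E ⟨v, hv⟩ ^ k : P).2 (by rw [hmem, hk])
  have h2 := hfixed (⟨v, hv⟩ ^ k) (by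
    rw [map_pow]
    refine Subtype.ext ?_
    rw [MulAut.conjNormal_apply, hc.eq, mul_inv_cancel_right])
  rw [map_pow] at h2
  rw [← hmem, h2] at hk
  simp only [OneMemClass.coe_one, orderOf_one] at hk
  exact (Fact.out : q.Prime).ne_one hk.symm

end Tools

variable {H : Type*} [Group H] [Finite H] [Group.IsSolvable H] {M : Type*} [CommGroup M] [Finite M]
  [Nontrivial M] (φ : H →* MulAut M)

/-- The hypotheses on three primes. -/
structure Setup (p q s : ℕ) : Prop where
  hp : p.Prime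
  hq : q.Prime
  hs : s.Prime
  pq : p ≠ q
  ps : p ≠ s
  qs : q ≠ s
  primes : ∀ t : ℕ, t.Prime → t ∣ Nat.card H → t = p ∨ t = q ∨ t = s
  inj : Function.Injective φ
  cop : (Nat.card M).Coprime (Nat.card H)
  rp : Rank2 p H
  rq : Rank2 q H
  rs : Rank2 s H
  isolated : ∀ (x y z : H) (a b c : ℕ), a.Prime → b.Prime → c.Prime → a ≠ b → a ≠ c → b ≠ c →
    orderOf x = a → orderOf y = b → orderOf z = c → Commute x y → Commute x z → ¬ Fix φ x
  noCommon : NoCommon φ
  noTriple : ∀ (x y z : H) (a b c : ℕ), a.Prime → b.Prime → c.Prime → a ≠ b → a ≠ c → b ≠ c →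
    orderOf x = a → orderOf y = b → orderOf z = c → Commute x y → Commute x z → Commute y z → False

namespace Setup

variable {φ} {p q s : ℕ}

theorem swap12 (S : Setup φ p q s) : Setup φ q p s :=
  ⟨S.hq, S.hp, S.hs, S.pq.symm, S.qs, S.ps, fun t h h' => or_left_comm.mp (S.primes t h h'), S.inj,
    S.cop, S.rq, S.rp, S.rs, S.isolated, S.noCommon, S.noTriple⟩

theorem swap23 (S : Setup φ p q s) : Setup φ p s q :=
  ⟨S.hp, S.hs, S.hq, S.ps, S.pq, S.qs.symm,
    fun t h h' => (S.primes t h h').elim Or.inl fun h'' => Or.inr h''.symm, S.inj,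
    S.cop, S.rp, S.rs, S.rq, S.isolated, S.noCommon, S.noTriple⟩

/-- The Hall subgroup of the last two primes. -/
theorem exists_hall (S : Setup φ p q s) : ∃ K : Subgroup H,
    Cfsg.IsPiHall {t | t = q ∨ t = s} K ∧ (∀ t : ℕ, t.Prime → t ∣ Nat.card K → t = q ∨ t = s) ∧
      Rank2 q K ∧ Rank2 s K := by
  haveI := Fact.mk S.hq
  haveI := Fact.mk S.hs
  obtain ⟨K, hK⟩ := CfsgLib.Core.exists_piHall (G := H) {t | t = q ∨ t = s}
  exact ⟨K, hK, fun t ht hd => hK.1 t ht hd, rank2_piHall hK (Or.inl rfl) S.rq,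
    rank2_piHall hK (Or.inr rfl) S.rs⟩

theorem fix_of_two (S : Setup φ 2 q s) {t : H} (ht : orderOf t = 2) : Fix φ t := by
  by_contra hf
  haveI := Fact.mk S.hq
  haveI := Fact.mk S.hs
  have hcen := commute_of_fpf_involution S.inj (ht ▸ pow_orderOf_eq_one t) hf
  obtain ⟨K, hK, hpr, hKq, hKs⟩ := S.exists_hall
  refine not_isolated (φ.comp K.subtype) (S.inj.comp K.subtype_injective)
    (S.cop.coprime_dvd_right (card_subgroup_dvd_card K)) S.qs hpr hKq hKs ?_
  intro x y a b ha hb hab hx hy hxy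
  have key : ∀ r : ℕ, r ∣ Nat.card K → r.Prime → r ≠ 2 := by
    rintro r hd hr rfl
    rcases hpr 2 hr hd with h | h
    · exact S.pq h
    · exact S.ps h
  refine S.isolated x y t a b 2 ha hb Nat.prime_two hab (key a (hx ▸ orderOf_dvd_natCard x) ha)
    (key b (hy ▸ orderOf_dvd_natCard y) hb) (by rw [Subgroup.orderOf_coe, hx])
    (by rw [Subgroup.orderOf_coe, hy]) ht (hxy.map K.subtype) (hcen (x : H)).symm

/-- A normal elementary abelian `p`-group on which the Hall subgroup acts faithfully. -/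
theorem false_of_faithful (S : Setup φ p q s) {W : Subgroup H} [hWn : W.Normal]
    (hWc : ∀ u ∈ W, ∀ v ∈ W, u * v = v * u) (hexp : ∀ u ∈ W, u ^ p = 1) (hW : W ≠ ⊥)
    {K : Subgroup H} (hpr : ∀ t : ℕ, t.Prime → t ∣ Nat.card K → t = q ∨ t = s) (hKq : Rank2 q K)
    (hKs : Rank2 s K)
    (hfaith : ∀ x ∈ K, (orderOf x).Prime → ¬ ∀ w ∈ W, Commute x w) : False := by
  haveI := Fact.mk S.hp; haveI := Fact.mk S.hq; haveI := Fact.mk S.hs
  letI := commGroupOf W hWc
  haveI : Nontrivial W := (nontrivial_iff_ne_bot W).mpr hW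
  set ψ : K →* MulAut W := (MulAut.conjNormal (H := W)).comp K.subtype
  have hker : ∀ x : K, ψ x = 1 → ∀ w ∈ W, Commute (x : H) w := fun x hx w hw => by
    have h := congrArg Subtype.val (DFunLike.congr_fun hx ⟨w, hw⟩)
    simp [ψ] at h
    exact mul_inv_eq_iff_eq_mul.mp h
  have hinj : Function.Injective ψ := by
    rw [← MonoidHom.ker_eq_bot_iff]
    by_contra hk
    haveI : Nontrivial ψ.ker := (nontrivial_iff_ne_bot _).mpr hk
    obtain ⟨a, ha, hd⟩ := Nat.exists_prime_and_dvd (Finite.one_lt_card (α := ψ.ker)).ne'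
    haveI := Fact.mk ha
    obtain ⟨x, hx⟩ := exists_prime_orderOf_dvd_card' a hd
    refine hfaith ((x : K) : H) (x : K).2 ?_ (hker x x.2)
    rw [Subgroup.orderOf_coe, Subgroup.orderOf_coe, hx]
    exact ha
  have hnp : ∀ r : ℕ, r.Prime → r ∣ Nat.card K → r ≠ p := by
    rintro r hr hd rfl
    exact (hpr r hr hd).elim S.pq S.ps
  refine not_isolated ψ hinj (Nat.coprime_of_dvd fun r hr h1 h2 => ?_) S.qs hpr hKq hKs ?_
  · exact hr.ne_one (Nat.eq_one_of_dvd_coprimes (coprime_card_of_exp hexp hr (hnp r hr h2)) h1 dvd_rfl)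
  · intro x y a b ha hb hab hx hy hxy hfix
    haveI := Fact.mk ha
    obtain ⟨w, hw1, hw⟩ := hfix
    have hwo : orderOf (w : H) = p := orderOf_eq_prime (hexp w w.2) fun h => hw1 (Subtype.ext h)
    have hcw : Commute (x : H) w := by
      have h := congrArg Subtype.val hw
      simp [ψ] at h
      exact mul_inv_eq_iff_eq_mul.mp h
    have hxo : orderOf (x : H) = a := by rw [Subgroup.orderOf_coe, hx]
    have hap := hnp a ha (hx ▸ orderOf_dvd_natCard x)
    have hnf := S.isolated x y w a b p ha hb S.hp hab hap (hnp b hb (hy ▸ orderOf_dvd_natCard y)) hxo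
      (by rw [Subgroup.orderOf_coe, hy]) hwo (hxy.map K.subtype) hcw
    refine hfaith x x.2 (by rw [hxo]; exact ha) ?_
    exact commute_of_fpf_abelian φ hxo hnf W (fun v hv => hWn.conj_mem v hv _)
      (fun v _ hv => S.inj (MulEquiv.ext fun m => by rw [map_one]; exact hv m))
      (coprime_card_of_exp hexp ha hap) (S.cop.coprime_dvd_right (card_subgroup_dvd_card _)) hWc

theorem false_of_two_core (S : Setup φ 2 q s) (hO : Cfsg.pCore 2 H ≠ ⊥) : False := by
  haveI := Fact.mk S.hq; haveI := Fact.mk S.hs; haveI := Fact.mk Nat.prime_two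
  obtain ⟨W, hWn, hWle, hW1, hexp, hWc⟩ := exists_elementary_pCore 2 hO
  haveI := hWn
  have hcW : ∀ u ∈ W, ∀ v ∈ W, u * v = v * u := fun u hu v hv => hWc u hu v (hWle hv)
  obtain ⟨K, -, hpr, hKq, hKs⟩ := S.exists_hall
  refine S.false_of_faithful hcW hexp hW1 hpr hKq hKs fun x hx hxp hcom => ?_
  haveI := Fact.mk hxp
  have hd : orderOf x ∣ Nat.card K := by
    rw [← Subgroup.orderOf_mk x hx]; exact orderOf_dvd_natCard _
  obtain ⟨b, hb, hab, hb2, hE⟩ : ∃ b : ℕ, b.Prime ∧ orderOf x ≠ b ∧ 2 ≠ b ∧ Rank2 b H := by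
    rcases hpr _ hxp hd with h | h
    · exact ⟨s, S.hs, h ▸ S.qs, S.ps, S.rs⟩
    · exact ⟨q, S.hq, h ▸ S.qs.symm, S.pq, S.rq⟩
  haveI := Fact.mk hb
  obtain ⟨c, d, -, -, hc, hd', hcd, hdc⟩ := hE
  obtain ⟨e, -, he, w, hw, hwo, hew⟩ := exists_commute_pair hb2.symm hcW hexp hW1 hc hd' hcd hdc
  have hx2 : (2 : ℕ) ≠ orderOf x := fun h => (hpr _ hxp hd).elim (h.trans · |> S.pq) (h.trans · |> S.ps)
  exact S.isolated w x e 2 (orderOf x) b Nat.prime_two hxp hb hx2 hb2 hab hwo rfl he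
    (hcom w hw).symm hew.symm (S.fix_of_two hwo)

theorem false_of_one_core (S : Setup φ p q s) (hp2 : p ≠ 2) (hO : Cfsg.pCore p H ≠ ⊥)
    (hq : Cfsg.pCore q H = ⊥) (hs : Cfsg.pCore s H = ⊥) : False := by
  haveI := Fact.mk S.hp; haveI := Fact.mk S.hq; haveI := Fact.mk S.hs
  have hbot := pPrimeCore_eq_bot (X := H) (p := p) S.hp fun t ht htp hd => by
    rcases S.primes t ht hd with rfl | rfl | rfl
    · exact absurd rfl htp
    · exact hq
    · exact hs
  have hfix : ∀ (x : H) (r : ℕ), r.Prime → r ≠ p → orderOf x = r → Fix φ x := by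
    intro x r hr hrp hx
    by_contra hf
    haveI := Fact.mk hr
    exact hrp (eq_of_mem_pgroup S.hp hr (CfsgLib.Core.isPGroup_pCore p H)
      (CfsgLib.Core.centralizer_pCore_le_of_pPrimeCore_eq_bot hbot (mem_centralizer_of_core
        (commute_pCore_of_fpf φ S.inj S.cop hrp hp2 hx hf))) hx)
  obtain ⟨W, hWn, hWle, hW1, hexp, hWc⟩ := exists_elementary_pCore p hO
  haveI := hWn
  have hcW : ∀ u ∈ W, ∀ v ∈ W, u * v = v * u := fun u hu v hv => hWc u hu v (hWle hv)
  obtain ⟨K, -, hpr, hKq, hKs⟩ := S.exists_hall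
  refine S.false_of_faithful hcW hexp hW1 hpr hKq hKs fun x hx hxp hcom => ?_
  -- an elementary normal subgroup of the Hall subgroup centralising `W`
  let C : Subgroup K := (centralizer (W : Set H)).subgroupOf K
  haveI : C.Normal := Normal.subgroupOf inferInstance K
  have hC : C ≠ ⊥ := fun h => by
    have : (⟨x, hx⟩ : K) ∈ C := mem_centralizer_of_core hcom
    rw [h, mem_bot] at this
    have := congrArg (fun z : K => orderOf (z : H)) this
    simp only [OneMemClass.coe_one, orderOf_one] at this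
    exact hxp.ne_one this
  obtain ⟨a, U, ha, hUn, hUle, hU1, hUexp, hUc⟩ := exists_elementary_le C hC
  haveI := Fact.mk ha
  haveI := hUn
  obtain ⟨b, hb, hab, hap, hbp, hE⟩ : ∃ b : ℕ, b.Prime ∧ a ≠ b ∧ a ≠ p ∧ b ≠ p ∧ Rank2 b K := by
    rcases hpr a ha (prime_dvd_card_of_exp hUexp hU1) with rfl | rfl
    · exact ⟨s, S.hs, S.qs, S.pq.symm, S.ps.symm, hKs⟩
    · exact ⟨q, S.hq, S.qs.symm, S.ps.symm, S.pq.symm, hKq⟩
  haveI := Fact.mk hb
  obtain ⟨c, d, -, -, hc, hd, hcd, hdc⟩ := hE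
  obtain ⟨e, -, he, u, hu, huo, heu⟩ := exists_commute_pair hab.symm hUc hUexp hU1 hc hd hcd hdc
  obtain ⟨w, hw, hwo⟩ := exists_orderOf_of_ne_bot hexp hW1
  have huo' : orderOf (u : H) = a := by rw [Subgroup.orderOf_coe, huo]
  exact S.isolated (u : H) e w a b p ha hb S.hp hab hap hbp huo'
    (by rw [Subgroup.orderOf_coe, he]) hwo (heu.symm.map K.subtype)
    (mem_centralizer_iff.mp (hUle hu) w hw).symm (hfix _ a ha hap huo')

end Setup

end CfsgLib.PGroups.FixRank
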