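import Mathlib
import Cfsg.Agent.Lib.PLocal.PLength

/-!
# `p`-length through alternating series

* `pLengthLE_iff_series`: `G` has `p`-length at most `k` iff it has an alternating normal series
  `⊥ = T 0 ≤ … ≤ T (2 k + 1) = ⊤` (first step prime to `p`, next a power of `p`, and so on)
* `pLengthLE_of_surjective`, `pLengthLE_mono`, `pLengthLE_of_iInf` (subdirect products),
  `pLengthLE_shift`, `pLengthLE_unshift` (the quotient by the second term of the series)
-/

set_option autoImplicit false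
set_option linter.all false

namespace CfsgLib.PGroups.PSeries

open CfsgLib.Core

variable {G : Type*} [Group G] {p : ℕ}

/-- An alternating normal series starting at `⊥`. -/
structure IsAlt (p n : ℕ) (T : ℕ → Subgroup G) : Prop where
  zero : T 0 = ⊥
  normal : ∀ j, (T j).Normal
  mono : ∀ j < n, T j ≤ T (j + 1)
  cop : ∀ j < n, Even j → ((T j).relIndex (T (j + 1))).Coprime p
  pow : ∀ j < n, Odd j → ∃ m, (T j).relIndex (T (j + 1)) = p ^ m

theorem card_map_mk' (U : Subgroup G) [U.Normal] (W : Subgroup G) :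
    Nat.card (W.map (QuotientGroup.mk' U)) = U.relIndex W := by
  have h := Subgroup.relIndex_ker (QuotientGroup.mk' U) (K := W)
  rw [QuotientGroup.ker_mk'] at h
  exact h.symm

theorem upper_isAlt [Finite G] [Fact p.Prime] (n : ℕ) :
    IsAlt p n (fun j => (Cfsg.upperPSeries p G j).1) := by
  refine ⟨rfl, fun j => inferInstance, fun j _ => CfsgLib.PLocal.upper_succ_ge j, ?_, ?_⟩
  · rintro j - ⟨k, rfl⟩
    show ((Cfsg.upperPSeries p G (k + k)).1.relIndex (Cfsg.upperPSeries p G (k + k + 1)).1).Coprime p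
    rw [← card_map_mk', show k + k = 2 * k by ring, CfsgLib.PLocal.upper_odd,
      Subgroup.map_comap_eq_self_of_surjective (QuotientGroup.mk'_surjective _)]
    exact coprime_card_pPrimeCore p _
  · rintro j - ⟨k, rfl⟩
    obtain ⟨m, hm⟩ := IsPGroup.iff_card.mp
      (isPGroup_pCore p (G ⧸ (Cfsg.upperPSeries p G (2 * k + 1)).1))
    refine ⟨m, ?_⟩
    show (Cfsg.upperPSeries p G (2 * k + 1)).1.relIndex (Cfsg.upperPSeries p G (2 * k + 2)).1 = p ^ m
    rw [← card_map_mk', CfsgLib.PLocal.upper_even,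
      Subgroup.map_comap_eq_self_of_surjective (QuotientGroup.mk'_surjective _), hm]

theorem le_upper [Finite G] [Fact p.Prime] {n : ℕ} {T : ℕ → Subgroup G} (hT : IsAlt p n T) :
    ∀ j ≤ n, T j ≤ (Cfsg.upperPSeries p G j).1 := by
  intro j
  induction j with
  | zero => intro _; rw [hT.zero]; exact bot_le
  | succ j ih =>
    intro hj
    have hle := ih (by omega)
    haveI := hT.normal (j + 1)
    set U := (Cfsg.upperPSeries p G j).1 with hU
    haveI : ((T (j + 1)).map (QuotientGroup.mk' U)).Normal :=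
      Subgroup.Normal.map inferInstance _ (QuotientGroup.mk'_surjective U)
    have hdvd : Nat.card ((T (j + 1)).map (QuotientGroup.mk' U)) ∣ (T j).relIndex (T (j + 1)) := by
      rw [card_map_mk']; exact Subgroup.relIndex_dvd_of_le_left _ hle
    rcases Nat.even_or_odd' j with ⟨k, rfl | rfl⟩
    · rw [CfsgLib.PLocal.upper_odd]
      exact Subgroup.map_le_iff_le_comap.mp
        (le_pPrimeCore ((hT.cop _ (by omega) (even_two_mul k)).coprime_dvd_left hdvd))
    · rw [CfsgLib.PLocal.upper_even]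
      obtain ⟨m, hm⟩ := hT.pow _ (by omega) (odd_two_mul_add_one k)
      obtain ⟨m', -, hm'⟩ := (Nat.dvd_prime_pow Fact.out).mp (hm ▸ hdvd)
      exact Subgroup.map_le_iff_le_comap.mp (le_pCore (IsPGroup.of_card hm'))

theorem pLengthLE_iff_series [Finite G] [Fact p.Prime] {k : ℕ} :
    Cfsg.PLengthLE p k G ↔ ∃ T, IsAlt (G := G) p (2 * k + 1) T ∧ T (2 * k + 1) = ⊤ :=
  ⟨fun h => ⟨_, upper_isAlt _, h⟩, fun ⟨T, hT, htop⟩ => top_le_iff.mp (htop ▸ le_upper hT _ le_rfl)⟩

theorem isAlt_map [Fact p.Prime] {H : Type*} [Group H] {n : ℕ} {T : ℕ → Subgroup G} (hT : IsAlt p n T) (f : G →* H)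
    (hf : Function.Surjective f) : IsAlt p n (fun j => (T j).map f) := by
  have hdvd : ∀ j, ((T j).map f).relIndex ((T (j + 1)).map f) ∣ (T j).relIndex (T (j + 1)) := fun j => by
    rw [← Subgroup.relIndex_comap, Subgroup.comap_map_eq]
    exact Subgroup.relIndex_dvd_of_le_left _ le_sup_left
  refine ⟨by rw [hT.zero]; exact Subgroup.map_bot f, fun j => (hT.normal j).map f hf,
    fun j hj => Subgroup.map_mono (hT.mono j hj),
    fun j hj he => (hT.cop j hj he).coprime_dvd_left (hdvd j), fun j hj ho => ?_⟩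
  obtain ⟨m, hm⟩ := hT.pow j hj ho
  obtain ⟨m', -, hm'⟩ := (Nat.dvd_prime_pow Fact.out).mp (hm ▸ hdvd j)
  exact ⟨m', hm'⟩

theorem pLengthLE_of_surjective [Finite G] [Fact p.Prime] {H : Type*} [Group H] [Finite H] {k : ℕ}
    (f : G →* H) (hf : Function.Surjective f) (h : Cfsg.PLengthLE p k G) : Cfsg.PLengthLE p k H := by
  obtain ⟨T, hT, htop⟩ := pLengthLE_iff_series.mp h
  refine pLengthLE_iff_series.mpr ⟨_, isAlt_map hT f hf, ?_⟩
  show (T (2 * k + 1)).map f = ⊤
  rw [htop, Subgroup.map_top_of_surjective f hf]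

theorem upper_mono (p : ℕ) {i j : ℕ} (h : i ≤ j) :
    (Cfsg.upperPSeries p G i).1 ≤ (Cfsg.upperPSeries p G j).1 :=
  monotone_nat_of_le_succ (f := fun j => (Cfsg.upperPSeries p G j).1)
    (fun j => CfsgLib.PLocal.upper_succ_ge j) h

theorem pLengthLE_mono {k l : ℕ} (hkl : k ≤ l) (h : Cfsg.PLengthLE p k G) : Cfsg.PLengthLE p l G :=
  top_le_iff.mp (h.ge.trans (upper_mono p (by omega)))

theorem relIndex_inf_dvd_mul (A B C : Subgroup G) [A.Normal] [B.Normal] :
    (A ⊓ B).relIndex C ∣ A.relIndex C * B.relIndex C := by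
  have h1 : (A ⊓ B ⊓ C).relIndex (A ⊓ C) * (A ⊓ C).relIndex C = (A ⊓ B ⊓ C).relIndex C :=
    Subgroup.relIndex_mul_relIndex _ _ _ (le_inf (inf_le_left.trans inf_le_left) inf_le_right) inf_le_right
  rw [Subgroup.inf_relIndex_right, Subgroup.inf_relIndex_right] at h1
  rw [← h1, mul_comm (A.relIndex C)]
  refine Nat.mul_dvd_mul_right ?_ _
  rw [show A ⊓ B ⊓ C = B ⊓ (A ⊓ C) by rw [inf_comm A B, inf_assoc], Subgroup.inf_relIndex_right]
  exact CfsgLib.PLocal.relIndex_dvd_of_normal_le (A := B) (A ⊓ C) inf_le_right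

theorem relIndex_finset_inf_dvd {ι : Type*} (s : Finset ι) (A : ι → Subgroup G) (hA : ∀ i, (A i).Normal)
    (C : Subgroup G) : (s.inf A).relIndex C ∣ ∏ i ∈ s, (A i).relIndex C ∧ (s.inf A).Normal := by
  classical
  induction s using Finset.induction_on with
  | empty => rw [Finset.inf_empty, Finset.prod_empty, Subgroup.relIndex_top_left]; exact ⟨dvd_rfl, inferInstance⟩
  | insert i s hi ih =>
    haveI := ih.2
    haveI := hA i
    rw [Finset.inf_insert, Finset.prod_insert hi]
    exact ⟨(relIndex_inf_dvd_mul _ _ C).trans (Nat.mul_dvd_mul_left _ ih.1), Subgroup.normal_inf_normal _ _⟩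

theorem pLengthLE_of_iInf [Finite G] [Fact p.Prime] {ι : Type*} [Fintype ι] (N : ι → Subgroup G)
    [hN : ∀ i, (N i).Normal] (hbot : Finset.univ.inf N = ⊥) {k : ℕ}
    (h : ∀ i, Cfsg.PLengthLE p k (G ⧸ N i)) : Cfsg.PLengthLE p k G := by
  let U : ι → ℕ → Subgroup G := fun i j =>
    ((Cfsg.upperPSeries p (G ⧸ N i) j).1).comap (QuotientGroup.mk' (N i))
  have hUn : ∀ i j, (U i j).Normal := fun i j => Subgroup.Normal.comap inferInstance _
  have hUrel : ∀ i j, (U i j).relIndex (U i (j + 1)) =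
      (Cfsg.upperPSeries p (G ⧸ N i) j).1.relIndex (Cfsg.upperPSeries p (G ⧸ N i) (j + 1)).1 := fun i j => by
    rw [Subgroup.relIndex_comap, Subgroup.map_comap_eq_self_of_surjective (QuotientGroup.mk'_surjective _)]
  have hdvd : ∀ j, (Finset.univ.inf (U · j)).relIndex (Finset.univ.inf (U · (j + 1))) ∣
      ∏ i, (U i j).relIndex (U i (j + 1)) := fun j => by
    refine (relIndex_finset_inf_dvd _ _ (fun i => hUn i j) _).1.trans (Finset.prod_dvd_prod_of_dvd _ _ fun i _ => ?_)
    haveI := hUn i j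
    exact CfsgLib.PLocal.relIndex_dvd_of_normal_le _ (Finset.inf_le (Finset.mem_univ i))
  refine pLengthLE_iff_series.mpr ⟨fun j => Finset.univ.inf (U · j), ⟨?_, ?_, ?_, ?_, ?_⟩, ?_⟩
  · refine le_bot_iff.mp (le_trans (Finset.inf_mono_fun fun i _ => ?_) hbot.le)
    show ((Cfsg.upperPSeries p (G ⧸ N i) 0).1).comap (QuotientGroup.mk' (N i)) ≤ N i
    exact (QuotientGroup.ker_mk' (N i)).le
  · exact fun j => (relIndex_finset_inf_dvd _ _ (fun i => hUn i j) ⊤).2
  · exact fun j _ => Finset.inf_mono_fun fun i _ =>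
      Subgroup.comap_mono (CfsgLib.PLocal.upper_succ_ge j)
  · intro j hj he
    refine Nat.Coprime.coprime_dvd_left (hdvd j) (Nat.Coprime.prod_left fun i _ => ?_)
    rw [hUrel]; exact (upper_isAlt (j + 1)).cop j (by omega) he
  · intro j hj ho
    choose m hm using fun i => (upper_isAlt (G := G ⧸ N i) (p := p) (j + 1)).pow j (by omega) ho
    have hall : ∏ i, (U i j).relIndex (U i (j + 1)) = p ^ ∑ i, m i := by
      rw [← Finset.prod_pow_eq_pow_sum]; exact Finset.prod_congr rfl fun i _ => (hUrel i j).trans (hm i)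
    obtain ⟨m', -, hm'⟩ := (Nat.dvd_prime_pow Fact.out).mp (hall ▸ hdvd j)
    exact ⟨m', hm'⟩
  · refine top_le_iff.mp (Finset.le_inf fun i _ => ?_)
    show ⊤ ≤ ((Cfsg.upperPSeries p (G ⧸ N i) (2 * k + 1)).1).comap (QuotientGroup.mk' (N i))
    rw [show (Cfsg.upperPSeries p (G ⧸ N i) (2 * k + 1)).1 = ⊤ from h i, Subgroup.comap_top]

/-- The preimage of an alternating series of `G / U` (`U` the second term) continues the series. -/
theorem pLengthLE_shift [Finite G] [Fact p.Prime] {k : ℕ}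
    (h : Cfsg.PLengthLE p k (G ⧸ (Cfsg.upperPSeries p G 2).1)) : Cfsg.PLengthLE p (k + 1) G := by
  obtain ⟨T, hT, htop⟩ := pLengthLE_iff_series.mp h
  set π := QuotientGroup.mk' (Cfsg.upperPSeries p G 2).1
  let S : ℕ → Subgroup G := fun j => if j < 2 then (Cfsg.upperPSeries p G j).1 else (T (j - 2)).comap π
  have hS : ∀ j, S (j + 2) = (T j).comap π := fun j => by simp [S]
  have hS2 : S 2 = (Cfsg.upperPSeries p G 2).1 := by
    rw [hS 0, hT.zero, MonoidHom.comap_bot]; exact QuotientGroup.ker_mk' _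
  have hrel : ∀ j, (S (j + 2)).relIndex (S (j + 1 + 2)) = (T j).relIndex (T (j + 1)) := fun j => by
    rw [hS, hS, Subgroup.relIndex_comap, Subgroup.map_comap_eq_self_of_surjective (QuotientGroup.mk'_surjective _)]
  have hlow : ∀ j ≤ 2, S j = (Cfsg.upperPSeries p G j).1 := by
    intro j hj
    rcases Nat.lt_or_eq_of_le hj with h | rfl
    · exact if_pos h
    · exact hS2
  have hU := upper_isAlt (G := G) (p := p) 2
  refine pLengthLE_iff_series.mpr ⟨S, ⟨hlow 0 (by omega), ?_, ?_, ?_, ?_⟩, ?_⟩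
  · intro j
    simp only [S]
    split
    · infer_instance
    · exact (hT.normal _).comap _
  · intro j hj
    rcases j with _ | _ | j
    · rw [hlow 0 (by omega), hlow 1 (by omega)]; exact hU.mono 0 (by omega)
    · rw [hlow 1 (by omega), hlow 2 le_rfl]; exact hU.mono 1 (by omega)
    · rw [hS, show j + 2 + 1 = j + 1 + 2 from rfl, hS]; exact Subgroup.comap_mono (hT.mono j (by omega))
  · intro j hj he
    rcases j with _ | _ | j
    · rw [hlow 0 (by omega), hlow 1 (by omega)]; exact hU.cop 0 (by omega) he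
    · exact absurd he Nat.not_even_one
    · rw [show j + 1 + 1 + 1 = j + 1 + 2 from rfl, show j + 1 + 1 = j + 2 from rfl, hrel]
      exact hT.cop j (by omega) (by simpa [Nat.even_add_one] using he)
  · intro j hj ho
    rcases j with _ | _ | j
    · exact absurd ho Nat.not_odd_zero
    · rw [hlow 1 (by omega), hlow 2 le_rfl]; exact hU.pow 1 (by omega) ho
    · rw [show j + 1 + 1 + 1 = j + 1 + 2 from rfl, show j + 1 + 1 = j + 2 from rfl, hrel]
      exact hT.pow j (by omega) (by simpa [Nat.odd_add_one] using ho)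
  · show S (2 * k + 1 + 2) = ⊤
    rw [hS, htop, Subgroup.comap_top]

theorem pLengthLE_unshift [Finite G] [Fact p.Prime] {k : ℕ} (h : Cfsg.PLengthLE p (k + 1) G) :
    Cfsg.PLengthLE p k (G ⧸ (Cfsg.upperPSeries p G 2).1) := by
  have hT := isAlt_map (upper_isAlt (G := G) (p := p) (2 * k + 3))
    (QuotientGroup.mk' (Cfsg.upperPSeries p G 2).1) (QuotientGroup.mk'_surjective _)
  refine pLengthLE_iff_series.mpr ⟨fun j => ((Cfsg.upperPSeries p G (j + 2)).1).map
    (QuotientGroup.mk' (Cfsg.upperPSeries p G 2).1), ⟨?_, fun j => hT.normal _,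
      fun j hj => hT.mono (j + 2) (by omega), fun j hj he => hT.cop (j + 2) (by omega) (by simpa [Nat.even_add] using he),
      fun j hj ho => hT.pow (j + 2) (by omega) (by simpa [Nat.odd_add] using ho)⟩, ?_⟩
  · show ((Cfsg.upperPSeries p G 2).1).map (QuotientGroup.mk' _) = ⊥
    rw [Subgroup.map_eq_bot_iff, QuotientGroup.ker_mk']
  · show ((Cfsg.upperPSeries p G (2 * k + 1 + 2)).1).map (QuotientGroup.mk' _) = ⊤
    rw [show (Cfsg.upperPSeries p G (2 * k + 1 + 2)).1 = ⊤ from h,
      Subgroup.map_top_of_surjective _ (QuotientGroup.mk'_surjective _)]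

end CfsgLib.PGroups.PSeries
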