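import Mathlib
import Cfsg.Prelude.Def_Transfer
import Cfsg.Prelude.Def_KGroupFacts
import Cfsg.Agent.Lib.PGroups.Extraspecial
import Cfsg.Agent.Lib.Known.QuadClassify
import Cfsg.Agent.S5395

set_option autoImplicit false
set_option linter.unusedSectionVars false

/-!
The outer automorphism group of an extraspecial 2-group is the isometry group of its squaring form
(owner: helper18).
-/

namespace CfsgLib.PGroups.ExtraspecialOut

open Cfsg QuadraticMap
open scoped Matrix commutatorElement

attribute [local instance] Classical.propDecidable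

variable {E : Type*} [Group E]

/-- The parity attached to an element. -/
noncomputable def bit (u : E) : ZMod 2 := if u = 1 then 0 else 1

theorem bit_one : bit (1 : E) = 0 := if_pos rfl

theorem bit_eq_zero {u : E} : bit u = 0 ↔ u = 1 := by
  unfold bit
  split <;> rename_i h <;> simp [h]

theorem bit_map {F : Type*} [Group F] (f : E →* F) (hf : Function.Injective f) (u : E) :
    bit (f u) = bit u := by
  unfold bit
  simp only [map_eq_one_iff f hf]

/-- `E` modulo its centre, written additively. -/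
abbrev V (E : Type*) [Group E] : Type _ := Additive (E ⧸ Subgroup.center E)

/-- The projection. -/
def proj (x : E) : V E := Additive.ofMul (x : E ⧸ Subgroup.center E)

theorem proj_mul (x y : E) : proj (x * y) = proj x + proj y := rfl

theorem proj_one : proj (1 : E) = 0 := rfl

theorem proj_surjective : Function.Surjective (proj : E → V E) := fun v => by
  obtain ⟨x, hx⟩ := QuotientGroup.mk_surjective (Additive.toMul v)
  exact ⟨x, congrArg Additive.ofMul hx⟩

theorem proj_eq_zero {x : E} : proj x = 0 ↔ x ∈ Subgroup.center E := by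
  rw [← QuotientGroup.eq_one_iff (N := Subgroup.center E)]
  exact Iff.rfl

theorem proj_eq_proj {x y : E} : proj x = proj y ↔ x⁻¹ * y ∈ Subgroup.center E := by
  rw [← QuotientGroup.eq]
  exact Iff.rfl

section

variable [Finite E] (hE : IsExtraspecial 2 E)
include hE

theorem center_two {u v : E} (hu : u ∈ Subgroup.center E) (hv : v ∈ Subgroup.center E)
    (hu1 : u ≠ 1) (hv1 : v ≠ 1) : u = v := by
  obtain ⟨a, b, -, huniv⟩ := (Nat.card_eq_two_iff (α := Subgroup.center E)).1 hE.2
  have key : ∀ t : Subgroup.center E, t = a ∨ t = b := fun t => by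
    have : t ∈ ({a, b} : Set _) := huniv ▸ Set.mem_univ t
    simpa using this
  have h1 : (⟨u, hu⟩ : Subgroup.center E) ≠ 1 := fun h => hu1 (congrArg Subtype.val h)
  have h2 : (⟨v, hv⟩ : Subgroup.center E) ≠ 1 := fun h => hv1 (congrArg Subtype.val h)
  rcases key 1 with h0 | h0 <;> rcases key ⟨u, hu⟩ with e1 | e1 <;>
    rcases key ⟨v, hv⟩ with e2 | e2 <;>
    first
    | exact congrArg Subtype.val (e1.trans e2.symm)
    | exact absurd (e1.trans h0.symm) h1
    | exact absurd (e2.trans h0.symm) h2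

theorem center_mul_self {u : E} (hu : u ∈ Subgroup.center E) : u * u = 1 := by
  have := CfsgLib.PGroups.IsExtraspecial.center_pow hE hu
  rwa [pow_two] at this

theorem mul_self_mem (x : E) : x * x ∈ Subgroup.center E := by
  have : Fact (Nat.Prime 2) := ⟨Nat.prime_two⟩
  have := CfsgLib.PGroups.IsExtraspecial.pow_mem_center hE x
  rwa [pow_two] at this

theorem bit_inj {u v : E} (hu : u ∈ Subgroup.center E) (hv : v ∈ Subgroup.center E)
    (h : bit u = bit v) : u = v := by
  by_cases h1 : u = 1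
  · rw [h1, bit_one] at h
    rw [h1, bit_eq_zero.1 h.symm]
  · by_cases h2 : v = 1
    · rw [h2, bit_one] at h
      exact absurd (bit_eq_zero.1 h) h1
    · exact center_two hE hu hv h1 h2

theorem bit_mul {u v : E} (hu : u ∈ Subgroup.center E) (hv : v ∈ Subgroup.center E) :
    bit (u * v) = bit u + bit v := by
  by_cases h1 : u = 1
  · simp [h1, bit_one]
  by_cases h2 : v = 1
  · simp [h2, bit_one]
  obtain rfl := center_two hE hu hv h1 h2
  rw [center_mul_self hE hu, bit_one, CharTwo.add_self_eq_zero]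

theorem square_mul (x y : E) :
    bit (x * y * (x * y)) = bit ⁅y, x⁆ + bit (x * x) + bit (y * y) := by
  have hc := CfsgLib.PGroups.IsExtraspecial.comm_mem hE y x
  rw [← bit_mul hE hc (mul_self_mem hE x), ← bit_mul hE (mul_mem hc (mul_self_mem hE x))
    (mul_self_mem hE y)]
  congr 1
  have h2 : y * x = ⁅y, x⁆ * (x * y) := by rw [commutatorElement_def]; group
  calc x * y * (x * y) = x * (y * x) * y := by group
    _ = x * ⁅y, x⁆ * (x * y) * y := by rw [h2]; group
    _ = ⁅y, x⁆ * x * (x * y) * y := by rw [Subgroup.mem_center_iff.1 hc x]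
    _ = ⁅y, x⁆ * (x * x) * (y * y) := by group

theorem square_eq_of_proj {x y : E} (h : proj x = proj y) : x * x = y * y := by
  have hu := proj_eq_proj.1 h
  have hy : y = x * (x⁻¹ * y) := (mul_inv_cancel_left x y).symm
  calc x * x = x * x * ((x⁻¹ * y) * (x⁻¹ * y)) := by rw [center_mul_self hE hu, mul_one]
    _ = x * (x * (x⁻¹ * y)) * (x⁻¹ * y) := by group
    _ = x * ((x⁻¹ * y) * x) * (x⁻¹ * y) := by rw [← Subgroup.mem_center_iff.1 hu x]
    _ = y * y := by group

theorem two_torsion (v : V E) : v + v = 0 := by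
  obtain ⟨x, rfl⟩ := proj_surjective v
  rw [← proj_mul, proj_eq_zero]
  exact mul_self_mem hE x

end

/-- `E` modulo its centre is an abelian group. -/
@[reducible]
noncomputable def addCommGroup {E : Type*} [Group E] [Finite E] (hE : IsExtraspecial 2 E) :
    AddCommGroup (V E) :=
  { (inferInstance : AddGroup (V E)) with
    add_comm := fun v w => by
      obtain ⟨x, rfl⟩ := proj_surjective v
      obtain ⟨y, rfl⟩ := proj_surjective w
      show proj x + proj y = proj y + proj x
      rw [← proj_mul, ← proj_mul, proj_eq_proj,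
        show (x * y)⁻¹ * (y * x) = ⁅y⁻¹, x⁻¹⁆ by rw [commutatorElement_def]; group]
      exact CfsgLib.PGroups.IsExtraspecial.comm_mem hE _ _ }

/-- The squaring form. -/
noncomputable def quadValue (v : V E) : ZMod 2 :=
  bit ((Additive.toMul v).out * (Additive.toMul v).out)

theorem quadValue_proj [Finite E] (hE : IsExtraspecial 2 E) (x : E) :
    quadValue (proj x) = bit (x * x) :=
  congrArg bit (square_eq_of_proj hE (congrArg Additive.ofMul (QuotientGroup.out_eq' _)))

/-- Coordinates on `E` modulo its centre turning squaring into the form `R`. -/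
structure Coords (E : Type*) [Group E] {ι : Type} (R : (ι → ZMod 2) → ZMod 2) where
  π : E → ι → ZMod 2
  surj : Function.Surjective π
  map_mul : ∀ x y, π (x * y) = π x + π y
  ker : ∀ x, π x = 0 ↔ x ∈ Subgroup.center E
  sq : ∀ x, R (π x) = bit (x * x)

theorem card_center_mul [Finite E] (hE : IsExtraspecial 2 E) :
    Nat.card E = Nat.card (V E) * 2 := by
  rw [Subgroup.card_eq_card_quotient_mul_card_subgroup (Subgroup.center E), hE.2]
  rfl

/-- Classification of the squaring form. -/
theorem exists_coords [Finite E] (hE : IsExtraspecial 2 E) (n : ℕ)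
    (hcard : Nat.card E = 2 ^ (2 * n + 1)) :
    Nonempty (Coords E (quadFormPlus n (ZMod 2))) ∨
      (1 ≤ n ∧ Nonempty (Coords E (quadFormMinus (n - 1) (ZMod 2) 1 1))) := by
  letI := addCommGroup hE
  letI : Module (ZMod 2) (V E) :=
    AddCommGroup.zmodModule fun v => by rw [two_nsmul]; exact two_torsion hE v
  have : Finite (V E) := inferInstanceAs (Finite (E ⧸ Subgroup.center E))
  have : Module.Finite (ZMod 2) (V E) := Module.Finite.of_finite
  have hpol : ∀ x y : E, polar (quadValue (E := E)) (proj x) (proj y) = bit ⁅y, x⁆ := by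
    intro x y
    rw [polar, ← proj_mul, quadValue_proj hE, quadValue_proj hE, quadValue_proj hE,
      square_mul hE, sub_sub, add_assoc, add_sub_cancel_right]
  have h0 : quadValue (0 : V E) = 0 := by
    rw [← proj_one, quadValue_proj hE, mul_one, bit_one]
  let Q : QuadraticForm (ZMod 2) (V E) := QuadraticMap.ofPolar quadValue
    (fun a v => by
      have ha : a = 0 ∨ a = 1 := by revert a; decide
      rcases ha with rfl | rfl
      · rw [zero_smul, mul_zero, zero_smul]; exact h0
      · rw [one_smul, mul_one, one_smul])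
    (fun u v w => by
      obtain ⟨x, rfl⟩ := proj_surjective u
      obtain ⟨y, rfl⟩ := proj_surjective v
      obtain ⟨t, rfl⟩ := proj_surjective w
      rw [← proj_mul, hpol, hpol, hpol, ← bit_mul hE (CfsgLib.PGroups.IsExtraspecial.comm_mem hE _ _)
        (CfsgLib.PGroups.IsExtraspecial.comm_mem hE _ _)]
      congr 1
      have h1 := CfsgLib.PGroups.IsExtraspecial.comm_mem hE t x
      have h2 := CfsgLib.PGroups.IsExtraspecial.comm_mem hE t y
      have h3 : ⁅t, x * y⁆ = ⁅t, x⁆ * (x * ⁅t, y⁆ * x⁻¹) := by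
        simp only [commutatorElement_def]; group
      rw [h3, Subgroup.mem_center_iff.1 h2 x, mul_inv_cancel_right])
    (fun a v w => by
      have ha : a = 0 ∨ a = 1 := by revert a; decide
      rcases ha with rfl | rfl
      · rw [zero_smul, zero_smul, polar, zero_add, h0]
        simp
      · rw [one_smul, one_smul])
  have hQ : ∀ v, Q v = quadValue v := fun v => rfl
  have hnd : (polarBilin Q).Nondegenerate := by
    have hl : ∀ u : V E, (∀ w, polarBilin Q u w = 0) → u = 0 := by
      intro u hu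
      obtain ⟨x, rfl⟩ := proj_surjective u
      rw [proj_eq_zero, Subgroup.mem_center_iff]
      intro y
      have := hu (proj y)
      change polar (quadValue (E := E)) (proj x) (proj y) = 0 at this
      rw [hpol, bit_eq_zero, commutatorElement_eq_one_iff_mul_comm] at this
      exact this
    exact ⟨hl, fun u hu => hl u fun w => by
      have := hu w
      rw [polarBilin_apply_apply] at this ⊢
      rw [polar_comm]
      exact this⟩
  have hfr : Module.finrank (ZMod 2) (V E) = 2 * n := by
    have h1 := Module.natCard_eq_pow_finrank (K := ZMod 2) (V := V E)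
    rw [Nat.card_zmod] at h1
    have h2 := card_center_mul hE
    rw [hcard, h1, ← pow_succ] at h2
    have := Nat.pow_right_injective le_rfl h2
    omega
  have mk : ∀ {ι : Type} [Fintype ι] (R : (ι → ZMod 2) → ZMod 2)
      (e : (ι → ZMod 2) ≃ₗ[ZMod 2] V E), (∀ v, Q (e v) = R v) → Nonempty (Coords E R) := by
    intro ι _ R e he
    refine ⟨⟨fun x => e.symm (proj x), fun v => ?_, fun x y => ?_, fun x => ?_, fun x => ?_⟩⟩
    · obtain ⟨x, hx⟩ := proj_surjective (e v)
      exact ⟨x, by show e.symm (proj x) = v; rw [hx, e.symm_apply_apply]⟩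
    · show e.symm (proj (x * y)) = e.symm (proj x) + e.symm (proj y)
      rw [proj_mul, map_add]
    · rw [LinearEquiv.map_eq_zero_iff, proj_eq_zero]
    · rw [← he, e.apply_symm_apply, hQ, quadValue_proj hE]
  rcases CfsgLib.Known.QuadClassify.classify_even hfr Q hnd with ⟨e, he⟩ | ⟨hm, ζ, e, hζ, he⟩
  · exact Or.inl (mk _ e he)
  · obtain rfl : ζ = 1 := by
      by_contra h
      have : ζ = 0 := (show ∀ x : ZMod 2, x ≠ 1 → x = 0 by decide) ζ h
      exact hζ 0 (by rw [this]; ring)
    exact Or.inr ⟨hm, mk _ e he⟩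

section Iso

variable [Finite E] (hE : IsExtraspecial 2 E) {ι : Type} [Fintype ι] [DecidableEq ι]
  {R : (ι → ZMod 2) → ZMod 2} (C : Coords E R)
include hE

/-- The bilinear form of `R` is the commutator. -/
theorem Coords.polar_eq (x y : E) : R (C.π x + C.π y) - R (C.π x) - R (C.π y) = bit ⁅y, x⁆ := by
  rw [← C.map_mul, C.sq, C.sq, C.sq, square_mul hE, sub_sub, add_assoc, add_sub_cancel_right]

omit hE in
theorem Coords.pi_eq (x y : E) : C.π x = C.π y ↔ x⁻¹ * y ∈ Subgroup.center E := by
  rw [← C.ker]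
  have h := C.map_mul x (x⁻¹ * y)
  rw [mul_inv_cancel_left] at h
  rw [h]
  exact ⟨fun e => left_eq_add.1 e, fun e => by rw [e, add_zero]⟩

omit hE in
/-- The linear map induced by an automorphism. -/
theorem Coords.exists_linear (α : E ≃* E) :
    ∃ f : (ι → ZMod 2) →ₗ[ZMod 2] (ι → ZMod 2), ∀ x, f (C.π x) = C.π (α x) := by
  choose s hs using C.surj
  have hwd : ∀ x y, C.π x = C.π y → C.π (α x) = C.π (α y) := by
    intro x y h
    rw [C.pi_eq] at h ⊢
    rw [← _root_.map_inv α, ← _root_.map_mul α]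
    exact Subgroup.mem_center_iff.2 fun g => by
      obtain ⟨g, rfl⟩ := α.surjective g
      rw [← _root_.map_mul, ← _root_.map_mul, Subgroup.mem_center_iff.1 h g]
  let f : (ι → ZMod 2) →+ (ι → ZMod 2) := AddMonoidHom.mk' (fun v => C.π (α (s v))) fun u v => by
    show C.π (α (s (u + v))) = C.π (α (s u)) + C.π (α (s v))
    rw [← C.map_mul, ← _root_.map_mul α]
    exact hwd _ _ (by rw [C.map_mul, hs, hs, hs])
  exact ⟨f.toZModLinearMap 2, fun x => hwd _ _ (hs _)⟩

/-- The action of automorphisms on the coordinates. -/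
theorem Coords.exists_hom : ∃ Φ : MulAut E →* Matrix.GeneralLinearGroup ι (ZMod 2),
    ∀ (α : MulAut E) (x : E), (Φ α : Matrix ι ι (ZMod 2)) *ᵥ C.π x = C.π (α x) := by
  choose f hf using C.exists_linear (E := E)
  let m : MulAut E →* Matrix ι ι (ZMod 2) :=
    { toFun := fun α => LinearMap.toMatrix' (f α)
      map_one' := by
        rw [← LinearMap.toMatrix'_id]
        congr 1
        apply LinearMap.ext
        intro v
        obtain ⟨x, rfl⟩ := C.surj v
        rw [hf]; rfl
      map_mul' := fun α β => by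
        rw [← LinearMap.toMatrix'_comp]
        congr 1
        apply LinearMap.ext
        intro v
        obtain ⟨x, rfl⟩ := C.surj v
        rw [hf, LinearMap.comp_apply, hf, hf]; rfl }
  refine ⟨m.toHomUnits, fun α x => ?_⟩
  show LinearMap.toMatrix' (f α) *ᵥ C.π x = _
  rw [LinearMap.toMatrix'_mulVec, hf]

/-- Every isometry is induced by an automorphism: a complement to the diagonal centre in the
fibre product is the graph of one. -/
theorem Coords.exists_lift (f : (ι → ZMod 2) →ₗ[ZMod 2] (ι → ZMod 2))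
    (hf : ∀ v, R (f v) = R v) (hinj : Function.Injective f) :
    ∃ α : E ≃* E, ∀ x, C.π (α x) = f (C.π x) := by
  have h1 : C.π 1 = 0 := (C.ker 1).2 (one_mem _)
  let Γ : Subgroup (E × E) :=
    { carrier := {p | C.π p.2 = f (C.π p.1)}
      mul_mem' := fun {p q} hp hq => by
        show C.π (p.2 * q.2) = f (C.π (p.1 * q.1))
        rw [C.map_mul, C.map_mul, map_add, hp, hq]
      one_mem' := by show C.π 1 = f (C.π 1); rw [h1, map_zero]
      inv_mem' := fun {p} hp => by
        show C.π p.2⁻¹ = f (C.π p.1⁻¹)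
        have e : ∀ x : E, C.π x⁻¹ = -C.π x := fun x => by
          rw [eq_neg_iff_add_eq_zero, ← C.map_mul, inv_mul_cancel, h1]
        rw [e, e, map_neg, hp] }
  obtain ⟨z, hz, hz1⟩ : ∃ z ∈ Subgroup.center E, z ≠ 1 := by
    refine (Subgroup.bot_or_exists_ne_one (Subgroup.center E)).resolve_left fun h => ?_
    have := hE.2
    rw [h, Subgroup.card_bot] at this
    omega
  have hzero : ∀ {u : E}, u ∈ Subgroup.center E → C.π u = 0 := fun hu => (C.ker _).2 hu
  let D : Subgroup (E × E) :=
    (Subgroup.center E).map ((MonoidHom.id E).prod (MonoidHom.id E))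
  have hDmem : ∀ {a b : E}, a ∈ Subgroup.center E → b ∈ Subgroup.center E → bit a = bit b →
      ((a, b) : E × E) ∈ D := by
    intro a b ha hb hab
    obtain rfl := bit_inj hE ha hb hab
    exact ⟨a, ha, rfl⟩
  have hDΓ : D ≤ Γ := by
    rintro _ ⟨u, hu, rfl⟩
    show C.π u = f (C.π u)
    rw [hzero hu, map_zero]
  have hdc : ∀ p ∈ Γ, ∀ q ∈ Γ, ⁅p, q⁆ ∈ D := by
    intro p hp q hq
    refine hDmem (CfsgLib.PGroups.IsExtraspecial.comm_mem hE p.1 q.1)
      (CfsgLib.PGroups.IsExtraspecial.comm_mem hE p.2 q.2) ?_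
    show bit ⁅p.1, q.1⁆ = bit ⁅p.2, q.2⁆
    rw [← C.polar_eq hE q.1 p.1, ← C.polar_eq hE q.2 p.2,
      show C.π q.2 = f (C.π q.1) from hq, show C.π p.2 = f (C.π p.1) from hp, ← map_add, hf, hf, hf]
  have hds : ∀ p ∈ Γ, p * p ∈ D := by
    intro p hp
    refine hDmem (mul_self_mem hE p.1) (mul_self_mem hE p.2) ?_
    rw [← C.sq, ← C.sq, show C.π p.2 = f (C.π p.1) from hp, hf]
  set ζ : E × E := (z, 1) with hζdef
  have hζΓ : ζ ∈ Γ := by
    show C.π 1 = f (C.π z)
    rw [h1, hzero hz, map_zero]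
  have hζD : ζ ∉ D := by
    rintro ⟨u, -, hu⟩
    exact hz1 ((congrArg Prod.fst hu).symm.trans (congrArg Prod.snd hu))
  obtain ⟨K, ⟨hKΓ, hDK, hζK⟩, hmax⟩ := Set.Finite.exists_maximal (Set.toFinite
    {K : Subgroup (E × E) | K ≤ Γ ∧ D ≤ K ∧ ζ ∉ K}) ⟨D, hDΓ, le_rfl, hζD⟩
  have hsplit : ∀ a ∈ Γ, a ∈ K ∨ ζ * a ∈ K := by
    intro a ha
    by_contra hcon
    obtain ⟨haK, haζ⟩ := not_or.1 hcon
    have hconj : ∀ g ∈ Γ, ∀ x ∈ K, g * x * g⁻¹ ∈ K := fun g hg x hx => by
      have := mul_mem (hDK (hdc g hg x (hKΓ hx))) hx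
      rwa [commutatorElement_def, inv_mul_cancel_right] at this
    have hn : Subgroup.zpowers a ≤ Subgroup.normalizer (K : Set (E × E)) := by
      rw [Subgroup.zpowers_le, Subgroup.mem_normalizer_iff]
      refine fun x => ⟨hconj a ha x, fun h => ?_⟩
      have := hconj a⁻¹ (inv_mem ha) _ h
      rwa [show a⁻¹ * (a * x * a⁻¹) * a⁻¹⁻¹ = x by group] at this
    have hζmem : ζ ∈ Subgroup.zpowers a ⊔ K := by
      by_contra hnot
      exact haK (hmax ⟨sup_le (Subgroup.zpowers_le.2 ha) hKΓ, hDK.trans le_sup_right, hnot⟩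
        le_sup_right (Subgroup.mem_sup_left (Subgroup.mem_zpowers a)))
    rw [← SetLike.mem_coe, Subgroup.coe_mul_of_left_le_normalizer_right _ _ hn] at hζmem
    obtain ⟨_, ⟨j, rfl⟩, m, hm, hjm⟩ := hζmem
    have haa : a * a ∈ K := hDK (hds a ha)
    dsimp only at hjm
    rcases Int.even_or_odd j with ⟨i, rfl⟩ | ⟨i, rfl⟩
    · apply hζK
      rw [← hjm, zpow_add, ← (Commute.refl a).mul_zpow]
      exact mul_mem (zpow_mem haa i) hm
    · apply haζ
      have hcom : ζ * a = a * ζ :=
        Prod.ext (Subgroup.mem_center_iff.1 hz a.1).symm (by simp [hζdef])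
      rw [hcom, ← hjm, ← mul_assoc, ← zpow_one_add, show 1 + (2 * i + 1) = (i + 1) + (i + 1) by ring,
        zpow_add, ← (Commute.refl a).mul_zpow]
      exact mul_mem (zpow_mem haa _) hm
  have hzz : ((z, z) : E × E) ∈ K := hDK (hDmem hz hz rfl)
  have hex : ∀ a : E, ∃ b, (a, b) ∈ K := by
    intro a
    obtain ⟨b, hb⟩ := C.surj (f (C.π a))
    rcases hsplit (a, b) hb with h | h
    · exact ⟨b, h⟩
    · refine ⟨z * b, ?_⟩
      have := mul_mem hzz h
      rwa [hζdef, Prod.mk_mul_mk, Prod.mk_mul_mk, ← mul_assoc, center_mul_self hE hz, one_mul,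
        one_mul] at this
  have hker : ∀ b : E, ((1 : E), b) ∈ K → b = 1 := by
    intro b hb
    by_contra hb1
    have hb' : C.π b = f (C.π 1) := hKΓ hb
    rw [h1, map_zero, C.ker] at hb'
    apply hζK
    have := mul_mem hzz hb
    rwa [center_two hE hb' hz hb1 hz1, Prod.mk_mul_mk, mul_one, center_mul_self hE hz] at this
  choose α hα using hex
  have huniq : ∀ a b, (a, b) ∈ K → α a = b := by
    intro a b hb
    have := mul_mem (inv_mem (hα a)) hb
    rw [Prod.inv_mk, Prod.mk_mul_mk, inv_mul_cancel] at this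
    exact inv_mul_eq_one.1 (hker _ this)
  let αh : E →* E := MonoidHom.mk' α fun x y => huniq _ _ (mul_mem (hα x) (hα y))
  have hπ : ∀ x, C.π (α x) = f (C.π x) := fun x => hKΓ (hα x)
  have hinjα : Function.Injective αh := by
    rw [injective_iff_map_eq_one]
    intro a ha
    have ha' : α a = 1 := ha
    have hac : a ∈ Subgroup.center E := by
      rw [← C.ker]
      exact hinj (by rw [map_zero, ← hπ, ha', h1])
    by_contra ha1
    have := hα a
    rw [ha', center_two hE hac hz ha1 hz1] at this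
    exact hζK this
  exact ⟨MulEquiv.ofBijective αh ⟨hinjα, Finite.injective_iff_surjective.1 hinjα⟩, hπ⟩

include C in
/-- The outer automorphism group is the isometry group of the squaring form. -/
theorem Coords.out_equiv : Nonempty (Cfsg.Out E ≃* isometryGroup (ZMod 2) R) := by
  obtain ⟨Φ, hΦ⟩ := Coords.exists_hom hE C
  have hpres : ∀ α, Φ α ∈ isometryGroup (ZMod 2) R := by
    intro α u v
    show R ((Φ α : Matrix ι ι (ZMod 2)) *ᵥ u) = R u
    obtain ⟨x, rfl⟩ := C.surj u
    rw [hΦ, C.sq, C.sq, ← _root_.map_mul, show (α : E → E) = ⇑(α.toMonoidHom) from rfl,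
      bit_map _ α.injective]
  let Ψ : MulAut E →* isometryGroup (ZMod 2) R := Φ.codRestrict _ hpres
  have hsurj : Function.Surjective Ψ := by
    rintro ⟨g, hg⟩
    obtain ⟨α, hα⟩ := C.exists_lift hE (Matrix.mulVecLin (g : Matrix ι ι (ZMod 2)))
      (fun v => hg v v) (Matrix.mulVec_injective_of_isUnit g.isUnit)
    refine ⟨α, Subtype.ext (Units.ext (Matrix.ext_iff_mulVec.2 fun v => ?_))⟩
    obtain ⟨x, rfl⟩ := C.surj v
    exact (hΦ α x).trans (hα x)
  have hker : Ψ.ker = Cfsg.Inn E := by
    ext α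
    rw [MonoidHom.mem_ker]
    constructor
    · intro h
      have h' : Φ α = 1 := congrArg Subtype.val h
      obtain ⟨g, hg⟩ := Cfsg.Agent.S5395.result hE α fun x => by
        have h2 := hΦ α x
        rw [h', Units.val_one, Matrix.one_mulVec, C.pi_eq] at h2
        rw [Subgroup.mem_center_iff] at h2 ⊢
        intro y
        have h4 := h2 y
        calc y * (α x * x⁻¹) = x * ((x⁻¹ * y * x) * (x⁻¹ * α x)) * x⁻¹ := by group
          _ = x * ((x⁻¹ * α x) * (x⁻¹ * y * x)) * x⁻¹ := by rw [h2 (x⁻¹ * y * x)]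
          _ = α x * x⁻¹ * y := by group
      exact ⟨g, MulEquiv.ext fun x => (hg x).symm⟩
    · rintro ⟨g, rfl⟩
      refine Subtype.ext (Units.ext (Matrix.ext_iff_mulVec.2 fun v => ?_))
      obtain ⟨x, rfl⟩ := C.surj v
      rw [show ((Ψ (MulAut.conj g)).val : Matrix.GeneralLinearGroup ι (ZMod 2)) = Φ (MulAut.conj g)
        from rfl, hΦ]
      show _ = (1 : Matrix ι ι (ZMod 2)) *ᵥ C.π x
      rw [Matrix.one_mulVec, C.pi_eq]
      have := CfsgLib.PGroups.IsExtraspecial.comm_mem hE (x⁻¹) g⁻¹
      have h5 : (MulAut.conj g x)⁻¹ * x = g * ⁅x⁻¹, g⁻¹⁆ * g⁻¹ := by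
        rw [MulAut.conj_apply, commutatorElement_def]; group
      rw [h5, Subgroup.mem_center_iff.1 this g, mul_inv_cancel_right]
      exact this
  exact ⟨(QuotientGroup.quotientMulEquivOfEq hker.symm).trans
    (QuotientGroup.quotientKerEquivOfSurjective Ψ hsurj)⟩

end Iso

/-- The hyperbolic type contains a maximal elementary abelian subgroup. -/
theorem Coords.exists_elementary [Finite E] (hE : IsExtraspecial 2 E) {n : ℕ}
    (C : Coords E (quadFormPlus n (ZMod 2))) (hcard : Nat.card E = 2 ^ (2 * n + 1)) :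
    ∃ A : Subgroup E, IsElementaryAbelian 2 A ∧ Nat.card A = 2 ^ (n + 1) := by
  let ψ : E →* Multiplicative (Fin n → ZMod 2) :=
    { toFun := fun x => Multiplicative.ofAdd fun i => C.π x (.inl i)
      map_one' := by rw [(C.ker 1).2 (one_mem _)]; rfl
      map_mul' := fun x y => by rw [C.map_mul]; rfl }
  have hψ : Function.Surjective ψ := fun v => by
    obtain ⟨x, hx⟩ := C.surj (Sum.elim (Multiplicative.toAdd v) 0)
    refine ⟨x, ?_⟩
    show Multiplicative.ofAdd (fun i => C.π x (.inl i)) = v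
    rw [hx]
    rfl
  have hsq : ∀ a ∈ ψ.ker, a * a = 1 := by
    intro a ha
    have h : (fun i => C.π a (.inl i)) = 0 := congrArg Multiplicative.toAdd ha
    rw [← bit_eq_zero, ← C.sq]
    exact Finset.sum_eq_zero fun i _ => by rw [congrFun h i]; simp
  refine ⟨ψ.ker, ⟨⟨⟨fun a b => ?_⟩⟩, fun a ha => by rw [pow_two]; exact hsq a ha⟩, ?_⟩
  · apply Subtype.ext
    have ha := hsq a a.2
    have hb := hsq b b.2
    have hab := hsq (a * b : E) (mul_mem a.2 b.2)
    show (a : E) * b = b * a
    rw [← inv_eq_of_mul_eq_one_left hab, mul_inv_rev, inv_eq_of_mul_eq_one_left ha,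
      inv_eq_of_mul_eq_one_left hb]
  · have h1 := ψ.ker.card_mul_index
    rw [Subgroup.index_ker, MonoidHom.range_eq_top.2 hψ, Subgroup.card_top,
      Nat.card_congr Multiplicative.toAdd, Nat.card_fun, Nat.card_zmod, Nat.card_fin, hcard,
      show 2 * n + 1 = (n + 1) + n by omega, pow_add] at h1
    exact Nat.eq_of_mul_eq_mul_right (by positivity) h1

/-- The elliptic type contains none. -/
theorem Coords.no_elementary [Finite E] (hE : IsExtraspecial 2 E) {k : ℕ}
    (C : Coords E (quadFormMinus k (ZMod 2) 1 1)) (A : Subgroup E) (hA : IsElementaryAbelian 2 A) :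
    Nat.card A ≤ 2 ^ (k + 1) := by
  let ι := (Fin k ⊕ Fin k) ⊕ Fin 2
  let πh : A →* Multiplicative (ι → ZMod 2) :=
    { toFun := fun x => Multiplicative.ofAdd (C.π x)
      map_one' := by rw [Subgroup.coe_one, (C.ker 1).2 (one_mem _)]; rfl
      map_mul' := fun x y => by rw [Subgroup.coe_mul, C.map_mul]; rfl }
  have hkc : Nat.card πh.ker ≤ 2 := by
    refine le_trans ?_ hE.2.le
    refine Nat.card_le_card_of_injective
      (fun a => (⟨((a : A) : E), (C.ker _).1 (congrArg Multiplicative.toAdd a.2)⟩ : Subgroup.center E))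
      fun a b h => Subtype.ext (Subtype.ext (congrArg (fun u : Subgroup.center E => (u : E)) h))
  let W0 : AddSubgroup (ι → ZMod 2) :=
    { carrier := {v | ∃ a ∈ A, C.π a = v}
      add_mem' := by
        rintro _ _ ⟨a, ha, rfl⟩ ⟨b, hb, rfl⟩
        exact ⟨a * b, mul_mem ha hb, C.map_mul a b⟩
      zero_mem' := ⟨1, one_mem A, (C.ker 1).2 (one_mem _)⟩
      neg_mem' := by
        rintro _ ⟨a, ha, rfl⟩
        exact ⟨a, ha, funext fun i => (CharTwo.neg_eq (C.π a i)).symm⟩ }
  let W := AddSubgroup.toZModSubmodule 2 W0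
  have hsing : ∀ v ∈ W, quadFormMinus k (ZMod 2) 1 1 v = 0 := by
    rintro _ ⟨a, ha, rfl⟩
    rw [C.sq, bit_eq_zero, ← pow_two]
    exact hA.2 a ha
  let px : (ι → ZMod 2) →ₗ[ZMod 2] (Fin k → ZMod 2) :=
    LinearMap.funLeft (ZMod 2) (ZMod 2) fun i => (Sum.inl (Sum.inl i) : ι)
  let py : (ι → ZMod 2) →ₗ[ZMod 2] (Fin k → ZMod 2) :=
    LinearMap.funLeft (ZMod 2) (ZMod 2) fun i => (Sum.inl (Sum.inr i) : ι)
  have hz : ∀ v ∈ W, px v = 0 → v (.inr 0) = 0 ∧ v (.inr 1) = 0 := by
    intro v hv hx
    have h0 := hsing v hv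
    have hs : ∑ i, v (.inl (.inl i)) * v (.inl (.inr i)) = 0 :=
      Finset.sum_eq_zero fun i _ => by
        rw [show v (.inl (.inl i)) = 0 from congrFun hx i, zero_mul]
    rw [quadFormMinus, hs, zero_add] at h0
    exact (show ∀ p q : ZMod 2, p ^ 2 + 1 * p * q + 1 * q ^ 2 = 0 → p = 0 ∧ q = 0 by decide) _ _ h0
  set φ := px.comp W.subtype with hφ
  have hinj : Function.Injective ((py.comp W.subtype).comp (LinearMap.ker φ).subtype) := by
    rw [injective_iff_map_eq_zero]
    rintro ⟨⟨v, hv⟩, hvx⟩ hvy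
    have hx : px v = 0 := hvx
    have hy : py v = 0 := hvy
    obtain ⟨h0, h1⟩ := hz v hv hx
    refine Subtype.ext (Subtype.ext (funext fun i => ?_))
    rcases i with (i | i) | i
    · exact congrFun hx i
    · exact congrFun hy i
    · fin_cases i
      exacts [h0, h1]
  set Y := LinearMap.range ((py.comp W.subtype).comp (LinearMap.ker φ).subtype) with hYdef
  have horth : (LinearMap.range φ).map (dotProductEquiv (ZMod 2) (Fin k)).toLinearMap ≤
      Y.dualAnnihilator := by
    rintro _ ⟨_, ⟨⟨v, hv⟩, rfl⟩, rfl⟩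
    rw [Submodule.mem_dualAnnihilator]
    rintro _ ⟨⟨⟨u, hu⟩, hux⟩, rfl⟩
    show px v ⬝ᵥ py u = 0
    obtain ⟨h0, h1⟩ := hz u hu hux
    have e := hsing (v + u) (W.add_mem hv hu)
    have hux' : ∀ i, u (.inl (.inl i)) = 0 := fun i => congrFun hux i
    have ev := hsing v hv
    simp only [quadFormMinus, Pi.add_apply, hux', h0, h1, add_zero] at e ev
    simp only [mul_add, Finset.sum_add_distrib] at e
    rw [add_right_comm, ev, zero_add] at e
    exact e
  have hrange := Submodule.finrank_mono horth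
  rw [LinearEquiv.finrank_map_eq] at hrange
  have hann := Subspace.finrank_add_finrank_dualAnnihilator_eq Y
  rw [Module.finrank_fin_fun, hYdef, LinearMap.finrank_range_of_inj hinj, ← hYdef] at hann
  have hrn := LinearMap.finrank_range_add_finrank_ker φ
  have hWk : Module.finrank (ZMod 2) W ≤ k := by omega
  have hWcard : Nat.card W ≤ 2 ^ k := by
    rw [Module.natCard_eq_pow_finrank (K := ZMod 2), Nat.card_zmod]
    exact Nat.pow_le_pow_right (by norm_num) hWk
  have hrangeW : Nat.card πh.range ≤ Nat.card W := by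
    refine Nat.card_le_card_of_injective (fun w => (⟨Multiplicative.toAdd (w : Multiplicative (ι → ZMod 2)),
      by obtain ⟨a, ha⟩ := w.2; exact ⟨a, a.2, congrArg Multiplicative.toAdd ha⟩⟩ : W))
      fun a b h => Subtype.ext ?_
    exact congrArg (fun w : W => Multiplicative.ofAdd (w : ι → ZMod 2)) h
  calc Nat.card A = Nat.card πh.ker * Nat.card πh.range := by
        rw [← Subgroup.index_ker, Subgroup.card_mul_index]
    _ ≤ 2 * 2 ^ k := Nat.mul_le_mul hkc (hrangeW.trans hWcard)
    _ = 2 ^ (k + 1) := by rw [pow_succ]; ring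

end CfsgLib.PGroups.ExtraspecialOut
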