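import Cfsg.Agent.S0109
import Cfsg.Agent.Lib.Core.ThompsonS3.Main
import Cfsg.Agent.Lib.PLocal.Factorization
import Cfsg.Agent.Lib.PLocal.PConstrained
import Cfsg.Agent.Lib.Techniques2.ThompsonA
import Cfsg.Agent.Lib.LocalEvenB.ThompsonOf
import Cfsg.Agent.Lib.Core.Cores
import Cfsg.Agent.Lib.Components.PLayer
import Cfsg.Agent.Lib.Char.Burnside

/-!
# A functorial subgroup of a Sylow `p`-subgroup moved by a `q`-element of a `{p,q}`-group
-/

set_option autoImplicit false

namespace CfsgLib.PGroups.Automizer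

open Subgroup Cfsg

universe u

variable {p q : ℕ} [hp : Fact p.Prime] [hq : Fact q.Prime] {G : Type u} [Group G]

omit hp hq in
/-- If `x ^ m` and `x ^ n` lie in `C` for coprime `m`, `n`, so does `x`. -/
theorem mem_of_pow {C : Subgroup G} {x : G} {m n : ℕ} (hmn : m.Coprime n) (h1 : x ^ m ∈ C)
    (h2 : x ^ n ∈ C) : x ∈ C := by
  have h : (1 : ℤ) = m * Nat.gcdA m n + n * Nat.gcdB m n := by
    rw [← Nat.gcd_eq_gcd_ab, hmn]; rfl
  have hx : x = x ^ ((m : ℤ) * Nat.gcdA m n + n * Nat.gcdB m n) := by rw [← h, zpow_one]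
  rw [hx, zpow_add, zpow_mul, zpow_mul, zpow_natCast, zpow_natCast]
  exact C.mul_mem (C.zpow_mem h1 _) (C.zpow_mem h2 _)

omit hp in
/-- A `q`-element of `X` lies in `C` as soon as `C ∩ X` is normal in `X` of index prime to `q`. -/
theorem mem_of_qElement {C X : Subgroup G} [(C.subgroupOf X).Normal]
    (h : ¬ q ∣ C.relIndex X) {x : G} (hx : x ∈ X) {k : ℕ} (hk : x ^ q ^ k ∈ C) : x ∈ C := by
  refine mem_of_pow (((Nat.Prime.coprime_iff_not_dvd hq.out).2 h).pow_left k) hk ?_
  have := Subgroup.pow_index_mem (C.subgroupOf X) ⟨x, hx⟩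
  exact this

omit hp in
/-- If all `q`-elements of `X` lie in `C` then `q` does not divide `|X : C ∩ X|`. -/
theorem not_dvd_relIndex [Finite G] {C X : Subgroup G}
    (h : ∀ x ∈ X, (∃ k : ℕ, x ^ q ^ k = 1) → x ∈ C) : ¬ q ∣ C.relIndex X := by
  obtain ⟨Q⟩ := (Sylow.nonempty : Nonempty (Sylow q X))
  intro hd
  refine Q.not_dvd_index (hd.trans ?_)
  show C.relIndex X ∣ _
  refine Subgroup.index_dvd_of_le fun y hy => ?_
  obtain ⟨k, hk⟩ := Q.2 ⟨y, hy⟩
  exact h y y.2 ⟨k, congrArg (fun z : (Q : Subgroup X) => ((z : X) : G)) hk⟩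

/-- `Ω₁(Z(R))`, inside the ambient group. -/
def ocen (p : ℕ) (R : Subgroup G) : Subgroup G where
  carrier := {x | x ∈ R ∧ (∀ y ∈ R, x * y = y * x) ∧ x ^ p = 1}
  one_mem' := ⟨R.one_mem, fun y _ => by simp, one_pow p⟩
  mul_mem' := by
    rintro a b ⟨ha, hac, hap⟩ ⟨hb, hbc, hbp⟩
    refine ⟨R.mul_mem ha hb, fun y hy => ?_, ?_⟩
    · rw [mul_assoc, hbc y hy, ← mul_assoc, hac y hy, mul_assoc]
    · rw [(show Commute a b from hac b hb).mul_pow, hap, hbp, one_mul]
  inv_mem' := by
    rintro a ⟨ha, hac, hap⟩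
    exact ⟨R.inv_mem ha, fun y hy => (Commute.inv_left (hac y hy) :),
      by rw [inv_pow, hap, inv_one]⟩

omit hp hq in
theorem mem_ocen {R : Subgroup G} {x : G} :
    x ∈ ocen p R ↔ x ∈ R ∧ (∀ y ∈ R, x * y = y * x) ∧ x ^ p = 1 := Iff.rfl

omit hp hq in
theorem normalizer_le_normalizer_ocen [Finite G] (R : Subgroup G) :
    normalizer (R : Set G) ≤ normalizer (ocen p R : Set G) := by
  intro g hg
  refine CfsgLib.LocalEvenB.mem_normalizer_of_forall fun x hx => ?_
  obtain ⟨hxR, hxc, hxp⟩ := hx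
  refine ⟨(mem_normalizer_iff.1 hg x).1 hxR, fun y hy => ?_, ?_⟩
  · have := hxc _ ((mem_normalizer_iff.1 hg (g⁻¹ * y * g)).2 (by simpa [mul_assoc] using hy))
    calc g * x * g⁻¹ * y = g * (x * (g⁻¹ * y * g)) * g⁻¹ := by group
      _ = g * (g⁻¹ * y * g * x) * g⁻¹ := by rw [this]
      _ = y * (g * x * g⁻¹) := by group
  · rw [conj_pow, hxp]; simp

omit hq in
theorem ocen_ne_bot [Finite G] {R : Subgroup G} (hR : IsPGroup p R) (hne : R ≠ ⊥) :
    ocen p R ≠ ⊥ := by
  haveI : Nontrivial R := (nontrivial_iff_ne_bot R).2 hne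
  haveI := hR.center_nontrivial
  obtain ⟨z, hz⟩ := exists_prime_orderOf_dvd_card' (G := center R) p
    (((hR.to_subgroup (center R)).card_eq_or_dvd).resolve_left Finite.one_lt_card.ne')
  intro hb
  have hmem : ((z : R) : G) ∈ ocen p R := by
    refine ⟨(z : R).2, fun y hy => ?_, ?_⟩
    · exact (congrArg Subtype.val (mem_center_iff.1 z.2 ⟨y, hy⟩)).symm
    · have := pow_orderOf_eq_one z
      rw [hz] at this
      exact congrArg (fun t : center R => ((t : R) : G)) this
  rw [hb, mem_bot] at hmem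
  have h1 : z = 1 := Subtype.ext (Subtype.ext hmem)
  rw [h1, orderOf_one] at hz
  exact hp.out.ne_one hz.symm

/-- The Thompson subgroup used: the elementary one for odd `p`, the abelian one for `p = 2`. -/
def jay (p : ℕ) (R : Subgroup G) : Subgroup G :=
  if p = 2 then thompsonSubgroupAOf R else thompsonSubgroupOf p R

omit hp hq in
theorem jay_le (R : Subgroup G) : jay p R ≤ R := by
  unfold jay; split <;> exact map_subtype_le _

omit hq in
theorem jay_ne_bot [Finite G] {R : Subgroup G} (hR : IsPGroup p R) (hne : R ≠ ⊥) :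
    jay p R ≠ ⊥ := by
  haveI : Nontrivial R := (nontrivial_iff_ne_bot R).2 hne
  unfold jay
  split
  · exact CfsgLib.Techniques.thompsonAOf_ne_bot hne
  · intro h
    exact CfsgLib.PLocal.thompson_ne_bot (p := p) (G := R)
      (hR.card_eq_or_dvd.resolve_left Finite.one_lt_card.ne')
      ((map_eq_bot_iff_of_injective _ R.subtype_injective).1 h)

omit hq in
theorem jay_map {H : Type*} [Group H] (f : G →* H) (R : Subgroup G) (hf : Disjoint R f.ker) :
    (jay p R).map f = jay p (R.map f) := by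
  unfold jay
  split
  · exact CfsgLib.Techniques.thompsonAOf_map f R hf
  · exact CfsgLib.PLocal.thompsonOf_map f R hf

omit hq in
theorem normalizer_le_normalizer_jay [Finite G] (R : Subgroup G) :
    normalizer (R : Set G) ≤ normalizer (jay p R : Set G) := by
  intro g hg
  rw [mem_normalizer_iff_map_conj_eq] at hg ⊢
  show (jay p R).map (MulAut.conj g).toMonoidHom = _
  rw [jay_map (MulAut.conj g).toMonoidHom R (by
    rw [(MonoidHom.ker_eq_bot_iff _).2 (MulAut.conj g).injective]; exact disjoint_bot_right)]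
  exact congrArg (jay p) hg

/-- In a solvable `{p,q}`-group without normal `p'`-subgroups, `{p,q} ≠ {2,3}`, every element is a
product of an element normalising `J(R)` and one centralising `Ω₁(Z(R))`. -/
theorem factor [Finite G] (h23 : ¬ ((p = 2 ∧ q = 3) ∨ (p = 3 ∧ q = 2)))
    {a b : ℕ} (hcard : Nat.card G = p ^ a * q ^ b) (hO : pPrimeCore p G = ⊥) (R : Sylow p G)
    (g : G) : ∃ x y : G, g = x * y ∧
      ((x ∈ normalizer (jay p (R : Subgroup G) : Set G) ∧
          y ∈ centralizer (ocen p (R : Subgroup G) : Set G)) ∨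
       (y ∈ normalizer (jay p (R : Subgroup G) : Set G) ∧
          x ∈ centralizer (ocen p (R : Subgroup G) : Set G))) := by
  have hs : Group.IsSolvable G := CfsgLib.Burnside.isSolvable_of_card_eq hp.out hq.out hcard
  by_cases hp2 : p = 2
  · subst hp2
    have hq3 : q ≠ 3 := fun h => h23 (Or.inl ⟨rfl, h⟩)
    haveI := hs
    have hF := CfsgLib.Components.fitting_eq_pCore_of_core_bot hO
    obtain ⟨hfac, halt⟩ := CfsgLib.Core.ThompsonS3.factorization hs hF R
    have hY : normalClosure (Cfsg.thompsonSubgroupAOf (R : Subgroup G) : Set G) ≤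
        (centralizer (((R : Subgroup G) ⊓ centralizer ((R : Subgroup G) : Set G) : Subgroup G) :
          Set G)).normalCore := by
      refine halt.resolve_right ?_
      rintro ⟨n, hn, ⟨e⟩⟩
      have h3 : 3 ∣ Nat.card (Fin n → Equiv.Perm (Fin 3)) := by
        rw [Nat.card_fun, Nat.card_perm, Nat.card_fin, Nat.card_fin]
        exact (show 3 ∣ Nat.factorial 3 by decide).trans (dvd_pow_self _ (by omega))
      rw [← Nat.card_congr e.toEquiv] at h3
      have h4 : 3 ∣ Nat.card G :=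
        (h3.trans (Subgroup.card_quotient_dvd_card _)).trans (Subgroup.card_subgroup_dvd_card _)
      rw [hcard] at h4
      rcases Nat.prime_three.dvd_mul.1 h4 with h | h
      · exact absurd ((Nat.prime_dvd_prime_iff_eq Nat.prime_three Nat.prime_two).1
          (Nat.prime_three.dvd_of_dvd_pow h)) (by norm_num)
      · exact hq3 ((Nat.prime_dvd_prime_iff_eq Nat.prime_three hq.out).1
          (Nat.prime_three.dvd_of_dvd_pow h)).symm
    have hg : g ∈ normalClosure (Cfsg.thompsonSubgroupAOf (R : Subgroup G) : Set G) ⊔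
        normalizer (Cfsg.thompsonSubgroupAOf (R : Subgroup G) : Set G) := hfac ▸ mem_top g
    obtain ⟨x, hx, y, hy, hxy⟩ := Subgroup.mem_sup_of_normal_left.1 hg
    refine ⟨x, y, hxy.symm, Or.inr ⟨by simpa [jay] using hy, ?_⟩⟩
    refine centralizer_le ?_ (normalCore_le _ (hY hx))
    intro z hz
    exact ⟨hz.1, mem_centralizer_iff.2 fun w hw => (hz.2.1 w hw).symm⟩
  · have h3 : p = 3 → ∀ T : Sylow 2 G, IsMulCommutative T := by
      intro h3 T
      have hq2 : q ≠ 2 := fun h => h23 (Or.inr ⟨h3, h⟩)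
      have hT : (T : Subgroup G) = ⊥ := by
        rw [← Subgroup.card_eq_one]
        obtain ⟨k, hk⟩ := IsPGroup.iff_card.1 T.2
        rcases k with _ | k
        · simpa using hk
        exfalso
        have h2 : 2 ∣ Nat.card G :=
          ((dvd_pow_self 2 (Nat.succ_ne_zero k)).trans (dvd_of_eq hk.symm)).trans
            (Subgroup.card_subgroup_dvd_card _)
        rw [hcard] at h2
        rcases Nat.prime_two.dvd_mul.1 h2 with h | h
        · exact hp2 ((Nat.prime_dvd_prime_iff_eq Nat.prime_two hp.out).1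
            (Nat.prime_two.dvd_of_dvd_pow h)).symm
        · exact hq2 ((Nat.prime_dvd_prime_iff_eq Nat.prime_two hq.out).1
            (Nat.prime_two.dvd_of_dvd_pow h)).symm
      refine ⟨⟨fun x y => ?_⟩⟩
      have hsub : Subsingleton (T : Subgroup G) := by rw [hT]; infer_instance
      exact @Subsingleton.elim _ hsub _ _
    obtain ⟨x, hx, y, hy, hxy⟩ := Cfsg.Agent.S0109.result hp2 hs h3 (fun N hN hcop =>
      le_bot_iff.1 (hO ▸ le_sSup ⟨hN, hcop⟩)) R g
    exact ⟨x, y, hxy, Or.inl ⟨by simpa [jay, hp2] using hx, hy⟩⟩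

/-- The functor step: in a `{p,q}`-group `L`, `{p,q} ≠ {2,3}`, with a normal `p`-subgroup `H`
containing the `p`-part of its centraliser and `q ∣ |L : C_L(H)|`, some `q`-element outside
`C(H)` normalises `J(R)` or centralises `Ω₁(Z(R))`. -/
theorem exists_element [Finite G] (h23 : ¬ ((p = 2 ∧ q = 3) ∨ (p = 3 ∧ q = 2))) (hpq : p ≠ q)
    {a b : ℕ} (hcard : Nat.card G = p ^ a * q ^ b) (H : Subgroup G) [H.Normal] (hH : IsPGroup p H)
    (hdiv : q ∣ (centralizer (H : Set G)).index) (R : Sylow p G) :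
    ∃ x : G, (∃ k : ℕ, x ^ q ^ k = 1) ∧ x ∉ centralizer (H : Set G) ∧
      (x ∈ normalizer (jay p (R : Subgroup G) : Set G) ∨
        x ∈ centralizer (ocen p (R : Subgroup G) : Set G)) := by
  by_contra hcon
  push Not at hcon
  set C := centralizer (H : Set G) with hC
  haveI : C.Normal := by rw [hC]; infer_instance
  set W := pPrimeCore p G with hW
  have hWcop := CfsgLib.Core.coprime_card_pPrimeCore p G
  -- `W` centralises `H`
  have hWC : W ≤ C := by
    intro w hw
    refine mem_centralizer_iff.2 fun h hh => ?_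
    refine (Subgroup.commute_of_normal_of_disjoint H W inferInstance inferInstance ?_ h w hh hw)
    obtain ⟨k, hk⟩ := IsPGroup.iff_card.1 hH
    refine disjoint_of_coprime_natCard ?_
    rw [hk]
    exact hWcop.symm.pow_left k
  -- a subgroup containing `R` whose `q`-elements centralise `H` lies in `C ⊔ R`
  have key : ∀ X : Subgroup G, (R : Subgroup G) ≤ X →
      (∀ x ∈ X, (∃ k : ℕ, x ^ q ^ k = 1) → x ∈ C) → X ≤ C ⊔ (R : Subgroup G) := by
    intro X hRX hX
    rw [← relIndex_eq_one]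
    refine Nat.eq_one_of_dvd_coprimes (a := C.relIndex X) (b := (R : Subgroup G).relIndex X) ?_
      (relIndex_dvd_of_le_left X le_sup_left) (relIndex_dvd_of_le_left X le_sup_right)
    have h1 : C.relIndex X ∣ p ^ a * q ^ b := by
      rw [← hcard]
      exact (relIndex_dvd_card C X).trans (Subgroup.card_subgroup_dvd_card X)
    have h2 : (R : Subgroup G).relIndex X ∣ p ^ a * q ^ b := by
      rw [← hcard]
      exact (relIndex_dvd_card _ X).trans (Subgroup.card_subgroup_dvd_card X)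
    have hRp : ¬ p ∣ (R : Subgroup G).relIndex X := fun h => R.not_dvd_index (h.trans
      (Dvd.intro _ (relIndex_mul_index hRX)))
    have hCq : ¬ q ∣ C.relIndex X := not_dvd_relIndex hX
    refine Nat.coprime_of_dvd fun r hr hr1 hr2 => ?_
    rcases hr.dvd_mul.1 (hr1.trans h1) with h | h
    · exact hRp ((Nat.prime_dvd_prime_iff_eq hr hp.out).1 (hr.dvd_of_dvd_pow h) ▸ hr2)
    · exact hCq ((Nat.prime_dvd_prime_iff_eq hr hq.out).1 (hr.dvd_of_dvd_pow h) ▸ hr1)
  have hNJ : normalizer (jay p (R : Subgroup G) : Set G) ≤ C ⊔ (R : Subgroup G) :=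
    key _ (le_normalizer.trans (normalizer_le_normalizer_jay _))
      fun x hx hxq => by_contra fun h => (hcon x hxq h).1 hx
  have hCO : centralizer (ocen p (R : Subgroup G) : Set G) ≤ C ⊔ (R : Subgroup G) :=
    key _ (fun r hr => mem_centralizer_iff.2 fun z hz => hz.2.1 r hr)
      fun x hx hxq => by_contra fun h => (hcon x hxq h).2 hx
  -- pull back the factorisation of `G ⧸ W`
  set π := QuotientGroup.mk' W with hπ
  have hπs := QuotientGroup.mk'_surjective W
  have hcardQ : ∃ a' b' : ℕ, Nat.card (G ⧸ W) = p ^ a' * q ^ b' := by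
    have hd : Nat.card (G ⧸ W) ∣ p ^ a * q ^ b := hcard ▸ Subgroup.card_quotient_dvd_card W
    obtain ⟨d1, d2, h1, h2, h⟩ := Nat.dvd_mul.1 hd
    obtain ⟨a', -, rfl⟩ := (Nat.dvd_prime_pow hp.out).1 h1
    obtain ⟨b', -, rfl⟩ := (Nat.dvd_prime_pow hq.out).1 h2
    exact ⟨a', b', h.symm⟩
  obtain ⟨a', b', hcQ⟩ := hcardQ
  set Rb := R.mapSurjective hπs with hRb
  have hRbc : (Rb : Subgroup (G ⧸ W)) = (R : Subgroup G).map π := rfl
  have hdis : Disjoint (R : Subgroup G) π.ker := by
    rw [hπ, QuotientGroup.ker_mk']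
    obtain ⟨k, hk⟩ := IsPGroup.iff_card.1 R.2
    refine disjoint_of_coprime_natCard ?_
    rw [hk]
    exact hWcop.symm.pow_left k
  have hinj : ∀ r ∈ (R : Subgroup G), π r = 1 → r = 1 := fun r hr h =>
    Subgroup.disjoint_def.1 hdis hr (MonoidHom.mem_ker.2 h)
  have hJm : jay p (Rb : Subgroup (G ⧸ W)) = (jay p (R : Subgroup G)).map π := by
    rw [hRbc, jay_map π _ hdis]
  have hOm : (ocen p (R : Subgroup G)).map π = ocen p (Rb : Subgroup (G ⧸ W)) := by
    refine le_antisymm ?_ ?_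
    · rintro _ ⟨z, hz, rfl⟩
      refine ⟨⟨z, hz.1, rfl⟩, ?_, by rw [← map_pow, hz.2.2, map_one]⟩
      rintro _ ⟨y, hy, rfl⟩
      rw [← map_mul, ← map_mul, hz.2.1 y hy]
    · rintro _ ⟨⟨z, hz, rfl⟩, hzc, hzp⟩
      refine ⟨z, ⟨hz, fun y hy => ?_, hinj _ ((R : Subgroup G).pow_mem hz p) (by rw [map_pow, hzp])⟩,
        rfl⟩
      have h1 := hinj _ ((R : Subgroup G).mul_mem ((R : Subgroup G).mul_mem hz hy)
        ((R : Subgroup G).inv_mem ((R : Subgroup G).mul_mem hy hz))) (by
          rw [map_mul, map_inv, mul_inv_eq_one, map_mul, map_mul]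
          exact hzc (π y) ⟨y, hy, rfl⟩)
      exact mul_inv_eq_one.1 h1
  have hN := CfsgLib.PLocal.map_normalizer_eq W hWcop
    (R.2.to_le (jay_le (p := p) (R : Subgroup G)))
  have hCz := CfsgLib.PLocal.map_centralizer_eq W hWcop
    (R.2.to_le (show ocen p (R : Subgroup G) ≤ R from fun z hz => hz.1))
  have htop : C ⊔ (R : Subgroup G) = ⊤ := by
    refine top_unique fun g _ => ?_
    have hNJ' : normalizer (jay p (Rb : Subgroup (G ⧸ W)) : Set (G ⧸ W)) ≤
        (C ⊔ (R : Subgroup G)).map π := by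
      rw [hJm, ← hN]; exact map_mono hNJ
    have hCO' : centralizer (ocen p (Rb : Subgroup (G ⧸ W)) : Set (G ⧸ W)) ≤
        (C ⊔ (R : Subgroup G)).map π := by
      rw [← hOm, ← hCz]; exact map_mono hCO
    obtain ⟨x, y, hxy, h⟩ := factor h23 hcQ (CfsgLib.Core.pPrimeCore_quotient_pPrimeCore p G) Rb
      (π g)
    have hg : π g ∈ (C ⊔ (R : Subgroup G)).map π := by
      rw [hxy]
      rcases h with ⟨h1, h2⟩ | ⟨h1, h2⟩
      · exact mul_mem (hNJ' h1) (hCO' h2)
      · exact mul_mem (hCO' h2) (hNJ' h1)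
    have : g ∈ ((C ⊔ (R : Subgroup G)).map π).comap π := hg
    rwa [comap_map_eq, hπ, QuotientGroup.ker_mk', sup_eq_left.2 (hWC.trans le_sup_left)] at this
  have hidx : C.index ∣ Nat.card (R : Subgroup G) := by
    have h1 : C.relIndex (R : Subgroup G) = C.index := by
      rw [← relIndex_top_right, ← htop, sup_comm]
      exact (relIndex_sup_right ..).symm
    exact h1 ▸ relIndex_dvd_card C _
  obtain ⟨k, hk⟩ := IsPGroup.iff_card.1 R.2
  rw [hk] at hidx
  exact hpq ((Nat.prime_dvd_prime_iff_eq hq.out hp.out).1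
    (hq.out.dvd_of_dvd_pow (hdiv.trans hidx))).symm

end CfsgLib.PGroups.Automizer
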