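import Cfsg.Agent.Lib.PGroups.AutomizerHall
import Cfsg.Agent.Lib.PGroups.AutomizerFactor

/-!
# A prime dividing the automizer of a `p`-subgroup divides that of one normal in a Sylow subgroup
-/

set_option autoImplicit false

namespace CfsgLib.PGroups.Automizer

open Subgroup Cfsg

universe u

variable {p q : ℕ} [hp : Fact p.Prime] [hq : Fact q.Prime]

/-- Every automizer of a `p`-subgroup is `p`-solvable. -/
def Hyp (p : ℕ) (G : Type u) [Group G] : Prop :=
  ∀ H : Subgroup G, IsPGroup p ↥H →
    Cfsg.IsPSolvable p (↥(Subgroup.normalizer (H : Set G)) ⧸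
      (Subgroup.centralizer (H : Set G)).subgroupOf (Subgroup.normalizer (H : Set G)))

/-- Some `q`-element normalises but does not centralise `H`. -/
def HasQ (q : ℕ) {G : Type u} [Group G] (H : Subgroup G) : Prop :=
  ∃ x ∈ Subgroup.normalizer (H : Set G), (∃ k : ℕ, x ^ q ^ k = 1) ∧
    x ∉ Subgroup.centralizer (H : Set G)

section
variable {G : Type u} [Group G] [Finite G]

omit hp in
theorem hasQ_of_dvd {H : Subgroup G}
    (h : q ∣ (centralizer (H : Set G)).relIndex (normalizer (H : Set G))) : HasQ q H := by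
  by_contra hcon
  simp only [HasQ, not_exists, not_and, not_not] at hcon
  exact not_dvd_relIndex (fun x hx hk => hcon x hx hk) h

omit hp in
theorem dvd_of_hasQ {H : Subgroup G} (h : HasQ q H) :
    q ∣ (centralizer (H : Set G)).relIndex (normalizer (H : Set G)) := by
  obtain ⟨x, hx, ⟨k, hk⟩, hxc⟩ := h
  by_contra hcon
  exact hxc (mem_of_qElement hcon hx (k := k) (by rw [hk]; exact one_mem _))

omit hp in
theorem exists_not_centralizing {H : Subgroup G} (h : HasQ q H) : H ≠ ⊥ := by
  rintro rfl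
  obtain ⟨x, -, -, hxc⟩ := h
  exact hxc (by simp [mem_centralizer_iff])

omit hp hq [Finite G] in
theorem hasQ_map {G' : Type u} [Group G'] (f : G ≃* G') {H : Subgroup G} (h : HasQ q H) :
    HasQ q (H.map f.toMonoidHom) := by
  obtain ⟨x, hx, ⟨k, hk⟩, hxc⟩ := h
  refine ⟨f x, ?_, ⟨k, by rw [← map_pow, hk, map_one]⟩, fun hc => hxc ?_⟩
  · exact le_normalizer_map f.toMonoidHom ⟨x, hx, rfl⟩
  · refine mem_centralizer_iff.2 fun y hy => f.injective ?_
    rw [map_mul, map_mul]
    exact mem_centralizer_iff.1 hc _ ⟨y, hy, rfl⟩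

omit hq in
/-- The hypothesis passes to subgroups. -/
theorem hyp_subgroup (h : Hyp p G) (Y : Subgroup G) : Hyp p Y := by
  intro H hH
  have h1 := h (H.map Y.subtype) (hH.map _)
  set N := normalizer ((H.map Y.subtype : Subgroup G) : Set G)
  set C := centralizer ((H.map Y.subtype : Subgroup G) : Set G)
  set NY := normalizer (H : Set Y)
  set CY := centralizer (H : Set Y)
  let f : NY →* N :=
    { toFun := fun x => ⟨((x : Y) : G), le_normalizer_map Y.subtype ⟨(x : Y), x.2, rfl⟩⟩
      map_one' := rfl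
      map_mul' := fun _ _ => rfl }
  have hf : CY.subgroupOf NY ≤ (C.subgroupOf N).comap f := by
    intro x hx
    refine mem_centralizer_iff.2 ?_
    rintro _ ⟨y, hy, rfl⟩
    exact congrArg Subtype.val (mem_centralizer_iff.1 hx y hy)
  set g : NY ⧸ CY.subgroupOf NY →* N ⧸ C.subgroupOf N := QuotientGroup.map _ _ f hf with hg
  have hinj : Function.Injective g := by
    rw [← MonoidHom.ker_eq_bot_iff, eq_bot_iff]
    intro z hz
    obtain ⟨x, rfl⟩ := QuotientGroup.mk_surjective z
    rw [MonoidHom.mem_ker, hg, QuotientGroup.map_mk, QuotientGroup.eq_one_iff] at hz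
    rw [mem_bot, QuotientGroup.eq_one_iff]
    refine mem_centralizer_iff.2 fun y hy => Subtype.ext ?_
    exact mem_centralizer_iff.1 hz _ ⟨y, hy, rfl⟩
  exact CfsgLib.PLocal.isPSolvable_congr (MonoidHom.ofInjective hinj).symm
    (CfsgLib.PLocal.isPSolvable_subgroup h1 g.range)

omit hq in
/-- The hypothesis passes to quotients by normal `p`-subgroups. -/
theorem hyp_quotient (h : Hyp p G) (K : Subgroup G) [K.Normal] (hK : IsPGroup p K) :
    Hyp p (G ⧸ K) := by
  intro H hH
  set π := QuotientGroup.mk' K with hπ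
  have hπs := QuotientGroup.mk'_surjective K
  have hH1 : IsPGroup p (H.comap π) :=
    hH.comap_of_ker_isPGroup π (by rwa [hπ, QuotientGroup.ker_mk'])
  have h1 := h (H.comap π) hH1
  set N := normalizer ((H.comap π : Subgroup G) : Set G) with hN
  set C := centralizer ((H.comap π : Subgroup G) : Set G)
  set NY := normalizer (H : Set (G ⧸ K)) with hNY
  set CY := centralizer (H : Set (G ⧸ K))
  have hNN : NY.comap π = N := comap_normalizer_eq_of_surjective H hπs
  let f : N →* NY :=
    { toFun := fun x => ⟨π (x : G), (hNN.ge x.2 : (x : G) ∈ NY.comap π)⟩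
      map_one' := Subtype.ext π.map_one
      map_mul' := fun a b => Subtype.ext (π.map_mul a b) }
  have hf : C.subgroupOf N ≤ (CY.subgroupOf NY).comap f := by
    intro x hx
    refine mem_centralizer_iff.2 fun y hy => ?_
    obtain ⟨y, rfl⟩ := hπs y
    show π y * π (x : G) = π (x : G) * π y
    rw [← map_mul, ← map_mul]
    exact congrArg π (mem_centralizer_iff.1 hx y hy)
  refine CfsgLib.PLocal.isPSolvable_of_surjective (QuotientGroup.map _ _ f hf) ?_ h1
  intro z
  obtain ⟨⟨y, hy⟩, rfl⟩ := QuotientGroup.mk_surjective z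
  obtain ⟨x, rfl⟩ := hπs y
  exact ⟨QuotientGroup.mk (⟨x, hNN.le hy⟩ : N), rfl⟩

end

/-- The `p`-exponent of a subgroup's order. -/
noncomputable def pExp (p : ℕ) {G : Type u} [Group G] (X : Subgroup G) : ℕ :=
  (Nat.card X).factorization p

omit hp hq in
theorem pExp_mono {G : Type u} [Group G] [Finite G] {X Y : Subgroup G} (h : X ≤ Y) :
    pExp p X ≤ pExp p Y :=
  (Nat.factorization_le_iff_dvd Nat.card_pos.ne' Nat.card_pos.ne').2 (card_dvd_of_le h) p

omit hq in
theorem lt_pExp {G : Type u} [Group G] [Finite G] {X Y : Subgroup G} (hX : IsPGroup p X)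
    (hY : IsPGroup p Y) (hlt : X < Y) : pExp p X < pExp p Y := by
  obtain ⟨i, hi⟩ := IsPGroup.iff_card.1 hX
  obtain ⟨j, hj⟩ := IsPGroup.iff_card.1 hY
  have hc : Nat.card X < Nat.card Y := card_lt_card_of_lt hlt
  simp only [pExp, hi, hj, hp.out.factorization_pow, Finsupp.single_eq_same]
  rw [hi, hj] at hc
  exact (Nat.pow_lt_pow_iff_right hp.out.one_lt).1 hc
where
  card_lt_card_of_lt {G : Type u} [Group G] [Finite G] {X Y : Subgroup G} (h : X < Y) :
      Nat.card X < Nat.card Y :=
    lt_of_le_of_ne (card_le_of_le h.le) fun e => h.ne (eq_of_le_of_card_ge h.le e.ge)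

/-- The theorem, with a Sylow subgroup to be found. -/
theorem main (hpq : p ≠ q) (h23 : ¬ ((p = 2 ∧ q = 3) ∨ (p = 3 ∧ q = 2))) :
    ∀ (n : ℕ) (G : Type u) [Group G] [Finite G], Nat.card G = n → Hyp p G →
      ∀ H : Subgroup G, IsPGroup p H → HasQ q H →
        ∃ (P : Sylow p G) (K : Subgroup G), K ≤ (P : Subgroup G) ∧
          (P : Subgroup G) ≤ normalizer (K : Set G) ∧ HasQ q K := by
  intro n
  induction n using Nat.strong_induction_on with
  | _ n ih =>
  intro G _ _ hn hyp H₀ hH₀ hQ₀
  classical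
  set m := (Nat.card G).factorization p with hm
  -- a candidate normalised by a full Sylow subgroup suffices
  have finish : ∀ H : Subgroup G, IsPGroup p H → HasQ q H →
      m ≤ pExp p (normalizer (H : Set G)) → ∃ (P : Sylow p G) (K : Subgroup G),
        K ≤ (P : Subgroup G) ∧ (P : Subgroup G) ≤ normalizer (K : Set G) ∧ HasQ q K := by
    intro H hH hQ hle
    obtain ⟨R⟩ := (Sylow.nonempty : Nonempty (Sylow p ↥(normalizer (H : Set G))))
    have hc : Nat.card ((R : Subgroup _).map (normalizer (H : Set G)).subtype) = p ^ m := by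
      rw [card_map_of_injective (subtype_injective _), R.card_eq_multiplicity]
      congr 1
      exact le_antisymm (by
        have := pExp_mono (p := p) (le_top : normalizer (H : Set G) ≤ ⊤)
        rwa [pExp, pExp, card_top] at this) hle
    refine ⟨Sylow.ofCard _ hc, H, ?_, ?_, hQ⟩
    · rw [Sylow.coe_ofCard]
      intro x hx
      haveI : (H.subgroupOf (normalizer (H : Set G))).Normal := normal_in_normalizer
      exact ⟨⟨x, le_normalizer hx⟩,
        (hH.of_equiv (subgroupOfEquivOfLe le_normalizer).symm).le_sylow_of_normal R hx, rfl⟩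
    · rw [Sylow.coe_ofCard]
      exact map_subtype_le _
  -- choose a candidate with the largest normaliser, then the largest order
  let μ : Subgroup G → ℕ := fun H => pExp p (normalizer (H : Set G)) * (Nat.card G + 1) + Nat.card H
  obtain ⟨H, ⟨hH, hQ⟩, hmax⟩ := Set.exists_max_image
    {H : Subgroup G | IsPGroup p H ∧ HasQ q H} μ (Set.toFinite _) ⟨H₀, hH₀, hQ₀⟩
  by_cases hfull : m ≤ pExp p (normalizer (H : Set G))
  · exact finish H hH hQ hfull
  push Not at hfull
  have hbetter : ∀ H' : Subgroup G, IsPGroup p H' → HasQ q H' →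
      pExp p (normalizer (H' : Set G)) ≤ pExp p (normalizer (H : Set G)) := by
    intro H' h1 h2
    have h := hmax H' ⟨h1, h2⟩
    simp only [μ] at h
    by_contra hlt
    push Not at hlt
    have h3 := Nat.mul_le_mul_right (Nat.card G + 1) hlt
    have h4 := Subgroup.card_le_card_group H
    rw [Nat.succ_mul] at h3
    omega
  set N := normalizer (H : Set G) with hN
  obtain ⟨R₀⟩ := (Sylow.nonempty : Nonempty (Sylow p N))
  set R := (R₀ : Subgroup N).map N.subtype with hR
  have hRp : IsPGroup p R := R₀.2.map _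
  have hRN : R ≤ N := map_subtype_le _
  have hRexp : pExp p R = pExp p N := by
    rw [pExp, hR, card_map_of_injective (subtype_injective _), R₀.card_eq_multiplicity,
      hp.out.factorization_pow, Finsupp.single_eq_same]
    rfl
  haveI hHn : (H.subgroupOf N).Normal := normal_in_normalizer
  have hHR : H ≤ R := fun x hx => ⟨⟨x, le_normalizer hx⟩,
    (hH.of_equiv (subgroupOfEquivOfLe le_normalizer).symm).le_sylow_of_normal R₀ hx, rfl⟩
  -- the subgroup `M = H C(H)`
  set C := centralizer (H : Set G) with hC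
  have hCN : C ≤ N := centralizer_le_normalizer _
  set Ms := (H ⊔ C).subgroupOf N with hMs
  haveI hCn : (C.subgroupOf N).Normal := inferInstance
  have hMe : Ms = H.subgroupOf N ⊔ C.subgroupOf N :=
    subgroupOf_sup le_normalizer hCN
  haveI hMn : Ms.Normal := hMe ▸ inferInstance
  obtain ⟨S, hS⟩ : ∃ S : Sylow p Ms, (S : Subgroup Ms) = (R₀ : Subgroup N).subgroupOf Ms := by
    have hnd : ¬ p ∣ (R₀ : Subgroup N).relIndex Ms := fun hd => R₀.not_dvd_index
      (hd.trans (CfsgLib.HallGen.relIndex_dvd_index_right _ _))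
    exact ⟨(R₀.2.comap_subtype).toSylow hnd, rfl⟩
  set D := ((R₀ : Subgroup N) ⊓ Ms).map N.subtype with hD
  have hDeq : (S : Subgroup Ms).map Ms.subtype = (R₀ : Subgroup N) ⊓ Ms := by
    rw [hS, subgroupOf_map_subtype]
  have hfr : normalizer (((R₀ : Subgroup N) ⊓ Ms : Subgroup N) : Set N) ⊔ Ms = ⊤ :=
    hDeq ▸ Sylow.normalizer_sup_eq_top S
  have hDp : IsPGroup p D := (R₀.2.to_le inf_le_left).map _
  have hHD : H ≤ D := fun x hx => ⟨⟨x, le_normalizer hx⟩,
    ⟨(hH.of_equiv (subgroupOfEquivOfLe le_normalizer).symm).le_sylow_of_normal R₀ hx,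
      (le_sup_left : H ≤ H ⊔ C) hx⟩, rfl⟩
  have hRD : R ≤ normalizer (D : Set G) := by
    refine le_trans ?_ (le_normalizer_map N.subtype)
    refine map_mono fun r hr => mem_normalizer_iff.2 fun y => ?_
    constructor
    · intro hy
      exact ⟨(R₀ : Subgroup N).mul_mem ((R₀ : Subgroup N).mul_mem hr hy.1)
        ((R₀ : Subgroup N).inv_mem hr), hMn.conj_mem _ hy.2 r⟩
    · intro hy
      have h1 := (R₀ : Subgroup N).mul_mem ((R₀ : Subgroup N).mul_mem
        ((R₀ : Subgroup N).inv_mem hr) hy.1) hr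
      have h2 := hMn.conj_mem _ hy.2 r⁻¹
      simp only [mul_assoc, inv_mul_cancel, mul_one, inv_mul_cancel_left, inv_inv] at h1 h2
      exact ⟨h1, h2⟩
  -- `D` is again a candidate
  have hQD : HasQ q D := by
    by_contra hcon
    simp only [HasQ, not_exists, not_and, not_not] at hcon
    set N2 := normalizer (((R₀ : Subgroup N) ⊓ Ms : Subgroup N) : Set N) with hN2
    set Cs := C.subgroupOf N with hCs
    have hnd : ¬ q ∣ Cs.relIndex N2 := by
      refine not_dvd_relIndex fun x hx hk => ?_
      obtain ⟨k, hk⟩ := hk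
      have := hcon (x : G) (le_normalizer_map N.subtype ⟨x, hx, rfl⟩)
        ⟨k, congrArg Subtype.val hk⟩
      exact centralizer_le hHD this
    have hHN2 : H.subgroupOf N ≤ N2 := fun x hx => le_normalizer
      ⟨(hH.of_equiv (subgroupOfEquivOfLe le_normalizer).symm).le_sylow_of_normal R₀ hx,
        (le_sup_left : H ≤ H ⊔ C) hx⟩
    have htop : Cs ⊔ N2 = ⊤ := by
      refine top_unique (hfr.ge.trans (sup_le le_sup_right ?_))
      rw [hMe]
      exact sup_le (hHN2.trans le_sup_right) le_sup_left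
    obtain ⟨x, hx, ⟨k, hk⟩, hxc⟩ := hQ
    have hxm : (⟨x, hx⟩ : N) ∈ Cs ⊔ N2 := htop ▸ mem_top _
    obtain ⟨c, hc, y, hy, hcy⟩ := Subgroup.mem_sup_of_normal_left.1 hxm
    have hy' : y ^ q ^ k ∈ Cs := by
      rw [← QuotientGroup.eq_one_iff, QuotientGroup.mk_pow]
      have : (QuotientGroup.mk (⟨x, hx⟩ : N) : N ⧸ Cs) = QuotientGroup.mk y := by
        rw [← hcy, QuotientGroup.mk_mul, (QuotientGroup.eq_one_iff c).2 hc, one_mul]
      rw [← this, ← QuotientGroup.mk_pow, QuotientGroup.eq_one_iff]
      show x ^ q ^ k ∈ C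
      rw [hk]; exact one_mem _
    have := Cs.mul_mem hc (mem_of_qElement hnd hy hy')
    rw [hcy] at this
    exact hxc this
  have hDH : D = H := by
    have h1 := hmax D ⟨hDp, hQD⟩
    simp only [μ, ← hN] at h1
    have h2 : pExp p N ≤ pExp p (normalizer (D : Set G)) := hRexp ▸ pExp_mono hRD
    have h3 := Nat.mul_le_mul_right (Nat.card G + 1) h2
    exact (eq_of_le_of_card_ge hHD (by omega)).symm
  have hidx : ¬ p ∣ (H.subgroupOf N).relIndex Ms := by
    have h : ((R₀ : Subgroup N) ⊓ Ms).map N.subtype = H := hDH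
    rw [← h, show (((R₀ : Subgroup N) ⊓ Ms).map N.subtype).subgroupOf N = (R₀ : Subgroup N) ⊓ Ms
      from comap_map_eq_self_of_injective N.subtype_injective _, inf_relIndex_right]
    exact fun hd => R₀.not_dvd_index (hd.trans (CfsgLib.HallGen.relIndex_dvd_index_right _ _))
  -- `N` is `p`-solvable
  have hsolN : IsPSolvable p N := by
    refine isPSolvable_of_sandwich (H.subgroupOf N) Ms (hMe ▸ le_sup_left)
      (hH.of_equiv (subgroupOfEquivOfLe le_normalizer).symm) hidx ?_
    refine CfsgLib.PLocal.isPSolvable_of_surjective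
      (QuotientGroup.map (C.subgroupOf N) Ms (MonoidHom.id N) (hMe ▸ le_sup_right)) ?_ (hyp H hH)
    intro z
    obtain ⟨y, rfl⟩ := QuotientGroup.mk_surjective z
    exact ⟨QuotientGroup.mk y, rfl⟩
  -- a `{p,q}`-subgroup of `N` containing a Sylow `p`-subgroup
  obtain ⟨L₀, hL₀⟩ := exists_hall (p := p) (q := q) hpq _ N rfl hsolN
  obtain ⟨RL⟩ := (Sylow.nonempty : Nonempty (Sylow p L₀))
  set L := L₀.map N.subtype with hL
  have hLN : L ≤ N := map_subtype_le _
  have hLc : Nat.card L = twoPart p q (Nat.card N) := by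
    rw [hL, card_map_of_injective N.subtype_injective, hL₀]
  obtain ⟨R₂⟩ := (Sylow.nonempty : Nonempty (Sylow p L))
  set R' := (R₂ : Subgroup L).map L.subtype with hR'
  have hR'p : IsPGroup p R' := R₂.2.map _
  have hfac : ∀ r, (Nat.card L).factorization r
      = (twoPart p q (Nat.card N)).factorization r := fun r => by rw [hLc]
  have hexpL : (Nat.card L).factorization p = pExp p N ∧
      (Nat.card L).factorization q = (Nat.card N).factorization q := by
    rw [hfac, hfac, twoPart, Nat.factorization_mul (pow_ne_zero _ hp.out.ne_zero)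
      (pow_ne_zero _ hq.out.ne_zero), hp.out.factorization_pow, hq.out.factorization_pow]
    simp [hpq, hpq.symm, pExp]
  have hR'exp : pExp p R' = pExp p N := by
    rw [pExp, hR', card_map_of_injective (subtype_injective _), R₂.card_eq_multiplicity,
      hp.out.factorization_pow, Finsupp.single_eq_same]
    exact hexpL.1
  have hHL : H ≤ L := by
    -- `H` lies in every Sylow `p`-subgroup of `N`
    have hc : Nat.card (R'.subgroupOf N) = p ^ (Nat.card N).factorization p := by
      rw [Nat.card_congr (subgroupOfEquivOfLe ((map_subtype_le _).trans hLN)).toEquiv]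
      obtain ⟨i, hi⟩ := IsPGroup.iff_card.1 hR'p
      have := hR'exp
      rw [pExp, hi, hp.out.factorization_pow, Finsupp.single_eq_same] at this
      rw [hi, this]; rfl
    intro x hx
    have := (hH.of_equiv (subgroupOfEquivOfLe le_normalizer).symm).le_sylow_of_normal
      (Sylow.ofCard _ hc) (x := ⟨x, le_normalizer hx⟩) hx
    rw [Sylow.coe_ofCard] at this
    exact map_subtype_le _ this
  haveI hHLn : (H.subgroupOf L).Normal := normal_subgroupOf_of_le_normalizer hLN
  have hdivL : q ∣ (centralizer ((H.subgroupOf L : Subgroup L) : Set L)).index := by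
    by_contra hnd
    have h1 : ¬ q ∣ C.relIndex L := by
      intro hd
      refine hnd (hd.trans (dvd_of_eq ?_))
      show (C.subgroupOf L).index = _
      congr 1
      ext x
      rw [mem_subgroupOf, mem_centralizer_iff, mem_centralizer_iff]
      exact ⟨fun h y hy => Subtype.ext (h y hy),
        fun h y hy => congrArg Subtype.val (h ⟨y, hHL hy⟩ hy)⟩
    have h2 : C.relIndex N ∣ C.relIndex L * L.relIndex N := by
      rw [← inf_relIndex_right C L, relIndex_mul_relIndex (C ⊓ L) L N inf_le_right hLN]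
      exact relIndex_dvd_of_le_left N inf_le_left
    have h3 : ¬ q ∣ L.relIndex N := by
      intro hd
      have h4 : Nat.card L * L.relIndex N = Nat.card N := by
        rw [← relIndex_bot_left, relIndex_mul_relIndex _ _ _ bot_le hLN, relIndex_bot_left]
      have h5 := congrArg (fun t : ℕ => t.factorization q) h4
      rw [Nat.factorization_mul Nat.card_pos.ne' (show L.relIndex N ≠ 0 from index_ne_zero_of_finite), Finsupp.add_apply,
        hexpL.2] at h5
      have := hq.out.factorization_pos_of_dvd (show L.relIndex N ≠ 0 from index_ne_zero_of_finite) hd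
      omega
    rcases hq.out.dvd_mul.1 ((dvd_of_hasQ hQ).trans h2) with h | h
    exacts [h1 h, h3 h]
  obtain ⟨x, ⟨k, hk⟩, hxc, hx⟩ := exists_element (p := p) (q := q) h23 hpq hLc (H.subgroupOf L)
    (hH.of_equiv (subgroupOfEquivOfLe hHL).symm) hdivL R₂
  have hxC : (x : G) ∉ C := fun h => hxc (mem_centralizer_iff.2 fun y hy =>
    Subtype.ext (mem_centralizer_iff.1 h y hy))
  have hxk : (x : G) ^ q ^ k = 1 := by
    rw [← Subgroup.coe_pow, hk, Subgroup.coe_one]
  have hR'bot : R' ≠ ⊥ := by
    intro hb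
    have hH1 := exists_not_centralizing hQ
    rw [← Subgroup.one_lt_card_iff_ne_bot] at hH1
    obtain ⟨i, hi⟩ := IsPGroup.iff_card.1 hH
    have h1 : pExp p H ≤ pExp p R' := (pExp_mono le_normalizer).trans hR'exp.ge
    rw [hb, pExp, pExp, hi, card_bot, hp.out.factorization_pow, Finsupp.single_eq_same,
      Nat.factorization_one] at h1
    simp only [Finsupp.coe_zero, Pi.zero_apply, Nat.le_zero] at h1
    rw [hi, h1] at hH1
    simp at hH1
  -- the functorial subgroup of `R'` moved by `x`
  obtain ⟨K, hKR, hKne, hKN, hxK⟩ : ∃ K : Subgroup G, K ≤ R' ∧ K ≠ ⊥ ∧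
      normalizer (R' : Set G) ≤ normalizer (K : Set G) ∧ (x : G) ∈ normalizer (K : Set G) := by
    rcases hx with hx | hx
    · refine ⟨jay p R', jay_le _, jay_ne_bot hR'p hR'bot, normalizer_le_normalizer_jay _, ?_⟩
      rw [hR', ← jay_map L.subtype _ (by rw [L.ker_subtype]; exact disjoint_bot_right)]
      exact le_normalizer_map L.subtype ⟨x, hx, rfl⟩
    · refine ⟨ocen p R', fun z hz => hz.1, ocen_ne_bot hR'p hR'bot,
        normalizer_le_normalizer_ocen _, centralizer_le_normalizer _ ?_⟩
      refine mem_centralizer_iff.2 fun z hz => ?_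
      obtain ⟨⟨z, hzR, rfl⟩, hzc, hzp⟩ := hz
      exact congrArg Subtype.val (mem_centralizer_iff.1 hx z ⟨hzR,
        fun y hy => Subtype.ext (hzc _ ⟨y, hy, rfl⟩), Subtype.ext hzp⟩)
  have hKp : IsPGroup p K := hR'p.to_le hKR
  set G1 := normalizer (K : Set G) with hG1
  have hRG1 : R' ≤ G1 := le_normalizer.trans hKN
  -- `R'` is not a Sylow subgroup of `G`, so grows inside `G1`
  have hgrow : pExp p N < pExp p G1 := by
    obtain ⟨P, hP⟩ := hR'p.exists_le_sylow
    have hne : R' < (P : Subgroup G) := by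
      refine lt_of_le_of_ne hP fun e => ?_
      have h1 : pExp p (P : Subgroup G) = m := by
        rw [pExp, P.card_eq_multiplicity, hp.out.factorization_pow, Finsupp.single_eq_same]
      rw [← e, hR'exp] at h1
      omega
    haveI : Group.IsNilpotent (P : Subgroup G) := P.2.isNilpotent
    obtain ⟨y, hy, hyR⟩ : ∃ y : (P : Subgroup G),
        y ∈ normalizer ((R'.subgroupOf (P : Subgroup G) : Subgroup (P : Subgroup G)) :
          Set (P : Subgroup G)) ∧ y ∉ R'.subgroupOf (P : Subgroup G) := by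
      have hlt : R'.subgroupOf (P : Subgroup G) < ⊤ := by
        rw [lt_top_iff_ne_top, Ne, subgroupOf_eq_top]
        exact fun h => hne.ne (le_antisymm hP h)
      exact SetLike.exists_of_lt (normalizerCondition_of_isNilpotent _ hlt)
    have hyN : (y : G) ∈ normalizer (R' : Set G) := by
      have := le_normalizer_map (P : Subgroup G).subtype ⟨y, hy, rfl⟩
      rwa [subgroupOf_map_subtype, inf_eq_left.2 hP] at this
    have hle : R' ⊔ zpowers (y : G) ≤ (P : Subgroup G) := sup_le hP (zpowers_le.2 y.2)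
    have hlt : R' < R' ⊔ zpowers (y : G) := lt_of_le_of_ne le_sup_left fun e =>
      hyR (e ▸ (le_sup_right : zpowers (y : G) ≤ _) (mem_zpowers _))
    calc pExp p N = pExp p R' := hR'exp.symm
      _ < pExp p (R' ⊔ zpowers (y : G) : Subgroup G) := lt_pExp hR'p (P.2.to_le hle) hlt
      _ ≤ pExp p G1 := pExp_mono (sup_le hRG1 (zpowers_le.2 (hKN hyN)))
  by_cases hG1top : G1 = ⊤
  swap
  · -- induction in a proper local subgroup gives a better candidate
    exfalso
    have hlt : Nat.card G1 < n := hn ▸ lt_of_le_of_ne (Subgroup.card_le_card_group G1)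
      (fun e => hG1top (Subgroup.eq_top_of_card_eq G1 e))
    have hH1 : H ≤ G1 := by
      intro z hz
      refine hRG1 ?_
      have hz' : (⟨z, hHL hz⟩ : L) ∈ (R₂ : Subgroup L) :=
        (hH.of_equiv (subgroupOfEquivOfLe hHL).symm).le_sylow_of_normal R₂ hz
      exact ⟨_, hz', rfl⟩
    have hQ1 : HasQ q (H.subgroupOf G1) := by
      refine ⟨⟨x, hxK⟩, ?_, ⟨k, Subtype.ext hxk⟩, fun hc => hxC ?_⟩
      · exact mem_normalizer_iff.2 fun y => mem_normalizer_iff.1 (hLN x.2) (y : G)
      · exact mem_centralizer_iff.2 fun y hy =>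
          congrArg Subtype.val (mem_centralizer_iff.1 hc ⟨y, hH1 hy⟩ hy)
    obtain ⟨P1, K2, hK2, hPK2, hQ2⟩ := ih _ hlt G1 rfl (hyp_subgroup hyp G1) (H.subgroupOf G1)
      (hH.of_equiv (subgroupOfEquivOfLe hH1).symm) hQ1
    obtain ⟨y, hy, ⟨j, hj⟩, hyc⟩ := hQ2
    have hQ2' : HasQ q (K2.map G1.subtype) := by
      refine ⟨y, le_normalizer_map _ ⟨y, hy, rfl⟩,
        ⟨j, by rw [← Subgroup.coe_pow, hj, Subgroup.coe_one]⟩, fun hc => hyc ?_⟩
      exact mem_centralizer_iff.2 fun z hz =>
        Subtype.ext (mem_centralizer_iff.1 hc _ ⟨z, hz, rfl⟩)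
    have h1 := hbetter _ ((P1.2.to_le hK2).map _) hQ2'
    have h2 : pExp p G1 ≤ pExp p (normalizer ((K2.map G1.subtype : Subgroup G) : Set G)) := by
      have h3 := pExp_mono (p := p) ((map_mono hPK2).trans (le_normalizer_map G1.subtype))
      rw [pExp, card_map_of_injective (subtype_injective _), P1.card_eq_multiplicity,
        hp.out.factorization_pow, Finsupp.single_eq_same] at h3
      exact h3
    omega
  haveI hKn : K.Normal := normalizer_eq_top_iff.1 hG1top
  by_cases hxcK : (x : G) ∈ centralizer (K : Set G)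
  swap
  · refine finish K hKp ⟨x, hxK, ⟨k, hxk⟩, hxcK⟩ ?_
    rw [← hG1, hG1top, pExp, card_top]
  -- induction in the quotient by `K`
  have hlt : Nat.card (G ⧸ K) < n := by
    rw [← hn, Subgroup.card_eq_card_quotient_mul_card_subgroup K]
    exact lt_mul_of_one_lt_right Nat.card_pos ((Subgroup.one_lt_card_iff_ne_bot K).2 hKne)
  set π := QuotientGroup.mk' K with hπ
  have hπs := QuotientGroup.mk'_surjective K
  have hQb : HasQ q (H.map π) := by
    refine ⟨π x, le_normalizer_map π ⟨x, hLN x.2, rfl⟩, ⟨k, by rw [← map_pow, hxk, map_one]⟩,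
      fun hc => hxC ?_⟩
    refine mem_centralizer_iff.2 fun y hy => ?_
    have hcy : π y * π (x : G) = π (x : G) * π y := mem_centralizer_iff.1 hc _ ⟨y, hy, rfl⟩
    set c := y⁻¹ * ((x : G) * y * (x : G)⁻¹) with hcdef
    have hcK : c ∈ K := by
      rw [← QuotientGroup.eq_one_iff]
      show π c = 1
      rw [hcdef]
      simp only [map_mul, map_inv]
      rw [← hcy]; group
    have hcx : Commute (x : G) c := (mem_centralizer_iff.1 hxcK c hcK).symm
    have hpow : ∀ j : ℕ, (x : G) ^ j * y * ((x : G) ^ j)⁻¹ = y * c ^ j := by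
      intro j
      induction j with
      | zero => simp
      | succ j ihj =>
        calc (x : G) ^ (j + 1) * y * ((x : G) ^ (j + 1))⁻¹
            = (x : G) * ((x : G) ^ j * y * ((x : G) ^ j)⁻¹) * (x : G)⁻¹ := by
              rw [pow_succ']; group
          _ = (x : G) * (y * c ^ j) * (x : G)⁻¹ := by rw [ihj]
          _ = ((x : G) * y * (x : G)⁻¹) * ((x : G) * c ^ j * (x : G)⁻¹) := by group
          _ = (y * c) * c ^ j := by
              rw [(hcx.pow_right j).eq, mul_inv_cancel_right]
              simp [hcdef, mul_assoc]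
          _ = y * c ^ (j + 1) := by rw [pow_succ', mul_assoc]
    have h1 : c ^ q ^ k = 1 := by
      have := hpow (q ^ k)
      rw [hxk] at this
      simpa using this
    obtain ⟨i, hi⟩ := hKp ⟨c, hcK⟩
    have hi' : c ^ p ^ i = 1 := congrArg Subtype.val hi
    have hc1 : c = 1 := orderOf_eq_one_iff.1 (Nat.eq_one_of_dvd_coprimes
      ((Nat.coprime_primes hp.out hq.out).2 hpq |>.pow i k)
      (orderOf_dvd_of_pow_eq_one hi') (orderOf_dvd_of_pow_eq_one h1))
    rw [hcdef, inv_mul_eq_one] at hc1
    nth_rewrite 1 [hc1]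
    group
  obtain ⟨Pb, K2, hK2, hPK2, hQ2⟩ :=
    ih _ hlt (G ⧸ K) rfl (hyp_quotient hyp K hKp) (H.map π) (hH.map π) hQb
  set K3 := K2.comap π with hK3
  have hK3p : IsPGroup p K3 :=
    (Pb.2.to_le hK2).comap_of_ker_isPGroup π (by rwa [hπ, QuotientGroup.ker_mk'])
  refine finish K3 hK3p ?_ ?_
  · obtain ⟨y, hy, ⟨j, hj⟩, hyc⟩ := hQ2
    obtain ⟨y, rfl⟩ := hπs y
    by_contra hcon
    simp only [HasQ, not_exists, not_and, not_not] at hcon
    have hnd : ¬ q ∣ (centralizer (K3 : Set G)).relIndex (normalizer (K3 : Set G)) :=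
      not_dvd_relIndex fun z hz hk => hcon z hz hk
    have hyN : y ∈ normalizer (K3 : Set G) :=
      (comap_normalizer_eq_of_surjective K2 hπs).le hy
    have hm' := Subgroup.pow_index_mem
      ((centralizer (K3 : Set G)).subgroupOf (normalizer (K3 : Set G))) ⟨y, hyN⟩
    refine hyc (mem_of_pow (((Nat.Prime.coprime_iff_not_dvd hq.out).2 hnd).pow_left j)
      (by rw [hj]; exact one_mem _) ?_)
    refine mem_centralizer_iff.2 fun z hz => ?_
    obtain ⟨z, rfl⟩ := hπs z
    rw [← map_pow, ← map_mul, ← map_mul]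
    exact congrArg π (mem_centralizer_iff.1 hm' z hz)
  · have h1 : (Pb : Subgroup (G ⧸ K)).comap π ≤ normalizer (K3 : Set G) :=
      (comap_mono hPK2).trans (comap_normalizer_eq_of_surjective K2 hπs).le
    refine le_trans (le_of_eq ?_) (pExp_mono h1)
    rw [pExp, lift_hall.card_comap_mul π hπs, hπ, QuotientGroup.ker_mk', Pb.card_eq_multiplicity,
      Nat.factorization_mul (pow_ne_zero _ hp.out.ne_zero) Nat.card_pos.ne', Finsupp.add_apply,
      hp.out.factorization_pow, Finsupp.single_eq_same, hm,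
      Subgroup.card_eq_card_quotient_mul_card_subgroup K,
      Nat.factorization_mul Nat.card_pos.ne' Nat.card_pos.ne', Finsupp.add_apply]

end CfsgLib.PGroups.Automizer
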