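import Cfsg.Agent.Lib.Core.AssociatedLie
import Mathlib.GroupTheory.PGroup
import Mathlib.GroupTheory.Solvable

/-!
# The order of a p-group of given derived length (Hall's bound with Mann's improvement)

For a normal subgroup `N` inside the `j`-th lower central subgroup the chain `N, [N,G], [N,G,G], …` passes
through at least `j + 1` steps before meeting `[N,N]`; the size of the first step decides how deep `[N,N]` lies.
-/

set_option autoImplicit false
set_option linter.all false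

namespace CfsgLib.PGroups.DerivedOrder

open Subgroup
open scoped commutatorElement

variable {G : Type*} [Group G]

local notation "γ" => Subgroup.lowerCentralSeries (⊤ : Subgroup G)

/-- iterated derived subgroup of `N` -/
def der : Subgroup G → ℕ → Subgroup G
  | N, 0 => N
  | N, r + 1 => der ⁅N, N⁆ r

/-- iterated commutators with the whole group -/
def step (N : Subgroup G) : ℕ → Subgroup G
  | 0 => N
  | t + 1 => ⁅step N t, (⊤ : Subgroup G)⁆

theorem der_bot (r : ℕ) : der (⊥ : Subgroup G) r = ⊥ := by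
  induction r with
  | zero => rfl
  | succ r ih => rw [der, Subgroup.commutator_bot_left, ih]

theorem der_succ' (N : Subgroup G) (r : ℕ) : der N (r + 1) = ⁅der N r, der N r⁆ := by
  induction r generalizing N with
  | zero => rfl
  | succ r ih => rw [der, ih, der]

theorem der_top (r : ℕ) : der (⊤ : Subgroup G) r = derivedSeries G r := by
  induction r with
  | zero => rfl
  | succ r ih => rw [der_succ', ih, derivedSeries_succ]

theorem step_shift (N : Subgroup G) (t : ℕ) : step ⁅N, (⊤ : Subgroup G)⁆ t = step N (t + 1) := by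
  induction t with
  | zero => rfl
  | succ t ih => rw [step, ih]; rfl

theorem step_normal (N : Subgroup G) [hN : N.Normal] (t : ℕ) : (step N t).Normal := by
  induction t with
  | zero => exact hN
  | succ t ih => haveI := ih; exact Subgroup.commutator_normal _ _

theorem step_le_gamma {N : Subgroup G} {j : ℕ} (h : N ≤ γ j) (t : ℕ) : step N t ≤ γ (j + t) := by
  induction t with
  | zero => exact h
  | succ t ih =>
    rw [step, ← Nat.add_assoc, Subgroup.lowerCentralSeries_succ]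
    exact Subgroup.commutator_mono ih le_rfl

theorem commutator_gamma_le (j : ℕ) : ∀ (N : Subgroup G) [N.Normal], ⁅N, γ j⁆ ≤ step N (j + 1) := by
  induction j with
  | zero => intro N _; exact le_of_eq rfl
  | succ j ih =>
    intro N _
    haveI := step_normal N (j + 1 + 1)
    rw [Subgroup.lowerCentralSeries_succ, Subgroup.commutator_comm]
    refine CfsgLib.ClassSizes.three_subgroup_le _ ?_ ?_
    · rw [Subgroup.commutator_comm (⊤ : Subgroup G), ← step_shift]
      exact ih _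
    · exact Subgroup.commutator_mono (ih N) le_rfl

/-- if `S` is generated by one element modulo `Z` then `[S, S] ≤ [S, Z]` -/
theorem commutator_le_of_sup_zpowers {S Z : Subgroup G} [S.Normal] [Z.Normal] {a : G} (hZ : Z ≤ S) (ha : a ∈ S)
    (h : S ≤ zpowers a ⊔ Z) : ⁅S, S⁆ ≤ ⁅S, Z⁆ := by
  have hmap : ∀ g ∈ S, ∀ z ∈ Z, Commute (QuotientGroup.mk' ⁅S, Z⁆ g) (QuotientGroup.mk' ⁅S, Z⁆ z) := by
    intro g hg z hz
    have := (QuotientGroup.eq_one_iff (N := ⁅S, Z⁆) _).2 (Subgroup.commutator_mem_commutator hg hz)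
    change QuotientGroup.mk' ⁅S, Z⁆ ⁅g, z⁆ = 1 at this
    rw [map_commutatorElement] at this
    exact commutatorElement_eq_one_iff_commute.1 this
  rw [Subgroup.commutator_le]
  intro x hx y hy
  refine (QuotientGroup.eq_one_iff (N := ⁅S, Z⁆) _).1 ?_
  show QuotientGroup.mk' ⁅S, Z⁆ ⁅x, y⁆ = 1
  rw [map_commutatorElement]
  refine commutatorElement_eq_one_iff_commute.2 ?_
  obtain ⟨u, hu, z, hz, rfl⟩ := Subgroup.mem_sup_of_normal_right.1 (h hx)
  obtain ⟨v, hv, w, hw, rfl⟩ := Subgroup.mem_sup_of_normal_right.1 (h hy)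
  obtain ⟨i, rfl⟩ := Subgroup.mem_zpowers_iff.1 hu
  obtain ⟨l, rfl⟩ := Subgroup.mem_zpowers_iff.1 hv
  rw [map_mul, map_mul]
  refine Commute.mul_left (Commute.mul_right ?_ ?_) (Commute.mul_right ?_ ?_)
  · rw [map_zpow, map_zpow]; exact Commute.zpow_zpow_self _ i l
  · exact hmap _ (S.zpow_mem ha i) w hw
  · exact (hmap _ (S.zpow_mem ha l) z hz).symm
  · exact hmap _ (hZ hz) w hw

/-- if `S` is generated by two elements modulo `Z` then `[S, S]` is generated by their commutator modulo `[S, Z]` -/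
theorem commutator_le_of_two {S Z : Subgroup G} [S.Normal] [Z.Normal] {a b : G} (hZ : Z ≤ S) (ha : a ∈ S) (hb : b ∈ S)
    (hab : ⁅a, b⁆ ∈ Z) (h : S ≤ Subgroup.closure {a, b} ⊔ Z) :
    ⁅S, S⁆ ≤ zpowers ⁅a, b⁆ ⊔ ⁅S, Z⁆ := by
  set K := ⁅S, Z⁆ with hK
  set f := QuotientGroup.mk' K with hf
  set c := f ⁅a, b⁆
  have hmap : ∀ g ∈ S, ∀ z ∈ Z, Commute (f g) (f z) := by
    intro g hg z hz
    have := (QuotientGroup.eq_one_iff (N := K) _).2 (Subgroup.commutator_mem_commutator hg hz)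
    change f ⁅g, z⁆ = 1 at this
    rw [map_commutatorElement] at this
    exact commutatorElement_eq_one_iff_commute.1 this
  -- the set of elements whose commutator with everything lies in the cyclic central subgroup
  have hc : ∀ g ∈ S, Commute (f g) c := fun g hg => hmap g hg _ hab
  have hcS : ∀ g ∈ S, ∀ w ∈ zpowers c, Commute (f g) w := fun g hg w hw => by
    obtain ⟨i, rfl⟩ := Subgroup.mem_zpowers_iff.1 hw
    exact (hc g hg).zpow_right i
  have hmul : ∀ x ∈ S, ∀ y ∈ S, ∀ g ∈ S, ⁅f x, f g⁆ ∈ zpowers c → ⁅f y, f g⁆ ∈ zpowers c →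
      ⁅f x * f y, f g⁆ ∈ zpowers c := by
    intro x hx y hy g hg h1 h2
    rw [show ⁅f x * f y, f g⁆ = f x * ⁅f y, f g⁆ * (f x)⁻¹ * ⁅f x, f g⁆ by
      simp only [commutatorElement_def]; group]
    rw [(hcS x hx _ h2).eq, mul_inv_cancel_right]
    exact mul_mem h2 h1
  let T : G → Subgroup G := fun g =>
    { carrier := {x | x ∈ S ∧ g ∈ S ∧ ⁅f x, f g⁆ ∈ zpowers c} ∪ {x | x ∈ S ∧ g ∉ S}
      one_mem' := by
        by_cases hg : g ∈ S
        · exact Or.inl ⟨S.one_mem, hg, by simp [commutatorElement_def]⟩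
        · exact Or.inr ⟨S.one_mem, hg⟩
      mul_mem' := by
        rintro x y (⟨hx, hg, h1⟩ | ⟨hx, hg⟩) (⟨hy, hg', h2⟩ | ⟨hy, hg'⟩)
        · refine Or.inl ⟨S.mul_mem hx hy, hg, ?_⟩
          rw [map_mul]; exact hmul x hx y hy g hg h1 h2
        all_goals first
          | exact absurd hg hg'
          | exact absurd hg' hg
          | exact Or.inr ⟨S.mul_mem hx hy, hg⟩
      inv_mem' := by
        rintro x (⟨hx, hg, h1⟩ | ⟨hx, hg⟩)
        · refine Or.inl ⟨S.inv_mem hx, hg, ?_⟩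
          have h2 : ⁅f x, f g⁆⁻¹ ∈ zpowers c := inv_mem h1
          rw [map_inv, show ⁅(f x)⁻¹, f g⁆ = (f x)⁻¹ * ⁅f x, f g⁆⁻¹ * f x by
            simp only [commutatorElement_def]; group, mul_assoc, ← (hcS x hx _ h2).eq, inv_mul_cancel_left]
          exact h2
        · exact Or.inr ⟨S.inv_mem hx, hg⟩ }
  have hmemT : ∀ {x g}, x ∈ S → g ∈ S → (x ∈ T g ↔ ⁅f x, f g⁆ ∈ zpowers c) := fun {x g} hx hg =>
    ⟨fun h' => h'.elim (fun h'' => h''.2.2) (fun h'' => absurd hg h''.2), fun h' => Or.inl ⟨hx, hg, h'⟩⟩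
  -- symmetry
  have hsymm : ∀ x y : G, ⁅f x, f y⁆ ∈ zpowers c → ⁅f y, f x⁆ ∈ zpowers c := fun x y h' => by
    rw [← commutatorElement_inv]; exact inv_mem h'
  have hgen : ∀ g ∈ S, ⁅f a, f g⁆ ∈ zpowers c → ⁅f b, f g⁆ ∈ zpowers c → ∀ x ∈ S, ⁅f x, f g⁆ ∈ zpowers c := by
    intro g hg h1 h2 x hx
    refine (hmemT hx hg).1 ((sup_le ((Subgroup.closure_le _).2 ?_) fun z hz => (hmemT (hZ hz) hg).2 ?_) (h hx))
    · rintro w (rfl | rfl)
      · exact (hmemT ha hg).2 h1
      · exact (hmemT hb hg).2 h2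
    · rw [commutatorElement_eq_one_iff_commute.2 (hmap g hg z hz).symm]; exact one_mem _
  have hself : ∀ u : G, ⁅f u, f u⁆ ∈ zpowers c := fun u => by
    rw [commutatorElement_eq_one_iff_commute.2 (Commute.refl _)]; exact one_mem _
  have hab' : ⁅f a, f b⁆ ∈ zpowers c := by rw [← map_commutatorElement]; exact mem_zpowers c
  have hA : ∀ x ∈ S, ⁅f x, f a⁆ ∈ zpowers c := hgen a ha (hself a) (hsymm _ _ hab')
  have hB : ∀ x ∈ S, ⁅f x, f b⁆ ∈ zpowers c := hgen b hb hab' (hself b)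
  rw [Subgroup.commutator_le]
  intro x hx y hy
  have h3 : f ⁅x, y⁆ ∈ zpowers c := by
    rw [map_commutatorElement]
    exact hgen y hy (hsymm _ _ (hA y hy)) (hsymm _ _ (hB y hy)) x hx
  obtain ⟨i, hi⟩ := Subgroup.mem_zpowers_iff.1 h3
  rw [← map_zpow] at hi
  have h4 := (QuotientGroup.eq).1 hi
  rw [show ⁅x, y⁆ = ⁅a, b⁆ ^ i * ((⁅a, b⁆ ^ i)⁻¹ * ⁅x, y⁆) by rw [mul_inv_cancel_left]]
  exact mul_mem (mem_sup_left (zpow_mem (mem_zpowers _) i)) (mem_sup_right h4)

section PGroup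

variable [Finite G] {p : ℕ} [hp : Fact p.Prime] (hP : IsPGroup p G)

include hP

theorem mul_card_le_of_lt {A B : Subgroup G} (h : A < B) : p * Nat.card A ≤ Nat.card B := by
  obtain ⟨i, hi⟩ := IsPGroup.iff_card.1 (hP.to_subgroup A)
  obtain ⟨l, hl⟩ := IsPGroup.iff_card.1 (hP.to_subgroup B)
  have hlt : Nat.card A < Nat.card B := lt_of_le_of_ne (Nat.le_of_dvd Nat.card_pos (card_dvd_of_le h.le))
    fun e => h.ne (eq_of_le_of_card_ge h.le e.ge)
  rw [hi, hl] at hlt ⊢
  rw [← pow_succ']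
  exact Nat.pow_le_pow_right hp.out.pos ((Nat.pow_lt_pow_iff_right hp.out.one_lt).1 hlt)

theorem commutator_top_lt {K : Subgroup G} [K.Normal] (hK : K ≠ ⊥) : ⁅K, (⊤ : Subgroup G)⁆ < K := by
  refine lt_of_le_of_ne (Subgroup.commutator_le_left K ⊤) fun he => hK ?_
  have hle : ∀ t, K ≤ γ t := by
    intro t
    induction t with
    | zero => exact le_top
    | succ t ih =>
      rw [Subgroup.lowerCentralSeries_succ, ← he]
      exact Subgroup.commutator_mono ih le_rfl
  haveI : Group.IsNilpotent G := hP.isNilpotent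
  obtain ⟨n, hn⟩ := Subgroup.nilpotent_iff_lowerCentralSeries.1 (inferInstance : Group.IsNilpotent G)
  exact le_bot_iff.1 ((hle n).trans hn.le)

theorem step_card {N X : Subgroup G} [N.Normal] (hX : X ≠ ⊥) {t : ℕ} (h : X ≤ step N t) (s : ℕ) (hs : s ≤ t) :
    p ^ (t - s) * Nat.card X ≤ Nat.card (step N s) := by
  obtain ⟨d, rfl⟩ := Nat.exists_eq_add_of_le hs
  induction d generalizing s with
  | zero =>
    rw [Nat.add_zero, Nat.sub_self, pow_zero, one_mul]
    exact Nat.le_of_dvd Nat.card_pos (card_dvd_of_le h)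
  | succ d ih =>
    haveI := step_normal N s
    have h' : X ≤ step N (s + 1 + d) := by rwa [show s + 1 + d = s + (d + 1) by omega]
    have h1 := ih (s + 1) h' (by omega)
    have hzero : step N s = ⊥ → ∀ i, step N (s + i) = ⊥ := fun e i => by
      induction i with
      | zero => exact e
      | succ i ihi => rw [← Nat.add_assoc, step, ihi, Subgroup.commutator_bot_left]
    have hne : step N s ≠ ⊥ := fun e => hX (le_bot_iff.1 (h.trans (hzero e (d + 1)).le))
    have h2 := mul_card_le_of_lt hP (commutator_top_lt hP hne)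
    change p * Nat.card (step N (s + 1)) ≤ Nat.card (step N s) at h2
    rw [show s + (d + 1) - s = d + 1 by omega]
    rw [show s + 1 + d - (s + 1) = d by omega] at h1
    rw [pow_succ', mul_assoc]
    exact (Nat.mul_le_mul_left p h1).trans h2

/-- the first step: how large `N` is over `⁅N, N⁆`, and where the latter lies -/
theorem first_step {N : Subgroup G} [N.Normal] {j : ℕ} (hj : N ≤ γ j) (hX : ⁅N, N⁆ ≠ ⊥) :
    ⁅N, N⁆ ≤ γ (2 * j + 1) ∧ p ^ (j + 2) * Nat.card ↥⁅N, N⁆ ≤ Nat.card N ∧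
      (p ^ (j + 3) * Nat.card ↥⁅N, N⁆ ≤ Nat.card N ∨ ⁅N, N⁆ ≤ γ (2 * j + 2) ∨
        ⁅⁅N, N⁆, ⁅N, N⁆⁆ ≤ γ (4 * j + 4)) := by
  classical
  set X := ⁅N, N⁆ with hXdef
  set Z := step N 1 with hZdef
  have hZn : Z.Normal := step_normal N 1
  haveI := hZn
  have hZN : Z ≤ N := Subgroup.commutator_le_left N ⊤
  have hγ : X ≤ γ (2 * j + 1) := (Subgroup.commutator_mono hj hj).trans
    ((CfsgLib.Core.Assoc.lowerCentralSeries_commutator_le j j).trans (le_of_eq (by rw [two_mul])))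
  have hXstep : X ≤ step N (j + 1) := (Subgroup.commutator_mono le_rfl hj).trans (commutator_gamma_le j N)
  have hXZ := step_card hP hX hXstep 1 (by omega)
  rw [show j + 1 - 1 = j by omega, ← hZdef] at hXZ
  have hZj : Z ≤ γ (j + 1) := step_le_gamma hj 1
  have hN0 : N ≠ ⊥ := fun e => hX (by rw [hXdef, e, Subgroup.commutator_bot_left])
  have hlt : Z < N := @commutator_top_lt _ _ _ _ _ hP N inferInstance hN0
  have h1 := mul_card_le_of_lt hP hlt
  obtain ⟨i, hi⟩ := IsPGroup.iff_card.1 (hP.to_subgroup Z)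
  obtain ⟨l, hl⟩ := IsPGroup.iff_card.1 (hP.to_subgroup N)
  have hil : i + 1 ≤ l := by
    rw [hi, hl, ← pow_succ'] at h1
    exact (Nat.pow_le_pow_iff_right hp.out.one_lt).1 h1
  have hK : ⁅N, Z⁆ ≤ γ (2 * j + 2) := (Subgroup.commutator_mono hj hZj).trans
    ((CfsgLib.Core.Assoc.lowerCentralSeries_commutator_le j (j + 1)).trans (le_of_eq (by congr 1; omega)))
  have hgrow : ∀ {A : Subgroup G} {b : G}, Z ≤ A → b ∈ N → b ∉ A → A ≤ N →
      p * Nat.card A ≤ Nat.card ↥(A ⊔ zpowers b) ∧ A ⊔ zpowers b ≤ N := fun {A b} _ hb hbA hAN =>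
    ⟨mul_card_le_of_lt hP (lt_of_le_of_ne le_sup_left fun e => hbA (e.ge (mem_sup_right (mem_zpowers b)))),
      sup_le hAN (zpowers_le.2 hb)⟩
  obtain ⟨a, haN, haZ⟩ := SetLike.not_le_iff_exists.1 (fun e : N ≤ Z => hlt.ne (le_antisymm hlt.le e))
  obtain ⟨hA, hAN⟩ := hgrow le_rfl haN haZ hZN
  rcases (show l = i + 1 ∨ l = i + 2 ∨ i + 3 ≤ l by omega) with hd | hd | hd
  · -- cyclic first layer
    have hgen : N ≤ zpowers a ⊔ Z := by
      rw [sup_comm]
      exact (eq_of_le_of_card_ge hAN (by rw [hl, hd, pow_succ', ← hi]; exact hA)).ge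
    have hX2 : X ≤ ⁅N, Z⁆ := commutator_le_of_sup_zpowers hZN haN hgen
    have hstep2 : X ≤ step N (j + 2) := hX2.trans ((Subgroup.commutator_mono le_rfl hZj).trans
      (commutator_gamma_le (j + 1) N))
    have h2 := step_card hP hX hstep2 1 (by omega)
    rw [show j + 2 - 1 = j + 1 by omega, ← hZdef] at h2
    refine ⟨hγ, ?_, Or.inr (Or.inl (hX2.trans hK))⟩
    rw [show j + 2 = j + 1 + 1 by omega, pow_succ', mul_assoc]
    exact (Nat.mul_le_mul_left p h2).trans (mul_card_le_of_lt hP hlt)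
  · have hbase : p ^ (j + 2) * Nat.card X ≤ Nat.card N := by
      rw [pow_add, mul_comm (p ^ j), mul_assoc, hl, hd, pow_add, mul_comm (p ^ i)]
      exact Nat.mul_le_mul_left _ (hXZ.trans hi.le)
    refine ⟨hγ, hbase, Or.inr (Or.inr ?_)⟩
    obtain ⟨b, hbN, hgen⟩ : ∃ b ∈ N, N ≤ Subgroup.closure {a, b} ⊔ Z := by
      by_cases hall : N ≤ Z ⊔ zpowers a
      · refine ⟨a, haN, hall.trans (sup_le le_sup_right ((zpowers_le.2 ?_).trans le_sup_left))⟩
        exact Subgroup.subset_closure (Set.mem_insert a _)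
      · obtain ⟨b, hb, hbn⟩ := SetLike.not_le_iff_exists.1 hall
        obtain ⟨hB, hBN⟩ := hgrow le_sup_left hb hbn hAN
        have heq : Z ⊔ zpowers a ⊔ zpowers b = N := eq_of_le_of_card_ge hBN (by
          refine le_trans ?_ ((Nat.mul_le_mul_left p hA).trans hB)
          rw [hi, hl, hd, pow_add, mul_comm (p ^ i), sq, mul_assoc])
        refine ⟨b, hb, heq.ge.trans (sup_le (sup_le le_sup_right ((zpowers_le.2 ?_).trans le_sup_left))
          ((zpowers_le.2 ?_).trans le_sup_left))⟩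
        · exact Subgroup.subset_closure (Set.mem_insert a _)
        · exact Subgroup.subset_closure (Set.mem_insert_of_mem a rfl)
    have hc : ⁅a, b⁆ ∈ Z := Subgroup.commutator_mem_commutator haN (mem_top b)
    have hX2 : X ≤ zpowers ⁅a, b⁆ ⊔ ⁅N, Z⁆ := commutator_le_of_two hZN haN hbN hc hgen
    have hKX : ⁅N, Z⁆ ≤ X := Subgroup.commutator_mono le_rfl hZN
    refine (commutator_le_of_sup_zpowers hKX (Subgroup.commutator_mem_commutator haN hbN) hX2).trans ?_
    exact (Subgroup.commutator_mono hγ hK).trans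
      ((CfsgLib.Core.Assoc.lowerCentralSeries_commutator_le _ _).trans (le_of_eq (by congr 1; omega)))
  · have hbig : p ^ (j + 3) * Nat.card X ≤ Nat.card N := by
      refine le_trans ?_ (le_trans (Nat.pow_le_pow_right hp.out.pos hd) hl.ge)
      rw [pow_add, mul_comm (p ^ j), mul_assoc, pow_add, mul_comm (p ^ i)]
      exact Nat.mul_le_mul_left _ (hXZ.trans hi.le)
    exact ⟨hγ, le_trans (Nat.mul_le_mul_right _ (Nat.pow_le_pow_right hp.out.pos (by omega))) hbig, Or.inl hbig⟩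

/-- Hall's bound -/
theorem hall_bound (r : ℕ) : ∀ (N : Subgroup G) [N.Normal] (j : ℕ), N ≤ γ j → der N r ≠ ⊥ →
    p ^ ((j + 1) * 2 ^ r + r) ≤ p ^ j * Nat.card N := by
  induction r with
  | zero =>
    intro N _ j _ hN
    rw [der] at hN
    rw [pow_zero, mul_one, Nat.add_zero, pow_succ]
    refine Nat.mul_le_mul_left _ ?_
    have := mul_card_le_of_lt hP (bot_lt_iff_ne_bot.2 hN)
    rwa [Subgroup.card_bot, mul_one] at this
  | succ r ih =>
    intro N _ j hj hN
    have hX : ⁅N, N⁆ ≠ ⊥ := fun e => hN (by rw [der, e, der_bot])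
    obtain ⟨hγ, hb, -⟩ := first_step hP hj hX
    have h1 := ih ⁅N, N⁆ (2 * j + 1) hγ (by rwa [der] at hN)
    refine Nat.le_of_mul_le_mul_left ?_ (pow_pos hp.out.pos (j + 1))
    calc p ^ (j + 1) * p ^ ((j + 1) * 2 ^ (r + 1) + (r + 1))
        = p ^ (j + 2) * p ^ ((2 * j + 1 + 1) * 2 ^ r + r) := by rw [← pow_add, ← pow_add]; congr 1; ring
      _ ≤ p ^ (j + 2) * (p ^ (2 * j + 1) * Nat.card ↥⁅N, N⁆) := Nat.mul_le_mul_left _ h1
      _ = p ^ (2 * j + 1) * (p ^ (j + 2) * Nat.card ↥⁅N, N⁆) := by ring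
      _ ≤ p ^ (2 * j + 1) * Nat.card N := Nat.mul_le_mul_left _ hb
      _ = p ^ (j + 1) * (p ^ j * Nat.card N) := by rw [← mul_assoc, ← pow_add]; congr 2; omega

/-- Mann's improvement -/
theorem mann_bound (r : ℕ) : ∀ (N : Subgroup G) [N.Normal] (j : ℕ), N ≤ γ j → der N r ≠ ⊥ →
    p ^ ((j + 1) * 2 ^ r + 2 * r) ≤ p ^ (j + 2) * Nat.card N := by
  induction r with
  | zero =>
    intro N _ j _ _
    exact (Nat.pow_le_pow_right hp.out.pos (by omega)).trans (Nat.le_mul_of_pos_right _ Nat.card_pos)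
  | succ r ih =>
    intro N _ j hj hN
    have hX : ⁅N, N⁆ ≠ ⊥ := fun e => hN (by rw [der, e, der_bot])
    have hder : der ⁅N, N⁆ r ≠ ⊥ := by rwa [der] at hN
    obtain ⟨hγ, hb, hcase⟩ := first_step hP hj hX
    rcases r with _ | r
    · have h1 : p ≤ Nat.card ↥⁅N, N⁆ := by
        have := mul_card_le_of_lt hP (bot_lt_iff_ne_bot.2 hX)
        rwa [Subgroup.card_bot, mul_one] at this
      calc p ^ ((j + 1) * 2 ^ (0 + 1) + 2 * (0 + 1)) ≤ p ^ (j + 2) * (p ^ (j + 2) * p) := by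
            rw [← pow_succ, ← pow_add]; exact Nat.pow_le_pow_right hp.out.pos (by norm_num; omega)
        _ ≤ p ^ (j + 2) * Nat.card N := Nat.mul_le_mul_left _ ((Nat.mul_le_mul_left _ h1).trans hb)
    rcases hcase with hbig | hcyc | htwo
    · have h1 := ih ⁅N, N⁆ (2 * j + 1) hγ hder
      refine Nat.le_of_mul_le_mul_left ?_ (pow_pos hp.out.pos (j + 1))
      calc p ^ (j + 1) * p ^ ((j + 1) * 2 ^ (r + 1 + 1) + 2 * (r + 1 + 1))
          = p ^ (j + 3) * p ^ ((2 * j + 1 + 1) * 2 ^ (r + 1) + 2 * (r + 1)) := by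
            rw [← pow_add, ← pow_add]; congr 1; ring
        _ ≤ p ^ (j + 3) * (p ^ (2 * j + 1 + 2) * Nat.card ↥⁅N, N⁆) := Nat.mul_le_mul_left _ h1
        _ = p ^ (2 * j + 3) * (p ^ (j + 3) * Nat.card ↥⁅N, N⁆) := by ring
        _ ≤ p ^ (2 * j + 3) * Nat.card N := Nat.mul_le_mul_left _ hbig
        _ = p ^ (j + 1) * (p ^ (j + 2) * Nat.card N) := by rw [← mul_assoc, ← pow_add]; congr 2; omega
    · have h1 := hall_bound hP (r + 1) ⁅N, N⁆ (2 * j + 2) hcyc hder
      refine Nat.le_of_mul_le_mul_left ?_ (pow_pos hp.out.pos j)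
      calc p ^ j * p ^ ((j + 1) * 2 ^ (r + 1 + 1) + 2 * (r + 1 + 1))
          ≤ p ^ (j + 2) * p ^ ((2 * j + 2 + 1) * 2 ^ (r + 1) + (r + 1)) := by
            rw [← pow_add, ← pow_add]
            refine Nat.pow_le_pow_right hp.out.pos ?_
            have h2 : r + 1 < 2 ^ (r + 1) := Nat.lt_two_pow_self
            ring_nf at h2 ⊢; omega
        _ ≤ p ^ (j + 2) * (p ^ (2 * j + 2) * Nat.card ↥⁅N, N⁆) := Nat.mul_le_mul_left _ h1
        _ = p ^ (2 * j + 2) * (p ^ (j + 2) * Nat.card ↥⁅N, N⁆) := by ring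
        _ ≤ p ^ (2 * j + 2) * Nat.card N := Nat.mul_le_mul_left _ hb
        _ = p ^ j * (p ^ (j + 2) * Nat.card N) := by rw [← mul_assoc, ← pow_add]; congr 2; omega
    · have hY : ⁅⁅N, N⁆, ⁅N, N⁆⁆ ≠ ⊥ := fun e => hder (by rw [der, e, der_bot])
      obtain ⟨-, hb2, -⟩ := first_step hP hγ hY
      have h1 := hall_bound hP r ⁅⁅N, N⁆, ⁅N, N⁆⁆ (4 * j + 4) htwo (by rwa [der] at hder)
      refine Nat.le_of_mul_le_mul_left ?_ (pow_pos hp.out.pos (3 * j + 2))
      calc p ^ (3 * j + 2) * p ^ ((j + 1) * 2 ^ (r + 1 + 1) + 2 * (r + 1 + 1))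
          ≤ p ^ (3 * j + 5) * p ^ ((4 * j + 4 + 1) * 2 ^ r + r) := by
            rw [← pow_add, ← pow_add]
            refine Nat.pow_le_pow_right hp.out.pos ?_
            have h2 : r < 2 ^ r := Nat.lt_two_pow_self
            ring_nf at h2 ⊢; omega
        _ ≤ p ^ (3 * j + 5) * (p ^ (4 * j + 4) * Nat.card ↥⁅⁅N, N⁆, ⁅N, N⁆⁆) := Nat.mul_le_mul_left _ h1
        _ = p ^ (4 * j + 4) * (p ^ (j + 2) * (p ^ (2 * j + 1 + 2) * Nat.card ↥⁅⁅N, N⁆, ⁅N, N⁆⁆)) := by ring
        _ ≤ p ^ (4 * j + 4) * Nat.card N :=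
          Nat.mul_le_mul_left _ ((Nat.mul_le_mul_left _ hb2).trans hb)
        _ = p ^ (3 * j + 2) * (p ^ (j + 2) * Nat.card N) := by rw [← mul_assoc, ← pow_add]; congr 2; omega

end PGroup

end CfsgLib.PGroups.DerivedOrder
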