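/-
p-groups with an extraspecial subgroup of index p.
-/
import Mathlib
import Cfsg.Prelude.Def_Transfer
import Cfsg.Agent.Lib.PGroups.Basic
import Cfsg.Agent.Lib.PGroups.MaxAbelian
import Cfsg.Agent.Lib.PGroups.Extraspecial
import Cfsg.Agent.Lib.PGroups.SmallOrder

set_option linter.style.haveILetI false

namespace CfsgLib.PGroups

variable {S : Type*} [Group S] {p : ℕ}

theorem normal_of_index_prime [Finite S] [hp : Fact p.Prime] (hS : IsPGroup p S) {Q : Subgroup S}
    (hQi : Q.index = p) : Q.Normal := by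
  apply Subgroup.normal_of_index_eq_minFac_card
  obtain ⟨n, hn⟩ := IsPGroup.iff_card.mp hS
  have hn0 : n ≠ 0 := by
    rintro rfl
    have h := Q.index_dvd_card
    rw [hQi, hn, pow_zero, Nat.dvd_one] at h
    exact hp.out.ne_one h
  rw [hQi, hn, Nat.pow_minFac hn0, hp.out.minFac_eq]

theorem center_extraspecial_le_center [Finite S] [Fact p.Prime] (hS : IsPGroup p S)
    {Q : Subgroup S} [Q.Normal] (hQ : Cfsg.IsExtraspecial p Q) :
    (Subgroup.center Q).map Q.subtype ≤ Subgroup.center S := by
  haveI : ((Subgroup.center Q).map Q.subtype).Normal := inferInstance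
  exact le_center_of_card_prime hS (by rw [Subgroup.card_subtype]; exact hQ.2)

theorem inf_center_eq_center_extraspecial [Finite S] [Fact p.Prime] (hS : IsPGroup p S)
    {Q : Subgroup S} [Q.Normal] (hQ : Cfsg.IsExtraspecial p Q) :
    Q ⊓ Subgroup.center S = (Subgroup.center Q).map Q.subtype := by
  apply le_antisymm
  · rintro x ⟨hxQ, hxZ⟩
    exact ⟨⟨x, hxQ⟩, Subgroup.mem_center_iff.mpr
      fun g => Subtype.ext (Subgroup.mem_center_iff.mp hxZ g), rfl⟩
  · exact le_inf (Subgroup.map_subtype_le _) (center_extraspecial_le_center hS hQ)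

theorem center_dichotomy [Finite S] [hp : Fact p.Prime] (hS : IsPGroup p S)
    {Q : Subgroup S} (hQ : Cfsg.IsExtraspecial p Q) (hQi : Q.index = p) :
    Subgroup.center S = (Subgroup.center Q).map Q.subtype ∨
      (Q ⊔ Subgroup.center S = ⊤ ∧ Nat.card (Subgroup.center S) = p ^ 2) := by
  haveI := normal_of_index_prime hS hQi
  have hinf := inf_center_eq_center_extraspecial hS hQ
  by_cases h : Subgroup.center S ≤ Q
  · left; rw [← hinf, inf_eq_right.mpr h]
  right
  have hne : Q < Q ⊔ Subgroup.center S :=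
    lt_of_le_of_ne le_sup_left (fun e => h (e ▸ le_sup_right))
  have htop : Q ⊔ Subgroup.center S = ⊤ := by
    have hcard := mul_card_le_of_lt (hS.to_subgroup _) hne (p := p)
    refine Subgroup.eq_top_of_le_card _ ?_
    rw [← Q.card_mul_index, hQi, mul_comm]; exact hcard
  refine ⟨htop, ?_⟩
  have h1 : Q.relIndex (Q ⊔ Subgroup.center S) = Q.relIndex (Subgroup.center S) :=
    Subgroup.relIndex_sup_right (H := Subgroup.center S) (K := Q) ▸ (by rw [sup_comm])
  rw [htop, Subgroup.relIndex_top_right, hQi] at h1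
  have h2 := Subgroup.relIndex_mul_relIndex ⊥ (Q ⊓ Subgroup.center S) (Subgroup.center S) bot_le
    inf_le_right
  rw [Subgroup.relIndex_bot_left, Subgroup.relIndex_bot_left, Subgroup.inf_relIndex_right, ← h1,
    hinf, Subgroup.card_subtype, hQ.2] at h2
  rw [← h2, sq]

theorem order_derived_exponent [Finite S] [hp : Fact p.Prime] (hS : IsPGroup p S)
    {Q : Subgroup S} (hQ : Cfsg.IsExtraspecial p Q) (hQi : Q.index = p) :
    (∃ n : ℕ, 1 ≤ n ∧ Nat.card S = p ^ (2 + 2 * n)) ∧ derivedSeries S 3 = ⊥ ∧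
      ∀ x : S, x ^ p ^ 3 = 1 := by
  haveI := normal_of_index_prime hS hQi
  obtain ⟨n, hn, hc, -⟩ := IsExtraspecial.exists_card hQ
  refine ⟨⟨n, hn, by rw [← Q.card_mul_index, hQi, hc, ← pow_succ]; ring_nf⟩, ?_, fun x => ?_⟩
  · haveI : IsCyclic (S ⧸ Q) := isCyclic_of_prime_card (p := p) (by rwa [← Subgroup.index_eq_card])
    have h1 : derivedSeries S 1 ≤ Q := by
      rw [derivedSeries_one]
      exact Subgroup.Normal.quotient_commutative_iff_commutator_le.mp inferInstance
    have h2 : derivedSeries S 2 ≤ (Subgroup.center Q).map Q.subtype := by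
      rw [derivedSeries_succ, ← IsExtraspecial.commutator_eq hQ, commutator_def,
        Subgroup.map_commutator, ← MonoidHom.range_eq_map, Q.range_subtype]
      exact Subgroup.commutator_mono h1 h1
    rw [derivedSeries_succ, eq_bot_iff]
    refine le_trans (Subgroup.commutator_mono (h2.trans (center_extraspecial_le_center hS hQ)) le_rfl) ?_
    rw [Subgroup.commutator_center_left]
  · have hx : x ^ p ∈ Q := hQi ▸ Q.pow_index_mem x
    have := congrArg Subtype.val (IsExtraspecial.pow_sq hQ ⟨x ^ p, hx⟩)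
    rw [pow_succ' p 2, pow_mul]
    simpa using this

theorem abelian_index_p_iff [Finite S] [hp : Fact p.Prime] (hS : IsPGroup p S)
    {Q : Subgroup S} (hQ : Cfsg.IsExtraspecial p Q) (hQi : Q.index = p) :
    (∃ A : Subgroup S, IsMulCommutative A ∧ A.index = p) ↔ Nat.card S = p ^ 4 := by
  obtain ⟨n, hn, hc, hmax, -⟩ := IsExtraspecial.exists_card hQ
  have hS' : Nat.card S = p ^ (2 * n + 2) := by rw [← Q.card_mul_index, hQi, hc, ← pow_succ]
  constructor
  · rintro ⟨A, hA, hAi⟩
    haveI := normal_of_index_prime hS hAi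
    have h1 : (A.subgroupOf Q).index ≤ p := by
      rw [← hAi, ← Subgroup.relIndex_top_right (H := A)]
      exact Subgroup.relIndex_le_of_le_right le_top
        (by rw [Subgroup.relIndex_top_right, hAi]; exact hp.out.ne_zero)
    have h2 := (A.subgroupOf Q).card_mul_index
    haveI : IsMulCommutative (A.subgroupOf Q) := isMulCommutative_iff.mpr fun a b => by
      have h := congrArg Subtype.val (hA.is_comm.comm (⟨_, a.2⟩ : A) ⟨_, b.2⟩)
      exact Subtype.ext (Subtype.ext (by simpa using h))
    have h3 := hmax (A.subgroupOf Q) inferInstance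
    have h4 : Nat.card Q ≤ p ^ (n + 1) * p := h2 ▸ Nat.mul_le_mul h3 h1
    rw [hc, ← pow_succ] at h4
    have := (Nat.pow_le_pow_iff_right hp.out.one_lt).mp h4
    rw [hS']; congr 1; omega
  · intro h
    obtain ⟨A, hA, hAc⟩ := exists_abelian_card_cube h
    refine ⟨A, hA, ?_⟩
    have := A.card_mul_index
    rw [h, hAc, pow_succ p 3] at this
    exact Nat.eq_of_mul_eq_mul_left (pow_pos hp.out.pos 3) this

end CfsgLib.PGroups
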