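import Cfsg.Agent.Lib.PGroups.ThreePrimeModulesTwoCores
import Cfsg.Agent.Lib.Recog.ThreePrimes

/-!
# Four primes, pairwise joined and no three together: not solvable
-/

set_option autoImplicit false
set_option linter.all false

namespace CfsgLib.PGroups.FourPrimes

open Subgroup FixRank

variable {G : Type*} [Group G] [Finite G]

/-- No element order is the product of three primes of `σ`. -/
def NoThree (σ : Finset ℕ) (G : Type*) [Group G] : Prop :=
  ∀ p ∈ σ, ∀ q ∈ σ, ∀ r ∈ σ, p ≠ q → q ≠ r → p ≠ r → ∀ g : G, orderOf g ≠ p * q * r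

theorem no_triple {σ : Finset ℕ} (h3 : NoThree σ G) {x y z : G} {a b c : ℕ} (ha : a ∈ σ) (hb : b ∈ σ)
    (hc : c ∈ σ) (hpa : a.Prime) (hpb : b.Prime) (hpc : c.Prime) (hab : a ≠ b) (hac : a ≠ c)
    (hbc : b ≠ c) (hx : orderOf x = a) (hy : orderOf y = b) (hz : orderOf z = c) (hxy : Commute x y)
    (hxz : Commute x z) (hyz : Commute y z) : False := by
  refine h3 a ha b hb c hc hab hbc hac (x * y * z) ?_
  have h1 := CfsgLib.Recog.ThreePrimes.orderOf_mul_of_commute hxy hpa hpb hab hx hy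
  rw [(hxz.mul_left hyz).orderOf_mul_eq_mul_orderOf_of_coprime, h1, hz]
  rw [h1, hz]
  exact Nat.Coprime.mul_left ((Nat.coprime_primes hpa hpc).mpr hac) ((Nat.coprime_primes hpb hpc).mpr hbc)

/-- The centraliser of an element of order in `σ` misses one of any three other primes of `σ`. -/
theorem no_three_in_centralizer [Group.IsSolvable G] {σ : Finset ℕ} (h3 : NoThree σ G) {x : G}
    {t a b c : ℕ} (ht : t ∈ σ) (ha : a ∈ σ) (hb : b ∈ σ) (hc : c ∈ σ) (hpt : t.Prime) (hpa : a.Prime)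
    (hpb : b.Prime) (hpc : c.Prime) (hta : t ≠ a) (htb : t ≠ b) (htc : t ≠ c) (hab : a ≠ b)
    (hac : a ≠ c) (hbc : b ≠ c) (hx : orderOf x = t)
    (hA : ∃ y : G, orderOf y = a ∧ Commute x y) (hB : ∃ y : G, orderOf y = b ∧ Commute x y)
    (hC : ∃ y : G, orderOf y = c ∧ Commute x y) : False := by
  have hd : ∀ n : ℕ, (∃ y : G, orderOf y = n ∧ Commute x y) → n ∣ Nat.card (centralizer {x}) := by
    rintro n ⟨y, hy, hxy⟩
    exact hy ▸ Subgroup.orderOf_dvd_natCard _ (mem_centralizer_singleton_iff.mpr hxy.symm.eq)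
  have key : ∀ u v : ℕ, u ∈ σ → v ∈ σ → u.Prime → v.Prime → t ≠ u → t ≠ v → u ≠ v →
      (∃ y : centralizer {x}, orderOf y = u * v) → False := by
    rintro u v hu hv hpu hpv htu htv huv ⟨y, hy⟩
    refine h3 t ht u hu v hv htu huv htv (x * y) ?_
    have hco : Commute x (y : G) := (mem_centralizer_singleton_iff.mp y.2).symm
    have hyo : orderOf (y : G) = u * v := by rw [Subgroup.orderOf_coe, hy]
    rw [hco.orderOf_mul_eq_mul_orderOf_of_coprime, hx, hyo, mul_assoc]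
    rw [hx, hyo]
    exact Nat.Coprime.mul_right ((Nat.coprime_primes hpt hpu).mpr htu) ((Nat.coprime_primes hpt hpv).mpr htv)
  rcases CfsgLib.Recog.ThreePrimes.solvable_three_primes _ (centralizer {x}) rfl a b c hpa hpb hpc hab hac hbc
    (hd a hA) (hd b hB) (hd c hC) with h | h | h
  · exact key a b ha hb hpa hpb hta htb hab h
  · exact key a c ha hc hpa hpc hta htc hac h
  · exact key b c hb hc hpb hpc htb htc hbc h

theorem exists_three_others {σ : Finset ℕ} (h4 : σ.card = 4) {t : ℕ} (ht : t ∈ σ) :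
    ∃ a b c : ℕ, a ∈ σ ∧ b ∈ σ ∧ c ∈ σ ∧ t ≠ a ∧ t ≠ b ∧ t ≠ c ∧ a ≠ b ∧ a ≠ c ∧ b ≠ c ∧
      ∀ u ∈ σ, u = t ∨ u = a ∨ u = b ∨ u = c := by
  have h := Finset.card_erase_of_mem ht
  rw [h4] at h
  obtain ⟨a, b, c, hab, hac, hbc, he⟩ := Finset.card_eq_three.mp h
  have hm : ∀ u, u ∈ σ.erase t ↔ (u = a ∨ u = b ∨ u = c) := fun u => by rw [he]; simp
  obtain ⟨h1, h2⟩ := Finset.mem_erase.mp ((hm a).mpr (Or.inl rfl))
  obtain ⟨h3, h4'⟩ := Finset.mem_erase.mp ((hm b).mpr (Or.inr (Or.inl rfl)))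
  obtain ⟨h5, h6⟩ := Finset.mem_erase.mp ((hm c).mpr (Or.inr (Or.inr rfl)))
  refine ⟨a, b, c, h2, h4', h6, h1.symm, h3.symm, h5.symm, hab, hac, hbc, fun u hu => ?_⟩
  by_cases hut : u = t
  · exact Or.inl hut
  · exact Or.inr ((hm u).mp (Finset.mem_erase.mpr ⟨hut, hu⟩))

theorem rank2_of_pairs [Group.IsSolvable G] {σ : Finset ℕ} (h4 : σ.card = 4)
    (hprime : ∀ p ∈ σ, p.Prime) (h2 : ∀ p ∈ σ, ∀ q ∈ σ, p ≠ q → ∃ g : G, orderOf g = p * q)
    (h3 : NoThree σ G) {t : ℕ} (ht : t ∈ σ) : Rank2 t G := by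
  haveI := Fact.mk (hprime t ht)
  by_contra hno
  obtain ⟨a, b, c, ha, hb, hc, hta, htb, htc, hab, hac, hbc, -⟩ := exists_three_others h4 ht
  obtain ⟨g, hg⟩ := h2 t ht a ha hta
  have htG : t ∣ Nat.card G := (dvd_mul_right t a).trans (hg ▸ orderOf_dvd_natCard g)
  obtain ⟨P⟩ : Nonempty (Sylow t G) := inferInstance
  have hPd := P.dvd_card_of_dvd_card htG
  haveI : Nontrivial (P : Subgroup G) := Finite.one_lt_card_iff_nontrivial.mp
    (lt_of_lt_of_le (hprime t ht).one_lt (Nat.le_of_dvd Nat.card_pos hPd))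
  haveI := P.isPGroup'.center_nontrivial
  obtain ⟨z, hz⟩ := exists_ne (1 : center (P : Subgroup G))
  obtain ⟨k, hk⟩ := exists_pow_orderOf (P := center (P : Subgroup G)) (P.isPGroup'.to_subgroup _) z.2
    (fun h => hz (Subtype.ext h))
  set w : (P : Subgroup G) := (z : (P : Subgroup G)) ^ k
  have hwo : orderOf (w : G) = t := by rw [Subgroup.orderOf_coe, hk]
  have hcom : ∀ q ∈ σ, t ≠ q → ∃ y : G, orderOf y = q ∧ Commute (w : G) y := by
    intro q hq htq
    obtain ⟨g, hg⟩ := h2 t ht q hq htq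
    have hqp := hprime q hq
    set x := g ^ q
    have hx : orderOf x = t := by
      rw [orderOf_pow' _ hqp.ne_zero, hg, Nat.gcd_eq_right (dvd_mul_left q t), Nat.mul_div_cancel _ hqp.pos]
    have hgt : orderOf (g ^ t) = q := by
      rw [orderOf_pow' _ (hprime t ht).ne_zero, hg, Nat.gcd_eq_right (dvd_mul_right t q),
        Nat.mul_div_cancel_left _ (hprime t ht).pos]
    obtain ⟨R, hR⟩ := (IsPGroup.of_card (n := 1) (show Nat.card (zpowers x) = t ^ 1 by
      rw [Nat.card_zpowers, hx, pow_one])).exists_le_sylow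
    obtain ⟨h, hh⟩ := MulAction.exists_smul_eq G R P
    have hxP : MulAut.conj h x ∈ (P : Subgroup G) := by
      rw [← hh, Sylow.coe_subgroup_smul]
      exact Subgroup.smul_mem_pointwise_smul x (MulAut.conj h) _ (hR (mem_zpowers x))
    have hcw : Commute (w : G) (MulAut.conj h x) :=
      congrArg Subtype.val ((show Commute (z : (P : Subgroup G)) ⟨_, hxP⟩ from
        (mem_center_iff.mp z.2 _).symm).pow_left k).eq
    have hmem : (w : G) ∈ zpowers (MulAut.conj h x) := by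
      by_contra hn
      exact hno ⟨MulAut.conj h x, (w : G), mem_top _, mem_top _, by rw [MulEquiv.orderOf_eq, hx], hwo,
        hcw.symm, hn⟩
    obtain ⟨i, hi⟩ := mem_zpowers_iff.mp hmem
    refine ⟨MulAut.conj h (g ^ t), by rw [MulEquiv.orderOf_eq, hgt], ?_⟩
    rw [← hi]
    exact ((Commute.pow_pow (Commute.refl g) q t).map (MulAut.conj h).toMonoidHom).zpow_left i
  exact no_three_in_centralizer h3 ht ha hb hc (hprime t ht) (hprime a ha) (hprime b hb) (hprime c hc)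
    hta htb htc hab hac hbc hwo (hcom a ha hta) (hcom b hb htb) (hcom c hc htc)

theorem false_of_ranks [Group.IsSolvable G] {σ : Finset ℕ} (h4 : σ.card = 4)
    (hprime : ∀ p ∈ σ, p.Prime) (hG : ∀ t : ℕ, t.Prime → t ∣ Nat.card G → t ∈ σ)
    (h3 : NoThree σ G) (hrank : ∀ t ∈ σ, Rank2 t G) : False := by
  obtain ⟨t0, ht0⟩ := Finset.card_pos.mp (show 0 < σ.card by omega)
  haveI : Nontrivial G := by
    obtain ⟨a, -, -, -, ha, -⟩ := hrank t0 ht0
    exact ⟨a, 1, fun e => (hprime t0 ht0).ne_one (by rw [← ha, e, orderOf_one])⟩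
  obtain ⟨r, hr, hc⟩ := CfsgLib.HallGen.exists_pCore_ne_bot (G := G) inferInstance
  haveI := Fact.mk hr
  have hrσ : r ∈ σ := hG r hr (by
    by_contra hd
    exact hc (CfsgLib.Core.pCore_eq_bot_of_not_dvd hr hd))
  obtain ⟨N, hNn, hNle, hN1, hNe, hNc⟩ := exists_elementary_pCore r hc
  haveI := hNn
  have hNc' : ∀ u ∈ N, ∀ v ∈ N, u * v = v * u := fun u hu v hv => hNc u hu v (hNle hv)
  letI := commGroupOf N hNc'
  haveI : Nontrivial N := (nontrivial_iff_ne_bot N).mpr hN1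
  obtain ⟨p, q, s, hp, hq, hs, hrp, hrq, hrs, hpq, hps, hqs, hall⟩ := exists_three_others h4 hrσ
  obtain ⟨H, hH⟩ := CfsgLib.Core.exists_piHall (G := G) {t | t = p ∨ t = q ∨ t = s}
  have hHp : ∀ t : ℕ, t.Prime → t ∣ Nat.card H → t = p ∨ t = q ∨ t = s := fun t ht hd => hH.1 t ht hd
  have hmemσ : ∀ t : ℕ, t.Prime → t ∣ Nat.card H → t ∈ σ ∧ t ≠ r := by
    intro t ht hd
    rcases hHp t ht hd with rfl | rfl | rfl
    · exact ⟨hp, hrp.symm⟩
    · exact ⟨hq, hrq.symm⟩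
    · exact ⟨hs, hrs.symm⟩
  have hord : ∀ (x : H) (a : ℕ), a.Prime → orderOf x = a → a ∈ σ ∧ a ≠ r := fun x a ha hx =>
    hmemσ a ha (hx ▸ orderOf_dvd_natCard x)
  set φ : H →* MulAut N := (MulAut.conjNormal (H := N)).comp H.subtype
  have hfixN : ∀ (x : H) (n : N), φ x n = n → Commute (x : G) n := fun x n h => by
    have := congrArg Subtype.val h
    simp [φ] at this
    exact mul_inv_eq_iff_eq_mul.mp this
  have hordN : ∀ n : N, n ≠ 1 → orderOf (n : G) = r := fun n hn =>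
    orderOf_eq_prime (hNe n n.2) fun h => hn (Subtype.ext h)
  have hcop : (Nat.card N).Coprime (Nat.card H) := Nat.coprime_of_dvd fun t ht h1 h2 =>
    ht.ne_one (Nat.eq_one_of_dvd_coprimes (coprime_card_of_exp hNe ht (hmemσ t ht h2).2) h1 dvd_rfl)
  have hrH : ∀ t ∈ σ, t ≠ r → Rank2 t H := fun t ht htr => by
    haveI := Fact.mk (hprime t ht)
    exact rank2_piHall hH ((hall t ht).resolve_left htr) (hrank t ht)
  have hnoC : NoCommon φ := by
    rintro x y a b ha hb hab hx hy hxy ⟨n, hn, hxn, hyn⟩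
    obtain ⟨haσ, har⟩ := hord x a ha hx
    obtain ⟨hbσ, hbr⟩ := hord y b hb hy
    exact no_triple h3 haσ hbσ hrσ ha hb hr hab har hbr (x := (x : G)) (y := (y : G)) (z := (n : G)) (by rw [Subgroup.orderOf_coe, hx])
      (by rw [Subgroup.orderOf_coe, hy]) (hordN n hn) (hxy.map H.subtype) (hfixN x n hxn) (hfixN y n hyn)
  by_cases hinj : Function.Injective φ
  · refine Setup.false (φ := φ) (p := p) (q := q) (s := s)
      ⟨hprime p hp, hprime q hq, hprime s hs, hpq, hps, hqs, hHp, hinj, hcop, hrH p hp hrp.symm,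
        hrH q hq hrq.symm, hrH s hs hrs.symm, ?_, hnoC, ?_⟩
    · intro x y z a b c ha hb hc' hab hac hbc hx hy hz hxy hxz hfix
      obtain ⟨n, hn, hxn⟩ := hfix
      obtain ⟨haσ, har⟩ := hord x a ha hx
      obtain ⟨hbσ, hbr⟩ := hord y b hb hy
      obtain ⟨hcσ, hcr⟩ := hord z c hc' hz
      exact no_three_in_centralizer h3 haσ hbσ hcσ hrσ ha hb hc' hr hab hac har hbc hbr hcr (x := (x : G))
        (by rw [Subgroup.orderOf_coe, hx]) ⟨y, by rw [Subgroup.orderOf_coe, hy], hxy.map H.subtype⟩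
        ⟨z, by rw [Subgroup.orderOf_coe, hz], hxz.map H.subtype⟩ ⟨n, hordN n hn, hfixN x n hxn⟩
    · intro x y z a b c ha hb hc' hab hac hbc hx hy hz hxy hxz hyz
      exact no_triple h3 (hord x a ha hx).1 (hord y b hb hy).1 (hord z c hc' hz).1 ha hb hc' hab hac hbc
        (x := (x : G)) (y := (y : G)) (z := (z : G))
        (by rw [Subgroup.orderOf_coe, hx]) (by rw [Subgroup.orderOf_coe, hy])
        (by rw [Subgroup.orderOf_coe, hz]) (hxy.map H.subtype) (hxz.map H.subtype) (hyz.map H.subtype)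
  · rw [← MonoidHom.ker_eq_bot_iff] at hinj
    obtain ⟨a, W, ha, hWn, hWle, hW1, hWe, hWc⟩ := exists_elementary_le φ.ker hinj
    haveI := Fact.mk ha
    haveI := hWn
    have haH := prime_dvd_card_of_exp hWe hW1
    obtain ⟨haσ, har⟩ := hmemσ a ha haH
    obtain ⟨b, c, hb, hc', hab, hac, hbr, hcr, hbc, hHab⟩ : ∃ b c : ℕ, b ∈ σ ∧ c ∈ σ ∧ a ≠ b ∧ a ≠ c ∧
        b ≠ r ∧ c ≠ r ∧ b ≠ c ∧ ∀ t, (t = p ∨ t = q ∨ t = s) → t = a ∨ t = b ∨ t = c := by
      rcases hHp a ha haH with rfl | rfl | rfl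
      · exact ⟨q, s, hq, hs, hpq, hps, hrq.symm, hrs.symm, hqs, fun t h => h⟩
      · exact ⟨p, s, hp, hs, hpq.symm, hqs, hrp.symm, hrs.symm, hps, fun t h => by tauto⟩
      · exact ⟨p, q, hp, hq, hps.symm, hqs.symm, hrp.symm, hrq.symm, hpq, fun t h => by tauto⟩
    haveI := Fact.mk (hprime b hb)
    haveI := Fact.mk (hprime c hc')
    obtain ⟨K, hK⟩ := CfsgLib.Core.exists_piHall (G := H) {t | t = b ∨ t = c}
    letI := commGroupOf W hWc
    haveI : Nontrivial W := (nontrivial_iff_ne_bot W).mpr hW1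
    set φW : K →* MulAut W := (MulAut.conjNormal (H := W)).comp K.subtype
    have hfixW : ∀ (x : K) (w : W), φW x w = w → Commute (x : H) w := fun x w h => by
      have := congrArg Subtype.val h
      simp [φW] at this
      exact mul_inv_eq_iff_eq_mul.mp this
    have hordW : ∀ w : W, w ≠ 1 → orderOf (w : H) = a := fun w hw =>
      orderOf_eq_prime (hWe w w.2) fun h => hw (Subtype.ext h)
    have hordK : ∀ (x : K) (d : ℕ), d.Prime → orderOf x = d → d ∈ σ ∧ d ≠ a ∧ d ≠ r := by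
      intro x d hd hx
      rcases hK.1 d hd (hx ▸ orderOf_dvd_natCard x) with rfl | rfl
      · exact ⟨hb, hab.symm, hbr⟩
      · exact ⟨hc', hac.symm, hcr⟩
    refine not_two_modules φW (φ.comp K.subtype) (Nat.coprime_of_dvd fun t ht h1 h2 => ?_)
      (hcop.coprime_dvd_right (card_subgroup_dvd_card K)) hbc (fun t ht hd => hK.1 t ht hd)
      (rank2_piHall hK (Or.inl rfl) (hrH b hb hbr)) (rank2_piHall hK (Or.inr rfl) (hrH c hc' hcr))
      ?_ ?_ ?_
    · refine ht.ne_one (Nat.eq_one_of_dvd_coprimes (coprime_card_of_exp hWe ht ?_) h1 dvd_rfl)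
      rcases hK.1 t ht h2 with rfl | rfl
      · exact hab.symm
      · exact hac.symm
    · rintro x d hd hx ⟨w, hw, hxw⟩ ⟨n, hn, hxn⟩
      obtain ⟨hdσ, hda, hdr⟩ := hordK x d hd hx
      have hwn : φ (w : H) n = n := by rw [MonoidHom.mem_ker.mp (hWle w.2)]; rfl
      exact no_triple h3 hdσ haσ hrσ hd ha hr hda hdr har (x := ((x : H) : G)) (y := ((w : H) : G)) (z := (n : G))
        (by rw [Subgroup.orderOf_coe, Subgroup.orderOf_coe, hx])
        (by rw [Subgroup.orderOf_coe, hordW w hw]) (hordN n hn) ((hfixW x w hxw).map H.subtype)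
        (hfixN _ n hxn) (hfixN _ n hwn)
    · rintro x y d e hd he hde hx hy hxy ⟨w, hw, hxw, hyw⟩
      obtain ⟨hdσ, hda, -⟩ := hordK x d hd hx
      obtain ⟨heσ, hea, -⟩ := hordK y e he hy
      exact no_triple h3 hdσ heσ haσ hd he ha hde hda hea (x := ((x : H) : G)) (y := ((y : H) : G))
        (z := ((w : H) : G)) (by rw [Subgroup.orderOf_coe, Subgroup.orderOf_coe, hx])
        (by rw [Subgroup.orderOf_coe, Subgroup.orderOf_coe, hy])
        (by rw [Subgroup.orderOf_coe, hordW w hw]) ((hxy.map K.subtype).map H.subtype)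
        ((hfixW x w hxw).map H.subtype) ((hfixW y w hyw).map H.subtype)
    · rintro x y d e hd he hde hx hy hxy hm
      exact hnoC x y d e hd he hde (by rw [Subgroup.orderOf_coe, hx]) (by rw [Subgroup.orderOf_coe, hy])
        (hxy.map K.subtype) hm

theorem not_solvable_of_four {σ : Finset ℕ} (hσ : 4 ≤ σ.card) (hprime : ∀ p ∈ σ, p.Prime)
    (h2 : ∀ p ∈ σ, ∀ q ∈ σ, p ≠ q → ∃ g : G, orderOf g = p * q) (h3 : NoThree σ G) :
    ¬ Group.IsSolvable G := by
  intro hG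
  haveI := hG
  obtain ⟨τ, hτσ, hτ⟩ := Finset.exists_subset_card_eq hσ
  have hp' : ∀ p ∈ τ, p.Prime := fun p hp => hprime p (hτσ hp)
  have h3' : NoThree τ G := fun p hp q hq r hr => h3 p (hτσ hp) q (hτσ hq) r (hτσ hr)
  obtain ⟨G₀, hG₀⟩ := CfsgLib.Core.exists_piHall (G := G) {t | t ∈ τ}
  refine false_of_ranks (G := G₀) hτ hp' (fun t ht hd => hG₀.1 t ht hd)
    (fun p hp q hq r hr e1 e2 e3 g => by
      rw [← Subgroup.orderOf_coe]; exact h3' p hp q hq r hr e1 e2 e3 g) fun t ht => ?_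
  haveI := Fact.mk (hp' t ht)
  exact rank2_piHall hG₀ ht (rank2_of_pairs hτ hp'
    (fun p hp q hq => h2 p (hτσ hp) q (hτσ hq)) h3' ht)

end CfsgLib.PGroups.FourPrimes
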