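import Mathlib
import Cfsg.Prelude.Def_Transfer

/-!
# Linearising a pair `(X, Q)` acting on an elementary abelian group
-/

set_option autoImplicit false

namespace CfsgLib.PGroups.HHSetup

set_option linter.style.haveILetI false

open Subgroup

/-- Conjugation data of `X = ⟨x⟩` and `Q` on `V`. -/
theorem setup'.{u} {G : Type u} [Group G] [Finite G] {p r : ℕ} (hp : p.Prime) (hr : r.Prime)
    (X Q V : Subgroup G) (hX : Nat.card X = r) (hXQ : X ≤ normalizer (Q : Set G))
    (hV : Cfsg.IsElementaryAbelian p V) (hXV : X ≤ normalizer (V : Set G))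
    (hQV : Q ≤ normalizer (V : Set G))
    (hCV : V ⊓ centralizer (X : Set G) = ⊥) :
    ∃ (M : Type u) (_ : AddCommGroup M) (_ : Finite M) (x : G) (θ : MulAut Q) (σ : AddMonoid.End M)
      (ρ : Q →* AddMonoid.End M),
      zpowers x = X ∧ (∀ y : Q, (θ y : G) = x * y * x⁻¹) ∧ θ ^ r = 1 ∧ σ ^ r = 1 ∧
      (∀ y m, σ (ρ y m) = ρ (θ y) (σ m)) ∧ (∀ m, σ m = m → m = 0) ∧
      (∀ y : Q, (∀ m, ρ y m = m) ↔ (y : G) ∈ centralizer (V : Set G)) ∧
      (∃ k, Nat.card M = p ^ k) := by
  haveI := Fact.mk hp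
  haveI := Fact.mk hr
  haveI : IsCyclic X := isCyclic_of_prime_card hX
  obtain ⟨x, hxX⟩ : ∃ x, zpowers x = X := by
    obtain ⟨g, hg⟩ := IsCyclic.exists_generator (α := X)
    refine ⟨g, le_antisymm (zpowers_le.mpr g.2) fun y hy => ?_⟩
    obtain ⟨i, hi⟩ := mem_zpowers_iff.mp (hg ⟨y, hy⟩)
    exact ⟨i, by simpa using congrArg Subtype.val hi⟩
  have hx : x ∈ X := hxX ▸ mem_zpowers x
  have hxr : x ^ r = 1 := by
    have := congrArg Subtype.val (pow_card_eq_one' (G := X) (x := ⟨x, hx⟩))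
    rw [hX] at this
    simpa using this
  letI : CommGroup V := { (inferInstance : Group V) with mul_comm := fun a b => hV.1.is_comm.comm a b }
  have hcomm : ∀ a b : V, a * b = b * a := fun a b => hV.1.is_comm.comm a b
  let cj : ∀ g : G, g ∈ normalizer (V : Set G) → (Additive ↥V →+ Additive ↥V) := fun g hg =>
    MonoidHom.toAdditive (MonoidHom.mk' (fun v : V => (⟨g * v * g⁻¹, (mem_normalizer_iff.mp hg v).mp v.2⟩ : V))
      fun a b => Subtype.ext (by simp [mul_assoc]))
  have hcj : ∀ g hg (v : V), ((Additive.toMul (cj g hg (Additive.ofMul v)) : V) : G) = g * v * g⁻¹ :=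
    fun _ _ _ => rfl
  let θ : MulAut Q :=
    { toFun := fun y => ⟨x * y * x⁻¹, (mem_normalizer_iff.mp (hXQ hx) y).mp y.2⟩
      invFun := fun y => ⟨x⁻¹ * y * x, by
        simpa using (mem_normalizer_iff.mp (inv_mem (hXQ hx)) y).mp y.2⟩
      left_inv := fun y => Subtype.ext (by simp [mul_assoc])
      right_inv := fun y => Subtype.ext (by simp [mul_assoc])
      map_mul' := fun a b => Subtype.ext (by simp [mul_assoc]) }
  let σ : AddMonoid.End (Additive ↥V) := cj x (hXV hx)
  let ρ : Q →* AddMonoid.End (Additive ↥V) :=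
    { toFun := fun y => cj y (hQV y.2)
      map_one' := AddMonoidHom.ext fun m => by
        apply Additive.toMul.injective
        apply Subtype.ext
        show (1 : G) * _ * (1 : G)⁻¹ = _
        simp
        rfl
      map_mul' := fun a b => AddMonoidHom.ext fun m => by
        apply Additive.toMul.injective
        apply Subtype.ext
        show ((a : G) * b) * _ * ((a : G) * b)⁻¹ = (a : G) * ((b : G) * _ * (b : G)⁻¹) * (a : G)⁻¹
        group }
  refine ⟨Additive ↥V, inferInstance, inferInstance, x, θ, σ, ρ, hxX, fun _ => rfl, ?_, ?_, ?_, ?_, ?_, ?_⟩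
  · have : ∀ (k : ℕ) (y : Q), (((θ ^ k) y : Q) : G) = x ^ k * y * (x ^ k)⁻¹ := by
      intro k
      induction k with
      | zero => intro y; simp
      | succ k ih =>
        intro y
        rw [pow_succ, MulAut.mul_apply, ih, pow_succ]
        show x ^ k * (x * y * x⁻¹) * (x ^ k)⁻¹ = _
        group
    exact MulEquiv.ext fun y => Subtype.ext (by rw [this, hxr]; simp)
  · have : ∀ (k : ℕ) (m : Additive ↥V), ((Additive.toMul ((σ ^ k) m) : V) : G) =
        x ^ k * (Additive.toMul m : V) * (x ^ k)⁻¹ := by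
      intro k
      induction k with
      | zero => intro m; simp
      | succ k ih =>
        intro m
        rw [pow_succ', pow_succ']
        show x * ((Additive.toMul ((σ ^ k) m) : V) : G) * x⁻¹ = _
        rw [ih]; group
    refine AddMonoidHom.ext fun m => Additive.toMul.injective (Subtype.ext ?_)
    refine (this r m).trans ?_
    rw [hxr]; simp
    rfl
  · intro y m
    apply Additive.toMul.injective
    apply Subtype.ext
    show x * ((y : G) * _ * (y : G)⁻¹) * x⁻¹ = (x * y * x⁻¹) * (x * _ * x⁻¹) * (x * y * x⁻¹)⁻¹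
    group
  · intro m hm
    have h1 : x * ((Additive.toMul m : V) : G) * x⁻¹ = (Additive.toMul m : V) :=
      congrArg (fun t : Additive ↥V => ((Additive.toMul t : V) : G)) hm
    have h2 : ((Additive.toMul m : V) : G) ∈ V ⊓ centralizer (X : Set G) := by
      refine ⟨(Additive.toMul m : V).2, mem_centralizer_iff.mpr fun y hy => ?_⟩
      rw [← hxX] at hy
      obtain ⟨i, rfl⟩ := mem_zpowers_iff.mp hy
      exact ((show Commute x _ from mul_inv_eq_iff_eq_mul.mp h1).zpow_left i).eq
    rw [hCV, mem_bot] at h2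
    exact Additive.toMul.injective (Subtype.ext h2)
  · intro y
    constructor
    · intro hy
      refine mem_centralizer_iff.mpr fun v hv => ?_
      have h1 : (y : G) * v * (y : G)⁻¹ = v := by
        have h0 : ρ y (Additive.ofMul ⟨v, hv⟩) = Additive.ofMul ⟨v, hv⟩ := hy _
        exact congrArg (fun t : Additive ↥V => ((Additive.toMul t : V) : G)) h0
      exact (mul_inv_eq_iff_eq_mul.mp h1).symm
    · intro hy m
      apply Additive.toMul.injective
      apply Subtype.ext
      show (y : G) * ((Additive.toMul m : V) : G) * (y : G)⁻¹ = (Additive.toMul m : V)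
      rw [← mem_centralizer_iff.mp hy _ (Additive.toMul m : V).2, mul_inv_cancel_right]
  · obtain ⟨k, hk⟩ := IsPGroup.iff_card.mp (show IsPGroup p V from
      fun v => ⟨1, Subtype.ext (by simpa using hV.2 v v.2)⟩)
    exact ⟨k, hk⟩


/-- The faithful case. -/
theorem setup.{u} {G : Type u} [Group G] [Finite G] {p r : ℕ} (hp : p.Prime) (hr : r.Prime)
    (X Q V : Subgroup G) (hX : Nat.card X = r) (hXQ : X ≤ normalizer (Q : Set G))
    (hV : Cfsg.IsElementaryAbelian p V) (hXV : X ≤ normalizer (V : Set G))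
    (hQV : Q ≤ normalizer (V : Set G)) (hfaith : (X ⊔ Q) ⊓ centralizer (V : Set G) = ⊥)
    (hCV : V ⊓ centralizer (X : Set G) = ⊥) :
    ∃ (M : Type u) (_ : AddCommGroup M) (_ : Finite M) (x : G) (θ : MulAut Q) (σ : AddMonoid.End M)
      (ρ : Q →* AddMonoid.End M),
      zpowers x = X ∧ (∀ y : Q, (θ y : G) = x * y * x⁻¹) ∧ θ ^ r = 1 ∧ σ ^ r = 1 ∧
      (∀ y m, σ (ρ y m) = ρ (θ y) (σ m)) ∧ (∀ m, σ m = m → m = 0) ∧
      (∀ y : Q, (∀ m, ρ y m = m) → y = 1) ∧ (∃ k, Nat.card M = p ^ k) := by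
  obtain ⟨M, iM, fM, x, θ, σ, ρ, h1, h2, h3, h4, h5, h6, h7, h8⟩ :=
    setup' hp hr X Q V hX hXQ hV hXV hQV hCV
  refine ⟨M, iM, fM, x, θ, σ, ρ, h1, h2, h3, h4, h5, h6, fun y hy => ?_, h8⟩
  have h : (y : G) ∈ (X ⊔ Q) ⊓ centralizer (V : Set G) := ⟨mem_sup_right y.2, (h7 y).mp hy⟩
  rw [hfaith, mem_bot] at h
  exact Subtype.ext h

end CfsgLib.PGroups.HHSetup
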