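import Mathlib
import Cfsg.Prelude.Def_Transfer
import Cfsg.Agent.Lib.PLocal.NormalPComplementThms
import Cfsg.Agent.Lib.LocalEvenB.BaerSuzuki
import Cfsg.Agent.Lib.HallGen.Basic
import Cfsg.Agent.Lib.Transfer.PResidual
import Cfsg.Agent.Lib.Transfer.Conj
import Cfsg.Agent.Lib.OddLocal.FittingHall
import Cfsg.Agent.Lib.PGroups.Basic
import Cfsg.Agent.Lib.Components.Char

/-!
# A normal subgroup all of whose non-central elements have maximal centralizers

`N ⊴ G` such that `C_G(x)` is a maximal subgroup for `x ∈ N \ C_G(N)`: when `N` is not nilpotent,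
all centralizers `C_N(x)` of non-central elements are abelian.
-/

set_option autoImplicit false
set_option linter.style.haveILetI false

namespace CfsgLib.PGroups.MaxCent

open Subgroup

variable {G : Type*} [Group G]

/-- `x ∈ N` does not centralize `N`. -/
def Noncentral (N : Subgroup G) (x : G) : Prop := x ∈ N ∧ x ∉ centralizer (N : Set G)

/-- non-central elements of `N` have maximal centralizers in `G`. -/
def MaxCent (N : Subgroup G) : Prop :=
  ∀ x, Noncentral N x → IsCoatom (centralizer ({x} : Set G))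

/-- `x` is a non-central `p`-element of `N` whose centralizer in `N` has only central `p'`-elements. -/
def IsPType (p : ℕ) (N : Subgroup G) (x : G) : Prop :=
  Noncentral N x ∧ (∃ k, orderOf x = p ^ k) ∧
    ∀ y ∈ N, y ∈ centralizer ({x} : Set G) → (orderOf y).Coprime p → y ∈ centralizer (N : Set G)

theorem self_mem_cent (x : G) : x ∈ centralizer ({x} : Set G) :=
  mem_centralizer_singleton_iff.mpr rfl

theorem cent_symm {x y : G} (h : x ∈ centralizer ({y} : Set G)) : y ∈ centralizer ({x} : Set G) :=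
  mem_centralizer_singleton_iff.mpr (mem_centralizer_singleton_iff.mp h).symm

theorem cent_le_of_mem_zpowers {x y : G} (h : y ∈ zpowers x) :
    centralizer ({x} : Set G) ≤ centralizer ({y} : Set G) := by
  obtain ⟨k, rfl⟩ := mem_zpowers_iff.mp h
  intro g hg
  exact mem_centralizer_singleton_iff.mpr
    ((show Commute g x from mem_centralizer_singleton_iff.mp hg).zpow_right k).eq

/-- the `p`-part and `p'`-part of an element -/
theorem exists_parts {p : ℕ} [hp : Fact p.Prime] [Finite G] (u : G) :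
    ∃ a b : G, u = a * b ∧ a ∈ zpowers u ∧ b ∈ zpowers u ∧ (∃ k, orderOf a = p ^ k) ∧
      (orderOf b).Coprime p := by
  obtain ⟨k, m, hm, hkm⟩ :=
    Nat.exists_eq_pow_mul_and_not_dvd (orderOf_pos u).ne' p hp.out.ne_one
  have hco : Nat.Coprime (p ^ k) m := ((hp.out.coprime_iff_not_dvd).2 hm).pow_left k
  refine ⟨(u ^ m) ^ Nat.gcdB (p ^ k) m, (u ^ (p ^ k)) ^ Nat.gcdA (p ^ k) m, ?_,
    zpow_mem (pow_mem (mem_zpowers u) m) _, zpow_mem (pow_mem (mem_zpowers u) _) _, ?_, ?_⟩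
  · rw [← zpow_natCast u (p ^ k), ← zpow_natCast u m, ← zpow_mul, ← zpow_mul, ← zpow_add, add_comm,
      ← Nat.gcd_eq_gcd_ab, hco.gcd_eq_one]
    simp
  · have h1 : ((u ^ m) ^ Nat.gcdB (p ^ k) m) ^ (p ^ k) = 1 := by
      rw [← zpow_natCast (_ ^ _), ← zpow_mul, mul_comm, zpow_mul, zpow_natCast, ← pow_mul,
        mul_comm m, ← hkm, pow_orderOf_eq_one, one_zpow]
    obtain ⟨j, -, hj⟩ := (Nat.dvd_prime_pow hp.out).mp (orderOf_dvd_of_pow_eq_one h1)
    exact ⟨j, hj⟩
  · have h1 : ((u ^ (p ^ k)) ^ Nat.gcdA (p ^ k) m) ^ m = 1 := by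
      rw [← zpow_natCast (_ ^ _), ← zpow_mul, mul_comm, zpow_mul, zpow_natCast, ← pow_mul,
        ← hkm, pow_orderOf_eq_one, one_zpow]
    exact Nat.Coprime.coprime_dvd_left (orderOf_dvd_of_pow_eq_one h1)
      (((hp.out.coprime_iff_not_dvd).2 hm).symm)

variable [Finite G] {N : Subgroup G}

theorem cent_eq_of_le (h : MaxCent N) {x y : G} (hx : Noncentral N x) (hy : Noncentral N y)
    (hle : centralizer ({x} : Set G) ≤ centralizer ({y} : Set G)) :
    centralizer ({x} : Set G) = centralizer ({y} : Set G) :=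
  ((h x hx).le_iff_eq (h y hy).1).mp hle |>.symm

theorem cent_eq_of_coprime (h : MaxCent N) {x y : G} (hx : Noncentral N x) (hy : Noncentral N y)
    (hxy : x ∈ centralizer ({y} : Set G)) (hco : (orderOf x).Coprime (orderOf y)) :
    centralizer ({x} : Set G) = centralizer ({y} : Set G) := by
  have hc : Commute x y := mem_centralizer_singleton_iff.mp hxy
  have hmem : x ∈ zpowers (x * y) ∧ y ∈ zpowers (x * y) := by
    constructor
    · obtain ⟨m, hm⟩ := exists_pow_eq_self_of_coprime (x := x) (n := orderOf y) hco.symm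
      have : ((x * y) ^ orderOf y) ^ m = x := by
        rw [hc.mul_pow, pow_orderOf_eq_one, mul_one, hm]
      have h' := pow_mem (pow_mem (mem_zpowers (x * y)) (orderOf y)) m
      rwa [this] at h'
    · obtain ⟨m, hm⟩ := exists_pow_eq_self_of_coprime (x := y) (n := orderOf x) hco
      have : ((x * y) ^ orderOf x) ^ m = y := by
        rw [hc.mul_pow, pow_orderOf_eq_one, one_mul, hm]
      have h' := pow_mem (pow_mem (mem_zpowers (x * y)) (orderOf x)) m
      rwa [this] at h'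
  have hxyn : Noncentral N (x * y) :=
    ⟨N.mul_mem hx.1 hy.1, fun hh => hx.2 (zpowers_le.mpr hh hmem.1)⟩
  rw [← cent_eq_of_le h hxyn hx (cent_le_of_mem_zpowers hmem.1),
    ← cent_eq_of_le h hxyn hy (cent_le_of_mem_zpowers hmem.2)]

theorem exists_primePow_cent_eq (h : MaxCent N) {x : G} (hx : Noncentral N x) :
    ∃ r k : ℕ, r.Prime ∧ ∃ u, orderOf u = r ^ k ∧ Noncentral N u ∧
      centralizer ({u} : Set G) = centralizer ({x} : Set G) := by
  by_contra hc
  push Not at hc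
  refine hx.2 (CfsgLib.HallGen.mem_of_primePow_parts _ x fun y hy r k hr ho => ?_)
  by_contra hyc
  have hyn : Noncentral N y := ⟨zpowers_le.mpr hx.1 hy, hyc⟩
  exact hc r k hr y ho hyn (cent_eq_of_le h hx hyn (cent_le_of_mem_zpowers hy)).symm

theorem ptype_of_mem (h : MaxCent N) {p : ℕ} {x y : G} (hx : IsPType p N x) (hy : Noncentral N y)
    (hyx : y ∈ centralizer ({x} : Set G)) (ho : ∃ k, orderOf y = p ^ k) : IsPType p N y := by
  refine ⟨hy, ho, fun k hk hky hkc => ?_⟩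
  by_contra hkn
  obtain ⟨j, hj⟩ := ho
  have he := cent_eq_of_coprime h ⟨hk, hkn⟩ hy hky (hj ▸ hkc.pow_right j)
  exact hkn (hx.2.2 k hk (cent_symm (he ▸ cent_symm hyx)) hkc)

theorem dichotomy (h : MaxCent N) {x : G} (hx : Noncentral N x) :
    (∀ a ∈ N ⊓ centralizer ({x} : Set G), ∀ b ∈ N ⊓ centralizer ({x} : Set G), a * b = b * a) ∨
      ∃ p y, p.Prime ∧ IsPType p N y ∧
        centralizer ({y} : Set G) = centralizer ({x} : Set G) := by
  obtain ⟨r, j, hr, u, huo, hun, huc⟩ := exists_primePow_cent_eq h hx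
  by_cases hpt : IsPType r N u
  · exact Or.inr ⟨r, u, hr, hpt, huc⟩
  left
  obtain ⟨k, hkN, hku, hkc, hkn⟩ : ∃ k ∈ N, k ∈ centralizer ({u} : Set G) ∧
      (orderOf k).Coprime r ∧ k ∉ centralizer (N : Set G) := by
    by_contra hc
    push Not at hc
    exact hpt ⟨hun, ⟨j, huo⟩, hc⟩
  have hke := cent_eq_of_coprime h ⟨hkN, hkn⟩ hun hku (huo ▸ hkc.pow_right j)
  intro a ha b hb
  suffices a ∈ centralizer ({b} : Set G) from mem_centralizer_singleton_iff.mp this
  refine CfsgLib.HallGen.mem_of_primePow_parts _ a fun v hv s i hs hvo => ?_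
  have hvN : v ∈ N := zpowers_le.mpr ha.1 hv
  have hvx : v ∈ centralizer ({x} : Set G) := zpowers_le.mpr ha.2 hv
  by_cases hvn : v ∈ centralizer (N : Set G)
  · exact mem_centralizer_singleton_iff.mpr (mem_centralizer_iff.mp hvn b hb.1).symm
  have hve : centralizer ({v} : Set G) = centralizer ({u} : Set G) := by
    by_cases hsr : s = r
    · subst hsr
      rw [← hke]
      exact cent_eq_of_coprime h ⟨hvN, hvn⟩ ⟨hkN, hkn⟩ (hke.symm ▸ huc.symm ▸ hvx)
        (hvo ▸ (hkc.pow_right i).symm)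
    · refine cent_eq_of_coprime h ⟨hvN, hvn⟩ hun (huc.symm ▸ hvx) ?_
      rw [hvo, huo]
      exact Nat.Coprime.pow _ _ ((Nat.coprime_primes hs hr).mpr hsr)
  refine cent_symm ?_
  rw [hve, huc]
  exact hb.2

theorem mem_normalizer_of_forall {H : Subgroup G} {g : G} (h : ∀ x ∈ H, g * x * g⁻¹ ∈ H) :
    g ∈ Subgroup.normalizer (H : Set G) := by
  rw [Subgroup.mem_normalizer_iff]
  refine fun x => ⟨h x, fun hx => ?_⟩
  obtain ⟨⟨c, hc⟩, hc'⟩ := Finite.surjective_of_injective
    (f := fun c : H => (⟨g * c * g⁻¹, h c c.2⟩ : H)) (fun a b hab => by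
      simpa using congrArg Subtype.val hab) ⟨_, hx⟩
  have : c = x := by simpa using congrArg Subtype.val hc'
  exact this ▸ hc

theorem mem_center_iff' (n : N) : n ∈ center N ↔ (n : G) ∈ centralizer (N : Set G) := by
  rw [Subgroup.mem_center_iff, mem_centralizer_iff]
  exact ⟨fun h g hg => congrArg Subtype.val (h ⟨g, hg⟩), fun h g => Subtype.ext (h g g.2)⟩

/-- the normal Sylow subgroup of `C_N(x)` for an `x` of `p`-type -/
theorem exists_pPart [hNn : N.Normal] {p : ℕ} [Fact p.Prime] {x : G} (hx : IsPType p N x) :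
    ∃ Q : Subgroup G, Q ≤ N ⊓ centralizer ({x} : Set G) ∧ IsPGroup p Q ∧
      centralizer ({x} : Set G) ≤ Subgroup.normalizer (Q : Set G) ∧
      (∀ u ∈ N ⊓ centralizer ({x} : Set G), (∃ k, orderOf u = p ^ k) → u ∈ Q) ∧
      ∀ u ∈ N ⊓ centralizer ({x} : Set G), ∃ a ∈ Q, ∃ b ∈ N ⊓ centralizer (N : Set G),
        u = a * b := by
  set K := N ⊓ centralizer ({x} : Set G) with hK
  have hparts : ∀ u ∈ K, ∃ a b, u = a * b ∧ a ∈ K ∧ (∃ k, orderOf a = p ^ k) ∧
      b ∈ N ⊓ centralizer (N : Set G) := by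
    intro u hu
    obtain ⟨a, b, hab, ha, hb, hao, hbo⟩ := exists_parts (p := p) u
    have hb' : b ∈ K := zpowers_le.mpr hu hb
    exact ⟨a, b, hab, zpowers_le.mpr hu ha, hao, hb'.1, hx.2.2 b hb'.1 hb'.2 hbo⟩
  set Z := (centralizer (N : Set G)).subgroupOf K with hZ
  have hZc : ∀ z ∈ Z, z ∈ center K := fun z hz => Subgroup.mem_center_iff.mpr fun g =>
    Subtype.ext (mem_centralizer_iff.mp hz g g.2.1)
  haveI : Z.Normal := ⟨fun z hz g => by
    rwa [Subgroup.mem_center_iff.mp (hZc z hz) g, mul_inv_cancel_right]⟩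
  have hq : IsPGroup p (K ⧸ Z) := by
    rintro ⟨⟨u, hu⟩⟩
    obtain ⟨a, b, hab, ha, ⟨k, hk⟩, hb⟩ := hparts u hu
    refine ⟨k, ?_⟩
    have h1 : (QuotientGroup.mk (⟨u, hu⟩ : K) : K ⧸ Z) = QuotientGroup.mk (⟨a, ha⟩ : K) := by
      rw [QuotientGroup.eq]
      show u⁻¹ * a ∈ centralizer (N : Set G)
      rw [hab, mul_inv_rev, inv_mul_cancel_right]
      exact inv_mem hb.2
    show (QuotientGroup.mk (⟨u, hu⟩ : K) : K ⧸ Z) ^ p ^ k = 1
    rw [h1, ← QuotientGroup.mk_pow]
    have : (⟨a, ha⟩ : K) ^ p ^ k = 1 := Subtype.ext (by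
      simp [← hk, pow_orderOf_eq_one])
    rw [this]
    rfl
  haveI := hq.isNilpotent
  have hnil : Group.IsNilpotent K := Subgroup.isNilpotent_of_ker_le_center (QuotientGroup.mk' Z)
    (by rw [QuotientGroup.ker_mk']; exact hZc)
  set Q := (Cfsg.pCore p K).map K.subtype with hQ
  have hQp : IsPGroup p Q := (CfsgLib.HallGen.isPGroup_pCore p).map K.subtype
  have hmem : ∀ u ∈ K, (∃ k, orderOf u = p ^ k) → u ∈ Q := by
    rintro u hu ⟨k, hk⟩
    refine ⟨⟨u, hu⟩, ?_, rfl⟩
    exact CfsgLib.HallGen.mem_pCore_of_mem_nilpotent_normal (N := (⊤ : Subgroup K)) inferInstance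
      (Group.isNilpotent_top.mpr hnil) (Subgroup.mem_top _) (k := k) (by rw [← Subgroup.orderOf_coe, hk])
  refine ⟨Q, Subgroup.map_subtype_le _, hQp, fun g hg => ?_, hmem, fun u hu => ?_⟩
  · refine mem_normalizer_of_forall fun q hq' => ?_
    have hqK : q ∈ K := Subgroup.map_subtype_le _ hq'
    refine hmem _ ⟨hNn.conj_mem q hqK.1 g, (centralizer _).mul_mem ((centralizer _).mul_mem hg hqK.2) ((centralizer _).inv_mem hg)⟩ ?_
    obtain ⟨k, hk⟩ := isPGroup_iff_orderOf_dvd_pow.mp hQp ⟨q, hq'⟩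
    obtain ⟨j, -, hj⟩ := (Nat.dvd_prime_pow (Fact.out : p.Prime)).mp hk
    refine ⟨j, ?_⟩
    rw [← hj, ← Subgroup.orderOf_coe]
    exact orderOf_injective (MulAut.conj g).toMonoidHom (MulAut.conj g).injective q
  · obtain ⟨a, b, hab, ha, hao, hb⟩ := hparts u hu
    exact ⟨a, hmem a ha hao, b, hb, hab⟩

theorem orderOf_eq_pow_of_mem {p : ℕ} [hp : Fact p.Prime] {Q : Subgroup G} (hQ : IsPGroup p Q)
    {q : G} (hq : q ∈ Q) : ∃ k, orderOf q = p ^ k := by
  obtain ⟨k, hk⟩ := isPGroup_iff_orderOf_dvd_pow.mp hQ ⟨q, hq⟩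
  obtain ⟨j, -, hj⟩ := (Nat.dvd_prime_pow hp.out).mp hk
  exact ⟨j, by rw [← hj, ← Subgroup.orderOf_coe]⟩

/-- a normal `p`-subgroup not centralized by a `p`-type element forces nilpotency -/
theorem le_cent_of_not_nilpotent [hNn : N.Normal] (h : MaxCent N) (hnn : ¬ Group.IsNilpotent N)
    {p : ℕ} [hp : Fact p.Prime] {x : G} (hx : IsPType p N x) {T : Subgroup G} [T.Normal]
    (hT : IsPGroup p T) (hTN : T ≤ N) : T ≤ centralizer ({x} : Set G) := by
  by_contra hle
  apply hnn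
  have htop : centralizer ({x} : Set G) ⊔ T = ⊤ :=
    (h x hx.1).2 _ (lt_of_le_of_ne le_sup_left fun e => hle (e ▸ le_sup_right))
  obtain ⟨Q, hQK, hQp, -, -, hdec⟩ := exists_pPart hx
  have hS : IsPGroup p (Q ⊔ T : Subgroup G) := hQp.to_sup_of_normal_right hT
  have hq : IsPGroup p (N ⧸ center N) := by
    rintro ⟨⟨n, hn⟩⟩
    obtain ⟨c, hc, t, ht, hct⟩ := mem_sup_of_normal_right.mp (htop ▸ mem_top n)
    have hcN : c ∈ N := by
      rw [← hct] at hn
      exact (N.mul_mem_cancel_right (hTN ht)).mp hn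
    obtain ⟨a, ha, b, hb, rfl⟩ := hdec c ⟨hcN, hc⟩
    have hat : a * t ∈ Q ⊔ T := mul_mem (mem_sup_left ha) (mem_sup_right ht)
    have hatN : a * t ∈ N := N.mul_mem (hQK ha).1 (hTN ht)
    obtain ⟨k, hk⟩ := hS ⟨a * t, hat⟩
    refine ⟨k, ?_⟩
    have h1 : (QuotientGroup.mk (⟨n, hn⟩ : N) : N ⧸ center N) =
        QuotientGroup.mk (⟨a * t, hatN⟩ : N) := by
      rw [QuotientGroup.eq, mem_center_iff']
      show n⁻¹ * (a * t) ∈ centralizer (N : Set G)
      have e : n = a * t * b := by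
        rw [← hct, mul_assoc a b t, ← mem_centralizer_iff.mp hb.2 t (hTN ht), ← mul_assoc]
      rw [e, mul_inv_rev, inv_mul_cancel_right]
      exact inv_mem hb.2
    show (QuotientGroup.mk (⟨n, hn⟩ : N) : N ⧸ center N) ^ p ^ k = 1
    rw [h1, ← QuotientGroup.mk_pow]
    have : (⟨a * t, hatN⟩ : N) ^ p ^ k = 1 := by
      have := congrArg Subtype.val hk
      exact Subtype.ext (by simpa using this)
    rw [this]
    rfl
  haveI := hq.isNilpotent
  exact Subgroup.isNilpotent_of_ker_le_center (QuotientGroup.mk' (center N))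
    (QuotientGroup.ker_mk' _).le

/-- a normal `p`-subgroup of `G` inside `N` lies in `O_p(N)` -/
theorem le_map_pCore {p : ℕ} {H : Subgroup G} (hn : H.Normal) (hp : IsPGroup p H) (hle : H ≤ N) :
    H ≤ (Cfsg.pCore p N).map N.subtype := by
  haveI := hn
  intro a ha
  refine ⟨⟨a, hle ha⟩, ?_, rfl⟩
  exact (le_sSup ⟨inferInstance, hp.comap_subtype⟩ : H.subgroupOf N ≤ Cfsg.pCore p N) ha

theorem eq_of_index_not_dvd {p : ℕ} [hp : Fact p.Prime] {Q R : Subgroup G}
    (hQi : ¬ p ∣ Q.relIndex N) (hQR : Q ≤ R) (hR : IsPGroup p R) (hRN : R ≤ N) : R = Q := by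
  refine le_antisymm (Subgroup.relIndex_eq_one.mp ?_) hQR
  obtain ⟨k, hk⟩ := hR.index (Q.subgroupOf R)
  rw [Subgroup.relIndex, hk]
  rcases Nat.eq_zero_or_pos k with rfl | hk0
  · rfl
  · refine absurd (dvd_trans ?_ (Subgroup.relIndex_mul_relIndex Q R N hQR hRN ▸ dvd_mul_right _ _)) hQi
    rw [Subgroup.relIndex, hk]
    exact dvd_pow_self p hk0.ne'

/-- If `O_p(N)` is central, the `p`-part of `C_N(x)` is a Sylow subgroup of `N` with normalizer
`C_G(x)`. -/
theorem sylow_of_ptype (h : MaxCent N) {p : ℕ} [hp : Fact p.Prime] {x : G}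
    (hx : IsPType p N x) {Q : Subgroup G} (hQp : IsPGroup p Q)
    (hQK : Q ≤ N ⊓ centralizer ({x} : Set G))
    (hQn : centralizer ({x} : Set G) ≤ Subgroup.normalizer (Q : Set G))
    (hQmem : ∀ u ∈ N ⊓ centralizer ({x} : Set G), (∃ k, orderOf u = p ^ k) → u ∈ Q)
    (hne : Subgroup.normalizer (Q : Set G) ≠ ⊤) :
    Subgroup.normalizer (Q : Set G) = centralizer ({x} : Set G) ∧ ¬ p ∣ Q.relIndex N := by
  have heq : Subgroup.normalizer (Q : Set G) = centralizer ({x} : Set G) :=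
    ((h x hx.1).le_iff_eq hne).mp hQn
  refine ⟨heq, ?_⟩
  obtain ⟨P, hQP, hPN, hPp, hPi⟩ :=
    CfsgLib.Transfer.exists_sylow_of_le (p := p) (hQK.trans inf_le_left) hQp
  suffices P = Q by rwa [this] at hPi
  by_contra hne'
  obtain ⟨u, hu, huQ⟩ := SetLike.exists_of_lt
    (CfsgLib.Transfer.lt_inf_normalizer hPp (lt_of_le_of_ne hQP fun e => hne' e.symm))
  exact huQ (hQmem u ⟨hPN hu.1, heq ▸ hu.2⟩ (orderOf_eq_pow_of_mem hPp hu.1))

theorem conj_centralizer_mem [hNn : N.Normal] {b : G} (hb : b ∈ centralizer (N : Set G)) (g : G) :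
    g * b * g⁻¹ ∈ centralizer (N : Set G) :=
  (Subgroup.normal_centralizer (H := N)).conj_mem b hb g

/-- Key step: in a non-nilpotent `N`, centralizers in `N` of non-central elements are abelian. -/
theorem abelian_of_not_nilpotent [hNn : N.Normal] (h : MaxCent N) (hnn : ¬ Group.IsNilpotent N)
    {x₀ : G} (hx₀ : Noncentral N x₀) :
    ∀ a ∈ N ⊓ centralizer ({x₀} : Set G), ∀ b ∈ N ⊓ centralizer ({x₀} : Set G), a * b = b * a := by
  rcases dichotomy h hx₀ with hab | ⟨p, x, hp, hx, hxc⟩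
  · exact hab
  haveI := Fact.mk hp
  rw [← hxc]
  by_contra hbad
  obtain ⟨Q, hQK, hQp, hQn, hQmem, hQdec⟩ := exists_pPart hx
  have hQnc : ¬ ∀ a ∈ Q, ∀ b ∈ Q, a * b = b * a := by
    intro hQc
    refine hbad fun a ha b hb => ?_
    obtain ⟨a₁, ha₁, a₂, ha₂, rfl⟩ := hQdec a ha
    obtain ⟨b₁, hb₁, b₂, hb₂, rfl⟩ := hQdec b hb
    have hcen : ∀ (w : G), w ∈ centralizer (N : Set G) → ∀ n ∈ N, Commute w n :=
      fun w hw n hn => (mem_centralizer_iff.mp hw n hn).symm
    have e1 : Commute a₁ b₁ := hQc a₁ ha₁ b₁ hb₁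
    have e2 : Commute a₁ b₂ := (hcen b₂ hb₂.2 a₁ (hQK ha₁).1).symm
    have e3 : Commute a₂ b₁ := hcen a₂ ha₂.2 b₁ (hQK hb₁).1
    have e4 : Commute a₂ b₂ := hcen a₂ ha₂.2 b₂ hb₂.1
    exact ((e1.mul_right e2).mul_left (e3.mul_right e4)).eq
  set T := (Cfsg.pCore p N).map N.subtype with hT
  haveI hTn : T.Normal := by
    haveI : (Cfsg.pCore p N).Characteristic := CfsgLib.Components.pCore_characteristic p
    infer_instance
  have hTN : T ≤ N := Subgroup.map_subtype_le _
  have hTp : IsPGroup p T := (CfsgLib.HallGen.isPGroup_pCore p).map N.subtype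
  have hTle : ∀ y, IsPType p N y → T ≤ centralizer ({y} : Set G) :=
    fun y hy => le_cent_of_not_nilpotent h hnn hy hTp hTN
  -- `Q` is not normal
  have hQne : Subgroup.normalizer (Q : Set G) ≠ ⊤ := by
    intro e
    have hQT : Q ≤ T :=
      le_map_pCore (Subgroup.normalizer_eq_top_iff.mp e) hQp (hQK.trans inf_le_left)
    refine hQnc fun a ha b hb => ?_
    by_cases han : a ∈ centralizer (N : Set G)
    · exact (mem_centralizer_iff.mp han b (hQK hb).1).symm
    · have hpt := ptype_of_mem h hx ⟨(hQK ha).1, han⟩ (hQK ha).2 (orderOf_eq_pow_of_mem hQp ha)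
      exact (mem_centralizer_singleton_iff.mp (hTle a hpt (hQT hb))).symm
  obtain ⟨hQN, hQi⟩ := sylow_of_ptype h hx hQp hQK hQn hQmem hQne
  -- every non-central `p`-element is of `p`-type
  have hconjQ : ∀ s ∈ N, (∃ k, orderOf s = p ^ k) → ∃ n ∈ N, n⁻¹ * s * n ∈ Q := by
    rintro s hs ⟨k, hk⟩
    obtain ⟨n, hn, hsn⟩ := CfsgLib.Transfer.exists_conj_le hQp hQi (zpowers_le.mpr hs)
      (CfsgLib.HallGen.isPGroup_zpowers hk)
    exact ⟨n, hn, hsn s (mem_zpowers s)⟩
  have hall : ∀ s, Noncentral N s → (∃ k, orderOf s = p ^ k) → IsPType p N s := by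
    intro s hs hso
    obtain ⟨n, hn, hsn⟩ := hconjQ s hs.1 hso
    have ho' : ∃ k, orderOf (n⁻¹ * s * n) = p ^ k := orderOf_eq_pow_of_mem hQp hsn
    have hs' : Noncentral N (n⁻¹ * s * n) := ⟨(hQK hsn).1, fun e => hs.2 (by
      have h1 := conj_centralizer_mem e n
      rwa [show n * (n⁻¹ * s * n) * n⁻¹ = s by group] at h1)⟩
    have hpt := ptype_of_mem h hx hs' (hQK hsn).2 ho'
    refine ⟨hs, hso, fun k hk hks hkc => ?_⟩
    have hk' : n⁻¹ * k * n ∈ centralizer ({n⁻¹ * s * n} : Set G) := by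
      have hc := mem_centralizer_singleton_iff.mp hks
      refine mem_centralizer_singleton_iff.mpr ?_
      calc n⁻¹ * k * n * (n⁻¹ * s * n) = n⁻¹ * (k * s) * n := by group
        _ = n⁻¹ * (s * k) * n := by rw [hc]
        _ = _ := by group
    have hord : orderOf (n⁻¹ * k * n) = orderOf k := by
      simpa using orderOf_injective (MulAut.conj n⁻¹).toMonoidHom (MulAut.conj n⁻¹).injective k
    have h1 := conj_centralizer_mem
      (hpt.2.2 _ (N.mul_mem (N.mul_mem (N.inv_mem hn) hk) hn) hk' (hord ▸ hkc)) n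
    rwa [show n * (n⁻¹ * k * n) * n⁻¹ = k by group] at h1
  -- `O_p(N)` is central
  have hTcen : T ≤ centralizer (N : Set G) := by
    intro v hv
    by_contra hvn
    have hvp := ptype_of_mem h hx ⟨hTN hv, hvn⟩ (hTle x hx hv) (orderOf_eq_pow_of_mem hTp hv)
    obtain ⟨Qv, hQvK, hQvp, -, hQvmem, -⟩ := exists_pPart hvp
    have hsub : ∀ s ∈ N, (∃ k, orderOf s = p ^ k) → s ∈ Qv := by
      intro s hs hso
      refine hQvmem s ⟨hs, ?_⟩ hso
      by_cases hsn : s ∈ centralizer (N : Set G)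
      · exact mem_centralizer_singleton_iff.mpr (mem_centralizer_iff.mp hsn v (hTN hv)).symm
      · exact cent_symm (hTle s (hall s ⟨hs, hsn⟩ hso) hv)
    have hQQv : Qv = Q := eq_of_index_not_dvd hQi
      (fun q hq => hsub q (hQK hq).1 (orderOf_eq_pow_of_mem hQp hq)) hQvp (hQvK.trans inf_le_left)
    refine hQne (top_le_iff.mp fun g _ => mem_normalizer_of_forall fun q hq => ?_)
    rw [← hQQv]
    refine hsub _ (hNn.conj_mem q (hQK hq).1 g) ?_
    obtain ⟨k, hk⟩ := orderOf_eq_pow_of_mem hQp hq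
    refine ⟨k, ?_⟩
    rw [← hk]
    exact orderOf_injective (MulAut.conj g).toMonoidHom (MulAut.conj g).injective q
  by_cases hp2 : p = 2
  · -- `p = 2`
    subst hp2
    obtain ⟨⟨-, ⟨e, he⟩⟩, hxn⟩ : (x ∈ N ∧ ∃ e, orderOf x = 2 ^ e) ∧
        x ∉ centralizer (N : Set G) := ⟨⟨hx.1.1, hx.2.1⟩, hx.1.2⟩
    classical
    have hex : ∃ j, x ^ 2 ^ j ∈ centralizer (N : Set G) :=
      ⟨e, by rw [← he, pow_orderOf_eq_one]; exact one_mem _⟩
    obtain ⟨j, hj, hjmin⟩ := Nat.findX hex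
    obtain ⟨i, rfl⟩ : ∃ i, j = i + 1 := by
      rcases j with _ | i
      · exact absurd (by simpa using hj) hxn
      · exact ⟨i, rfl⟩
    set u := x ^ 2 ^ i with hu
    have hxQ : x ∈ Q := hQmem x ⟨hx.1.1, self_mem_cent x⟩ hx.2.1
    have huQ : u ∈ Q := Q.pow_mem hxQ _
    have huN : u ∈ N := (hQK huQ).1
    have hun : u ∉ centralizer (N : Set G) := hjmin i (by omega)
    have hu2 : u * u ∈ centralizer (N : Set G) := by
      rw [hu, ← pow_add, ← two_mul, ← pow_succ']
      exact hj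
    set π := QuotientGroup.mk' (center N) with hπ
    by_cases hO : π ⟨u, huN⟩ ∈ Cfsg.pCore 2 (N ⧸ center N)
    · haveI := CfsgLib.HallGen.pCore_normal' (G := N ⧸ center N) 2
      set R := (Cfsg.pCore 2 (N ⧸ center N)).comap π with hR
      let f : R →* ↥(Cfsg.pCore 2 (N ⧸ center N)) :=
        (π.comp R.subtype).codRestrict _ fun r => r.2
      haveI : Group.IsNilpotent ↥(Cfsg.pCore 2 (N ⧸ center N)) :=
        (CfsgLib.HallGen.isPGroup_pCore 2).isNilpotent
      have hRnil : Group.IsNilpotent R := by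
        refine Subgroup.isNilpotent_of_ker_le_center f ?_
        intro r hr
        have hr' : π (r : N) = 1 := congrArg Subtype.val hr
        rw [hπ, QuotientGroup.mk'_apply, QuotientGroup.eq_one_iff, Subgroup.mem_center_iff] at hr'
        exact Subgroup.mem_center_iff.mpr fun s => Subtype.ext (hr' s)
      obtain ⟨k, hk⟩ := orderOf_eq_pow_of_mem hQp huQ
      have huR : (⟨u, huN⟩ : N) ∈ Cfsg.pCore 2 N :=
        CfsgLib.HallGen.mem_pCore_of_mem_nilpotent_normal (N := R) inferInstance hRnil hO (k := k)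
          (by rw [← Subgroup.orderOf_coe, hk])
      exact hun (hTcen ⟨_, huR, rfl⟩)
    have hv2 : π ⟨u, huN⟩ * π ⟨u, huN⟩ = 1 := by
      rw [← map_mul, hπ, QuotientGroup.mk'_apply, QuotientGroup.eq_one_iff, mem_center_iff']
      exact hu2
    obtain ⟨kb, hkb1, hkbo, hkbi⟩ := CfsgLib.LocalEvenB.exists_odd_inverted hv2 hO
    obtain ⟨⟨k₀, hk₀⟩, rfl⟩ := QuotientGroup.mk'_surjective (center N) kb
    -- odd-order preimage
    obtain ⟨a, k₁, hab, ha, hb, ⟨ea, hea⟩, hk₁o⟩ := exists_parts (p := 2) (⟨k₀, hk₀⟩ : N)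
    have hπa : π a = 1 := by
      obtain ⟨m, rfl⟩ := mem_zpowers_iff.mp ha
      have h1 : orderOf (π ((⟨k₀, hk₀⟩ : N) ^ m)) ∣ orderOf (π ⟨k₀, hk₀⟩) := by
        rw [map_zpow]
        refine orderOf_dvd_of_pow_eq_one ?_
        rw [← zpow_natCast, ← zpow_mul, mul_comm, zpow_mul, zpow_natCast, pow_orderOf_eq_one, one_zpow]
      have h2 : orderOf (π ((⟨k₀, hk₀⟩ : N) ^ m)) ∣ 2 ^ ea := hea ▸ orderOf_map_dvd π _
      exact orderOf_eq_one_iff.mp (Nat.eq_one_of_dvd_coprimes
        ((Nat.coprime_two_left.mpr hkbo).pow_left ea) h2 h1)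
    have hπk : π k₁ = π ⟨k₀, hk₀⟩ := by rw [hab, map_mul, hπa, one_mul]
    rw [← hπk] at hkb1 hkbi
    rw [← map_inv, ← map_mul, ← map_mul, ← map_inv, hπ, QuotientGroup.mk'_eq_mk'] at hkbi
    obtain ⟨w, hw, hwk⟩ := hkbi
    rw [mem_center_iff'] at hw
    set c : G := u * (k₁ : G) * u⁻¹ with hc
    have hcw : c * (w : G) = (k₁ : G)⁻¹ := congrArg Subtype.val hwk
    have hc' : c = (k₁ : G)⁻¹ * (w : G)⁻¹ := by rw [← hcw, mul_inv_cancel_right]
    have hcomm : Commute c (k₁ : G) := by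
      have h1 : Commute (w : G)⁻¹ (k₁ : G) := by
        refine Commute.inv_left ?_
        exact (mem_centralizer_iff.mp hw k₁ k₁.2).symm
      rw [hc']
      exact (Commute.refl _).inv_left.mul_left h1
    have hcN : c ∈ N := N.mul_mem (N.mul_mem huN k₁.2) (N.inv_mem huN)
    set k : G := c * (k₁ : G)⁻¹ with hk
    have hkN : k ∈ N := N.mul_mem hcN (N.inv_mem k₁.2)
    have hkodd : (orderOf k).Coprime 2 := by
      refine Nat.Coprime.coprime_dvd_left hcomm.inv_right.orderOf_mul_dvd_lcm ?_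
      rw [orderOf_inv, hc, show orderOf (u * (k₁ : G) * u⁻¹) = orderOf (k₁ : G) from
        orderOf_injective (MulAut.conj u).toMonoidHom (MulAut.conj u).injective _, Nat.lcm_self,
        Subgroup.orderOf_coe]
      exact hk₁o
    have hkn : Noncentral N k := by
      refine ⟨hkN, fun hkc => hkb1 ?_⟩
      have h1 : π ⟨k, hkN⟩ = 1 := by
        rw [hπ, QuotientGroup.mk'_apply, QuotientGroup.eq_one_iff, mem_center_iff']
        exact hkc
      have h2 : π ⟨k, hkN⟩ = (π k₁ ^ 2)⁻¹ := by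
        have e : (⟨k, hkN⟩ : N) = k₁⁻¹ * w⁻¹ * k₁⁻¹ := Subtype.ext (by
          show k = _
          rw [hk, hc']; rfl)
        have hw1 : π w = 1 := by
          rw [hπ, QuotientGroup.mk'_apply, QuotientGroup.eq_one_iff, mem_center_iff']
          exact hw
        rw [e, map_mul, map_mul, map_inv, map_inv, hw1, inv_one, mul_one, pow_two, mul_inv_rev]
      rw [h2, inv_eq_one] at h1
      refine orderOf_eq_one_iff.mp (Nat.eq_one_of_dvd_coprimes hk₁o (orderOf_map_dvd π k₁) ?_)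
      exact orderOf_dvd_of_pow_eq_one h1
    have hinv : u * k * u⁻¹ = k⁻¹ := by
      have hu2c : u * u * (k₁ : G) * (u * u)⁻¹ = k₁ := by
        rw [← mem_centralizer_iff.mp hu2 k₁ k₁.2, mul_inv_cancel_right]
      calc u * k * u⁻¹ = (u * u * (k₁ : G) * (u * u)⁻¹) * c⁻¹ := by rw [hk, hc]; group
        _ = (k₁ : G) * c⁻¹ := by rw [hu2c]
        _ = k⁻¹ := by rw [hk]; group
    set L := centralizer ({k} : Set G) with hL
    have hLcoat : IsCoatom L := h k hkn
    have huL : u ∉ L := by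
      intro e
      have e' : u * k * u⁻¹ = k := by rw [mem_centralizer_singleton_iff.mp e, mul_inv_cancel_right]
      rw [hinv] at e'
      refine hkn.2 ?_
      have h2 : k ^ 2 = 1 := by
        rw [pow_two]
        nth_rewrite 1 [← e']
        rw [inv_mul_cancel]
      rw [orderOf_eq_one_iff.mp (Nat.eq_one_of_dvd_coprimes hkodd dvd_rfl
        (orderOf_dvd_of_pow_eq_one h2))]
      exact one_mem _
    have huLn : u ∈ Subgroup.normalizer (L : Set G) := by
      refine mem_normalizer_of_forall fun l hl => ?_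
      have h1 : Commute l k⁻¹ :=
        (show Commute l k from mem_centralizer_singleton_iff.mp hl).inv_right
      have h2 : Commute (u * l * u⁻¹) (u * k⁻¹ * u⁻¹) := h1.map (MulAut.conj u).toMonoidHom
      rw [show u * k⁻¹ * u⁻¹ = (u * k * u⁻¹)⁻¹ by group, hinv, inv_inv] at h2
      exact mem_centralizer_singleton_iff.mpr h2.eq
    have hLN : Subgroup.normalizer (L : Set G) = ⊤ :=
      hLcoat.2 _ (lt_of_le_of_ne Subgroup.le_normalizer fun e => huL (e ▸ huLn))
    haveI : L.Normal := Subgroup.normalizer_eq_top_iff.mp hLN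
    have hu2L : u * u ∈ L :=
      mem_centralizer_singleton_iff.mpr (mem_centralizer_iff.mp hu2 k hkN).symm
    have htop : zpowers u ⊔ L = ⊤ :=
      hLcoat.2 _ (lt_of_le_of_ne le_sup_right fun e =>
        huL (e ▸ mem_sup_left (mem_zpowers u)))
    have hQL : ∀ q ∈ Q, q ∈ L → q ∈ centralizer (N : Set G) := by
      intro q hq hqL
      by_contra hqn
      obtain ⟨d, hd⟩ := orderOf_eq_pow_of_mem hQp hq
      have hqN : Noncentral N q := ⟨(hQK hq).1, hqn⟩
      have hpt := hall q hqN ⟨d, hd⟩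
      exact hkn.2 (hpt.2.2 k hkN (cent_symm hqL) hkodd)
    have hQdec2 : ∀ q ∈ Q, ∃ c ∈ centralizer (N : Set G), c ∈ Q ∧ (q = c ∨ q = c * u) := by
      intro q hq
      obtain ⟨z, hz, l, hl, hzl⟩ := mem_sup_of_normal_right.mp (htop ▸ mem_top q)
      obtain ⟨m, rfl⟩ := mem_zpowers_iff.mp hz
      rcases Int.even_or_odd m with ⟨t, ht⟩ | ⟨t, ht⟩
      · have hqL : q ∈ L := by
          rw [← hzl, ht, ← two_mul, zpow_mul, zpow_two]
          exact L.mul_mem (L.zpow_mem hu2L t) hl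
        exact ⟨q, hQL q hq hqL, hq, Or.inl rfl⟩
      · have hquL : q * u⁻¹ ∈ L := by
          rw [← hzl, ht, zpow_add, zpow_one, zpow_mul, zpow_two,
            show (u * u) ^ t * u * l * u⁻¹ = (u * u) ^ t * (u * l * u⁻¹) by group]
          exact L.mul_mem (L.zpow_mem hu2L t) ((Subgroup.mem_normalizer_iff.mp huLn l).mp hl)
        have hquQ : q * u⁻¹ ∈ Q := Q.mul_mem hq (Q.inv_mem huQ)
        exact ⟨q * u⁻¹, hQL _ hquQ hquL, hquQ, Or.inr (inv_mul_cancel_right q u).symm⟩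
    refine hQnc fun q₁ hq₁ q₂ hq₂ => ?_
    have hcen : ∀ (z : G), z ∈ centralizer (N : Set G) → ∀ n ∈ N, Commute z n :=
      fun z hz n hn => (mem_centralizer_iff.mp hz n hn).symm
    obtain ⟨c₁, hc₁, -, e₁⟩ := hQdec2 q₁ hq₁
    obtain ⟨c₂, hc₂, hc₂Q, e₂⟩ := hQdec2 q₂ hq₂
    rcases e₁ with e₁ | e₁ <;> rw [e₁]
    · exact (hcen c₁ hc₁ q₂ (hQK hq₂).1).eq
    · rcases e₂ with e₂ | e₂ <;> rw [e₂]
      · exact ((hcen c₂ hc₂ _ (e₁ ▸ (hQK hq₁).1)).symm).eq
      · have d₂ : Commute c₂ u := hcen c₂ hc₂ u huN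
        have d₁ : Commute c₁ u := hcen c₁ hc₁ u huN
        have d₁₂ : Commute c₁ c₂ := hcen c₁ hc₁ c₂ (hQK hc₂Q).1
        exact ((d₁₂.mul_right d₁).mul_left (d₂.symm.mul_right (Commute.refl u))).eq
  · -- `p` odd: Glauberman
    have hxQ : x ∈ Q := hQmem x ⟨hx.1.1, self_mem_cent x⟩ hx.2.1
    set Zg := Cfsg.centerThompsonAOf Q with hZg
    have hJQ : Cfsg.thompsonSubgroupAOf Q ≤ Q := Subgroup.map_subtype_le _
    have hxZ : x ∈ Zg := by
      refine ⟨?_, ?_⟩
      · refine ⟨⟨x, hxQ⟩, ?_, rfl⟩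
        obtain ⟨A, hA, hAmax⟩ := Set.exists_max_image {A : Subgroup Q | IsMulCommutative A}
          (fun A => Nat.card A) (Set.toFinite _) ⟨⊥, show IsMulCommutative (⊥ : Subgroup Q) by infer_instance⟩
        have hB : IsMulCommutative (Subgroup.closure ((A : Set Q) ∪ {⟨x, hxQ⟩})) := by
          refine Subgroup.isMulCommutative_closure fun a ha b hb => ?_
          rcases ha with ha | rfl <;> rcases hb with hb | rfl
          · exact congrArg Subtype.val (hA.is_comm.comm (⟨a, ha⟩ : A) ⟨b, hb⟩)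
          · exact Subtype.ext (mem_centralizer_singleton_iff.mp (hQK a.2).2)
          · exact Subtype.ext (mem_centralizer_singleton_iff.mp (hQK b.2).2).symm
          · rfl
        have hle : A ≤ Subgroup.closure ((A : Set Q) ∪ {⟨x, hxQ⟩}) :=
          fun a ha => Subgroup.subset_closure (Or.inl ha)
        have heq := Subgroup.eq_of_le_of_card_ge hle (hAmax _ hB)
        exact (le_sSup (show A ∈ Cfsg.maxAbelianSubgroups Q from ⟨hA, fun B hB => hAmax B hB⟩))
          (heq ▸ Subgroup.subset_closure (Or.inr rfl))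
      · exact mem_centralizer_iff.mpr fun g hg => mem_centralizer_singleton_iff.mp (hQK (hJQ hg)).2
    have hZgn : centralizer ({x} : Set G) ≤ Subgroup.normalizer (Zg : Set G) := by
      intro g hg
      have hg' := Subgroup.mem_normalizer_iff_map_conj_eq.mp (hQn hg)
      rw [Subgroup.mem_normalizer_iff_map_conj_eq]
      have h1 := CfsgLib.PLocal.centerThompsonA_map (MulAut.conj g).toMonoidHom Q
        (by rw [(MonoidHom.ker_eq_bot_iff _).2 (MulAut.conj g).injective]; exact disjoint_bot_right)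
      rw [show Q.map (MulAut.conj g).toMonoidHom = Q from hg'] at h1
      exact h1
    have hZgne : Subgroup.normalizer (Zg : Set G) ≠ ⊤ := fun e => hx.1.2 (hTcen
      (le_map_pCore (Subgroup.normalizer_eq_top_iff.mp e)
        (hQp.to_le (inf_le_left.trans hJQ)) ((inf_le_left.trans hJQ).trans (hQK.trans inf_le_left)) hxZ))
    have hZgN : Subgroup.normalizer (Zg : Set G) = centralizer ({x} : Set G) :=
      ((h x hx.1).le_iff_eq hZgne).mp hZgn
    have hQN' : Q ≤ N := hQK.trans inf_le_left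
    let PN : Sylow p N := (hQp.comap_subtype (K := N)).toSylow hQi
    have hPN : (PN : Subgroup N).map N.subtype = Q :=
      Subgroup.map_subgroupOf_eq_of_le hQN'
    set Zn := Cfsg.centerThompsonAOf (PN : Subgroup N) with hZn
    have hZnmap : Zn.map N.subtype = Zg := by
      rw [hZn, CfsgLib.PLocal.centerThompsonA_map N.subtype (PN : Subgroup N)
        (by rw [N.ker_subtype]; exact disjoint_bot_right), hPN]
    have hnormle : (Subgroup.normalizer (Zn : Set N)).map N.subtype ≤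
        N ⊓ centralizer ({x} : Set G) := by
      refine le_inf (Subgroup.map_subtype_le _) ?_
      rw [← hZgN, ← hZnmap]
      exact Subgroup.le_normalizer_map _
    have hKnil : Cfsg.HasNormalPComplement p ↥(N ⊓ centralizer ({x} : Set G)) := by
      refine CfsgLib.Transfer.hasNormalPComplement_of_coprime_pResidual ?_
      have hmem : ∀ z ∈ Cfsg.pResidual p ↥(N ⊓ centralizer ({x} : Set G)),
          (z : G) ∈ centralizer (N : Set G) ∧ (orderOf z).Coprime p := by
        intro z hz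
        induction hz using Subgroup.closure_induction with
        | mem z hz => exact ⟨hx.2.2 z z.2.1 z.2.2 (by rw [Subgroup.orderOf_coe]; exact hz), hz⟩
        | one => exact ⟨one_mem _, by rw [orderOf_one]; exact Nat.coprime_one_left p⟩
        | mul a b _ _ iha ihb =>
          refine ⟨(centralizer (N : Set G)).mul_mem iha.1 ihb.1, ?_⟩
          have hc : Commute a b := Subtype.ext (mem_centralizer_iff.mp ihb.1 a a.2.1)
          exact Nat.Coprime.coprime_dvd_left (hc.orderOf_mul_dvd_lcm.trans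
            (Nat.lcm_dvd_mul _ _)) (Nat.Coprime.mul_left iha.2 ihb.2)
        | inv a _ iha => exact ⟨inv_mem iha.1, by rw [orderOf_inv]; exact iha.2⟩
      by_contra hcop
      obtain ⟨z, hz⟩ := exists_prime_orderOf_dvd_card'
        (G := ↥(Cfsg.pResidual p ↥(N ⊓ centralizer ({x} : Set G)))) p
        (not_not.mp fun hd => hcop ((hp.coprime_iff_not_dvd.mpr hd).symm))
      have := (hmem z z.2).2
      rw [Subgroup.orderOf_coe, hz, Nat.coprime_self] at this
      exact hp.ne_one this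
    have hnilN : Cfsg.HasNormalPComplement p N := by
      refine CfsgLib.PLocal.hasNormalPComplement_glauberman hp2 PN ?_
      exact CfsgLib.Transfer.hasNormalPComplement_of_injective
        ((Subgroup.inclusion hnormle).comp
          ((Subgroup.normalizer (Zn : Set N)).equivMapOfInjective _ N.subtype_injective).toMonoidHom)
        ((Subgroup.inclusion_injective hnormle).comp (MulEquiv.injective _)) hKnil
    have hdisj := (CfsgLib.Transfer.hasNormalPComplement_iff_inf PN).mp hnilN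
    have htop := CfsgLib.Transfer.pResidual_sup_sylow PN
    set π := QuotientGroup.mk' (Cfsg.pResidual p N) with hπ
    refine hQnc fun s hs a ha => ?_
    by_cases hsn : s ∈ centralizer (N : Set G)
    · exact (mem_centralizer_iff.mp hsn a (hQN' ha)).symm
    obtain ⟨d, hd⟩ := orderOf_eq_pow_of_mem hQp hs
    have hspt := hall s ⟨hQN' hs, hsn⟩ ⟨d, hd⟩
    obtain ⟨Qs, hQsK, hQsp, hQsn, hQsmem, -⟩ := exists_pPart hspt
    have hQsne : Subgroup.normalizer (Qs : Set G) ≠ ⊤ := fun e => hsn (hTcen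
      (le_map_pCore (Subgroup.normalizer_eq_top_iff.mp e) hQsp (hQsK.trans inf_le_left)
        (hQsmem s ⟨hQN' hs, self_mem_cent s⟩ ⟨d, hd⟩)))
    obtain ⟨-, hQsi⟩ := sylow_of_ptype h hspt hQsp hQsK hQsn hQsmem hQsne
    obtain ⟨n, hn, hnQ⟩ := CfsgLib.Transfer.exists_conj_le hQp hQi (hQsK.trans inf_le_left) hQsp
    obtain ⟨o, ho, q, hq, hoq⟩ := mem_sup_of_normal_left.mp (htop ▸ mem_top (⟨n, hn⟩ : N))
    have hoq' : (o : G) * (q : G) = n := congrArg Subtype.val hoq
    have hqQ : (q : G) ∈ Q := hq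
    set R := Q.map (MulAut.conj (o : G)).toMonoidHom with hR
    have hRN : R ≤ N := by
      rintro _ ⟨r, hr, rfl⟩
      exact hNn.conj_mem r (hQN' hr) _
    have hQsR : Qs ≤ R := fun t ht => ⟨(q : G) * (n⁻¹ * t * n) * (q : G)⁻¹,
      Q.mul_mem (Q.mul_mem hqQ (hnQ t ht)) (Q.inv_mem hqQ), by simp [← hoq', mul_assoc]⟩
    have hRQs : R = Qs := eq_of_index_not_dvd hQsi hQsR (hQp.map _) hRN
    have hoa : (o : G) * a * (o : G)⁻¹ ∈ Qs := hRQs ▸ ⟨a, ha, rfl⟩
    have hc : Commute (⟨s, hQN' hs⟩ : N) (o * ⟨a, hQN' ha⟩ * o⁻¹) :=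
      Subtype.ext (mem_centralizer_singleton_iff.mp (hQsK hoa).2).symm
    have hc' := hc.map π
    have ho1 : π o = 1 := (QuotientGroup.eq_one_iff o).mpr ho
    rw [map_mul, map_mul, map_inv, ho1, inv_one, one_mul, mul_one] at hc'
    have hmem : (⟨a, hQN' ha⟩ : N) * ⟨s, hQN' hs⟩ * (⟨s, hQN' hs⟩ * ⟨a, hQN' ha⟩)⁻¹ ∈
        (PN : Subgroup N) ⊓ Cfsg.pResidual p N := by
      refine ⟨?_, ?_⟩
      · exact Q.mul_mem (Q.mul_mem ha hs) (Q.inv_mem (Q.mul_mem hs ha))
      · show _ ∈ Cfsg.pResidual p N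
        rw [← QuotientGroup.eq_one_iff]
        show π _ = 1
        rw [map_mul, map_inv, map_mul, map_mul, hc'.eq, mul_inv_cancel]
    rw [hdisj, Subgroup.mem_bot, mul_inv_eq_one] at hmem
    exact (congrArg Subtype.val hmem).symm

end CfsgLib.PGroups.MaxCent
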