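import Mathlib
import Cfsg.Agent.Lib.PGroups.MaxCentralizer
import Cfsg.Agent.Lib.LocalEven.Generation
import Cfsg.Agent.Lib.Core.Basic

/-!
# Structure of `N / Z(N)` when non-central elements of `N ⊴ G` have maximal centralizers
-/

set_option autoImplicit false
set_option linter.style.haveILetI false

namespace CfsgLib.PGroups.MaxCent

open Subgroup
open scoped commutatorElement

variable {G : Type*} [Group G] [Finite G] {N : Subgroup G}

/-- The nilpotent case: `N / Z(N)` is elementary abelian. -/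
theorem elementary_of_nilpotent [hNn : N.Normal] (h : MaxCent N) (hnil : Group.IsNilpotent N) :
    ∃ p : ℕ, p.Prime ∧ Cfsg.IsElementaryAbelian p (⊤ : Subgroup (N ⧸ center N)) := by
  by_cases hex : ∃ x, Noncentral N x
  swap
  · have h1 : ∀ u : N ⧸ center N, u = 1 := by
      rintro ⟨⟨u, hu⟩⟩
      refine (QuotientGroup.eq_one_iff _).mpr ((mem_center_iff' _).mpr ?_)
      by_contra hc
      exact hex ⟨u, hu, hc⟩
    exact ⟨2, Nat.prime_two, ⟨⟨fun a b => Subtype.ext (by rw [Subgroup.coe_mul, Subgroup.coe_mul, h1 (a : N ⧸ center N), h1 (b : N ⧸ center N)])⟩⟩,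
      fun a _ => by rw [h1 a, one_pow]⟩
  obtain ⟨x₀, hx₀⟩ := hex
  obtain ⟨p, j, hp, u, huo, hun, -⟩ := exists_primePow_cent_eq h hx₀
  haveI := Fact.mk hp
  have hcomm : ∀ v w : G, v ∈ N → w ∈ N → (orderOf v).Coprime (orderOf w) → Commute v w := by
    intro v w hv hw hco
    have := CfsgLib.OddLocal.commute_of_coprime_orderOf hnil (x := (⟨v, hv⟩ : N)) (y := ⟨w, hw⟩)
      (by rwa [← Subgroup.orderOf_coe, ← Subgroup.orderOf_coe])
    exact congrArg Subtype.val this.eq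
  have hprime : ∀ v, Noncentral N v → ∀ s i : ℕ, s.Prime → orderOf v = s ^ i → s = p := by
    intro v hv s i hs hvo
    by_contra hsp
    have hco : (orderOf v).Coprime (orderOf u) := by
      rw [hvo, huo]; exact Nat.Coprime.pow _ _ ((Nat.coprime_primes hs hp).mpr hsp)
    have he := cent_eq_of_coprime h hv hun
      (mem_centralizer_singleton_iff.mpr (hcomm v u hv.1 hun.1 hco).eq) hco
    refine hun.2 (mem_centralizer_iff.mpr fun w hw => ?_)
    suffices w ∈ centralizer ({u} : Set G) from mem_centralizer_singleton_iff.mp this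
    refine CfsgLib.HallGen.mem_of_primePow_parts _ w fun t ht r l hr hto => ?_
    have htN : t ∈ N := zpowers_le.mpr hw ht
    by_cases hrp : r = p
    · rw [← he]
      refine mem_centralizer_singleton_iff.mpr (hcomm t v htN hv.1 ?_).eq
      rw [hto, hvo, hrp]; exact Nat.Coprime.pow _ _ ((Nat.coprime_primes hp hs).mpr (Ne.symm hsp))
    · refine mem_centralizer_singleton_iff.mpr (hcomm t u htN hun.1 ?_).eq
      rw [hto, huo]; exact Nat.Coprime.pow _ _ ((Nat.coprime_primes hr hp).mpr hrp)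
  have hp' : ∀ b ∈ N, (orderOf b).Coprime p → b ∈ centralizer (N : Set G) := by
    intro b hb hco
    refine CfsgLib.HallGen.mem_of_primePow_parts _ b fun t ht r l hr hto => ?_
    by_contra htn
    obtain rfl := hprime t ⟨zpowers_le.mpr hb ht, htn⟩ r l hr hto
    have hd : orderOf t ∣ orderOf b := by
      obtain ⟨m, rfl⟩ := mem_zpowers_iff.mp ht
      refine orderOf_dvd_of_pow_eq_one ?_
      rw [← zpow_natCast, ← zpow_mul, mul_comm, zpow_mul, zpow_natCast, pow_orderOf_eq_one, one_zpow]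
    have h1 : orderOf t = 1 := by
      refine Nat.eq_one_of_dvd_coprimes (hco.pow_right l) hd ?_
      rw [hto]
    rw [orderOf_eq_one_iff.mp h1] at htn
    exact htn (one_mem _)
  set T := (Cfsg.pCore p N).map N.subtype with hT
  haveI hTn : T.Normal := by
    haveI : (Cfsg.pCore p N).Characteristic := CfsgLib.Components.pCore_characteristic p
    infer_instance
  have hTp : IsPGroup p T := (CfsgLib.HallGen.isPGroup_pCore p).map N.subtype
  have hTN : T ≤ N := Subgroup.map_subtype_le _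
  have hTmem : ∀ a ∈ N, (∃ k, orderOf a = p ^ k) → a ∈ T := by
    rintro a ha ⟨k, hk⟩
    exact ⟨⟨a, ha⟩, CfsgLib.HallGen.mem_pCore_of_mem_nilpotent_normal (N := (⊤ : Subgroup N))
      inferInstance (Group.isNilpotent_top.mpr hnil) (Subgroup.mem_top _) (k := k)
      (by rw [← Subgroup.orderOf_coe, hk]), rfl⟩
  have hdec : ∀ z ∈ N, ∃ a ∈ T, ∃ b ∈ centralizer (N : Set G), z = a * b := by
    intro z hz
    obtain ⟨a, b, hab, ha, hb, hao, hbo⟩ := exists_parts (p := p) z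
    exact ⟨a, hTmem a (zpowers_le.mpr hz ha) hao, b, hp' b (zpowers_le.mpr hz hb) hbo, hab⟩
  set Φ := (frattini T).map T.subtype with hΦ
  haveI hΦn : Φ.Normal := inferInstance
  have hΦcen : ∀ f ∈ Φ, f ∈ centralizer (N : Set G) := by
    intro f hf
    rw [mem_centralizer_iff]
    intro z hz
    obtain ⟨a, ha, b, hb, rfl⟩ := hdec z hz
    have hfN : f ∈ N := hTN (Subgroup.map_subtype_le _ hf)
    have hcb : Commute f b := mem_centralizer_iff.mp hb f hfN
    have hca : Commute f a := by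
      by_cases han : a ∈ centralizer (N : Set G)
      · exact mem_centralizer_iff.mp han f hfN
      by_contra hca
      have hle : ¬ Φ ≤ centralizer ({a} : Set G) := fun hle =>
        hca (mem_centralizer_singleton_iff.mp (hle hf))
      have htop : centralizer ({a} : Set G) ⊔ Φ = ⊤ :=
        (h a ⟨hTN ha, han⟩).2 _ (lt_of_le_of_ne le_sup_left fun e => hle (e ▸ le_sup_right))
      have h1 : (centralizer ({a} : Set G)).subgroupOf T ⊔ frattini T = ⊤ := by
        rw [eq_top_iff]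
        rintro ⟨t, ht⟩ -
        obtain ⟨c, hc, g, hg, hcg⟩ := mem_sup_of_normal_right.mp (htop ▸ mem_top t)
        obtain ⟨g', hg', rfl⟩ := hg
        have hcT : c ∈ T := by
          rw [← hcg] at ht
          exact (T.mul_mem_cancel_right g'.2).mp ht
        have : (⟨t, ht⟩ : T) = ⟨c, hcT⟩ * g' := Subtype.ext hcg.symm
        rw [this]
        exact mul_mem (mem_sup_left hc) (mem_sup_right hg')
      have h2 := frattini_nongenerating h1
      have hTa : T ≤ centralizer ({a} : Set G) := subgroupOf_eq_top.mp h2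
      refine han (mem_centralizer_iff.mpr fun w hw => ?_)
      obtain ⟨a', ha', b', hb', rfl⟩ := hdec w hw
      have e1 : Commute a' a := mem_centralizer_singleton_iff.mp (hTa ha')
      have e2 : Commute b' a := (mem_centralizer_iff.mp hb' a (hTN ha)).symm
      exact (e1.mul_left e2).eq
    exact ((hca.mul_right hcb).eq).symm
  have hmk : ∀ (n : N) (a : G) (haN : a ∈ N) (b : G), b ∈ centralizer (N : Set G) → (n : G) = a * b →
      (QuotientGroup.mk n : N ⧸ center N) = QuotientGroup.mk (⟨a, haN⟩ : N) := by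
    intro n a haN b hb e
    rw [QuotientGroup.eq, mem_center_iff']
    show (n : G)⁻¹ * a ∈ centralizer (N : Set G)
    rw [e, mul_inv_rev, inv_mul_cancel_right]
    exact inv_mem hb
  refine ⟨p, hp, ⟨⟨?_⟩⟩, ?_⟩
  · rintro ⟨⟨n₁⟩, -⟩ ⟨⟨n₂⟩, -⟩
    apply Subtype.ext
    obtain ⟨a₁, ha₁, b₁, hb₁, e₁⟩ := hdec n₁ n₁.2
    obtain ⟨a₂, ha₂, b₂, hb₂, e₂⟩ := hdec n₂ n₂.2
    show (QuotientGroup.mk n₁ : N ⧸ center N) * QuotientGroup.mk n₂ =
      QuotientGroup.mk n₂ * QuotientGroup.mk n₁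
    rw [hmk n₁ a₁ (hTN ha₁) b₁ hb₁ e₁, hmk n₂ a₂ (hTN ha₂) b₂ hb₂ e₂, ← QuotientGroup.mk_mul,
      ← QuotientGroup.mk_mul, QuotientGroup.eq, mem_center_iff']
    show (a₁ * a₂)⁻¹ * (a₂ * a₁) ∈ centralizer (N : Set G)
    refine hΦcen _ ⟨(⟨a₁, ha₁⟩ * ⟨a₂, ha₂⟩ : T)⁻¹ * (⟨a₂, ha₂⟩ * ⟨a₁, ha₁⟩), ?_, rfl⟩
    refine CfsgLib.PGroups.commutator_le_frattini' hTp ?_
    have hcomm' := commutator_mem_commutator (mem_top ((⟨a₂, ha₂⟩ : T)⁻¹))
      (mem_top ((⟨a₁, ha₁⟩ : T)⁻¹)) (H₁ := (⊤ : Subgroup T)) (H₂ := (⊤ : Subgroup T))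
    rw [_root_.commutator_def]
    have e : ((⟨a₁, ha₁⟩ * ⟨a₂, ha₂⟩ : T))⁻¹ * (⟨a₂, ha₂⟩ * ⟨a₁, ha₁⟩) =
        ⁅(⟨a₂, ha₂⟩ : T)⁻¹, (⟨a₁, ha₁⟩ : T)⁻¹⁆ := by
      rw [commutatorElement_def]; group
    rw [e]
    exact hcomm'
  · rintro ⟨n⟩ -
    obtain ⟨a, ha, b, hb, e⟩ := hdec n n.2
    show (QuotientGroup.mk n : N ⧸ center N) ^ p = 1
    rw [hmk n a (hTN ha) b hb e, ← QuotientGroup.mk_pow, QuotientGroup.eq_one_iff, mem_center_iff']
    exact hΦcen _ ⟨⟨a, ha⟩ ^ p, CfsgLib.PGroups.pow_mem_frattini hTp _, rfl⟩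

theorem kern_eq [N.Normal] (h : MaxCent N) (hnn : ¬ Group.IsNilpotent N) {x y : G}
    (hx : Noncentral N x) (hy : Noncentral N y) (hyx : y ∈ centralizer ({x} : Set G)) :
    N ⊓ centralizer ({y} : Set G) = N ⊓ centralizer ({x} : Set G) := by
  refine le_antisymm (fun k hk => ⟨hk.1, mem_centralizer_singleton_iff.mpr ?_⟩)
    (fun k hk => ⟨hk.1, mem_centralizer_singleton_iff.mpr ?_⟩)
  · exact abelian_of_not_nilpotent h hnn hx k hk y ⟨hy.1, hyx⟩
  · exact abelian_of_not_nilpotent h hnn hy k hk x ⟨hx.1, cent_symm hyx⟩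

theorem kern_normalizer [hNn : N.Normal] (x : G) :
    centralizer ({x} : Set G) ≤
      Subgroup.normalizer ((N ⊓ centralizer ({x} : Set G) : Subgroup G) : Set G) := by
  intro g hg
  refine mem_normalizer_of_forall fun k hk => ⟨hNn.conj_mem k hk.1 g, ?_⟩
  exact (centralizer _).mul_mem ((centralizer _).mul_mem hg hk.2) ((centralizer _).inv_mem hg)

/-- Counting: some `C_N(x)` is normal in `G`. -/
theorem exists_normal_kern [hNn : N.Normal] (h : MaxCent N) (hnn : ¬ Group.IsNilpotent N) :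
    ∃ x, Noncentral N x ∧ (N ⊓ centralizer ({x} : Set G)).Normal := by
  classical
  by_contra hcon
  push Not at hcon
  -- self-normalising in `N`
  have hself : ∀ x, Noncentral N x → ∀ m ∈ N,
      (∀ k ∈ N ⊓ centralizer ({x} : Set G), m * k * m⁻¹ ∈ N ⊓ centralizer ({x} : Set G)) →
      m ∈ N ⊓ centralizer ({x} : Set G) := by
    intro x hx m hm hmn
    have heq : Subgroup.normalizer ((N ⊓ centralizer ({x} : Set G) : Subgroup G) : Set G) =
        centralizer ({x} : Set G) :=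
      ((h x hx).le_iff_eq fun e => hcon x hx (Subgroup.normalizer_eq_top_iff.mp e)).mp (kern_normalizer x)
    exact ⟨hm, heq ▸ mem_normalizer_of_forall hmn⟩
  let Kx : G → Subgroup N := fun x => (N ⊓ centralizer ({x} : Set G)).subgroupOf N
  let S : G → Set N := fun x => {a : N | a ∈ Kx x ∧ a ∉ center N}
  let f : ∀ x : G, (N ⧸ Kx x) × S x → {z : N // z ∉ center N} := fun x qa =>
    ⟨qa.1.out * qa.2.1 * qa.1.out⁻¹, fun hc => qa.2.2.2 (by
      have := (inferInstance : (center N).Normal).conj_mem _ hc (qa.1.out)⁻¹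
      simpa [mul_assoc] using this)⟩
  have hS : ∀ x, Noncentral N x → ∀ a ∈ S x,
      Noncentral N (a : G) ∧ N ⊓ centralizer ({(a : G)} : Set G) = N ⊓ centralizer ({x} : Set G) :=
    fun x hx a ha => ⟨⟨a.2, fun hc => ha.2 ((mem_center_iff' a).mpr hc)⟩,
      kern_eq h hnn hx ⟨a.2, fun hc => ha.2 ((mem_center_iff' a).mpr hc)⟩ ha.1.2⟩
  have hconjK : ∀ (a m : N), ∀ k ∈ N ⊓ centralizer ({(a : G)} : Set G),
      (m : G) * k * (m : G)⁻¹ ∈ N ⊓ centralizer ({((m * a * m⁻¹ : N) : G)} : Set G) := by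
    intro a m k hk
    refine ⟨hNn.conj_mem k hk.1 m, mem_centralizer_singleton_iff.mpr ?_⟩
    exact ((show Commute k (a : G) from mem_centralizer_singleton_iff.mp hk.2).map
      (MulAut.conj (m : G)).toMonoidHom).eq
  have hinj : ∀ x, Noncentral N x → Function.Injective (f x) := by
    rintro x hx ⟨q, a, ha⟩ ⟨q', a', ha'⟩ heq
    have h1 : q.out * a * q.out⁻¹ = q'.out * a' * q'.out⁻¹ := congrArg Subtype.val heq
    set m : N := q'.out⁻¹ * q.out with hm
    have h2 : m * a * m⁻¹ = a' := by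
      calc m * a * m⁻¹ = q'.out⁻¹ * (q.out * a * q.out⁻¹) * q'.out := by rw [hm]; group
        _ = a' := by rw [h1]; group
    have hmK : (m : G) ∈ N ⊓ centralizer ({x} : Set G) := by
      refine hself x hx m m.2 fun k hk => ?_
      rw [← (hS x hx a' ha').2, ← h2]
      exact hconjK a m k ((hS x hx a ha).2.symm ▸ hk)
    have hq : q = q' := by
      rw [← q.out_eq', ← q'.out_eq', eq_comm, QuotientGroup.eq]
      exact hmK
    subst hq
    have : m = 1 := by rw [hm, inv_mul_cancel]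
    rw [this, one_mul, inv_one, mul_one] at h2
    subst h2
    rfl
  obtain ⟨x₀, hx₀⟩ : ∃ x, Noncentral N x := by
    by_contra hc
    push Not at hc
    refine hnn (Subgroup.isNilpotent_of_lowerCentralSeries_eq_bot (n := 1) ?_)
    rw [Subgroup.lowerCentralSeries_succ, Subgroup.lowerCentralSeries_zero,
      commutator_eq_bot_iff_le_centralizer]
    intro g hg
    by_contra hgc
    exact hc g ⟨hg, hgc⟩
  -- cardinalities
  set n := Nat.card N with hn
  set w := Nat.card (center N) with hw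
  have hw0 : 0 < w := Nat.card_pos
  have hcod : Nat.card {z : N // z ∉ center N} = n - w := by
    rw [hn, hw, show Nat.card {z : N // z ∉ center N} = ((center N : Set N)ᶜ).ncard from
      Nat.card_coe_set_eq _, Set.ncard_compl]
    rfl
  have hdom : ∀ x, Noncentral N x → Nat.card ((N ⧸ Kx x) × S x) =
      (Kx x).index * (Nat.card (Kx x) - w) ∧ 2 * w ≤ Nat.card (Kx x) := by
    intro x hx
    have hle : center N ≤ Kx x := fun z hz => ⟨z.2, mem_centralizer_singleton_iff.mpr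
      (mem_centralizer_iff.mp ((mem_center_iff' z).mp hz) x hx.1).symm⟩
    constructor
    · rw [Nat.card_prod, Subgroup.index]
      congr 1
      rw [show Nat.card (S x) = ((Kx x : Set N) \ (center N : Set N)).ncard from Nat.card_coe_set_eq _,
        Set.ncard_sdiff hle]
      rfl
    · obtain ⟨c, hc⟩ := Subgroup.card_dvd_of_le hle
      have hlt : Nat.card (center N) < Nat.card (Kx x) := by
        refine lt_of_le_of_ne (Subgroup.card_le_of_le hle) fun e => ?_
        have e2 := Subgroup.eq_of_le_of_card_ge hle e.ge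
        exact hx.2 ((mem_center_iff' ⟨x, hx.1⟩).mp (e2 ▸ (⟨hx.1, self_mem_cent x⟩ :
          (⟨x, hx.1⟩ : N) ∈ Kx x)))
      rw [hc] at hlt ⊢
      have : 2 ≤ c := by
        by_contra hh
        interval_cases c <;> omega
      calc 2 * w = w * 2 := mul_comm _ _
        _ ≤ w * c := Nat.mul_le_mul_left _ this
  obtain ⟨hd₀, h2₀⟩ := hdom x₀ hx₀
  have hidx₀ : (Kx x₀).index * Nat.card (Kx x₀) = n := (Kx x₀).index_mul_card
  by_cases hsurj : Function.Surjective (f x₀)
  · have hcard := Nat.card_eq_of_bijective _ ⟨hinj x₀ hx₀, hsurj⟩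
    rw [hd₀, hcod, Nat.mul_sub, hidx₀] at hcard
    have hle1 : (Kx x₀).index * w ≤ n := by
      rw [← hidx₀]; exact Nat.mul_le_mul_left _ (by omega)
    have hwn : w ≤ n := Subgroup.card_le_card_group _
    have h1 : (Kx x₀).index * w = 1 * w := by omega
    have h2 := Subgroup.index_eq_one.mp (Nat.eq_of_mul_eq_mul_right hw0 h1)
    refine hx₀.2 (mem_centralizer_iff.mpr fun g hg => ?_)
    have : (⟨g, hg⟩ : N) ∈ Kx x₀ := h2 ▸ mem_top _
    exact mem_centralizer_singleton_iff.mp this.2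
  · simp only [Function.Surjective, not_forall, not_exists] at hsurj
    obtain ⟨⟨y, hy⟩, hynot⟩ := hsurj
    have hy' : Noncentral N (y : G) := ⟨y.2, fun hc => hy ((mem_center_iff' y).mpr hc)⟩
    obtain ⟨hd₁, h2₁⟩ := hdom y hy'
    have hidx₁ : (Kx y).index * Nat.card (Kx y) = n := (Kx y).index_mul_card
    have hdisj : ∀ u v, f x₀ u ≠ f y v := by
      rintro ⟨q, a, ha⟩ ⟨q', b, hb⟩ heq
      have h1 : q.out * a * q.out⁻¹ = q'.out * b * q'.out⁻¹ := congrArg Subtype.val heq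
      set m : N := q'.out⁻¹ * q.out with hm
      have h2 : m * a * m⁻¹ = b := by
        calc m * a * m⁻¹ = q'.out⁻¹ * (q.out * a * q.out⁻¹) * q'.out := by rw [hm]; group
          _ = b := by rw [h1]; group
      have h3 : m⁻¹ * b * (m⁻¹)⁻¹ = a := by rw [← h2]; group
      have hyK : (y : G) ∈ N ⊓ centralizer ({(b : G)} : Set G) :=
        (hS y hy' b hb).2.symm ▸ ⟨y.2, self_mem_cent _⟩
      have hyc := hconjK b m⁻¹ _ hyK
      rw [h3, (hS x₀ hx₀ a ha).2] at hyc
      set a₂ : N := m⁻¹ * y * (m⁻¹)⁻¹ with ha₂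
      have ha₂S : a₂ ∈ S x₀ := ⟨hyc, fun hc => hy (by
        have := (inferInstance : (center N).Normal).conj_mem _ hc m
        simpa [ha₂, mul_assoc] using this)⟩
      refine hynot ⟨(m : N ⧸ Kx x₀), a₂, ha₂S⟩ (Subtype.ext ?_)
      obtain ⟨c, hc⟩ := QuotientGroup.mk_out_eq_mul (Kx x₀) m
      show (m : N ⧸ Kx x₀).out * a₂ * ((m : N ⧸ Kx x₀).out)⁻¹ = y
      rw [hc]
      have hca : (c : N) * a₂ = a₂ * (c : N) := Subtype.ext
        (abelian_of_not_nilpotent h hnn hx₀ _ c.2 _ hyc)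
      calc m * (c : N) * a₂ * (m * (c : N))⁻¹ = m * ((c : N) * a₂) * (c : N)⁻¹ * m⁻¹ := by group
        _ = y := by rw [hca, ha₂]; group
    have hle := Nat.card_le_card_of_injective (Sum.elim (f x₀) (f y))
      ((hinj x₀ hx₀).sumElim (hinj y hy') hdisj)
    rw [Nat.card_sum, hd₀, hd₁, hcod, Nat.mul_sub, Nat.mul_sub, hidx₀, hidx₁] at hle
    have e0 : 2 * ((Kx x₀).index * w) ≤ n := by
      rw [← hidx₀, ← mul_assoc, mul_comm 2, mul_assoc]; exact Nat.mul_le_mul_left _ h2₀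
    have e1 : 2 * ((Kx y).index * w) ≤ n := by
      rw [← hidx₁, ← mul_assoc, mul_comm 2, mul_assoc]; exact Nat.mul_le_mul_left _ h2₁
    have hwn : w ≤ n := Subgroup.card_le_card_group _
    omega

/-- The non-nilpotent case: `N / Z(N)` is a Frobenius group with elementary abelian kernel and
complement of prime order. -/
theorem structure_of_not_nilpotent [hNn : N.Normal] (h : MaxCent N) (hnn : ¬ Group.IsNilpotent N) :
    ∃ p q : ℕ, p.Prime ∧ q.Prime ∧ p ≠ q ∧ ∃ K : Subgroup (N ⧸ center N),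
      K.Normal ∧ K ≠ ⊥ ∧ Cfsg.IsElementaryAbelian p K ∧ K.index = q ∧
      (∀ z, z ∉ K → ∀ k ∈ K, Commute z k → k = 1) ∧
      (N = ⊤ → ∀ D : Subgroup (N ⧸ center N), D.Normal → D ≤ K → D = ⊥ ∨ D = K) := by
  obtain ⟨x, hx, hAn⟩ := exists_normal_kern h hnn
  set A := N ⊓ centralizer ({x} : Set G) with hA
  haveI := hAn
  have hAN : A ≤ N := inf_le_left
  have hAc : ∀ a ∈ A, ∀ b ∈ A, a * b = b * a := abelian_of_not_nilpotent h hnn hx
  have hWA : ∀ c ∈ N, c ∈ centralizer (N : Set G) → c ∈ A := fun c hc hcc =>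
    ⟨hc, mem_centralizer_singleton_iff.mpr (mem_centralizer_iff.mp hcc x hx.1).symm⟩
  have hgA : ∀ g ∈ N, g ∉ A → ∀ a ∈ A, Commute g a → a ∈ centralizer (N : Set G) := by
    intro g hg hgA a ha hga
    by_contra han
    refine hgA ?_
    rw [hA, ← kern_eq h hnn hx ⟨hAN ha, han⟩ ha.2]
    exact ⟨hg, mem_centralizer_singleton_iff.mpr hga.eq⟩
  obtain ⟨g₀, hg₀, hg₀A⟩ : ∃ g ∈ N, g ∉ A := by
    by_contra hc
    push Not at hc
    exact hx.2 (mem_centralizer_iff.mpr fun g hg =>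
      (mem_centralizer_singleton_iff.mp (hc g hg).2))
  have hg₀n : Noncentral N g₀ := ⟨hg₀, fun hc => hg₀A (hWA g₀ hg₀ hc)⟩
  -- `A / W` is a chief factor
  have hchief : ∀ D : Subgroup G, D.Normal → D ≤ A →
      (∀ c ∈ N, c ∈ centralizer (N : Set G) → c ∈ D) → (∃ d ∈ D, d ∉ centralizer (N : Set G)) →
      A ≤ D := by
    rintro D hD hDA hWD ⟨d, hd, hdn⟩
    haveI := hD
    have hle : ¬ D ≤ centralizer ({g₀} : Set G) := fun hle =>
      hdn (hgA g₀ hg₀ hg₀A d (hDA hd) (mem_centralizer_singleton_iff.mp (hle hd)).symm)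
    have htop : centralizer ({g₀} : Set G) ⊔ D = ⊤ :=
      (h g₀ hg₀n).2 _ (lt_of_le_of_ne le_sup_left fun e => hle (e ▸ le_sup_right))
    intro a ha
    obtain ⟨c, hc, d', hd', rfl⟩ := mem_sup_of_normal_right.mp (htop ▸ mem_top a)
    have hcA : c ∈ A := (A.mul_mem_cancel_right (hDA hd')).mp ha
    exact D.mul_mem (hWD c (hAN hcA)
      (hgA g₀ hg₀ hg₀A c hcA (mem_centralizer_singleton_iff.mp hc).symm)) hd'
  -- exponent `p` modulo the centre
  obtain ⟨p, j, hp, u, huo, hun, huc⟩ := exists_primePow_cent_eq h hx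
  haveI := Fact.mk hp
  have hcn : ∀ g : G, ∀ c ∈ centralizer (N : Set G), g * c * g⁻¹ ∈ centralizer (N : Set G) :=
    fun g c hc => conj_centralizer_mem hc g
  have hAp : ∀ a ∈ A, a ^ p ∈ centralizer (N : Set G) := by
    classical
    have hex : ∃ i, u ^ p ^ i ∈ centralizer (N : Set G) :=
      ⟨j, by rw [← huo, pow_orderOf_eq_one]; exact one_mem _⟩
    obtain ⟨i, hi, himin⟩ := Nat.findX hex
    obtain ⟨i', rfl⟩ : ∃ i', i = i' + 1 := by
      rcases i with _ | i'
      · exact absurd (by simpa using hi) hun.2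
      · exact ⟨i', rfl⟩
    let D : Subgroup G :=
      { carrier := {a | a ∈ A ∧ a ^ p ∈ centralizer (N : Set G)}
        one_mem' := ⟨A.one_mem, by rw [one_pow]; exact one_mem _⟩
        mul_mem' := fun {a b} ha hb => ⟨A.mul_mem ha.1 hb.1, by
          rw [(show Commute a b from hAc a ha.1 b hb.1).mul_pow]
          exact (centralizer _).mul_mem ha.2 hb.2⟩
        inv_mem' := fun {a} ha => ⟨A.inv_mem ha.1, by rw [inv_pow]; exact inv_mem ha.2⟩ }
    have hD : D.Normal := ⟨fun a ha g => ⟨hAn.conj_mem a ha.1 g, by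
      rw [conj_pow]; exact hcn g _ ha.2⟩⟩
    have hle := hchief D hD (fun a ha => ha.1) (fun c hc hcc => ⟨hWA c hc hcc,
      pow_mem hcc _⟩) ⟨u ^ p ^ i', ⟨⟨N.pow_mem hun.1 _, pow_mem (huc ▸ self_mem_cent u) _⟩, by
        rwa [← pow_mul, ← pow_succ]⟩, himin i' (by omega)⟩
    exact fun a ha => (hle ha).2
  -- `N = A · C_N(g₀)`
  have hN_AB : ∀ n ∈ N, ∃ a ∈ A, ∃ b ∈ N ⊓ centralizer ({g₀} : Set G), n = b * a := by
    have hle : ¬ A ≤ centralizer ({g₀} : Set G) := fun hle =>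
      hx.2 (hgA g₀ hg₀ hg₀A x ⟨hx.1, self_mem_cent x⟩
        (mem_centralizer_singleton_iff.mp (hle ⟨hx.1, self_mem_cent x⟩)).symm)
    have htop : centralizer ({g₀} : Set G) ⊔ A = ⊤ :=
      (h g₀ hg₀n).2 _ (lt_of_le_of_ne le_sup_left fun e => hle (e ▸ le_sup_right))
    intro n hn
    obtain ⟨b, hb, a, ha, rfl⟩ := mem_sup_of_normal_right.mp (htop ▸ mem_top n)
    exact ⟨a, ha, b, ⟨(N.mul_mem_cancel_right (hAN ha)).mp hn, hb⟩, rfl⟩
  have hBc := abelian_of_not_nilpotent h hnn hg₀n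
  -- `N / A` is a chief factor
  have hchief' : ∀ D : Subgroup G, D.Normal → A ≤ D → D ≤ N → (∃ d ∈ D, d ∉ A) → N ≤ D := by
    rintro D hD hAD hDN ⟨d, hd, hdA⟩
    haveI := hD
    have hle : ¬ D ≤ centralizer ({x} : Set G) := fun hle => hdA ⟨hDN hd, hle hd⟩
    have htop : centralizer ({x} : Set G) ⊔ D = ⊤ :=
      (h x hx).2 _ (lt_of_le_of_ne le_sup_left fun e => hle (e ▸ le_sup_right))
    intro n hn
    obtain ⟨c, hc, d', hd', rfl⟩ := mem_sup_of_normal_right.mp (htop ▸ mem_top n)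
    exact D.mul_mem (hAD ⟨(N.mul_mem_cancel_right (hDN hd')).mp hn, hc⟩) hd'
  have hcommA : ∀ n ∈ N, ∀ m ∈ N,
      (QuotientGroup.mk n : G ⧸ A) * QuotientGroup.mk m = QuotientGroup.mk m * QuotientGroup.mk n := by
    intro n hn m hm
    obtain ⟨a, ha, b, hb, rfl⟩ := hN_AB n hn
    obtain ⟨a', ha', b', hb', rfl⟩ := hN_AB m hm
    simp only [QuotientGroup.mk_mul, (QuotientGroup.eq_one_iff a).mpr ha,
      (QuotientGroup.eq_one_iff a').mpr ha', mul_one]
    rw [← QuotientGroup.mk_mul, hBc b hb b' hb', QuotientGroup.mk_mul]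
  obtain ⟨q, hq, hNq⟩ : ∃ q : ℕ, q.Prime ∧ ∀ n ∈ N, n ^ q ∈ A := by
    set m := orderOf (QuotientGroup.mk g₀ : G ⧸ A) with hm
    have hm1 : m ≠ 1 := fun e => hg₀A ((QuotientGroup.eq_one_iff g₀).mp (orderOf_eq_one_iff.mp e))
    obtain ⟨q, hq, c, hc⟩ := Nat.exists_prime_and_dvd hm1
    refine ⟨q, hq, ?_⟩
    let D : Subgroup G :=
      { carrier := {n | n ∈ N ∧ n ^ q ∈ A}
        one_mem' := ⟨N.one_mem, by rw [one_pow]; exact A.one_mem⟩
        mul_mem' := fun {a b} ha hb => ⟨N.mul_mem ha.1 hb.1, by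
          rw [← QuotientGroup.eq_one_iff, QuotientGroup.mk_pow, QuotientGroup.mk_mul,
            (show Commute (a : G ⧸ A) (b : G ⧸ A) from hcommA a ha.1 b hb.1).mul_pow,
            ← QuotientGroup.mk_pow, ← QuotientGroup.mk_pow, (QuotientGroup.eq_one_iff _).mpr ha.2,
            (QuotientGroup.eq_one_iff _).mpr hb.2, mul_one]⟩
        inv_mem' := fun {a} ha => ⟨N.inv_mem ha.1, by rw [inv_pow]; exact A.inv_mem ha.2⟩ }
    have hD : D.Normal := ⟨fun a ha g => ⟨hNn.conj_mem a ha.1 g, by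
      rw [conj_pow]; exact hAn.conj_mem _ ha.2 g⟩⟩
    have hgc : g₀ ^ c ∈ D ∧ g₀ ^ c ∉ A := by
      refine ⟨⟨N.pow_mem hg₀ c, ?_⟩, fun e => ?_⟩
      · rw [← QuotientGroup.eq_one_iff, QuotientGroup.mk_pow, QuotientGroup.mk_pow, ← pow_mul,
          mul_comm, ← hc, hm, pow_orderOf_eq_one]
      · rw [← QuotientGroup.eq_one_iff, QuotientGroup.mk_pow] at e
        have hd : m ∣ c := orderOf_dvd_of_pow_eq_one e
        have hc0 : 0 < c := by
          rcases Nat.eq_zero_or_pos c with rfl | h0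
          · rw [mul_zero] at hc
            exact absurd hc (orderOf_pos _).ne'
          · exact h0
        have := Nat.le_of_dvd hc0 hd
        rw [hc] at this
        nlinarith [hq.two_le]
    have hle := hchief' D hD (fun a ha => ⟨hAN ha, A.pow_mem ha q⟩) (fun a ha => ha.1) ⟨_, hgc⟩
    exact fun n hn => (hle hn).2
  haveI := Fact.mk hq
  have hpq : p ≠ q := by
    intro e
    apply hnn
    have hQp : IsPGroup p (N ⧸ center N) := by
      rintro ⟨n⟩
      refine ⟨2, ?_⟩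
      show (QuotientGroup.mk n : N ⧸ center N) ^ p ^ 2 = 1
      rw [← QuotientGroup.mk_pow, QuotientGroup.eq_one_iff, mem_center_iff', SubgroupClass.coe_pow,
        pow_two, pow_mul]
      exact hAp _ (e ▸ hNq n n.2)
    haveI := hQp.isNilpotent
    exact Subgroup.isNilpotent_of_ker_le_center (QuotientGroup.mk' (center N))
      (QuotientGroup.ker_mk' _).le
  -- fixed point freeness modulo the centre
  have hfpf : ∀ n ∈ N, n ∉ A → ∀ a ∈ A, a⁻¹ * (n * a * n⁻¹) ∈ centralizer (N : Set G) →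
      a ∈ centralizer (N : Set G) := by
    intro n hn hnA a ha hw
    set w := a⁻¹ * (n * a * n⁻¹) with hw'
    have hconj : n * a * n⁻¹ = a * w := by rw [hw', mul_inv_cancel_left]
    have hwc : ∀ g ∈ N, Commute w g := fun g hg => (mem_centralizer_iff.mp hw g hg).symm
    have hwp : w ^ p = 1 := by
      have h1 : n * a ^ p * n⁻¹ = a ^ p := by
        rw [mem_centralizer_iff.mp (hAp a ha) n hn, mul_inv_cancel_right]
      rw [← conj_pow, hconj, ((hwc a (hAN ha)).symm).mul_pow] at h1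
      exact mul_eq_left.mp h1
    have hpow : ∀ k : ℕ, n ^ k * a * (n ^ k)⁻¹ = a * w ^ k := by
      intro k
      induction k with
      | zero => simp
      | succ k ihk =>
        calc n ^ (k + 1) * a * (n ^ (k + 1))⁻¹ = n * (n ^ k * a * (n ^ k)⁻¹) * n⁻¹ := by
              rw [pow_succ']; group
          _ = n * (a * w ^ k) * n⁻¹ := by rw [ihk]
          _ = (n * a * n⁻¹) * (n * w ^ k * n⁻¹) := by group
          _ = a * w ^ (k + 1) := by
              rw [hconj, ((hwc n hn).pow_left k).symm.eq, mul_inv_cancel_right, pow_succ', mul_assoc]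
    have hwq : w ^ q = 1 := by
      have h1 := hpow q
      rw [hAc _ (hNq n hn) a ha, mul_inv_cancel_right] at h1
      exact mul_eq_left.mp h1.symm
    have hw1 : w = 1 := orderOf_eq_one_iff.mp (Nat.eq_one_of_dvd_coprimes
      ((Nat.coprime_primes hp hq).mpr hpq) (orderOf_dvd_of_pow_eq_one hwp) (orderOf_dvd_of_pow_eq_one hwq))
    rw [hw1, mul_one] at hconj
    exact hgA n hn hnA a ha (mul_inv_eq_iff_eq_mul.mp hconj)
  set π := QuotientGroup.mk' (center N) with hπ
  have hπ1 : ∀ n : N, π n = 1 ↔ (n : G) ∈ centralizer (N : Set G) := fun n => by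
    rw [hπ, QuotientGroup.mk'_apply, QuotientGroup.eq_one_iff, mem_center_iff']
  set K := (A.subgroupOf N).map π with hK
  haveI hKn : K.Normal := Subgroup.Normal.map inferInstance π (QuotientGroup.mk'_surjective _)
  have hmemK : ∀ n : N, π n ∈ K → (n : G) ∈ A := by
    rintro n ⟨a, ha, he⟩
    obtain ⟨z, hz, rfl⟩ := (QuotientGroup.mk'_eq_mk' _).mp he
    exact A.mul_mem ha (hWA z z.2 ((mem_center_iff' z).mp hz))
  have hfpfK : ∀ z, z ∉ K → ∀ k ∈ K, Commute z k → k = 1 := by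
    intro z hz k hk hzk
    obtain ⟨n, rfl⟩ := QuotientGroup.mk'_surjective _ z
    obtain ⟨a, ha, rfl⟩ := hk
    rw [hπ1]
    refine hfpf n n.2 (fun e => hz ⟨n, e, rfl⟩) a ha ?_
    have h1 : π (a⁻¹ * (n * a * n⁻¹)) = 1 := by
      rw [map_mul, map_mul, map_mul, map_inv, map_inv, hzk.eq, mul_inv_cancel_right, inv_mul_cancel]
    exact (hπ1 _).mp h1
  have hKel : Cfsg.IsElementaryAbelian p K := by
    refine ⟨⟨⟨?_⟩⟩, ?_⟩
    · rintro ⟨_, a, ha, rfl⟩ ⟨_, b, hb, rfl⟩
      apply Subtype.ext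
      show π a * π b = π b * π a
      rw [← map_mul, ← map_mul]
      exact congrArg π (Subtype.ext (hAc _ ha _ hb))
    · rintro _ ⟨a, ha, rfl⟩
      rw [← map_pow, hπ1, SubgroupClass.coe_pow]
      exact hAp _ ha
  have hKne : K ≠ ⊥ := by
    intro e
    have hm : π ⟨x, hx.1⟩ ∈ K := ⟨⟨x, hx.1⟩, ⟨hx.1, self_mem_cent x⟩, rfl⟩
    rw [e, Subgroup.mem_bot, hπ1] at hm
    exact hx.2 hm
  set B := ((N ⊓ centralizer ({g₀} : Set G)).subgroupOf N).map π with hB
  haveI hBc' : IsMulCommutative B := by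
    refine ⟨⟨?_⟩⟩
    rintro ⟨_, a, ha, rfl⟩ ⟨_, b, hb, rfl⟩
    apply Subtype.ext
    show π a * π b = π b * π a
    rw [← map_mul, ← map_mul]
    exact congrArg π (Subtype.ext (hBc _ ha _ hb))
  have hBK : ∀ b ∈ B, b ∈ K → b = 1 := by
    rintro _ ⟨b, hb, rfl⟩ hbK
    rw [hπ1]
    exact hgA g₀ hg₀ hg₀A b (hmemK b hbK) (mem_centralizer_singleton_iff.mp hb.2).symm
  have hBexp : ∀ b ∈ B, b ^ q = 1 := fun b hb => hBK _ (B.pow_mem hb q) (by
    obtain ⟨b', -, rfl⟩ := hb
    exact ⟨b' ^ q, hNq _ b'.2, map_pow π b' q⟩)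
  have hKp : IsPGroup p K := fun k => ⟨1, Subtype.ext (by simpa using hKel.2 _ k.2)⟩
  have hKq : ¬ q ∣ Nat.card K := by
    obtain ⟨i, hi⟩ := IsPGroup.iff_card.mp hKp
    rw [hi]
    exact fun hd => hpq ((Nat.prime_dvd_prime_iff_eq hq hp).mp (hq.dvd_of_dvd_pow hd)).symm
  have hBcard : Nat.card B = q := by
    have hBq : IsPGroup q B := fun b => ⟨1, Subtype.ext (by simpa using hBexp _ b.2)⟩
    obtain ⟨i, hi⟩ := IsPGroup.iff_card.mp hBq
    have hi1 : i ≠ 0 := by
      rintro rfl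
      rw [pow_zero] at hi
      have hmem : π ⟨g₀, hg₀⟩ ∈ B := ⟨⟨g₀, hg₀⟩, ⟨hg₀, self_mem_cent g₀⟩, rfl⟩
      rw [Subgroup.eq_bot_of_card_eq B hi, Subgroup.mem_bot, hπ1] at hmem
      exact hg₀n.2 hmem
    by_contra hne
    have hi2 : 2 ≤ i := by
      by_contra hh
      exact hne (by rw [hi, show i = 1 by omega, pow_one])
    refine hKne (le_bot_iff.mp (CfsgLib.LocalEven.le_of_centralizers_le (A := B) (N := K) (Y := ⊥)
      hBexp (hi ▸ Nat.pow_le_pow_right hq.pos hi2) ?_ hKq ?_))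
    · rw [Subgroup.normalizer_eq_top_iff.mpr hKn]; exact le_top
    · intro b hb hb1 k hk
      exact Subgroup.mem_bot.mpr (hfpfK b (fun e => hb1 (hBK b hb e)) k hk.1
        (mem_centralizer_singleton_iff.mp hk.2).symm)
  refine ⟨p, q, hp, hq, hpq, K, hKn, hKne, hKel, ?_, hfpfK, ?_⟩
  · have hsup : K ⊔ B = ⊤ := by
      rw [eq_top_iff]
      rintro z -
      obtain ⟨n, rfl⟩ := QuotientGroup.mk'_surjective _ z
      obtain ⟨a, ha, b, hb, hab⟩ := hN_AB n n.2
      have : n = (⟨b, hb.1⟩ : N) * ⟨a, hAN ha⟩ := Subtype.ext hab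
      rw [this, map_mul]
      exact mul_mem (mem_sup_right ⟨_, hb, rfl⟩) (mem_sup_left ⟨_, ha, rfl⟩)
    have hc := CfsgLib.Core.card_sup_of_coprime B K
      (by rw [Subgroup.normalizer_eq_top_iff.mpr hKn]; exact le_top)
      (by rw [hBcard]; exact (hq.coprime_iff_not_dvd).mpr hKq)
    rw [sup_comm, hsup, Subgroup.card_top, hBcard] at hc
    refine Nat.eq_of_mul_eq_mul_left (Nat.card_pos (α := K)) ?_
    rw [K.card_mul_index, hc, mul_comm]
  · intro hNtop D hD hDK
    by_cases hDb : D = ⊥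
    · exact Or.inl hDb
    right
    refine le_antisymm hDK ?_
    set D' := (D.comap π).map N.subtype with hD'
    have hD'n : D'.Normal := Subgroup.Normal.map (hD.comap π) N.subtype (fun g =>
      ⟨⟨g, hNtop ▸ mem_top g⟩, rfl⟩)
    obtain ⟨⟨d, hd⟩, hd1⟩ := D.ne_bot_iff_exists_ne_one.mp hDb
    obtain ⟨n, rfl⟩ := QuotientGroup.mk'_surjective _ d
    have hle := hchief D' hD'n (by rintro _ ⟨m, hm, rfl⟩; exact hmemK m (hDK hm))
      (fun c hc hcc => ⟨⟨c, hc⟩, by
        show π ⟨c, hc⟩ ∈ D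
        rw [(hπ1 _).mpr hcc]; exact D.one_mem, rfl⟩)
      ⟨n, ⟨n, hd, rfl⟩, fun hc => hd1 (Subtype.ext ((hπ1 n).mpr hc))⟩
    rintro _ ⟨a, ha, rfl⟩
    obtain ⟨m, hm, hma⟩ := hle ha
    obtain rfl : m = a := Subtype.ext hma
    exact hm

end CfsgLib.PGroups.MaxCent
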