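import Cfsg.Agent.Lib.PGroups.MaxClassFusion
import Cfsg.Agent.S0662

/-!
# Sylow subgroups of maximal class: small centralizer or quasisimple
-/

set_option autoImplicit false

namespace CfsgLib.PGroups.MaxClassDichotomy

open Subgroup Cfsg
open scoped commutatorElement

universe u

variable {p : ℕ} [hp : Fact p.Prime]

/-- Maximal class Sylow subgroup, trivial `p'`-core, generated by `p`-elements. -/
theorem dichotomy {G : Type u} [Group G] [Finite G] (P : Sylow p G) (n : ℕ)
    (hP : Nat.card P = p ^ n) (hn : 2 ≤ n)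
    (hmax : Group.nilpotencyClass ↥(P : Subgroup G) = n - 1)
    (hcore : Cfsg.pPrimeCore p G = ⊥)
    (hres : ∀ N : Subgroup G, N.Normal → (N.index).Coprime p → N = ⊤) :
    (∃ x ∈ (P : Subgroup G), (Nat.card (Subgroup.centralizer ({x} : Set G))).factorization p = 2) ∨
    (Cfsg.IsQuasisimple G ∧ Nat.card (Subgroup.center G) ≤ p) := by
  classical
  have hp' : p.Prime := hp.out
  set Q : Subgroup G := (P : Subgroup G) with hQdef
  have hQ : IsPGroup p Q := P.2
  haveI : Group.IsNilpotent Q := hQ.isNilpotent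
  have hG : p ^ n = p ^ (Nat.card G).factorization p := hP ▸ P.card_eq_multiplicity
  rcases Nat.eq_or_lt_of_le hn with h2 | h3
  · refine Or.inl ⟨1, Q.one_mem, ?_⟩
    have h1 : centralizer ({1} : Set G) = ⊤ :=
      top_unique fun g _ => mem_centralizer_singleton_iff.2 (by simp)
    rw [h1, card_top, ← Nat.pow_right_injective hp'.two_le hG, h2]
  have D := CfsgLib.ClassSizes.MaxClass.Data.of (S := Q) h3 hP hmax
  -- the derived subgroup of `Q`
  set L1 := (⊤ : Subgroup Q).lowerCentralSeries 1 with hL1def
  have hD : ⁅Q, Q⁆ = L1.map Q.subtype := by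
    rw [hL1def, top_lowerCentralSeries_one, commutator_def, map_commutator,
      ← MonoidHom.range_eq_map, range_subtype]
  have hmemD : ∀ y : G, y ∈ ⁅Q, Q⁆ ↔ ∃ hy : y ∈ Q, (⟨y, hy⟩ : Q) ∈ L1 := by
    intro y
    rw [hD]
    constructor
    · rintro ⟨a, ha, rfl⟩; exact ⟨a.2, ha⟩
    · rintro ⟨hy, h⟩; exact ⟨⟨y, hy⟩, h, rfl⟩
  -- a special element gives the first alternative unless it fuses into the derived subgroup
  have hfuse : ∀ s : Q, s ∉ L1 → Nat.card (centralizer ({s} : Set Q)) = p ^ 2 →
      (Nat.card (centralizer ({(s : G)} : Set G))).factorization p ≠ 2 →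
      ∃ g : G, g * s * g⁻¹ ∈ ⁅Q, Q⁆ := by
    intro s hs hc hv
    refine MaxClassFusion.fuse n G P hP h3 s s.2 (fun h => hs ((hmemD _).1 h).2) ?_ hv
    rw [← hc]
    have e : (centralizer ({s} : Set Q)).map Q.subtype = Q ⊓ centralizer ({(s : G)} : Set G) := by
      ext y
      constructor
      · rintro ⟨a, ha, rfl⟩
        exact ⟨a.2, mem_centralizer_singleton_iff.2
          (congrArg Subtype.val (mem_centralizer_singleton_iff.1 ha))⟩
      · rintro ⟨hy, hc⟩
        exact ⟨⟨y, hy⟩, mem_centralizer_singleton_iff.2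
          (Subtype.ext (mem_centralizer_singleton_iff.1 hc)), rfl⟩
    rw [← e, card_map_of_injective Q.subtype_injective]
  by_cases hsmall : ∀ N : Subgroup G, N.Normal → N ≠ ⊤ → N ≤ Q ∧ Nat.card N ≤ p
  · -- quasisimple
    right
    have hperf : _root_.commutator G = ⊤ := by
      by_contra hne
      obtain ⟨hle, -⟩ := hsmall _ inferInstance hne
      haveI hQn : Q.Normal := Subgroup.Normal.of_commutator_le G hle
      have hQtop : Q = ⊤ := hres Q hQn
        ((Nat.Prime.coprime_iff_not_dvd hp').2 P.not_dvd_index).symm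
      -- a subgroup of index `p` of the `p`-group `G`
      have hGc : Nat.card G = p ^ n := by rw [← hP, hQtop, card_top]
      obtain ⟨M, hMc⟩ := Sylow.exists_subgroup_card_pow_prime p
        (hGc ▸ pow_dvd_pow p (Nat.sub_le n 1) : p ^ (n - 1) ∣ Nat.card G)
      have hidx : M.index = p := by
        have h1 := M.card_mul_index
        rw [hMc, hGc, show p ^ n = p ^ (n - 1) * p by rw [← pow_succ]; congr 1; omega] at h1
        exact Nat.eq_of_mul_eq_mul_left (pow_pos hp'.pos _) h1
      have hMn : M.Normal := Subgroup.normal_of_index_eq_minFac_card (by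
        rw [hidx, hGc, hp'.pow_minFac (by omega)])
      obtain ⟨-, hMle⟩ := hsmall M hMn fun h => by
        rw [h, index_top] at hidx; exact hp'.one_lt.ne hidx
      rw [hMc] at hMle
      have := (Nat.pow_le_pow_iff_right hp'.one_lt).1 (hMle.trans_eq (pow_one p).symm)
      omega
    have hcen : center G ≠ ⊤ := by
      intro h
      have h1 : _root_.commutator G ≤ ⊥ := by
        rw [_root_.commutator_def, commutator_le]
        intro a _ b _
        rw [mem_bot, commutatorElement_eq_one_iff_mul_comm]
        exact (mem_center_iff.1 (h ▸ mem_top a : a ∈ center G) b).symm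
      rw [hperf, le_bot_iff] at h1
      have h2 : Q = ⊥ := le_bot_iff.1 (h1 ▸ le_top)
      rw [h2, card_bot] at hP
      exact absurd hP.symm (Nat.one_lt_pow (by omega) hp'.one_lt).ne'
    refine ⟨⟨⟨hperf⟩, ?_⟩, (hsmall _ inferInstance hcen).2⟩
    haveI : Nontrivial (G ⧸ center G) := by
      rw [QuotientGroup.nontrivial_iff]; exact hcen
    refine ⟨fun K hK => ?_⟩
    set N := K.comap (QuotientGroup.mk' (center G))
    by_cases hN : N = ⊤
    · right
      rw [← map_comap_eq_self_of_surjective (QuotientGroup.mk'_surjective (center G)) K]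
      show map _ N = ⊤
      rw [hN, map_top_of_surjective _ (QuotientGroup.mk'_surjective _)]
    left
    haveI hNn : N.Normal := hK.comap _
    obtain ⟨hNQ, hNp⟩ := hsmall N hNn hN
    have hNc : N ≤ center G := by
      rcases eq_or_ne N ⊥ with h | h
      · rw [h]; exact bot_le
      have hNcard : Nat.card N = p := by
        obtain ⟨a, ha⟩ := IsPGroup.iff_card.1 (hQ.to_le hNQ)
        have h1 := (one_lt_card_iff_ne_bot N).2 h
        rw [ha] at h1 hNp ⊢
        have h2 : a ≤ 1 := (Nat.pow_le_pow_iff_right hp'.one_lt).1 (by rwa [pow_one])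
        have h3 : a ≠ 0 := fun h0 => by simp [h0] at h1
        rw [show a = 1 by omega, pow_one]
      -- the centralizer of a normal subgroup of order `p` has index prime to `p`
      have hC : centralizer (N : Set G) = ⊤ := by
        refine hres _ inferInstance ((Nat.Prime.coprime_iff_not_dvd hp').2 fun hd => ?_).symm
        refine P.not_dvd_index (hd.trans (index_dvd_of_le ?_))
        intro a ha
        refine mem_centralizer_iff.2 fun z hz => ?_
        rcases eq_or_ne z 1 with rfl | hz1
        · simp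
        have hzo : orderOf z = p := by
          have hd : orderOf z ∣ p := hNcard ▸ N.orderOf_dvd_natCard hz
          exact ((Nat.dvd_prime hp').1 hd).resolve_left (fun h => hz1 (orderOf_eq_one_iff.1 h))
        have hN' : N = zpowers z := (eq_of_le_of_card_ge (zpowers_le.2 hz)
          (by rw [hNcard, Nat.card_zpowers, hzo])).symm
        obtain ⟨b, hb⟩ := (isOfFinOrder_of_finite z).mem_powers_iff_mem_zpowers.2
          (hN'.le (hNn.conj_mem z hz a))
        obtain ⟨j, hj⟩ := hQ ⟨a, ha⟩
        exact (MaxClassFusion.fix_of_pow hzo hb.symm (congrArg Subtype.val hj : a ^ p ^ j = 1)).symm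
      intro z hz
      exact mem_center_iff.2 fun g => (mem_centralizer_iff.1 (hC.ge (mem_top g)) z hz).symm
    rw [← map_comap_eq_self_of_surjective (QuotientGroup.mk'_surjective (center G)) K,
      Subgroup.map_eq_bot_iff, QuotientGroup.ker_mk']
    exact hNc
  -- a large proper normal subgroup
  left
  push Not at hsmall
  obtain ⟨N, hNn, hNtop, hNbig⟩ := hsmall
  have hQN : ¬ Q ≤ N := fun h => hNtop (hres N hNn
    ((Nat.Prime.coprime_iff_not_dvd hp').2 fun hd => P.not_dvd_index
      (hd.trans (index_dvd_of_le h))).symm)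
  set U := N.subgroupOf Q with hUdef
  haveI hUn : U.Normal := inferInstance
  by_cases hUL : U ≤ L1
  · -- `N` is then a `p`-group inside the derived subgroup
    have hTate := CfsgLib.Transfer.hasNormalPComplement_of_inf_le_frattini P N (by
      intro y hy
      exact ⟨⟨y, hy.2⟩, D.hfrat.ge (hUL hy.1), rfl⟩)
    have hNp : IsPGroup p N := by
      obtain ⟨R, K, hKn, hKR⟩ := hTate
      have hKc : (Nat.card K).Coprime p := by
        rw [← hKR.index_eq_card]
        exact ((Nat.Prime.coprime_iff_not_dvd hp').2 R.not_dvd_index).symm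
      have hK1 : K = ⊥ := by
        have h := CfsgLib.Core.map_subtype_pPrimeCore_le (p := p) N
        rw [hcore, le_bot_iff, map_eq_bot_iff_of_injective _ N.subtype_injective] at h
        exact le_bot_iff.1 (h ▸ CfsgLib.Core.le_pPrimeCore hKc)
      have h1 := hKR.card_mul
      rw [hK1, card_bot, one_mul] at h1
      obtain ⟨a, ha⟩ := IsPGroup.iff_card.1 R.2
      exact IsPGroup.of_card (h1.symm.trans ha)
    have hNQ : N ≤ Q := by
      obtain ⟨R, hR⟩ := hNp.exists_le_sylow
      obtain ⟨g, hg⟩ := MulAction.exists_smul_eq G R P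
      intro y hy
      rw [hQdef, ← hg]
      exact ⟨g⁻¹ * y * g, hR (by simpa using hNn.conj_mem y hy g⁻¹), by simp [mul_assoc]⟩
    have hNc := hNbig hNQ
    have hUc : Nat.card U = Nat.card N := Nat.card_congr (subgroupOfEquivOfLe hNQ).toEquiv
    obtain ⟨r, hr⟩ := D.pgrp.index U
    obtain ⟨a, ha⟩ := IsPGroup.iff_card.1 hNp
    have ha2 : 2 ≤ a := by
      rw [ha] at hNc
      exact (Nat.pow_lt_pow_iff_right hp'.one_lt).1 ((pow_one p).trans_lt hNc)
    have harn : a + r = n := by
      have h := U.card_mul_index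
      rw [hUc, ha, hr, ← pow_add, hP] at h
      exact Nat.pow_right_injective hp'.two_le h
    have hr2 : 2 ≤ r := by
      have hL1c := D.hser 1 le_rfl (by omega)
      have h := card_le_of_le hUL
      rw [hUc, ha, hL1c] at h
      have := (Nat.pow_le_pow_iff_right hp'.one_lt).1 h
      omega
    have hUL' : U = (⊤ : Subgroup Q).lowerCentralSeries (r - 1) :=
      (Cfsg.Agent.S0662.result n hP hmax h3).1 U r hr2 hr
    obtain ⟨s, -, hs, hsc⟩ := MaxClassElement.exists_element D L1 D.lt_zero.ne
    refine ⟨s, s.2, by_contra fun hv => ?_⟩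
    obtain ⟨g, hg⟩ := hfuse s hs hsc hv
    obtain ⟨hgQ, hgL⟩ := (hmemD _).1 hg
    set W := (⊤ : Subgroup Q).lowerCentralSeries (n - 3) with hWdef
    have hWU : W ≤ U := hUL'.symm ▸ Subgroup.lowerCentralSeries_antitone _ (by omega)
    have hWc : ∀ w ∈ W, Commute w (⟨g * s * g⁻¹, hgQ⟩ : Q) := by
      intro w hw
      rw [← commutatorElement_eq_one_iff_commute, ← mem_bot, ← D.hbot,
        show n - 1 = n - 3 + 1 + 1 by omega]
      exact lowerCentralSeries_commutator_le (n - 3) 1 (commutator_mem_commutator hw hgL)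
    -- conjugating back gives too large a centralizer of `s` inside `U`
    let φ : W → ↥(centralizer ({s} : Set Q) ⊓ U) := fun w =>
      have hm : g⁻¹ * ((w : Q) : G) * g ∈ N := by
        simpa using hNn.conj_mem _ (hWU w.2 : ((w : Q) : G) ∈ N) g⁻¹
      ⟨⟨g⁻¹ * ((w : Q) : G) * g, hNQ hm⟩, mem_centralizer_singleton_iff.2 (Subtype.ext (by
        have h : ((w : Q) : G) * (g * s * g⁻¹) = g * s * g⁻¹ * ((w : Q) : G) :=
          congrArg Subtype.val (hWc w w.2).eq
        show g⁻¹ * ((w : Q) : G) * g * (s : G) = (s : G) * (g⁻¹ * ((w : Q) : G) * g)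
        calc g⁻¹ * ((w : Q) : G) * g * (s : G) = g⁻¹ * (((w : Q) : G) * (g * s * g⁻¹)) * g := by group
          _ = g⁻¹ * (g * s * g⁻¹ * ((w : Q) : G)) * g := by rw [h]
          _ = (s : G) * (g⁻¹ * ((w : Q) : G) * g) := by group)), hm⟩
    have hφ : Function.Injective φ := fun a b h => by
      have := congrArg (fun e : ↥(centralizer ({s} : Set Q) ⊓ U) => ((e : Q) : G)) h
      exact Subtype.ext (Subtype.ext (mul_left_cancel (mul_right_cancel this)))
    have hWcard : Nat.card W = p ^ 2 := by
      rw [hWdef]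
      rcases Nat.eq_or_lt_of_le (show 3 ≤ n from h3) with h | h
      · omega
      rw [D.hser (n - 3) (by omega) (by omega), show n - 1 - (n - 3) = 2 by omega]
    have hge := Nat.card_le_card_of_injective φ hφ
    rw [hWcard] at hge
    have heq := eq_of_le_of_card_ge (inf_le_left : centralizer ({s} : Set Q) ⊓ U ≤ _)
      (hsc.le.trans hge)
    exact hs (hUL ((heq.ge (mem_centralizer_singleton_iff.2 rfl)).2))
  · -- `N ∩ Q` is a maximal subgroup of `Q`
    obtain ⟨r, hr⟩ := D.pgrp.index U
    have hr1 : r = 1 := by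
      rcases Nat.lt_or_ge r 2 with h | h
      · rcases Nat.eq_zero_or_pos r with h0 | h0
        · rw [h0, pow_zero, index_eq_one, hUdef, subgroupOf_eq_top] at hr
          exact absurd hr hQN
        · omega
      · refine absurd ?_ hUL
        rw [(Cfsg.Agent.S0662.result n hP hmax h3).1 U r h hr]
        exact Subgroup.lowerCentralSeries_antitone _ (by omega)
    rw [hr1, pow_one] at hr
    have hL1U : L1 ≤ U := D.hfrat.ge.trans (CfsgLib.Transfer.frattini_le_of_index_prime hr)
    have hUtop : U ≠ ⊤ := fun h => by rw [h, index_top] at hr; exact hp'.one_lt.ne hr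
    obtain ⟨s, hsU, hs, hsc⟩ := MaxClassElement.exists_element D U hUtop
    refine ⟨s, s.2, by_contra fun hv => ?_⟩
    obtain ⟨g, hg⟩ := hfuse s hs hsc hv
    obtain ⟨hgQ, hgL⟩ := (hmemD _).1 hg
    refine hsU ?_
    have h1 : g * (s : G) * g⁻¹ ∈ N := hL1U hgL
    have h2 := hNn.conj_mem _ h1 g⁻¹
    show (s : G) ∈ N
    simpa [mul_assoc] using h2

end CfsgLib.PGroups.MaxClassDichotomy
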