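import Cfsg.Agent.Lib.ClassSizes.MaxClassPowers
import Cfsg.Agent.Lib.Fusion.MaxClassAmbient

/-!
# Elements with centralizer of order `p ^ 2` in a `p`-group of maximal class
-/

set_option autoImplicit false

namespace CfsgLib.PGroups.MaxClassElement

open Subgroup CfsgLib.PGroups.MaxClassRank CfsgLib.ClassSizes.MaxClass
open scoped commutatorElement

variable {S : Type*} [Group S] [Finite S] {p n : ℕ}

local notation "L" => Subgroup.lowerCentralSeries (⊤ : Subgroup S)

/-- An element avoiding `L 1` and all two-step centralizers has centralizer of order `p ^ 2`. -/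
theorem card_centralizer_of_avoid (D : Data S p n) {s : S} (hs : Good n (n - 1) s) :
    Nat.card (centralizer ({s} : Set S)) = p ^ 2 := by
  have hn := D.hn
  haveI := Fact.mk D.prime
  set C := centralizer ({s} : Set S) with hC
  have hL : ∀ j, 1 ≤ j → j ≤ n - 2 → C ⊓ L 1 ≤ L j := by
    intro j hj
    induction j, hj using Nat.le_induction with
    | base => intro _; exact inf_le_right
    | succ j hj ih =>
      intro hjn x hx
      by_contra hx'
      refine hs.2 j hj (by omega) (by omega) (D.mem_twoStep_of_commute hj (ih (by omega) hx) hx' ?_)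
      exact (show Commute x s from (mem_centralizer_singleton_iff.1 hx.1)).map
        (QuotientGroup.mk' (L (j + 2)))
  have h1 : Nat.card ↥(C ⊓ L 1) ≤ p := by
    refine (card_le_of_le (hL (n - 2) (by omega) le_rfl)).trans (le_of_eq ?_)
    rw [D.hser (n - 2) (by omega) (by omega), show n - 1 - (n - 2) = 1 by omega, pow_one]
  -- `C L 1` is proper
  have h2 : C ⊔ L 1 ≠ ⊤ := by
    intro htop
    obtain ⟨y, hy⟩ := D.exists_partner hs.1
    have hym : y ∈ C ⊔ L 1 := by rw [htop]; exact mem_top y
    obtain ⟨c, hc, l, hl, rfl⟩ := mem_sup_of_normal_right.1 hym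
    refine hy ?_
    have hcl : ⁅l, s⁆ ∈ L 2 := by
      rw [show (2 : ℕ) = 1 + 1 from rfl, Subgroup.lowerCentralSeries_succ]
      exact Subgroup.commutator_mem_commutator hl (mem_top s)
    have e : ⁅c * l, s⁆ = c * ⁅l, s⁆ * c⁻¹ := by
      have hcs : c * s = s * c := mem_centralizer_singleton_iff.1 hc
      simp only [commutatorElement_def]
      calc c * l * s * (c * l)⁻¹ * s⁻¹ = c * l * s * l⁻¹ * (s * c)⁻¹ := by group
        _ = c * l * s * l⁻¹ * (c * s)⁻¹ := by rw [hcs]
        _ = c * (l * s * l⁻¹ * s⁻¹) * c⁻¹ := by group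
    rw [e]
    exact (inferInstance : (L 2).Normal).conj_mem _ hcl c
  obtain ⟨a, ha⟩ := D.pgrp.index (C ⊔ L 1)
  have ha1 : 1 ≤ a := by
    by_contra h
    rw [show a = 0 by omega, pow_zero, index_eq_one] at ha
    exact h2 ha
  have h3 : Nat.card C ≤ p ^ 2 := by
    have e := CfsgLib.Core.card_sup_mul_card_inf C (L 1) le_normalizer_of_normal
    have e1 := (C ⊔ L 1).card_mul_index
    rw [ha, D.hcard] at e1
    have e2 := D.hser 1 le_rfl (by omega)
    rw [e2] at e
    have e3 : Nat.card ↥(C ⊔ L 1) * p ≤ p ^ n := by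
      rw [← e1]
      exact Nat.mul_le_mul_left _ (Nat.le_self_pow (by omega) p)
    have e4 : Nat.card C * p ^ (n - 1 - 1) ≤ p ^ n := by
      rw [← e]
      exact (Nat.mul_le_mul_left _ h1).trans e3
    have e5 : p ^ n = p ^ 2 * p ^ (n - 1 - 1) := by rw [← pow_add]; congr 1; omega
    rw [e5] at e4
    exact Nat.le_of_mul_le_mul_right e4 (pow_pos D.prime.pos _)
  -- it contains `⟨s⟩` and the centre
  have hzc : L (n - 2) ≤ C := by
    intro z hz
    rw [← CfsgLib.Fusion.maxClass_center_eq D] at hz
    exact mem_centralizer_singleton_iff.2 (mem_center_iff.1 hz s).symm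
  have hzlt : L (n - 2) < C := by
    refine lt_of_le_of_ne hzc fun e => hs.1 ?_
    exact Subgroup.lowerCentralSeries_antitone _ (show 1 ≤ n - 2 by omega)
      (e ▸ mem_centralizer_singleton_iff.2 rfl : s ∈ L (n - 2))
  obtain ⟨c, hc⟩ := IsPGroup.iff_card.1 (D.pgrp.to_subgroup C)
  have h4 : p < Nat.card C := by
    refine lt_of_le_of_ne ?_ ?_
    · have := card_le_of_le hzc
      rwa [D.hser (n - 2) (by omega) (by omega), show n - 1 - (n - 2) = 1 by omega, pow_one] at this
    · intro e
      refine hzlt.ne (eq_of_le_of_card_ge hzc ?_)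
      rw [← e, D.hser (n - 2) (by omega) (by omega), show n - 1 - (n - 2) = 1 by omega, pow_one]
  refine le_antisymm h3 ?_
  rw [hc] at h4 ⊢
  exact Nat.pow_le_pow_right D.prime.pos (by
    by_contra hh
    push Not at hh
    exact h4.not_ge ((Nat.pow_le_pow_right D.prime.pos (show c ≤ 1 by omega)).trans_eq (pow_one p)))

/-- There is such an element outside any given proper subgroup. -/
theorem exists_element (D : Data S p n) (M : Subgroup S) (hM : M ≠ ⊤) :
    ∃ s : S, s ∉ M ∧ s ∉ L 1 ∧ Nat.card (centralizer ({s} : Set S)) = p ^ 2 := by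
  classical
  haveI := Fact.mk D.prime
  have hn := D.hn
  have hp2 := D.prime.two_le
  obtain ⟨s0, hs0⟩ := D.exists_good (n - 1) le_rfl
  have hl1 : L 1 ≠ ⊤ := D.lt_zero.ne
  let J := (Finset.Icc 1 (p - 1)).filter (fun j => j + 3 ≤ n)
  have hJ : J.card ≤ p - 1 := (Finset.card_filter_le _ _).trans (by simp)
  let T : Finset (Subgroup S) := insert M (if J = ∅ then {L 1} else J.image (twoStep (S := S)))
  have hTc : T.card ≤ p := by
    refine (Finset.card_insert_le _ _).trans ?_
    split
    · simp; omega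
    · exact (Nat.add_le_add_right (Finset.card_image_le.trans hJ) 1).trans (by omega)
  have hTp : ∀ K ∈ T, K ≠ ⊤ := by
    intro K hK
    rcases Finset.mem_insert.1 hK with rfl | hK
    · exact hM
    · split at hK
      · rw [Finset.mem_singleton] at hK; exact hK ▸ hl1
      · obtain ⟨j, hj, rfl⟩ := Finset.mem_image.1 hK
        exact D.twoStep_ne_top (Finset.mem_filter.1 hj).2
  letI : Fintype S := Fintype.ofFinite S
  obtain ⟨s, -, hs⟩ : ∃ s : S, s ≠ 1 ∧ ∀ K ∈ T, s ∉ K := by
    by_contra hc
    push Not at hc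
    have h1 : (Finset.univ.erase (1 : S)) ⊆
        T.biUnion fun K => (Finset.univ.filter (fun s => s ∈ K)).erase 1 := by
      intro s hs
      obtain ⟨hs1, -⟩ := Finset.mem_erase.1 hs
      obtain ⟨j, hj, hsj⟩ := hc s hs1
      exact Finset.mem_biUnion.mpr ⟨j, hj, Finset.mem_erase.2 ⟨hs1, by simpa using hsj⟩⟩
    have h2 : ∀ K ∈ T, ((Finset.univ.filter (fun s => s ∈ K)).erase 1).card ≤ p ^ (n - 1) - 1 := by
      intro K hK
      rw [Finset.card_erase_of_mem (by simp [one_mem])]
      refine Nat.sub_le_sub_right ?_ 1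
      rw [← Fintype.card_subtype, ← Nat.card_eq_fintype_card]
      obtain ⟨e, he⟩ := IsPGroup.iff_card.mp (D.pgrp.to_subgroup K)
      show Nat.card K ≤ _
      have : e < n := by
        by_contra hh
        refine hTp K hK (Subgroup.eq_top_of_le_card _ ?_)
        rw [he, D.hcard]; exact Nat.pow_le_pow_right D.prime.pos (by omega)
      rw [he]; exact Nat.pow_le_pow_right D.prime.pos (by omega)
    have h3 := (Finset.card_le_card h1).trans (Finset.card_biUnion_le_card_mul _ _ _ h2)
    rw [Finset.card_erase_of_mem (Finset.mem_univ _), Finset.card_univ, ← Nat.card_eq_fintype_card,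
      D.hcard] at h3
    have h4 : p ^ n = p * p ^ (n - 1) := by rw [← pow_succ']; congr 1; omega
    have h5 : 1 ≤ p ^ (n - 1) := Nat.one_le_pow _ _ D.prime.pos
    have h6 : T.card * (p ^ (n - 1) - 1) ≤ p * (p ^ (n - 1) - 1) := Nat.mul_le_mul_right _ hTc
    rw [Nat.mul_sub_one p] at h6
    have h7 : p ≤ p * p ^ (n - 1) := Nat.le_mul_of_pos_right _ h5
    rw [h4] at h3
    omega
  have hs1 : s ∉ L 1 := by
    by_cases hJe : J = ∅
    · exact hs _ (Finset.mem_insert_of_mem (by rw [if_pos hJe]; exact Finset.mem_singleton_self _))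
    intro hm
    obtain ⟨j, hj⟩ := Finset.nonempty_of_ne_empty hJe
    refine hs (twoStep (S := S) j) (Finset.mem_insert_of_mem ?_) (mem_twoStep.2 fun x hx =>
      lowerCentralSeries_commutator_le j 1 (Subgroup.commutator_mem_commutator hx hm))
    rw [if_neg hJe]
    exact Finset.mem_image_of_mem _ hj
  refine ⟨s, hs M (Finset.mem_insert_self _ _), hs1, card_centralizer_of_avoid D ⟨hs1, ?_⟩⟩
  intro j
  induction j using Nat.strong_induction_on with
  | _ j ihj =>
    intro h1 hjm hjn
    by_cases hjp : j ≤ p - 1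
    · have hjJ : j ∈ J := Finset.mem_filter.2 ⟨Finset.mem_Icc.2 ⟨h1, hjp⟩, hjn⟩
      refine hs _ (Finset.mem_insert_of_mem ?_)
      rw [if_neg (Finset.ne_empty_of_mem hjJ)]
      exact Finset.mem_image_of_mem _ hjJ
    have e := D.twoStep_shift (m := n - 1) (j := j - (p - 1)) le_rfl hs0 (by omega) (by omega)
    rw [show j - (p - 1) + (p - 1) = j by omega] at e
    rw [← e]
    exact ihj _ (by omega) (by omega) (by omega) (by omega)

end CfsgLib.PGroups.MaxClassElement
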