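import Cfsg.Agent.Lib.PGroups.MaxClassElement
import Cfsg.Agent.Lib.Transfer.Tate
import Cfsg.Agent.Lib.Core.Cores
import Cfsg.Agent.Lib.Core.Nilpotent
import Cfsg.Prelude.Def_Solvable

/-!
# Elements with small centralizer in a Sylow subgroup, and fusion into the derived subgroup
-/

set_option autoImplicit false

namespace CfsgLib.PGroups.MaxClassFusion

open Subgroup
open scoped commutatorElement

universe u

variable {p : ℕ} [hp : Fact p.Prime]

/-- A `p`-element normalising a group of order `p` centralises it. -/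
theorem fix_of_pow {G : Type u} [Group G] {r z : G} (hz : orderOf z = p) {b j : ℕ}
    (hconj : r * z * r⁻¹ = z ^ b) (hr : r ^ p ^ j = 1) : r * z = z * r := by
  have hit : ∀ m : ℕ, r ^ m * z * (r ^ m)⁻¹ = z ^ b ^ m := by
    intro m
    induction m with
    | zero => simp
    | succ m ih =>
      calc r ^ (m + 1) * z * (r ^ (m + 1))⁻¹ = r * (r ^ m * z * (r ^ m)⁻¹) * r⁻¹ := by
            rw [pow_succ']; group
        _ = r * z ^ b ^ m * r⁻¹ := by rw [ih]
        _ = (r * z * r⁻¹) ^ b ^ m := by rw [conj_pow]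
        _ = z ^ b ^ (m + 1) := by rw [hconj, ← pow_mul, pow_succ']
  have h1 : z ^ b ^ p ^ j = z ^ 1 := by
    rw [← hit, hr]; simp
  rw [pow_eq_pow_iff_modEq, hz, ← ZMod.natCast_eq_natCast_iff, Nat.cast_pow,
    ZMod.pow_card_pow] at h1
  have h2 : z ^ b = z ^ 1 := by
    rw [pow_eq_pow_iff_modEq, hz, ← ZMod.natCast_eq_natCast_iff]; exact h1
  rw [h2, pow_one, mul_inv_eq_iff_eq_mul] at hconj
  exact hconj

/-- An element of a Sylow subgroup, outside its derived subgroup, with centralizer of order `p ^ 2`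
there and larger `p`-part of the centralizer in the whole group, fuses into the derived subgroup. -/
theorem fuse : ∀ (n : ℕ) (G : Type u) [Group G] [Finite G] (P : Sylow p G),
    Nat.card (P : Subgroup G) = p ^ n → 3 ≤ n → ∀ x ∈ (P : Subgroup G),
    x ∉ ⁅(P : Subgroup G), (P : Subgroup G)⁆ →
    Nat.card ↥((P : Subgroup G) ⊓ centralizer ({x} : Set G)) = p ^ 2 →
    (Nat.card (centralizer ({x} : Set G))).factorization p ≠ 2 →
    ∃ g : G, g * x * g⁻¹ ∈ ⁅(P : Subgroup G), (P : Subgroup G)⁆ := by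
  intro n
  induction n using Nat.strong_induction_on with
  | _ n ih =>
  intro G _ _ P hPn hn x hxP hxD hxC hv
  classical
  have hp' : p.Prime := hp.out
  have hp2 := hp'.two_le
  set Q : Subgroup G := (P : Subgroup G) with hQdef
  have hQ : IsPGroup p Q := P.2
  set E := Q ⊓ centralizer ({x} : Set G) with hEdef
  set Z := Q ⊓ centralizer (Q : Set G) with hZdef
  set D := ⁅Q, Q⁆ with hDdef
  have hEQ : E ≤ Q := inf_le_left
  have hxE : x ∈ E := ⟨hxP, mem_centralizer_singleton_iff.2 rfl⟩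
  have hZE : Z ≤ E := fun w hw =>
    ⟨hw.1, mem_centralizer_singleton_iff.2 (mem_centralizer_iff.1 hw.2 x hxP).symm⟩
  have hxZ : x ∉ Z := by
    intro hx
    have hQE : Q ≤ E := fun w hw =>
      ⟨hw, mem_centralizer_singleton_iff.2 (mem_centralizer_iff.1 hx.2 w hw)⟩
    have := card_le_of_le hQE
    rw [hPn, hxC] at this
    have := (Nat.pow_le_pow_iff_right hp'.one_lt).1 this
    omega
  have hDQ : D ≤ Q := commutator_le.2 fun a ha b hb =>
    Q.mul_mem (Q.mul_mem (Q.mul_mem ha hb) (Q.inv_mem ha)) (Q.inv_mem hb)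
  -- `Z` has order `p`
  obtain ⟨cz, hcz⟩ := IsPGroup.iff_card.1 (hQ.to_le (inf_le_left : Z ≤ Q))
  haveI : Group.IsNilpotent Q := hQ.isNilpotent
  have hDne : _root_.commutator Q ≠ ⊥ := by
    intro h
    refine hxZ ⟨hxP, mem_centralizer_iff.2 fun w hw => ?_⟩
    have h1 : ⁅(⟨w, hw⟩ : Q), (⟨x, hxP⟩ : Q)⁆ ∈ _root_.commutator Q := by
      rw [commutator_def]; exact commutator_mem_commutator (mem_top _) (mem_top _)
    rw [h, mem_bot, commutatorElement_eq_one_iff_mul_comm] at h1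
    exact congrArg Subtype.val h1
  obtain ⟨w0, hw0, hw1⟩ := (ne_bot_iff_exists_ne_one.1
    (CfsgLib.Core.inf_center_ne_bot_of_isNilpotent (_root_.commutator Q) hDne))
    |> fun ⟨a, ha⟩ => (⟨(a : Q), a.2, fun h => ha (Subtype.ext h)⟩ :
      ∃ a : Q, a ∈ _root_.commutator Q ⊓ center Q ∧ a ≠ 1)
  set z : G := (w0 : G) with hzdef
  have hzZ : z ∈ Z := ⟨w0.2, mem_centralizer_iff.2 fun a ha =>
    congrArg Subtype.val (mem_center_iff.1 hw0.2 ⟨a, ha⟩)⟩
  have hzne : z ≠ 1 := fun h => hw1 (Subtype.ext h)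
  have hzD : z ∈ D := by
    have h := mem_map_of_mem Q.subtype hw0.1
    rwa [commutator_def, map_commutator, ← MonoidHom.range_eq_map, range_subtype] at h
  have hcz1 : cz = 1 := by
    have h1 : 0 < cz := by
      by_contra h
      rw [show cz = 0 by omega, pow_zero, card_eq_one] at hcz
      exact hzne (mem_bot.1 (hcz.le hzZ))
    have h2 : Nat.card Z < p ^ 2 := by
      rw [← hxC]
      exact lt_of_le_of_ne (card_le_of_le hZE) fun e => hxZ (eq_of_le_of_card_ge hZE e.ge ▸ hxE)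
    rw [hcz] at h2
    have := (Nat.pow_lt_pow_iff_right hp'.one_lt).1 h2
    omega
  rw [hcz1, pow_one] at hcz
  have hzo : orderOf z = p := by
    have hd : orderOf z ∣ p := hcz ▸ Z.orderOf_dvd_natCard hzZ
    exact ((Nat.dvd_prime hp').1 hd).resolve_left (fun h => hzne (orderOf_eq_one_iff.1 h))
  have hZz : Z = zpowers z := (eq_of_le_of_card_ge (zpowers_le.2 hzZ)
    (by rw [hcz, Nat.card_zpowers, hzo])).symm
  have hZD : Z ≤ D := by rw [hZz]; exact zpowers_le.2 hzD
  have hZc : ∀ w ∈ Z, ∀ a ∈ Q, a * w = w * a := fun w hw a ha => mem_centralizer_iff.1 hw.2 a ha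
  -- `E` is generated by `x` and `Z`
  have hEspan : ∀ e ∈ E, ∃ i : ℤ, x ^ (-i) * e ∈ Z := by
    haveI : (Z.subgroupOf E).Normal := ⟨fun w hw g => by
      rw [mem_subgroupOf] at hw ⊢
      simp only [Subgroup.coe_mul, InvMemClass.coe_inv]
      rwa [hZc _ hw _ (hEQ g.2), mul_inv_cancel_right]⟩
    have hidx : (Z.subgroupOf E).index = p := by
      have h := (Z.subgroupOf E).card_mul_index
      rw [Nat.card_congr (subgroupOfEquivOfLe hZE).toEquiv, hcz, hxC, pow_two] at h
      exact Nat.eq_of_mul_eq_mul_left hp'.pos h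
    intro e he
    have hc : Nat.card (E ⧸ Z.subgroupOf E) = p := by rw [← index_eq_card, hidx]
    have hne : (QuotientGroup.mk (⟨x, hxE⟩ : E) : E ⧸ Z.subgroupOf E) ≠ 1 := fun h =>
      hxZ (mem_subgroupOf.1 ((QuotientGroup.eq_one_iff (⟨x, hxE⟩ : E)).1 h) : _)
    obtain ⟨i, hi⟩ := mem_zpowers_iff.1 (mem_zpowers_of_prime_card hc hne
      (g' := QuotientGroup.mk (⟨e, he⟩ : E)))
    refine ⟨i, ?_⟩
    rw [← QuotientGroup.mk_zpow, QuotientGroup.eq, mem_subgroupOf] at hi
    simpa [zpow_neg] using hi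
  have hEcomm : ∀ a ∈ E, a * x = x * a := fun a ha => mem_centralizer_singleton_iff.1 ha.2
  -- `E` meets the derived subgroup in `Z`
  have hED : ∀ w ∈ E, w ∈ D → w ∈ Z := by
    intro w hwE hwD
    by_contra hwZ
    obtain ⟨c, hc⟩ := IsPGroup.iff_card.1 (hQ.to_le ((inf_le_left : E ⊓ D ≤ E).trans hEQ))
    have h1 : Nat.card Z < Nat.card ↥(E ⊓ D) :=
      lt_of_le_of_ne (card_le_of_le (le_inf hZE hZD)) fun h =>
        hwZ (eq_of_le_of_card_ge (le_inf hZE hZD) h.ge ▸ ⟨hwE, hwD⟩)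
    have h2 : Nat.card ↥(E ⊓ D) < p ^ 2 := hxC ▸ lt_of_le_of_ne (card_le_of_le inf_le_left)
      fun h => hxD ((eq_of_le_of_card_ge inf_le_left h.ge).ge hxE).2
    rw [hc] at h1 h2
    rw [hcz] at h1
    have := (Nat.pow_lt_pow_iff_right hp'.one_lt).1 h2
    have := (Nat.pow_lt_pow_iff_right hp'.one_lt).1 ((pow_one p).trans_lt h1)
    omega
  -- an element of `Q` moving `x`
  obtain ⟨s, hsQ, hsE, hsN⟩ : ∃ s ∈ Q, s ∉ E ∧ s ∈ normalizer (E : Set G) := by
    have hlt : E.subgroupOf Q < ⊤ := by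
      rw [lt_top_iff_ne_top, Ne, subgroupOf_eq_top]
      intro h
      have := card_le_of_le h
      rw [hPn, hxC] at this
      have := (Nat.pow_le_pow_iff_right hp'.one_lt).1 this
      omega
    obtain ⟨s, hs, hsE⟩ := SetLike.exists_of_lt (Group.normalizerCondition_of_isNilpotent _ hlt)
    refine ⟨s, s.2, hsE, ?_⟩
    have := le_normalizer_map Q.subtype ⟨s, hs, rfl⟩
    rwa [subgroupOf_map_subtype, inf_eq_left.2 hEQ] at this
  set ζ := ⁅s, x⁆ with hζdef
  have hζZ : ζ ∈ Z := hED ζ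
    (E.mul_mem ((mem_normalizer_iff.1 hsN x).1 hxE) (E.inv_mem hxE))
    (commutator_mem_commutator hsQ hxP)
  have hζ1 : ζ ≠ 1 := fun h => hsE ⟨hsQ,
    mem_centralizer_singleton_iff.2 (commutatorElement_eq_one_iff_mul_comm.1 h)⟩
  have hζo : orderOf ζ = p := by
    have hd : orderOf ζ ∣ p := hcz ▸ Z.orderOf_dvd_natCard hζZ
    exact ((Nat.dvd_prime hp').1 hd).resolve_left (fun h => hζ1 (orderOf_eq_one_iff.1 h))
  have hconjx : ∀ k : ℕ, s ^ k * x * (s ^ k)⁻¹ = x * ζ ^ k := by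
    intro k
    induction k with
    | zero => simp
    | succ k ihk =>
      calc s ^ (k + 1) * x * (s ^ (k + 1))⁻¹ = s * (s ^ k * x * (s ^ k)⁻¹) * s⁻¹ := by
            rw [pow_succ']; group
        _ = s * (x * ζ ^ k) * s⁻¹ := by rw [ihk]
        _ = ζ * x * (s * ζ ^ k * s⁻¹) := by rw [hζdef, commutatorElement_def]; group
        _ = x * ζ ^ (k + 1) := by
            rw [hZc _ (Z.pow_mem hζZ k) s hsQ, mul_inv_cancel_right,
              ← hZc ζ hζZ x hxP, mul_assoc, ← pow_succ']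
  have hxw : ∀ w ∈ Z, ∃ g : G, g * x * g⁻¹ = x * w := by
    intro w hw
    have hw' : w ∈ zpowers ζ := by
      rw [eq_of_le_of_card_ge (zpowers_le.2 hζZ) (by rw [hcz, Nat.card_zpowers, hζo])]
      exact hw
    obtain ⟨k, rfl⟩ := (isOfFinOrder_of_finite ζ).mem_powers_iff_mem_zpowers.2 hw'
    exact ⟨s ^ k, hconjx k⟩
  -- a larger `p`-subgroup of the centralizer
  obtain ⟨R0, hR0⟩ := (hQ.to_le hEQ).comap_of_injective (centralizer ({x} : Set G)).subtype
    (subtype_injective _) |>.exists_le_sylow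
  set R := (R0 : Subgroup _).map (centralizer ({x} : Set G)).subtype with hRdef
  have hRp : IsPGroup p R := R0.2.map _
  have hER : E ≤ R := fun e he => ⟨⟨e, he.2⟩, hR0 he, rfl⟩
  have hRc : ∀ r ∈ R, r * x = x * r := fun r hr =>
    mem_centralizer_singleton_iff.1 (map_subtype_le _ hr)
  have hRlt : E < R := by
    refine lt_of_le_of_ne hER fun e => hv ?_
    have h : Nat.card R = p ^ 2 := e ▸ hxC
    rw [hRdef, card_map_of_injective (subtype_injective _), R0.card_eq_multiplicity] at h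
    exact Nat.pow_right_injective hp2 h
  set R1 := R ⊓ normalizer (E : Set G) with hR1def
  have hER1 : E ≤ R1 := le_inf hER le_normalizer
  have hR1lt : E < R1 := by
    haveI : Group.IsNilpotent R := hRp.isNilpotent
    have hlt : E.subgroupOf R < ⊤ := by
      rw [lt_top_iff_ne_top, Ne, subgroupOf_eq_top]
      exact fun h => hRlt.ne (le_antisymm hER h)
    obtain ⟨r, hr, hrE⟩ := SetLike.exists_of_lt (Group.normalizerCondition_of_isNilpotent _ hlt)
    refine lt_of_le_of_ne hER1 fun e => hrE ?_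
    have := le_normalizer_map R.subtype ⟨r, hr, rfl⟩
    rw [subgroupOf_map_subtype, inf_eq_left.2 hER] at this
    rw [mem_subgroupOf, e]
    exact ⟨r.2, this⟩
  by_cases hmove : ∃ r ∈ R1, r * z ≠ z * r
  · -- `z` is moved, so `x` fuses to a power of `z`
    obtain ⟨r, hr, hrz⟩ := hmove
    set w := r * z * r⁻¹ with hwdef
    have hwE : w ∈ E := (mem_normalizer_iff.1 hr.2 z).1 (hZE hzZ)
    have hwZ : w ∉ Z := by
      intro hwZ
      obtain ⟨j, hj⟩ := hRp ⟨r, hr.1⟩
      have hj' : r ^ p ^ j = 1 := congrArg Subtype.val hj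
      rw [hZz] at hwZ
      obtain ⟨b, hb⟩ := (isOfFinOrder_of_finite z).mem_powers_iff_mem_zpowers.2 hwZ
      exact hrz (fix_of_pow hzo hb.symm hj')
    obtain ⟨i, hi⟩ := hEspan w hwE
    have hxpo : ∃ c : ℕ, orderOf x = p ^ c := by
      obtain ⟨c, hc⟩ := hQ ⟨x, hxP⟩
      obtain ⟨d, -, hd⟩ := (Nat.dvd_prime_pow hp').1
        (orderOf_dvd_of_pow_eq_one (congrArg Subtype.val hc : x ^ p ^ c = 1))
      exact ⟨d, hd⟩
    obtain ⟨c, hc⟩ := hxpo
    have hpi : ¬ (p : ℤ) ∣ i := by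
      intro hd
      obtain ⟨t, rfl⟩ := hd
      have hxp : x ^ p ∈ Z := by
        haveI : (Z.subgroupOf E).Normal := ⟨fun w hw g => by
          rw [mem_subgroupOf] at hw ⊢
          simp only [Subgroup.coe_mul, InvMemClass.coe_inv]
          rwa [hZc _ hw _ (hEQ g.2), mul_inv_cancel_right]⟩
        have hidx : (Z.subgroupOf E).index = p := by
          have h := (Z.subgroupOf E).card_mul_index
          rw [Nat.card_congr (subgroupOfEquivOfLe hZE).toEquiv, hcz, hxC, pow_two] at h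
          exact Nat.eq_of_mul_eq_mul_left hp'.pos h
        have h := pow_index_mem (Z.subgroupOf E) ⟨x, hxE⟩
        rw [hidx] at h
        exact h
      refine hwZ ?_
      have h1 : x ^ ((p : ℤ) * t) ∈ Z := by
        rw [zpow_mul, zpow_natCast]; exact Z.zpow_mem hxp t
      have := Z.mul_mem h1 hi
      rwa [← mul_assoc, ← zpow_add, add_neg_cancel, zpow_zero, one_mul] at this
    have hcop : IsCoprime i ((p ^ c : ℕ) : ℤ) := by
      push_cast
      exact ((Nat.prime_iff_prime_int.1 hp').coprime_iff_not_dvd.2 hpi).symm.pow_right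
    obtain ⟨u, v, huv⟩ := hcop
    -- `w` is conjugate to `x ^ i`
    set w' := (x ^ (-i) * w) with hw'def
    have hx_eq : ∀ t : ℤ, x ^ (t * ((p ^ c : ℕ) : ℤ)) = 1 := by
      intro t
      rw [mul_comm, zpow_mul, zpow_natCast, ← hc, pow_orderOf_eq_one, one_zpow]
    have hwo : ∀ t : ℤ, w' ^ (t * ((p ^ c : ℕ) : ℤ)) = 1 := by
      intro t
      have hp1 : w' ^ (p : ℤ) = 1 := by
        rw [zpow_natCast, ← orderOf_dvd_iff_pow_eq_one]
        exact hcz ▸ Z.orderOf_dvd_natCard hi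
      have hc1 : c ≠ 0 := by
        intro h
        rw [h, pow_zero, orderOf_eq_one_iff] at hc
        exact hxZ (hc ▸ Z.one_mem)
      obtain ⟨c', rfl⟩ := Nat.exists_eq_succ_of_ne_zero hc1
      rw [pow_succ, Nat.cast_mul, mul_comm (((p ^ c' : ℕ) : ℤ)) (p : ℤ), mul_left_comm,
        zpow_mul, hp1, one_zpow]
    obtain ⟨g, hg⟩ := hxw (w' ^ u) (Z.zpow_mem hi u)
    refine ⟨r⁻¹ * g, ?_⟩
    have hcm : Commute x w' := by
      rw [hw'def]
      exact (Commute.self_zpow x (-i)).mul_right (hEcomm w hwE).symm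
    have key : (x * w' ^ u) = w ^ u := by
      have hw2 : w = x ^ i * w' := by rw [hw'def]; group
      rw [hw2, (hcm.zpow_left i).mul_zpow, ← zpow_mul]
      congr 1
      have h1 : i * u = 1 + (-v) * ((p ^ c : ℕ) : ℤ) := by rw [← huv]; ring
      rw [h1, zpow_add, hx_eq, mul_one, zpow_one]
    have he : r⁻¹ * g * x * (r⁻¹ * g)⁻¹ = z ^ u := by
      calc r⁻¹ * g * x * (r⁻¹ * g)⁻¹ = r⁻¹ * (g * x * g⁻¹) * r := by group
        _ = r⁻¹ * w ^ u * r := by rw [hg, key]
        _ = z ^ u := by rw [hwdef, conj_zpow]; group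
    rw [he]
    exact D.zpow_mem hzD u
  -- all of `R1` centralises `z`
  push Not at hmove
  set H := centralizer ({z} : Set G) with hHdef
  have hQH : Q ≤ H := fun a ha => mem_centralizer_singleton_iff.2 (hZc z hzZ a ha)
  have hR1H : R1 ≤ H := fun r hr => mem_centralizer_singleton_iff.2 (hmove r hr)
  have hR1p : IsPGroup p R1 := hRp.to_le inf_le_left
  obtain ⟨a1, ha1⟩ := IsPGroup.iff_card.1 hR1p
  have ha1' : 3 ≤ a1 := by
    have h : Nat.card E < Nat.card R1 :=
      lt_of_le_of_ne (card_le_of_le hER1) fun e => hR1lt.ne (eq_of_le_of_card_ge hER1 e.ge)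
    rw [hxC, ha1] at h
    exact (Nat.pow_lt_pow_iff_right hp'.one_lt).1 h
  set PH := P.subtype hQH with hPHdef
  rcases Nat.eq_or_lt_of_le hn with h3 | h4
  · -- order `p ^ 3`: a conjugate of `R1` equals `Q`
    have hAp : IsPGroup p (R1.subgroupOf H) := hR1p.comap_subtype
    obtain ⟨T, hT⟩ := hAp.exists_le_sylow
    obtain ⟨h, hh⟩ := MulAction.exists_smul_eq H T PH
    have hle : R1.map (MulAut.conj (h : G)).toMonoidHom ≤ Q := by
      rintro _ ⟨r, hr, rfl⟩
      have h1 : h * (⟨r, hR1H hr⟩ : H) * h⁻¹ ∈ (PH : Subgroup H) := by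
        rw [← hh]
        exact ⟨⟨r, hR1H hr⟩, hT hr, rfl⟩
      exact h1
    have heq : R1.map (MulAut.conj (h : G)).toMonoidHom = Q := by
      refine eq_of_le_of_card_ge hle ?_
      rw [card_map_of_injective (MulAut.conj (h : G)).injective, ha1, hPn, ← h3]
      exact Nat.pow_le_pow_right hp'.pos ha1'
    refine ⟨(h : G), hZD ⟨hle ⟨x, hER1 hxE, rfl⟩, mem_centralizer_iff.2 fun a ha => ?_⟩⟩
    obtain ⟨r, hr, rfl⟩ := heq.ge ha
    show (MulAut.conj (h : G)) r * _ = _ * (MulAut.conj (h : G)) r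
    simp only [MulAut.conj_apply]
    calc (h : G) * r * (h : G)⁻¹ * ((h : G) * x * (h : G)⁻¹)
        = (h : G) * (r * x) * (h : G)⁻¹ := by group
      _ = (h : G) * (x * r) * (h : G)⁻¹ := by rw [hRc r hr.1]
      _ = (h : G) * x * (h : G)⁻¹ * ((h : G) * r * (h : G)⁻¹) := by group
  -- the quotient by `Z`
  have hZH : Z ≤ H := hZE.trans (hEQ.trans hQH)
  haveI hZn : (Z.subgroupOf H).Normal := ⟨fun w hw g => by
    rw [mem_subgroupOf] at hw ⊢
    obtain ⟨i, hi⟩ := mem_zpowers_iff.1 (hZz.le hw)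
    simp only [Subgroup.coe_mul, InvMemClass.coe_inv, ← hi]
    have hgz : Commute (g : G) z := mem_centralizer_singleton_iff.1 g.2
    rw [(hgz.zpow_right i).eq, mul_inv_cancel_right, hi]
    exact hw⟩
  set π := QuotientGroup.mk' (Z.subgroupOf H) with hπdef
  have hπs := QuotientGroup.mk'_surjective (Z.subgroupOf H)
  have hπ1 : ∀ a : H, π a = 1 ↔ (a : G) ∈ Z := fun a => QuotientGroup.eq_one_iff a
  set xH : H := ⟨x, hQH hxP⟩ with hxHdef
  set K := (centralizer ({π xH} : Set (H ⧸ Z.subgroupOf H))).comap π with hKdef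
  have hK : ∀ a : H, a ∈ K ↔ ⁅(a : G), x⁆ ∈ Z := by
    intro a
    rw [hKdef, mem_comap, mem_centralizer_singleton_iff, ← commutatorElement_eq_one_iff_mul_comm,
      ← map_commutatorElement, hπ1]
    rfl
  have hcomap : ∀ Y : Subgroup (H ⧸ Z.subgroupOf H),
      Nat.card (Y.comap π) = Nat.card Y * p := by
    intro Y
    have h := Subgroup.card_eq_card_quotient_mul_card_subgroup ((Z.subgroupOf H).subgroupOf (Y.comap π))
    have hle : Z.subgroupOf H ≤ Y.comap π := fun a ha => by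
      rw [mem_comap, (hπ1 a).2 ha]; exact Y.one_mem
    rw [Nat.card_congr (subgroupOfEquivOfLe hle).toEquiv,
      Nat.card_congr (subgroupOfEquivOfLe hZH).toEquiv, hcz] at h
    rw [h]
    congr 1
    have h2 := relIndex_comap (f := π) (⊥ : Subgroup (H ⧸ Z.subgroupOf H)) (Y.comap π)
    rw [MonoidHom.comap_bot, map_comap_eq_self_of_surjective hπs, relIndex_bot_left,
      hπdef, QuotientGroup.ker_mk'] at h2
    rw [← index_eq_card]
    exact h2
  set A := R1.subgroupOf H with hAdef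
  have hAK : A ≤ K := fun a ha => (hK a).2 (by
    have h1 : ⁅(a : G), x⁆ = 1 :=
      commutatorElement_eq_one_iff_mul_comm.2 (hRc (a : G) (ha : (a : G) ∈ R1).1)
    rw [h1]; exact Z.one_mem)
  set B := Q.subgroupOf H ⊓ K with hBdef
  have hBp : IsPGroup p B := (hQ.comap_subtype).to_le inf_le_left
  have hEB : E.subgroupOf H ≤ B := fun a ha => ⟨hEQ ha, (hK a).2 (by
    have h1 : ⁅(a : G), x⁆ = 1 :=
      commutatorElement_eq_one_iff_mul_comm.2 (hEcomm (a : G) ha)
    rw [h1]; exact Z.one_mem)⟩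
  have hsB : (⟨s, hQH hsQ⟩ : H) ∈ B := ⟨hsQ, (hK _).2 hζZ⟩
  obtain ⟨b1, hb1⟩ := IsPGroup.iff_card.1 hBp
  have hb1' : 3 ≤ b1 := by
    have h : Nat.card (E.subgroupOf H) < Nat.card B :=
      lt_of_le_of_ne (card_le_of_le hEB) fun e =>
        hsE (eq_of_le_of_card_ge hEB e.ge ▸ hsB : (⟨s, hQH hsQ⟩ : H) ∈ E.subgroupOf H)
    rw [Nat.card_congr (subgroupOfEquivOfLe (hEQ.trans hQH)).toEquiv, hxC, hb1] at h
    exact (Nat.pow_lt_pow_iff_right hp'.one_lt).1 h
  -- the map `b ↦ [b, x]` on `B`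
  have hcB : ∀ b : B, ⁅((b : H) : G), x⁆ ∈ Z := fun b => (hK _).1 b.2.2
  let f : B →* Z := MonoidHom.mk' (fun b => ⟨⁅((b : H) : G), x⁆, hcB b⟩) (by
    intro a b
    apply Subtype.ext
    have hab : ((a : H) : G) * ⁅((b : H) : G), x⁆ = ⁅((b : H) : G), x⁆ * ((a : H) : G) :=
      hZc _ (hcB b) _ a.2.1
    show ⁅((a : H) : G) * ((b : H) : G), x⁆ = ⁅((a : H) : G), x⁆ * ⁅((b : H) : G), x⁆
    calc ⁅((a : H) : G) * ((b : H) : G), x⁆
        = ((a : H) : G) * ⁅((b : H) : G), x⁆ * ((a : H) : G)⁻¹ * ⁅((a : H) : G), x⁆ := by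
          simp only [commutatorElement_def]; group
      _ = ⁅((b : H) : G), x⁆ * ⁅((a : H) : G), x⁆ := by rw [hab, mul_inv_cancel_right]
      _ = _ := hZc _ (hcB a) _ (hcB b).1)
  have hBle : Nat.card B ≤ p ^ 3 := by
    have h1 := Subgroup.card_eq_card_quotient_mul_card_subgroup f.ker
    have h2 : Nat.card f.ker ≤ p ^ 2 := by
      rw [← hxC]
      refine Nat.card_le_card_of_injective (fun b => (⟨(((b : B) : H) : G), (b : B).2.1,
        mem_centralizer_singleton_iff.2 (commutatorElement_eq_one_iff_mul_comm.1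
          (congrArg Subtype.val b.2))⟩ : E)) ?_
      intro a b h
      exact Subtype.ext (Subtype.ext (Subtype.ext (congrArg (fun e : E => (e : G)) h)))
    have h3 : Nat.card (B ⧸ f.ker) ≤ p := by
      rw [← hcz]
      exact Nat.card_le_card_of_injective _ (QuotientGroup.kerLift_injective f)
    rw [h1]
    calc _ ≤ p * p ^ 2 := Nat.mul_le_mul h3 h2
      _ = p ^ 3 := by ring
  have hb1eq : b1 = 3 := by
    rw [hb1] at hBle
    have := (Nat.pow_le_pow_iff_right hp'.one_lt).1 hBle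
    omega
  set xb := π xH with hxbdef
  set C' := centralizer ({xb} : Set (H ⧸ Z.subgroupOf H)) with hC'def
  have hv' : (Nat.card C').factorization p ≠ 2 := by
    intro hv2
    have hKv : (Nat.card K).factorization p = 3 := by
      rw [hKdef, hcomap, Nat.factorization_mul Nat.card_pos.ne' hp'.ne_zero, Finsupp.add_apply, hv2,
        hp'.factorization, Finsupp.single_eq_same]
    have hAc : Nat.card (A.subgroupOf K) = p ^ (Nat.card K).factorization p := by
      rw [Nat.card_congr (subgroupOfEquivOfLe hAK).toEquiv,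
        Nat.card_congr (subgroupOfEquivOfLe hR1H).toEquiv, ha1, hKv]
      refine congrArg _ (le_antisymm ?_ ha1')
      have hd := card_dvd_of_le hAK
      rw [Nat.card_congr (subgroupOfEquivOfLe hR1H).toEquiv, ha1] at hd
      exact hKv ▸ (hp'.pow_dvd_iff_le_factorization Nat.card_pos.ne').1 hd
    have hBc : Nat.card (B.subgroupOf K) = p ^ (Nat.card K).factorization p := by
      rw [Nat.card_congr (subgroupOfEquivOfLe (inf_le_right : B ≤ K)).toEquiv, hb1, hKv, hb1eq]
    obtain ⟨k, hk⟩ := MulAction.exists_smul_eq K (Sylow.ofCard _ hAc) (Sylow.ofCard _ hBc)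
    -- then `B` centralises `x`
    have hBE : ∀ b : H, b ∈ B → (b : G) * x = x * b := by
      intro b hb
      have hb' : (⟨b, hb.2⟩ : K) ∈ ((Sylow.ofCard _ hBc : Sylow p K) : Subgroup K) := by
        rw [Sylow.coe_ofCard]; exact hb
      rw [← hk] at hb'
      obtain ⟨r, hr, hrb⟩ := hb'
      rw [Sylow.coe_ofCard] at hr
      have hrR : ((r : H) : G) ∈ R1 := hr
      have hbe : ((k : H) : G) * ((r : H) : G) * ((k : H) : G)⁻¹ = (b : G) :=
        congrArg (fun t : K => ((t : H) : G)) hrb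
      set η := ⁅((k : H) : G), x⁆ with hη
      have hηZ : η ∈ Z := (hK _).1 k.2
      have hconj : ((k : H) : G) * x * ((k : H) : G)⁻¹ = η * x := by
        rw [hη, commutatorElement_def]; group
      have h1 : (b : G) * (η * x) = η * x * b := by
        rw [← hbe, ← hconj]
        calc _ = ((k : H) : G) * (((r : H) : G) * x) * ((k : H) : G)⁻¹ := by group
          _ = ((k : H) : G) * (x * ((r : H) : G)) * ((k : H) : G)⁻¹ := by rw [hRc _ hrR.1]
          _ = _ := by group
      rw [← mul_assoc, hZc η hηZ (b : G) hb.1, mul_assoc, mul_assoc] at h1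
      exact mul_left_cancel h1
    have hle : B ≤ E.subgroupOf H := fun b hb =>
      ⟨hb.1, mem_centralizer_singleton_iff.2 (hBE b hb)⟩
    have := card_le_of_le hle
    rw [Nat.card_congr (subgroupOfEquivOfLe (hEQ.trans hQH)).toEquiv, hxC, hb1, hb1eq] at this
    have := (Nat.pow_le_pow_iff_right hp'.one_lt).1 this
    omega
  set Pb := PH.mapSurjective hπs with hPbdef
  have hker : π.ker ≤ Q.subgroupOf H := by
    rw [hπdef, QuotientGroup.ker_mk']; exact fun a ha => hEQ (hZE ha)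
  have hPbeq : (Pb : Subgroup (H ⧸ Z.subgroupOf H)) = (Q.subgroupOf H).map π := rfl
  have hPbc : Nat.card (Pb : Subgroup (H ⧸ Z.subgroupOf H)) = p ^ (n - 1) := by
    have h := hcomap (Pb : Subgroup (H ⧸ Z.subgroupOf H))
    rw [hPbeq, comap_map_eq_self hker,
      Nat.card_congr (subgroupOfEquivOfLe hQH).toEquiv, hPn] at h
    rw [hPbeq]
    refine Nat.eq_of_mul_eq_mul_right hp'.pos (h.symm.trans ?_)
    rw [← pow_succ]; congr 1; omega
  have hxbP : xb ∈ (Pb : Subgroup (H ⧸ Z.subgroupOf H)) := ⟨xH, hxP, rfl⟩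
  have hDH : ⁅(Pb : Subgroup (H ⧸ Z.subgroupOf H)), (Pb : Subgroup _)⁆
      = (D.subgroupOf H).map π := by
    rw [hPbeq, ← map_commutator]
    congr 1
    apply map_injective H.subtype_injective
    rw [map_commutator, subgroupOf_map_subtype, subgroupOf_map_subtype, inf_eq_left.2 hQH,
      inf_eq_left.2 (hDQ.trans hQH)]
  have hback : ∀ a : H, π a ∈ ⁅(Pb : Subgroup (H ⧸ Z.subgroupOf H)), (Pb : Subgroup _)⁆ →
      (a : G) ∈ D := by
    intro a ha
    rw [hDH] at ha
    obtain ⟨d, hd, hda⟩ := ha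
    have h1 : π (d⁻¹ * a) = 1 := by rw [map_mul, map_inv, hda, inv_mul_cancel]
    have h2 : ((d : G))⁻¹ * (a : G) ∈ Z := (hπ1 _).1 h1
    have := D.mul_mem (show (d : G) ∈ D from hd) (hZD h2)
    rwa [mul_inv_cancel_left] at this
  have hCb : Nat.card ↥((Pb : Subgroup (H ⧸ Z.subgroupOf H)) ⊓ C') = p ^ 2 := by
    have h := hcomap ((Pb : Subgroup (H ⧸ Z.subgroupOf H)) ⊓ C')
    rw [comap_inf, hPbeq, comap_map_eq_self hker, ← hKdef, ← hBdef, hb1, hb1eq] at h
    rw [hPbeq]
    refine Nat.eq_of_mul_eq_mul_right hp'.pos (h.symm.trans ?_)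
    ring
  obtain ⟨gb, hgb⟩ := ih (n - 1) (by omega) (H ⧸ Z.subgroupOf H) Pb hPbc (by omega) xb hxbP
    (fun h => hxD (hback xH h)) hCb hv'
  obtain ⟨g, rfl⟩ := hπs gb
  refine ⟨(g : G), ?_⟩
  rw [hxbdef, ← map_inv, ← map_mul, ← map_mul] at hgb
  exact hback _ hgb

end CfsgLib.PGroups.MaxClassFusion
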