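import Mathlib
import Cfsg.Agent.Lib.PGroups.ThreePrimeModules
import Cfsg.Agent.Lib.Char.Burnside

/-!
# All elements outside a non-solvable normal subgroup have prime power order

Then the quotient is solvable.  In a minimal supplement one finds, for each prime `r`, an abelian
subgroup of order prime to `r` on which the `r`-elements outside act without fixed points.
-/

set_option autoImplicit false
set_option linter.all false

open scoped commutatorElement

namespace CfsgLib.PGroups.PrimePowerOutside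

open Subgroup

/-- The averaging lemma: a nilpotent-free form of the Frobenius group lemma. -/
theorem fixed_of_frobenius {X M : Type*} [Group X] [CommGroup M] [Finite M] (φ : X →* MulAut M)
    (F : Subgroup X) [Finite F] {y : X} {s : ℕ} (hs : s.Prime) (hy : y ^ s = 1)
    (hnorm : ∀ t ∈ F, y * t * y⁻¹ ∈ F) (hCF : ∀ t ∈ F, Commute y t → t = 1)
    (hCM : ∀ m : M, φ y m = m → m = 1) (hcop : (Nat.card M).Coprime (Nat.card F)) :
    ∀ t ∈ F, ∀ m : M, φ t m = m := by
  classical
  haveI : Fintype F := Fintype.ofFinite F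
  haveI := Fact.mk hs
  intro t ht m
  have hn : ∀ (i : ℕ), ∀ t ∈ F, y ^ i * t * (y ^ i)⁻¹ ∈ F := by
    intro i
    induction i with
    | zero => intro t ht; simpa using ht
    | succ i ih =>
      intro t ht
      have := hnorm _ (ih t ht)
      simpa [pow_succ', mul_assoc] using this
  -- each complement averages to the trivial element
  have havg : ∀ u : F, ∀ m : M, ∏ i ∈ Finset.range s, φ ((u : X) * y ^ i * (u : X)⁻¹) m = 1 := by
    intro u m
    have e : ∀ i, φ ((u : X) * y ^ i * (u : X)⁻¹) m = φ (u : X) (φ (y ^ i) (φ (u : X)⁻¹ m)) := fun i => by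
      rw [map_mul, map_mul, MulAut.mul_apply, MulAut.mul_apply]
    simp only [e, ← map_prod (φ (u : X))]
    rw [MulEquiv.map_eq_one_iff]
    refine hCM _ ?_
    rw [map_prod]
    obtain ⟨k, hk⟩ : ∃ k, s = k + 1 := ⟨s - 1, by have := hs.two_le; omega⟩
    subst hk
    conv_lhs => rw [Finset.prod_range_succ]
    conv_rhs => rw [Finset.prod_range_succ']
    congr 1
    · refine Finset.prod_congr rfl fun i _ => ?_
      rw [← MulAut.mul_apply, ← map_mul, ← pow_succ']
    · rw [← MulAut.mul_apply, ← map_mul, ← pow_succ', hy, pow_zero]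
  -- the orbit products are fixed by F
  have hfix : ∀ z : M, φ t (∏ u : F, φ (u : X) z) = ∏ u : F, φ (u : X) z := by
    intro z
    rw [map_prod]
    refine Fintype.prod_equiv (Equiv.mulLeft ⟨t, ht⟩) _ _ fun u => ?_
    simp [MulAut.mul_apply]
  -- partition
  have hbij : ∀ i, ¬ s ∣ i → ∀ z : M,
      ∏ u : F, φ ((u : X) * y ^ i * (u : X)⁻¹) z = ∏ u : F, φ (u : X) (φ (y ^ i) z) := by
    intro i hi z
    let f : F → F := fun u =>
      ⟨(u : X) * (y ^ i * (u : X)⁻¹ * (y ^ i)⁻¹), mul_mem u.2 (hn i _ (inv_mem u.2))⟩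
    have hf : Function.Injective f := by
      intro u v huv
      have h1 : (u : X) * (y ^ i * (u : X)⁻¹ * (y ^ i)⁻¹) = (v : X) * (y ^ i * (v : X)⁻¹ * (y ^ i)⁻¹) :=
        congrArg Subtype.val huv
      have h2 : Commute (y ^ i) ((v : X)⁻¹ * (u : X)) := by
        show y ^ i * ((v : X)⁻¹ * (u : X)) = (v : X)⁻¹ * (u : X) * y ^ i
        calc y ^ i * ((v : X)⁻¹ * (u : X))
            = (v : X)⁻¹ * ((v : X) * (y ^ i * (v : X)⁻¹ * (y ^ i)⁻¹)) * y ^ i * (u : X) := by group
          _ = (v : X)⁻¹ * ((u : X) * (y ^ i * (u : X)⁻¹ * (y ^ i)⁻¹)) * y ^ i * (u : X) := by rw [h1]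
          _ = _ := by group
      obtain ⟨j, hj⟩ := Nat.exists_mul_mod_eq_one_of_coprime
        ((Nat.Coprime.symm ((hs.coprime_iff_not_dvd).mpr hi))) hs.one_lt
      have h3 : (y ^ i) ^ j = y := by
        rw [← pow_mul, ← Nat.mod_add_div (i * j) s, hj.2, pow_add, pow_one, pow_mul, hy, one_pow, mul_one]
      have h4 := hCF _ (mul_mem (inv_mem v.2) u.2) (h3 ▸ h2.pow_left j)
      exact Subtype.ext (inv_mul_eq_one.mp h4).symm
    refine Fintype.prod_equiv (Equiv.ofBijective f (Finite.injective_iff_bijective.mp hf)) _ _ fun u => ?_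
    show _ = φ ((f u : F) : X) (φ (y ^ i) z)
    rw [← MulAut.mul_apply, ← map_mul]
    congr 2
    show _ = (u : X) * (y ^ i * (u : X)⁻¹ * (y ^ i)⁻¹) * y ^ i
    group
  have hall : ∏ i ∈ Finset.range s, ∏ u : F, φ ((u : X) * y ^ i * (u : X)⁻¹) m = 1 := by
    rw [Finset.prod_comm]
    exact Finset.prod_eq_one fun u _ => havg u m
  obtain ⟨k, hk⟩ : ∃ k, s = k + 1 := ⟨s - 1, by have := hs.two_le; omega⟩
  subst hk
  rw [Finset.prod_range_succ'] at hall
  have h0 : ∏ u : F, φ ((u : X) * y ^ 0 * (u : X)⁻¹) m = m ^ Nat.card F := by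
    simp [Nat.card_eq_fintype_card]
  rw [h0] at hall
  have hrest : φ t (∏ i ∈ Finset.range k, ∏ u : F, φ ((u : X) * y ^ (i + 1) * (u : X)⁻¹) m) =
      ∏ i ∈ Finset.range k, ∏ u : F, φ ((u : X) * y ^ (i + 1) * (u : X)⁻¹) m := by
    rw [map_prod]
    refine Finset.prod_congr rfl fun i hi => ?_
    have : ¬ (k + 1) ∣ i + 1 := fun h => by
      have := Nat.le_of_dvd (Nat.succ_pos i) h
      have := Finset.mem_range.mp hi
      omega
    rw [hbij _ this, hfix]
  rw [eq_inv_of_mul_eq_one_left hall, map_inv, map_pow, inv_inj] at hrest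
  exact (powCoprime hcop).injective hrest

variable {G : Type*} [Group G] [Finite G]

/-- An element outside acts without fixed points on coprime elements inside. -/
theorem fpf {N : Subgroup G} (h : ∀ x : G, x ∉ N → IsPrimePow (orderOf x)) {g a : G} (hg : g ∉ N)
    (ha : a ∈ N) (hc : Commute g a) (hcop : (orderOf g).Coprime (orderOf a)) : a = 1 := by
  have hga : g * a ∉ N := fun h' => hg ((N.mul_mem_cancel_right ha).mp h')
  have hpp := h _ hga
  rw [hc.orderOf_mul_eq_mul_orderOf_of_coprime hcop] at hpp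
  have hg1 : orderOf g ≠ 1 := fun h' => hg (by rw [orderOf_eq_one_iff.mp h']; exact one_mem _)
  rcases (hcop.isPrimePow_dvd_mul hpp).mp dvd_rfl with h1 | h1
  · have := Nat.le_of_dvd (orderOf_pos g) h1
    rw [← orderOf_eq_one_iff]
    have := orderOf_pos g; have := orderOf_pos a
    nlinarith
  · exfalso
    apply hg1
    have := Nat.le_of_dvd (orderOf_pos a) h1
    have := orderOf_pos g; have := orderOf_pos a
    nlinarith

theorem exists_third_prime {N : Subgroup G} (hns : ¬ Group.IsSolvable N) {r s : ℕ} (hr : r.Prime)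
    (hs : s.Prime) : ∃ p, p.Prime ∧ p ∣ Nat.card N ∧ p ≠ r ∧ p ≠ s := by
  by_contra hno
  push Not at hno
  apply hns
  set n := Nat.card N
  have hn : n ≠ 0 := Nat.card_pos.ne'
  by_cases hrs : r = s
  · subst hrs
    refine CfsgLib.Burnside.isSolvable_of_card_eq (a := n.primeFactorsList.length) (b := 0) hr hr ?_
    rw [pow_zero, mul_one]
    exact Nat.eq_prime_pow_of_unique_prime_dvd hn fun {d} hd hdn => by
      by_contra hd'
      exact hd' (hno d hd hdn hd')
  · refine CfsgLib.Burnside.isSolvable_of_card_eq (a := n.factorization r) (b := n.factorization s) hr hs ?_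
    refine Nat.eq_of_factorization_eq hn (mul_ne_zero (pow_ne_zero _ hr.ne_zero) (pow_ne_zero _ hs.ne_zero)) fun q => ?_
    rw [Nat.factorization_mul (pow_ne_zero _ hr.ne_zero) (pow_ne_zero _ hs.ne_zero), hr.factorization_pow,
      hs.factorization_pow, Finsupp.add_apply, Finsupp.single_apply, Finsupp.single_apply]
    by_cases hqr : r = q
    · subst hqr; rw [if_pos rfl, if_neg (Ne.symm hrs), add_zero]
    · by_cases hqs : s = q
      · subst hqs; rw [if_neg hqr, if_pos rfl, zero_add]
      · rw [if_neg hqr, if_neg hqs, add_zero, Nat.factorization_eq_zero_iff]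
        by_contra h'
        push Not at h'
        exact Ne.symm hqs (hno q h'.1 h'.2.1 (Ne.symm hqr))

theorem commute_of_nilpotent {F : Type*} [Group F] [Finite F] (hF : Group.IsNilpotent F) {q r : ℕ}
    [Fact q.Prime] [Fact r.Prime] (hqr : q ≠ r) (Q : Sylow q F) {t : F} {a : ℕ}
    (ht : orderOf t = r ^ a) : ∀ v ∈ (Q : Subgroup F), Commute t v := by
  haveI := hF
  have htr : IsPGroup r (zpowers t) := IsPGroup.of_card (n := a) (by rw [Nat.card_zpowers, ht])
  obtain ⟨R, hR⟩ := htr.exists_le_sylow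
  have hn : ∀ {l : ℕ} [Fact l.Prime] (P : Sylow l F), (P : Subgroup F).Normal := fun P =>
    Sylow.normal_of_normalizerCondition Group.normalizerCondition_of_isNilpotent P
  exact fun v hv => Subgroup.commute_of_normal_of_disjoint _ _ (hn R) (hn Q)
    (IsPGroup.disjoint_of_ne (H₁ := (R : Subgroup F)) (H₂ := (Q : Subgroup F)) r q hqr.symm R.2 Q.2) t v (hR (mem_zpowers t)) hv

theorem center_part_ne_bot {q : ℕ} [Fact q.Prime] {B : Subgroup G} (hB : IsPGroup q B) (h : B ≠ ⊥) :
    B ⊓ centralizer (B : Set G) ≠ ⊥ := by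
  haveI : Nontrivial B := (nontrivial_iff_ne_bot B).mpr h
  haveI := hB.center_nontrivial
  obtain ⟨z, hz⟩ := exists_ne (1 : center B)
  intro hbot
  have : ((z : B) : G) ∈ B ⊓ centralizer (B : Set G) := ⟨(z : B).2, mem_centralizer_iff.mpr fun v hv =>
    congrArg Subtype.val (mem_center_iff.mp z.2 ⟨v, hv⟩)⟩
  rw [hbot, mem_bot] at this
  exact hz (Subtype.ext (Subtype.ext this))

/-- The subgroup acting and the abelian subgroup acted upon. -/
theorem exists_action {N : Subgroup G} [hN : N.Normal] (hns : ¬ Group.IsSolvable N)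
    (h : ∀ x : G, x ∉ N → IsPrimePow (orderOf x)) (hQ : ¬ Group.IsSolvable (G ⧸ N)) {r : ℕ}
    (hr : r.Prime) :
    ∃ X A : Subgroup G, X ⊔ N = ⊤ ∧ A ≤ N ∧ A ≠ ⊥ ∧ (∀ a ∈ A, ∀ b ∈ A, a * b = b * a) ∧
      X ≤ normalizer (A : Set G) ∧ (∃ q, q.Prime ∧ q ≠ r ∧ IsPGroup q A) ∧
      ∀ g ∈ X, g ∈ N → (∃ k, orderOf g = r ^ k) → ∀ a ∈ A, g * a = a * g := by
  classical
  obtain ⟨s, hs, hsQ, hsr⟩ : ∃ s, s.Prime ∧ s ∣ Nat.card (G ⧸ N) ∧ s ≠ r := by
    by_contra hno
    push Not at hno
    apply hQ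
    haveI := Fact.mk hr
    haveI := (IsPGroup.of_card (p := r) (n := (Nat.card (G ⧸ N)).primeFactorsList.length)
      (Nat.eq_prime_pow_of_unique_prime_dvd Nat.card_pos.ne' fun {d} hd hdn => hno d hd hdn)).isNilpotent
    infer_instance
  obtain ⟨p, hp, hpN, hpr, hps⟩ := exists_third_prime hns hr hs
  haveI := Fact.mk hr; haveI := Fact.mk hs; haveI := Fact.mk hp
  obtain ⟨P⟩ : Nonempty (Sylow p N) := inferInstance
  set H := normalizer (((P : Subgroup N).map N.subtype : Subgroup G) : Set G) with hH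
  have hex : ∃ n, ∃ X : Subgroup G, X ≤ H ∧ X ⊔ N = ⊤ ∧ Nat.card X = n :=
    ⟨_, H, le_rfl, Sylow.normalizer_sup_eq_top P, rfl⟩
  obtain ⟨X, hXH, hXN, hXc⟩ := Nat.find_spec hex
  -- the intersection is nilpotent
  set F := N.subgroupOf X with hF
  have hFfr : F ≤ frattini X := by
    refine le_iInf₂ fun M hM => ?_
    by_contra hle
    have hMF : M ⊔ F = ⊤ := hM.2 _ (lt_of_le_of_ne le_sup_left fun e => hle (e ▸ le_sup_right))
    have hlt : Nat.card (M.map X.subtype) < Nat.card X := by
      rw [card_map_of_injective X.subtype_injective]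
      refine lt_of_le_of_ne (Subgroup.card_le_card_group M) fun e => hM.1 (Subgroup.eq_top_of_card_eq M e)
    refine Nat.find_min hex (hXc ▸ hlt) ⟨M.map X.subtype, (map_subtype_le M).trans hXH, ?_, rfl⟩
    rw [eq_top_iff, ← hXN]
    refine sup_le ?_ le_sup_right
    intro x hx
    have hx' : (⟨x, hx⟩ : X) ∈ M ⊔ F := hMF ▸ mem_top _
    have := mem_map_of_mem X.subtype hx'
    rw [Subgroup.map_sup] at this
    exact sup_le_sup_left (map_le_iff_le_comap.mpr fun y hy => hy) _ this
  have hFn : Group.IsNilpotent F := by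
    haveI : Group.IsNilpotent (frattini X) := frattini_nilpotent
    exact Group.nilpotent_of_mulEquiv (subgroupOfEquivOfLe hFfr)
  have hmk : ∀ g, g ∈ X → g ∈ N → ∀ k, orderOf g = r ^ k →
      ∃ t : F, ((t : X) : G) = g ∧ orderOf t = r ^ k := fun g hgX hgN k hk =>
    ⟨⟨⟨g, hgX⟩, hgN⟩, rfl, by rw [← Subgroup.orderOf_coe, ← Subgroup.orderOf_coe]; exact hk⟩
  by_cases hq : ∃ q, q.Prime ∧ q ∣ Nat.card F ∧ q ≠ r
  · obtain ⟨q, hq, hqF, hqr⟩ := hq
    haveI := Fact.mk hq
    haveI := hFn
    obtain ⟨Q⟩ : Nonempty (Sylow q F) := inferInstance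
    have hQn : (Q : Subgroup F).Normal :=
      Sylow.normal_of_normalizerCondition Group.normalizerCondition_of_isNilpotent Q
    haveI := Q.characteristic_of_normal hQn
    haveI : F.Normal := inferInstanceAs (N.subgroupOf X).Normal
    have hQX : ((Q : Subgroup F).map F.subtype).Normal := inferInstance
    set B : Subgroup G := ((Q : Subgroup F).map F.subtype).map X.subtype with hB
    have hBN : B ≤ N := by
      rintro _ ⟨_, ⟨v, -, rfl⟩, rfl⟩; exact v.2
    have hBq : IsPGroup q B := (Q.2.map _).map _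
    have hB1 : B ≠ ⊥ := by
      rw [hB, Ne, map_eq_bot_iff_of_injective _ X.subtype_injective,
        map_eq_bot_iff_of_injective _ F.subtype_injective]
      exact Q.ne_bot_of_dvd_card hqF
    refine ⟨X, B ⊓ centralizer (B : Set G), hXN, inf_le_left.trans hBN, center_part_ne_bot hBq hB1,
      fun a ha b hb => mem_centralizer_iff.mp hb.2 a ha.1, ?_, ⟨q, hq, hqr,
        hBq.to_le inf_le_left⟩, fun g hgX hgN ⟨k, hk⟩ a ha => ?_⟩
    · intro x hx
      have hxB : ∀ v ∈ B, ∀ e ∈ X, e * v * e⁻¹ ∈ B := by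
        rintro _ ⟨v, hv, rfl⟩ e he
        exact ⟨⟨e, he⟩ * v * ⟨e, he⟩⁻¹, hQX.conj_mem v hv _, by simp⟩
      have key : ∀ e ∈ X, ∀ v ∈ B ⊓ centralizer (B : Set G), e * v * e⁻¹ ∈ B ⊓ centralizer (B : Set G) := by
        intro e he v hv
        refine ⟨hxB v hv.1 e he, mem_centralizer_iff.mpr fun w hw => ?_⟩
        have := mem_centralizer_iff.mp hv.2 _ (hxB w hw e⁻¹ (inv_mem he))
        calc w * (e * v * e⁻¹) = e * (e⁻¹ * w * e⁻¹⁻¹ * v) * e⁻¹ := by group
          _ = e * (v * (e⁻¹ * w * e⁻¹⁻¹)) * e⁻¹ := by rw [this]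
          _ = _ := by group
      refine mem_normalizer_iff.mpr fun v => ⟨key x hx v, fun hv => ?_⟩
      simpa [mul_assoc] using key x⁻¹ (inv_mem hx) _ hv
    · obtain ⟨t, rfl, ht⟩ := hmk g hgX hgN k hk
      obtain ⟨⟨_, ⟨v, hv, rfl⟩, rfl⟩, -⟩ := ha
      exact congrArg (fun z : F => ((z : X) : G)) (commute_of_nilpotent hFn hqr Q ht v hv).eq
  · push Not at hq
    set B : Subgroup G := (P : Subgroup N).map N.subtype with hB
    have hBp : IsPGroup p B := P.2.map _
    have hB1 : B ≠ ⊥ := by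
      rw [hB, Ne, map_eq_bot_iff_of_injective _ N.subtype_injective]
      exact P.ne_bot_of_dvd_card hpN
    set A := B ⊓ centralizer (B : Set G) with hA
    have hAN : A ≤ N := inf_le_left.trans (map_subtype_le _)
    have hAc : ∀ a ∈ A, ∀ b ∈ A, a * b = b * a := fun a ha b hb => mem_centralizer_iff.mp hb.2 a ha.1
    have hXA : X ≤ normalizer (A : Set G) := fun x hx => by
      have h1 := hXH hx
      have key : ∀ e ∈ normalizer (B : Set G), ∀ v ∈ A, e * v * e⁻¹ ∈ A := by
        intro e he v hv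
        refine ⟨(mem_normalizer_iff.mp he v).mp hv.1, mem_centralizer_iff.mpr fun w hw => ?_⟩
        have := mem_centralizer_iff.mp hv.2 _ ((mem_normalizer_iff.mp (inv_mem he) w).mp hw)
        calc w * (e * v * e⁻¹) = e * (e⁻¹ * w * e⁻¹⁻¹ * v) * e⁻¹ := by group
          _ = e * (v * (e⁻¹ * w * e⁻¹⁻¹)) * e⁻¹ := by rw [this]
          _ = _ := by group
      refine mem_normalizer_iff.mpr fun v => ⟨key x h1 v, fun hv => ?_⟩
      simpa [mul_assoc] using key x⁻¹ (inv_mem h1) _ hv
    refine ⟨X, A, hXN, hAN, center_part_ne_bot hBp hB1, hAc, hXA, ⟨p, hp, hpr, hBp.to_le inf_le_left⟩, ?_⟩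
    -- an element of order `s` in X
    have hsX : s ∣ Nat.card X := by
      have hsurj : Function.Surjective ((QuotientGroup.mk' N).comp X.subtype) := by
        intro z
        obtain ⟨g, rfl⟩ := QuotientGroup.mk'_surjective N z
        have hg : g ∈ X ⊔ N := hXN ▸ mem_top g
        rw [← SetLike.mem_coe, Subgroup.mul_normal] at hg
        obtain ⟨x, hx, n, hn, rfl⟩ := hg
        refine ⟨⟨x, hx⟩, ?_⟩
        show QuotientGroup.mk' N x = QuotientGroup.mk' N (x * n)
        rw [map_mul, show QuotientGroup.mk' N n = 1 from (QuotientGroup.eq_one_iff _).mpr hn, mul_one]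
      exact hsQ.trans (Subgroup.card_dvd_of_surjective _ hsurj)
    obtain ⟨y, hy⟩ := exists_prime_orderOf_dvd_card' s hsX
    have hyN : (y : G) ∉ N := fun h' => hsr (hq s hs (by
      rw [← hy, ← Subgroup.orderOf_mk y (show y ∈ F from h')]
      exact orderOf_dvd_natCard _))
    letI : CommGroup A := { (inferInstance : Group A) with
      mul_comm := fun a b => Subtype.ext (hAc a a.2 b b.2) }
    let φ : X →* MulAut A := (Subgroup.normalizerMonoidHom A).comp (inclusion hXA)
    have hys : orderOf (y : G) = s := by rw [Subgroup.orderOf_coe, hy]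
    intro g hgX hgN _ a ha
    have := fixed_of_frobenius φ F hs (y := y) (hy ▸ pow_orderOf_eq_one y)
      (fun t ht => by
        show ((y * t * y⁻¹ : X) : G) ∈ N
        simpa using hN.conj_mem _ ht (y : G))
      (fun t ht hc => by
        refine Subtype.ext (fpf h hyN ht (hc.map X.subtype) ?_)
        obtain ⟨i, hi⟩ : ∃ i, orderOf (t : G) = r ^ i := by
          obtain ⟨i, -, hi⟩ := (Nat.dvd_prime_pow hr).mp ((orderOf_dvd_natCard (⟨t, ht⟩ : F)).trans
            (Nat.eq_prime_pow_of_unique_prime_dvd Nat.card_pos.ne' fun {d} hd hdn => hq d hd hdn).dvd)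
          exact ⟨i, by rw [Subgroup.orderOf_coe, ← Subgroup.orderOf_mk t ht]; exact hi⟩
        show (orderOf (y : G)).Coprime (orderOf (t : G))
        rw [hys, hi]
        exact ((Nat.coprime_primes hs hr).mpr hsr).pow_right i)
      (fun m hm => by
        refine Subtype.ext (fpf h hyN (hAN m.2) ?_ ?_)
        · have e : (y : G) * m * (y : G)⁻¹ = m := congrArg Subtype.val hm
          exact mul_inv_eq_iff_eq_mul.mp e
        · obtain ⟨i, hi⟩ := IsPGroup.iff_orderOf.mp (hBp.to_le (inf_le_left : A ≤ B)) m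
          rw [hys, Subgroup.orderOf_coe, hi]
          exact ((Nat.coprime_primes hs hp).mpr hps.symm).pow_right i)
      (by
        obtain ⟨i, hi⟩ := IsPGroup.iff_card.mp (hBp.to_le (inf_le_left : A ≤ B))
        rw [hi, Nat.eq_prime_pow_of_unique_prime_dvd (Nat.card_pos (α := F)).ne' fun {d} hd hdn => hq d hd hdn]
        exact Nat.Coprime.pow _ _ ((Nat.coprime_primes hp hr).mpr hpr))
      ⟨g, hgX⟩ hgN ⟨a, ha⟩
    exact mul_inv_eq_iff_eq_mul.mp (congrArg Subtype.val this)

/-- The reduced case. -/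
theorem false_of_reduced {N : Subgroup G} [hN : N.Normal] (hns : ¬ Group.IsSolvable N)
    (h : ∀ x : G, x ∉ N → IsPrimePow (orderOf x)) (hQ : ¬ Group.IsSolvable (G ⧸ N))
    (hred : ∀ S : Subgroup (G ⧸ N), S.Normal → Group.IsSolvable S → S = ⊥) : False := by
  classical
  by_cases h2 : 2 ∣ Nat.card (G ⧸ N)
  · obtain ⟨X, A, hXN, hAN, hA1, hAc, hXA, ⟨q, hq, hq2, hAq⟩, hcen⟩ :=
      exists_action hns h hQ Nat.prime_two
    haveI := Fact.mk hq
    haveI : Fact (Nat.Prime 2) := ⟨Nat.prime_two⟩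
    obtain ⟨z, hz⟩ := exists_prime_orderOf_dvd_card' 2 h2
    obtain ⟨g, rfl⟩ := QuotientGroup.mk'_surjective N z
    have hg : g ∈ X ⊔ N := hXN ▸ mem_top g
    rw [← SetLike.mem_coe, Subgroup.mul_normal] at hg
    obtain ⟨x, hx, n, hn, rfl⟩ := hg
    have hxz : QuotientGroup.mk' N (x * n) = QuotientGroup.mk' N x := by
      rw [map_mul, show QuotientGroup.mk' N n = 1 from (QuotientGroup.eq_one_iff _).mpr hn, mul_one]
    rw [hxz] at hz
    obtain ⟨a, b, hab2, hab⟩ : ∃ a b : ℕ, ¬ 2 ∣ b ∧ orderOf x = 2 ^ a * b :=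
      Nat.exists_eq_pow_mul_and_not_dvd (orderOf_pos x).ne' 2 (by norm_num)
    set s := x ^ b with hs
    have hsX : s ∈ X := pow_mem hx b
    have hsbar : QuotientGroup.mk' N s = QuotientGroup.mk' N x := by
      rw [hs, map_pow]
      conv_rhs => rw [← pow_one (QuotientGroup.mk' N x)]
      rw [pow_eq_pow_iff_modEq, hz]
      exact Nat.odd_iff.mp (Nat.odd_iff.mpr (by omega))
    have hso : orderOf s = 2 ^ a := by
      rw [hs, orderOf_pow_of_dvd (by rintro rfl; simp at hab2) (hab ▸ dvd_mul_left _ _), hab,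
        Nat.mul_div_cancel _ (Nat.pos_of_ne_zero (by rintro rfl; simp at hab2))]
    have hsN : s ∉ N := fun h' => by
      rw [← hsbar, show QuotientGroup.mk' N s = 1 from (QuotientGroup.eq_one_iff _).mpr h', orderOf_one] at hz
      omega
    have hs2N : s ^ 2 ∈ N := by
      rw [← QuotientGroup.eq_one_iff, ← QuotientGroup.mk'_apply, map_pow, hsbar, ← hz, pow_orderOf_eq_one]
    have hnA : ∀ e ∈ X, ∀ v ∈ A, e * v * e⁻¹ ∈ A := fun e he v hv =>
      (mem_normalizer_iff.mp (hXA he) v).mp hv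
    -- s inverts A
    have hinv : ∀ v ∈ A, s * v * s⁻¹ = v⁻¹ := by
      intro v hv
      have hw := hnA s hsX v hv
      have hc2 : s ^ 2 * v = v * s ^ 2 := hcen _ (pow_mem hsX 2) hs2N (by
        obtain ⟨i, -, hi⟩ := (Nat.dvd_prime_pow Nat.prime_two).mp (hso ▸ orderOf_pow_dvd 2)
        exact ⟨i, hi⟩) v hv
      have h1 : Commute s (v * (s * v * s⁻¹)) := by
        show s * (v * (s * v * s⁻¹)) = v * (s * v * s⁻¹) * s
        calc s * (v * (s * v * s⁻¹)) = (s * v * s⁻¹) * (s ^ 2 * v) * s⁻¹ := by rw [pow_two]; group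
          _ = (s * v * s⁻¹) * v * s := by rw [hc2, pow_two]; group
          _ = _ := by rw [hAc _ hw v hv]
      have h2' : v * (s * v * s⁻¹) = 1 := fpf h hsN (hAN (mul_mem hv hw)) h1 (by
        obtain ⟨i, hi⟩ := IsPGroup.iff_orderOf.mp hAq ⟨_, mul_mem hv hw⟩
        rw [Subgroup.orderOf_mk] at hi
        rw [hso, hi]
        exact Nat.Coprime.pow _ _ ((Nat.coprime_primes Nat.prime_two hq).mpr hq2.symm))
      exact eq_inv_of_mul_eq_one_right h2'
    -- the centralizer of A in X lies in N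
    have hCN : X ⊓ centralizer (A : Set G) ≤ N := by
      set C := (X ⊓ centralizer (A : Set G)).map (QuotientGroup.mk' N) with hC
      have hCn : C.Normal := by
        refine ⟨fun c hc z => ?_⟩
        obtain ⟨c, hc, rfl⟩ := hc
        obtain ⟨g, rfl⟩ := QuotientGroup.mk'_surjective N z
        have hg : g ∈ X ⊔ N := hXN ▸ mem_top g
        rw [← SetLike.mem_coe, Subgroup.mul_normal] at hg
        obtain ⟨e, (he : e ∈ X), m, hm, rfl⟩ := hg
        rw [map_mul, show QuotientGroup.mk' N m = 1 from (QuotientGroup.eq_one_iff _).mpr hm, mul_one,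
          ← map_inv, ← map_mul, ← map_mul]
        refine mem_map_of_mem _ ⟨X.mul_mem (X.mul_mem he hc.1) (X.inv_mem he), mem_centralizer_iff.mpr fun v hv => ?_⟩
        have := mem_centralizer_iff.mp hc.2 _ (hnA e⁻¹ (inv_mem he) v hv)
        calc v * (e * c * e⁻¹) = e * (e⁻¹ * v * e⁻¹⁻¹ * c) * e⁻¹ := by group
          _ = e * (c * (e⁻¹ * v * e⁻¹⁻¹)) * e⁻¹ := by rw [this]
          _ = _ := by group
      have hCq : IsPGroup q C := by
        rw [IsPGroup.iff_orderOf]
        rintro ⟨_, c, hc, rfl⟩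
        rw [← Subgroup.orderOf_coe]
        show ∃ k, orderOf (QuotientGroup.mk' N c) = q ^ k
        by_cases hcN : c ∈ N
        · exact ⟨0, by rw [show QuotientGroup.mk' N c = 1 from (QuotientGroup.eq_one_iff _).mpr hcN, orderOf_one, pow_zero]⟩
        · obtain ⟨l, k, hl, hk, hlk⟩ := (isPrimePow_nat_iff _).mp (h c hcN)
          obtain ⟨v, hv, hv1⟩ : ∃ v ∈ A, v ≠ 1 := by
            by_contra hno; push Not at hno
            exact hA1 ((Subgroup.eq_bot_iff_forall A).mpr hno)
          have hlq : l = q := by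
            by_contra hne
            refine hv1 (fpf h hcN (hAN hv) (mem_centralizer_iff.mp hc.2 v hv).symm ?_)
            obtain ⟨i, hi⟩ := IsPGroup.iff_orderOf.mp hAq ⟨v, hv⟩
            rw [Subgroup.orderOf_mk] at hi
            rw [← hlk, hi]
            exact Nat.Coprime.pow _ _ ((Nat.coprime_primes hl hq).mpr hne)
          obtain ⟨i, -, hi⟩ := (Nat.dvd_prime_pow hq).mp
            (show orderOf (QuotientGroup.mk' N c) ∣ q ^ k by rw [← hlq, hlk]; exact orderOf_map_dvd _ c)
          exact ⟨i, hi⟩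
      haveI := hCq.isNilpotent
      have hCbot := hred C hCn inferInstance
      intro c hc
      have : QuotientGroup.mk' N c ∈ C := mem_map_of_mem _ hc
      rw [hCbot, mem_bot] at this
      exact (QuotientGroup.eq_one_iff _).mp this
    -- s is central modulo N
    have hcentral : QuotientGroup.mk' N s ∈ center (G ⧸ N) := by
      refine mem_center_iff.mpr fun w => ?_
      obtain ⟨g, rfl⟩ := QuotientGroup.mk'_surjective N w
      have hg : g ∈ X ⊔ N := hXN ▸ mem_top g
      rw [← SetLike.mem_coe, Subgroup.mul_normal] at hg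
      obtain ⟨e, (he : e ∈ X), m, hm, rfl⟩ := hg
      rw [map_mul, show QuotientGroup.mk' N m = 1 from (QuotientGroup.eq_one_iff _).mpr hm, mul_one]
      refine (commutatorElement_eq_one_iff_commute.mp ?_).eq
      rw [← map_commutatorElement]
      refine (QuotientGroup.eq_one_iff _).mpr (hCN ⟨?_, mem_centralizer_iff.mpr fun v hv => ?_⟩)
      · rw [commutatorElement_def]
        exact X.mul_mem (X.mul_mem (X.mul_mem he hsX) (X.inv_mem he)) (X.inv_mem hsX)
      · have hsi : ∀ w ∈ A, s⁻¹ * w * s = w⁻¹ := fun w hw => by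
          have := hinv w⁻¹ (inv_mem hw)
          rw [inv_inv] at this
          conv_lhs => rw [← this]
          group
        have h1 : e⁻¹ * v * e ∈ A := by simpa using hnA e⁻¹ (inv_mem he) v hv
        have e1 : s⁻¹ * v * s = v⁻¹ := hsi v hv
        have e2 : s * (e⁻¹ * v⁻¹ * e) * s⁻¹ = e⁻¹ * v * e := by
          rw [hinv _ (by simpa [mul_assoc] using inv_mem h1)]; group
        have e3 : ⁅e, s⁆ * v * ⁅e, s⁆⁻¹ = v := by
          rw [commutatorElement_def]
          calc e * s * e⁻¹ * s⁻¹ * v * (e * s * e⁻¹ * s⁻¹)⁻¹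
              = e * (s * (e⁻¹ * (s⁻¹ * v * s) * e) * s⁻¹) * e⁻¹ := by group
            _ = e * (e⁻¹ * v * e) * e⁻¹ := by rw [e1, e2]
            _ = v := by group
        exact (mul_inv_eq_iff_eq_mul.mp e3).symm
    have hbot := hred (center (G ⧸ N)) inferInstance (Group.isSolvable_of_comm fun a b => Subtype.ext (mem_center_iff.mp b.2 a))
    rw [hbot, mem_bot] at hcentral
    exact hsN ((QuotientGroup.eq_one_iff _).mp hcentral)
  · -- all Sylow subgroups are cyclic
    apply hQ
    haveI : IsZGroup (G ⧸ N) := by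
      refine ⟨fun r hr R => ?_⟩
      haveI := Fact.mk hr
      by_cases hr2 : r = 2
      · subst hr2
        have : (R : Subgroup (G ⧸ N)) = ⊥ := by
          obtain ⟨k, hk⟩ := IsPGroup.iff_card.mp R.2
          have hd : Nat.card R ∣ Nat.card (G ⧸ N) := card_subgroup_dvd_card _
          rw [hk] at hd
          rcases Nat.eq_zero_or_pos k with rfl | hk0
          · exact Subgroup.card_eq_one.mp (by simpa using hk)
          · exact absurd ((dvd_pow_self 2 hk0.ne').trans hd) h2
        show IsCyclic (R : Subgroup (G ⧸ N))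
        rw [this]; infer_instance
      refine CfsgLib.PGroups.FixRank.isCyclic_of_no_rankTwo hr2 R.2 ?_
      rintro ⟨a, b, haR, hbR, hao, hbo, hab, hba⟩
      obtain ⟨X, A, hXN, hAN, hA1, hAc, hXA, ⟨q, hq, hqr, hAq⟩, hcen⟩ := exists_action hns h hQ hr
      haveI := Fact.mk hq
      let π : X →* G ⧸ N := (QuotientGroup.mk' N).comp X.subtype
      have hπ : Function.Surjective π := by
        intro z
        obtain ⟨g, rfl⟩ := QuotientGroup.mk'_surjective N z
        have hg : g ∈ X ⊔ N := hXN ▸ mem_top g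
        rw [← SetLike.mem_coe, Subgroup.mul_normal] at hg
        obtain ⟨x, hx, n, hn, rfl⟩ := hg
        refine ⟨⟨x, hx⟩, ?_⟩
        show QuotientGroup.mk' N x = QuotientGroup.mk' N (x * n)
        rw [map_mul, show QuotientGroup.mk' N n = 1 from (QuotientGroup.eq_one_iff _).mpr hn, mul_one]
      obtain ⟨T⟩ : Nonempty (Sylow r X) := inferInstance
      set T' := T.mapSurjective hπ
      obtain ⟨c, hc⟩ := MulAction.exists_smul_eq (G ⧸ N) R T'
      have hmem : ∀ u ∈ (R : Subgroup (G ⧸ N)), ∃ v ∈ (T : Subgroup X), π v = c * u * c⁻¹ := by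
        intro u hu
        have h' : c * u * c⁻¹ ∈ (T' : Subgroup (G ⧸ N)) := by
          rw [← hc]
          exact Subgroup.smul_mem_pointwise_smul u (MulAut.conj c) _ hu
        rw [Sylow.coe_mapSurjective] at h'
        exact h'
      letI : CommGroup A := { (inferInstance : Group A) with
        mul_comm := fun a b => Subtype.ext (hAc a a.2 b b.2) }
      let φ : X →* MulAut A := (Subgroup.normalizerMonoidHom A).comp (inclusion hXA)
      let ψ : (T : Subgroup X) →* MulAut A := φ.comp (T : Subgroup X).subtype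
      let ρ : (T : Subgroup X) →* G ⧸ N := π.comp (T : Subgroup X).subtype
      have hker : ρ.ker ≤ ψ.ker := by
        intro u hu
        ext m
        obtain ⟨k, hk⟩ := IsPGroup.iff_orderOf.mp T.2 u
        have := hcen ((u : X) : G) (u : X).2 ((QuotientGroup.eq_one_iff _).mp hu)
          ⟨k, by rw [Subgroup.orderOf_coe, Subgroup.orderOf_coe]; exact hk⟩ m m.2
        show ((u : X) : G) * m * ((u : X) : G)⁻¹ = m
        rw [this, mul_inv_cancel_right]
      let ω : ρ.range →* MulAut A :=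
        (QuotientGroup.lift ρ.ker ψ hker).comp (QuotientGroup.quotientKerEquivRange ρ).symm.toMonoidHom
      have hω : ∀ u, ω ⟨ρ u, u, rfl⟩ = ψ u := fun u => by
        have : (QuotientGroup.quotientKerEquivRange ρ).symm ⟨ρ u, u, rfl⟩ = QuotientGroup.mk u := by
          rw [MulEquiv.symm_apply_eq]; rfl
        show QuotientGroup.lift ρ.ker ψ hker ((QuotientGroup.quotientKerEquivRange ρ).symm ⟨ρ u, u, rfl⟩) = ψ u
        rw [this]; rfl
      have hfp : ∀ u : (T : Subgroup X), ρ u ≠ 1 → ∀ m : A, ψ u m = m → m = 1 := by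
        intro u hu m hm
        refine Subtype.ext (fpf h (fun h' => hu ((QuotientGroup.eq_one_iff _).mpr h')) (hAN m.2) ?_ ?_)
        · have e : ((u : X) : G) * m * ((u : X) : G)⁻¹ = m := congrArg Subtype.val hm
          exact mul_inv_eq_iff_eq_mul.mp e
        · obtain ⟨k, hk⟩ := IsPGroup.iff_orderOf.mp T.2 u
          obtain ⟨i, hi⟩ := IsPGroup.iff_orderOf.mp hAq m
          show (orderOf ((u : X) : G)).Coprime (orderOf (m : G))
          rw [Subgroup.orderOf_coe, Subgroup.orderOf_coe, hk, Subgroup.orderOf_coe, hi]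
          exact Nat.Coprime.pow _ _ ((Nat.coprime_primes hr hq).mpr hqr.symm)
      obtain ⟨va, hva, hva'⟩ := hmem a haR
      obtain ⟨vb, hvb, hvb'⟩ := hmem b hbR
      haveI : Nontrivial A := (nontrivial_iff_ne_bot A).mpr hA1
      have hconj : ∀ {u : G ⧸ N}, c * u * c⁻¹ = MulAut.conj c u := fun {u} => rfl
      obtain ⟨x, -, hxo, m, hm1, hm⟩ := CfsgLib.PGroups.FixRank.exists_fixed ω
        (p := r) (a := ⟨ρ ⟨va, hva⟩, _, rfl⟩) (b := ⟨ρ ⟨vb, hvb⟩, _, rfl⟩)
        (by
          obtain ⟨i, hi⟩ := IsPGroup.iff_card.mp hAq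
          rw [hi]
          exact Nat.Coprime.pow_left _ ((Nat.coprime_primes hq hr).mpr hqr))
        (by rw [← Subgroup.orderOf_coe]; show orderOf (π va) = r; rw [hva', hconj, MulEquiv.orderOf_eq, hao])
        (by rw [← Subgroup.orderOf_coe]; show orderOf (π vb) = r; rw [hvb', hconj, MulEquiv.orderOf_eq, hbo])
        (Subtype.ext (by show π va * π vb = π vb * π va; rw [hva', hvb']; exact (hab.map (MulAut.conj c).toMonoidHom).eq))
        (fun h' => hba (by
          obtain ⟨k, hk⟩ := mem_zpowers_iff.mp h'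
          refine mem_zpowers_iff.mpr ⟨k, (MulAut.conj c).injective ?_⟩
          rw [map_zpow, ← hconj, ← hconj, ← hva', ← hvb']
          exact congrArg Subtype.val hk))
      obtain ⟨⟨_, u, rfl⟩, hx'⟩ : ∃ y : ρ.range, y = x := ⟨x, rfl⟩
      rw [← hx', hω] at hm
      refine hm1 (hfp u (fun h' => ?_) m hm)
      rw [← hx', ← Subgroup.orderOf_coe, show ((⟨ρ u, u, rfl⟩ : ρ.range) : G ⧸ N) = 1 from h', orderOf_one] at hxo
      exact hr.ne_one hxo.symm
    infer_instance

/-- The quotient by a non-solvable normal subgroup is solvable. -/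
theorem isSolvable_quotient (N : Subgroup G) [N.Normal] (hns : ¬ Group.IsSolvable N)
    (h : ∀ x : G, x ∉ N → IsPrimePow (orderOf x)) : Group.IsSolvable (G ⧸ N) := by
  induction hn : N.index using Nat.strong_induction_on generalizing N with
  | _ n ih =>
  by_contra hQ
  refine false_of_reduced hns h hQ fun S hS hSsol => ?_
  by_contra hS1
  haveI := hS
  set N' := S.comap (QuotientGroup.mk' N) with hN'
  have hle : N ≤ N' := fun x hx => by
    rw [hN', Subgroup.mem_comap, show QuotientGroup.mk' N x = 1 from (QuotientGroup.eq_one_iff _).mpr hx]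
    exact one_mem _
  have hns' : ¬ Group.IsSolvable N' := fun h' => hns (solvable_of_solvable_injective (inclusion_injective hle))
  have hidx : N'.index < n := by
    rw [← hn, hN', index_comap_of_surjective _ (QuotientGroup.mk'_surjective N),
      index_eq_card (H := N), ← Subgroup.card_mul_index S]
    exact lt_mul_of_one_lt_left (Nat.pos_of_ne_zero index_ne_zero_of_finite)
      (Subgroup.one_lt_card_iff_ne_bot S |>.mpr hS1)
  haveI := ih _ hidx N' hns' (fun x hx => h x fun h' => hx (hle h')) rfl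
  apply hQ
  haveI := hSsol
  haveI : Group.IsSolvable ((G ⧸ N) ⧸ S) := by
    refine solvable_of_surjective (f := QuotientGroup.lift N'
      ((QuotientGroup.mk' S).comp (QuotientGroup.mk' N))
      (fun x hx => (QuotientGroup.eq_one_iff _).mpr hx)) ?_
    intro z
    obtain ⟨w, rfl⟩ := QuotientGroup.mk'_surjective S z
    obtain ⟨g, rfl⟩ := QuotientGroup.mk'_surjective N w
    exact ⟨g, rfl⟩
  exact solvable_of_ker_le_range S.subtype (QuotientGroup.mk' S) (by simp)

end CfsgLib.PGroups.PrimePowerOutside
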