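import Mathlib
import Cfsg.Agent.Lib.PGroups.PrimePowerOutside
import Cfsg.Agent.Lib.Core.Coprime
import Cfsg.Agent.Lib.Core.FrobeniusConj

/-!
# A proper normal subgroup outside which centralizers are maximal and orders are prime powers

The centralizers outside are self-normalizing Sylow subgroups; modulo the centre they form a
trivial intersection set, so that the group is a Frobenius group and the subgroup is solvable.
-/

set_option autoImplicit false
set_option linter.all false

namespace CfsgLib.PGroups.MaximalCentralizers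

open Subgroup
open scoped Pointwise

universe u

variable {G : Type u} [Group G] [Finite G]

theorem eq_of_commuting {N : Subgroup G} [N.Normal] (h : ∀ x : G, x ∉ N → IsPrimePow (orderOf x))
    {x : G} (hx : x ∉ N) {p k : ℕ} (hp : p.Prime) (hk : orderOf x = p ^ k) :
    IsPGroup p (centralizer ({x} : Set G)) := by
  haveI := Fact.mk hp
  refine IsPGroup.of_card (n := (Nat.card (centralizer ({x} : Set G))).primeFactorsList.length) ?_
  refine Nat.eq_prime_pow_of_unique_prime_dvd Nat.card_pos.ne' fun {q} hq hqd => ?_
  by_contra hqp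
  haveI := Fact.mk hq
  obtain ⟨z, hz⟩ := exists_prime_orderOf_dvd_card' q hqd
  have hzo : orderOf (z : G) = q := by rw [Subgroup.orderOf_coe, hz]
  have hc : Commute x (z : G) := (mem_centralizer_singleton_iff.mp z.2).symm
  have hcop : (orderOf x).Coprime (orderOf (z : G)) := by
    rw [hk, hzo]
    exact ((Nat.coprime_primes hp hq).mpr (Ne.symm hqp)).pow_left k
  by_cases hzN : (z : G) ∈ N
  · have := PrimePowerOutside.fpf h hx hzN hc hcop
    rw [this, orderOf_one] at hzo
    exact hq.ne_one hzo.symm
  · by_cases hxz : x * (z : G) ∈ N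
    · apply hx
      have hq1 : QuotientGroup.mk' N x * QuotientGroup.mk' N (z : G) = 1 := by
        rw [← map_mul]; exact (QuotientGroup.eq_one_iff _).mpr hxz
      have hd : orderOf (QuotientGroup.mk' N x) ∣ orderOf (z : G) := by
        rw [eq_inv_of_mul_eq_one_left hq1, orderOf_inv]
        exact orderOf_map_dvd _ _
      exact (QuotientGroup.eq_one_iff _).mp (orderOf_eq_one_iff.mp
        (Nat.eq_one_of_dvd_coprimes hcop (orderOf_map_dvd (QuotientGroup.mk' N) x) hd))
    · have hpp := h _ hxz
      rw [hc.orderOf_mul_eq_mul_orderOf_of_coprime hcop] at hpp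
      rcases (hcop.isPrimePow_dvd_mul hpp).mp dvd_rfl with h1 | h1
      · have := Nat.le_of_dvd (orderOf_pos x) h1
        have := orderOf_pos x
        have := hq.two_le
        rw [hzo] at *
        nlinarith
      · have := Nat.le_of_dvd (orderOf_pos (z : G)) h1
        have h2 : orderOf x ≠ 1 := fun e => hx (orderOf_eq_one_iff.mp e ▸ one_mem N)
        have := orderOf_pos x
        have := orderOf_pos (z : G)
        have : 2 ≤ orderOf x := by omega
        nlinarith

theorem isSolvable_of_normal_coatom {S : Subgroup G} [S.Normal] (hS : IsCoatom S)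
    [Group.IsSolvable S] : Group.IsSolvable G := by
  obtain ⟨g, hg⟩ : ∃ g, g ∉ S := by
    by_contra hno; push Not at hno
    exact hS.1 (eq_top_iff.mpr fun g _ => hno g)
  have htop : (zpowers (QuotientGroup.mk' S g)).comap (QuotientGroup.mk' S) = ⊤ := by
    refine hS.2 _ (lt_of_le_of_ne (fun x hx => ?_) fun e => hg ?_)
    · rw [mem_comap, show QuotientGroup.mk' S x = 1 from (QuotientGroup.eq_one_iff _).mpr hx]
      exact one_mem _
    · rw [e]; exact mem_zpowers _
  haveI : IsCyclic (G ⧸ S) := by
    refine isCyclic_iff_exists_zpowers_eq_top.mpr ⟨QuotientGroup.mk' S g, ?_⟩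
    rw [← map_comap_eq_self_of_surjective (QuotientGroup.mk'_surjective S) (zpowers _), htop,
      map_top_of_surjective _ (QuotientGroup.mk'_surjective S)]
  letI : CommGroup (G ⧸ S) := IsCyclic.commGroup
  exact solvable_of_ker_le_range S.subtype (QuotientGroup.mk' S) (by simp)

theorem isSolvable_aux : ∀ (n : ℕ) (G : Type u) [Group G] [Finite G], Nat.card G = n →
    ∀ N : Subgroup G, N.Normal → N ≠ ⊤ →
      (∀ x : G, x ∉ N → IsPrimePow (orderOf x) ∧ IsCoatom (centralizer ({x} : Set G))) →
      Group.IsSolvable N := by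
  intro n
  induction n using Nat.strong_induction_on with
  | _ n ih =>
  intro G _ _ hn N hNn hN h
  haveI := hNn
  classical
  by_contra hns
  have hGs : ¬ Group.IsSolvable G := fun hs => hns (haveI := hs; inferInstance)
  obtain ⟨x, hx⟩ : ∃ x, x ∉ N := by
    by_contra hno; push Not at hno
    exact hN (eq_top_iff.mpr fun g _ => hno g)
  obtain ⟨p, k, hp, hk, hpk⟩ := (isPrimePow_nat_iff _).mp (h x hx).1
  haveI := Fact.mk hp
  have hSp0 := eq_of_commuting (fun y hy => (h y hy).1) hx hp hpk.symm
  -- a maximal `p`-subgroup is a self-normalizing Sylow subgroup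
  have hmax : ∀ {U : Subgroup G}, IsCoatom U → IsPGroup p U →
      (∃ P : Sylow p G, (P : Subgroup G) = U) ∧ normalizer (U : Set G) = U := by
    intro U hU hUp
    obtain ⟨P, hP⟩ := hUp.exists_le_sylow
    have hPt : (P : Subgroup G) ≠ ⊤ := fun e => hGs (by
      haveI : Group.IsNilpotent G :=
        ((e ▸ P.2 : IsPGroup p (⊤ : Subgroup G)).of_equiv Subgroup.topEquiv).isNilpotent
      infer_instance)
    refine ⟨⟨P, ?_⟩, ?_⟩
    · by_contra hne
      exact hPt (hU.2 _ (lt_of_le_of_ne hP (Ne.symm hne)))
    · by_contra hne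
      have := hU.2 _ (lt_of_le_of_ne le_normalizer (Ne.symm hne))
      haveI := normalizer_eq_top_iff.mp this
      haveI := hUp.isNilpotent
      exact hGs (isSolvable_of_normal_coatom hU)
  set S := centralizer ({x} : Set G) with hSdef
  obtain ⟨⟨P, hPS⟩, hNS⟩ : (∃ P : Sylow p G, (P : Subgroup G) = S) ∧ normalizer (S : Set G) = S :=
    hmax (h x hx).2 hSp0
  have hSN : S ⊔ N = ⊤ := by
    by_contra hne
    have : S ⊔ N = S := by
      by_contra hne'
      exact hne ((h x hx).2.2 _ (lt_of_le_of_ne le_sup_left (Ne.symm hne')))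
    have hle : N ≤ S := le_sup_right.trans this.le
    haveI := (hSp0.to_le hle).isNilpotent
    exact hns inferInstance
  -- the quotient is a `p`-group
  have hQ : IsPGroup p (G ⧸ N) := by
    refine IsPGroup.of_surjective hSp0 ((QuotientGroup.mk' N).comp S.subtype) fun z => ?_
    obtain ⟨g, rfl⟩ := QuotientGroup.mk'_surjective N z
    have hg : g ∈ S ⊔ N := hSN ▸ mem_top g
    rw [← SetLike.mem_coe, mul_normal] at hg
    obtain ⟨s, hs, m, hm, rfl⟩ := hg
    refine ⟨⟨s, hs⟩, ?_⟩
    show QuotientGroup.mk' N s = QuotientGroup.mk' N (s * m)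
    rw [map_mul, show QuotientGroup.mk' N m = 1 from (QuotientGroup.eq_one_iff _).mpr hm, mul_one]
  have hCy : ∀ y, y ∉ N → IsPGroup p (centralizer ({y} : Set G)) := by
    intro y hy
    obtain ⟨q, j, hq, hj, hqj⟩ := (isPrimePow_nat_iff _).mp (h y hy).1
    have hqp : q = p := by
      obtain ⟨i, hi⟩ := IsPGroup.iff_orderOf.mp hQ (QuotientGroup.mk' N y)
      have hd : orderOf (QuotientGroup.mk' N y) ∣ q ^ j := hqj ▸ orderOf_map_dvd _ y
      rw [hi] at hd
      rcases Nat.eq_zero_or_pos i with rfl | hi0
      · exfalso; apply hy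
        rw [pow_zero, orderOf_eq_one_iff] at hi
        exact (QuotientGroup.eq_one_iff _).mp hi
      · exact ((Nat.prime_dvd_prime_iff_eq hp hq).mp
          (hp.dvd_of_dvd_pow ((dvd_pow_self p hi0.ne').trans hd))).symm
    exact eq_of_commuting (fun z hz => (h z hz).1) hy hp (hqp ▸ hqj.symm)
  have hqN : ∀ {g : G} {q : ℕ}, q.Prime → q ≠ p → orderOf g = q → g ∈ N := by
    intro g q hq hqp hg
    obtain ⟨i, hi⟩ := IsPGroup.iff_orderOf.mp hQ (QuotientGroup.mk' N g)
    have hd : orderOf (QuotientGroup.mk' N g) ∣ q := hg ▸ orderOf_map_dvd _ g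
    rcases (Nat.dvd_prime hq).mp hd with h1 | h1
    · exact (QuotientGroup.eq_one_iff _).mp (orderOf_eq_one_iff.mp h1)
    · exfalso
      rw [h1] at hi
      exact hqp ((Nat.prime_dvd_prime_iff_eq hq hp).mp (hq.dvd_of_dvd_pow (dvd_of_eq hi)))
  by_cases hZ : center G ≠ ⊥
  · -- reduction modulo the centre
    set Z := center G with hZdef
    have hZN : Z ≤ N := fun c hc => by
      by_contra hcN
      refine (h c hcN).2.1 (eq_top_iff.mpr fun g _ => mem_centralizer_singleton_iff.mpr ?_)
      exact mem_center_iff.mp hc g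
    have hZS : Z ≤ S := fun c hc => mem_centralizer_singleton_iff.mpr (mem_center_iff.mp hc x).symm
    haveI := (hSp0.to_le hZS).isNilpotent
    have hlt : Nat.card (G ⧸ Z) < n := by
      rw [← hn, ← Z.card_mul_index, ← Subgroup.index_eq_card]
      exact lt_mul_of_one_lt_left (Nat.pos_of_ne_zero index_ne_zero_of_finite)
        ((one_lt_card_iff_ne_bot Z).mpr hZ)
    set q := QuotientGroup.mk' Z with hq
    have hker : q.ker = Z := QuotientGroup.ker_mk' Z
    have hNq : (N.map q).comap q = N := by rw [comap_map_eq, hker, sup_eq_left.mpr hZN]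
    have hNn' : (N.map q).Normal := hNn.map q (QuotientGroup.mk'_surjective Z)
    have hNt' : N.map q ≠ ⊤ := fun e => hN (by rw [← hNq, e, comap_top])
    have hih := ih _ hlt (G ⧸ Z) rfl (N.map q) hNn' hNt' fun z hz => by
      obtain ⟨y, rfl⟩ := QuotientGroup.mk'_surjective Z z
      have hy : y ∉ N := fun h' => hz (mem_map_of_mem q h')
      obtain ⟨l, j, hl, hj, hlj⟩ := (isPrimePow_nat_iff _).mp (h y hy).1
      refine ⟨?_, ?_⟩
      · obtain ⟨i, hi, hi'⟩ := (Nat.dvd_prime_pow hl).mp (hlj ▸ orderOf_map_dvd q y)
        rcases Nat.eq_zero_or_pos i with rfl | hi0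
        · exfalso; apply hz
          rw [pow_zero, orderOf_eq_one_iff] at hi'
          rw [hi']; exact one_mem _
        · exact (isPrimePow_nat_iff _).mpr ⟨l, i, hl, hi0, hi'.symm⟩
      · have hle : centralizer ({y} : Set G) ≤ (centralizer ({q y} : Set _)).comap q := fun c hc => by
          rw [mem_comap, mem_centralizer_singleton_iff, ← map_mul, ← map_mul,
            mem_centralizer_singleton_iff.mp hc]
        have hne : (centralizer ({q y} : Set _)).comap q ≠ ⊤ := by
          intro htop
          have hnorm : (centralizer ({y} : Set G)).Normal := ⟨fun c hc g => by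
            have hg : g⁻¹ * y * g * y⁻¹ ∈ Z := by
              rw [← hker, MonoidHom.mem_ker]
              have : g⁻¹ ∈ (centralizer ({q y} : Set _)).comap q := htop ▸ mem_top _
              rw [mem_comap, mem_centralizer_singleton_iff] at this
              rw [map_mul, map_mul, map_mul, this, map_inv q g, mul_assoc (q y), inv_mul_cancel, mul_one,
                map_inv q y, mul_inv_cancel]
            rw [mem_centralizer_singleton_iff] at hc ⊢
            have h1 : c * (g⁻¹ * y * g) = g⁻¹ * y * g * c := by
              have e : g⁻¹ * y * g = g⁻¹ * y * g * y⁻¹ * y := by group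
              rw [e, ← mul_assoc c, (mem_center_iff.mp hg c), mul_assoc, hc, ← mul_assoc]
            calc g * c * g⁻¹ * y = g * (c * (g⁻¹ * y * g)) * g⁻¹ := by group
              _ = g * (g⁻¹ * y * g * c) * g⁻¹ := by rw [h1]
              _ = _ := by group⟩
          haveI := hnorm
          haveI := (hCy y hy).isNilpotent
          exact hGs (isSolvable_of_normal_coatom (h y hy).2)
        have heq : (centralizer ({q y} : Set _)).comap q = centralizer ({y} : Set G) := by
          by_contra hne'
          exact hne ((h y hy).2.2 _ (lt_of_le_of_ne hle (Ne.symm hne')))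
        refine ⟨fun e => hne (by rw [e, comap_top]), fun U hU => ?_⟩
        have h1 : (centralizer ({y} : Set G)) < U.comap q := by
          rw [← heq]
          exact lt_of_le_of_ne (comap_mono hU.le) fun e =>
            hU.ne (comap_injective (QuotientGroup.mk'_surjective Z) e)
        rw [← map_comap_eq_self_of_surjective (QuotientGroup.mk'_surjective Z) U, ← hq,
          (h y hy).2.2 _ h1, map_top_of_surjective _ (QuotientGroup.mk'_surjective Z)]
    apply hns
    haveI := hih
    let f : N →* N.map q := q.subgroupMap N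
    refine solvable_of_ker_le_range (inclusion hZN) f fun c hc => ?_
    have : q (c : G) = 1 := congrArg Subtype.val hc
    exact ⟨⟨c, hker ▸ MonoidHom.mem_ker.mpr this⟩, Subtype.ext rfl⟩
  · push Not at hZ
    -- the Sylow subgroups have trivial intersection
    have hxS : x ∈ S := mem_centralizer_singleton_iff.mpr rfl
    have hTI : ∀ T : Sylow p G, T ≠ P → (T : Subgroup G) ⊓ S = ⊥ := by
      by_contra hno
      push Not at hno
      obtain ⟨T₀, hT₀, hT₀D⟩ := hno
      obtain ⟨T, hT, hTmax⟩ := Set.exists_max_image {T : Sylow p G | T ≠ P}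
        (fun T => Nat.card ((T : Subgroup G) ⊓ S : Subgroup G)) (Set.toFinite _) ⟨T₀, hT₀⟩
      set D := (T : Subgroup G) ⊓ S with hD
      have hD1 : D ≠ ⊥ := fun e => by
        have := hTmax T₀ hT₀
        simp only [← hD, e, Subgroup.card_bot] at this
        exact absurd this (not_le.mpr ((one_lt_card_iff_ne_bot _).mpr hT₀D))
      have keyS : ∀ U : Sylow p G, D < (U : Subgroup G) ⊓ S → U = P := by
        intro U hU
        by_contra hne
        have h1 := hTmax U hne
        exact hU.ne (Subgroup.eq_of_le_of_card_ge hU.le h1)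
      obtain ⟨g, hg⟩ := MulAction.exists_smul_eq G P T
      have hTg : ((T : Subgroup G)) = MulAut.conj g • S := by
        rw [← hg, ← hPS]; rfl
      have keyT : ∀ U : Sylow p G, D < (U : Subgroup G) ⊓ T → U = T := by
        intro U hU
        by_contra hne
        have hne' : g⁻¹ • U ≠ P := fun e => hne (by rw [← hg, ← e, smul_inv_smul])
        have h1 := hTmax _ hne'
        have h2 : Nat.card ((((g⁻¹ • U : Sylow p G) : Subgroup G) ⊓ S : Subgroup G)) =
            Nat.card (((U : Subgroup G) ⊓ T : Subgroup G)) := by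
          rw [Sylow.coe_subgroup_smul, hTg]
          conv_rhs => rw [← CfsgLib.Core.card_conj_smul g⁻¹, Subgroup.smul_inf]
          rw [smul_smul, ← map_mul, inv_mul_cancel, map_one, one_smul]
        rw [h2] at h1
        exact hU.ne (Subgroup.eq_of_le_of_card_ge hU.le h1)
      have hDlt : D < S := lt_of_le_of_ne inf_le_right fun e => hT (Sylow.ext (by
        have hle : S ≤ (T : Subgroup G) := e ▸ inf_le_left
        rw [hPS]
        exact (Subgroup.eq_of_le_of_card_ge hle (by rw [← hPS, Sylow.card_eq_multiplicity, Sylow.card_eq_multiplicity])).symm))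
      have hDltT : D < (T : Subgroup G) := lt_of_le_of_ne inf_le_left fun e => hT (Sylow.ext (by
        have hle : (T : Subgroup G) ≤ S := e ▸ inf_le_right
        rw [hPS]
        exact Subgroup.eq_of_le_of_card_ge hle (by rw [← hPS, Sylow.card_eq_multiplicity, Sylow.card_eq_multiplicity])))
      have grow : ∀ {W : Subgroup G}, IsPGroup p W → D < W → D < normalizer (D : Set G) ⊓ W := by
        intro W hW hlt
        haveI := hW.isNilpotent
        have hlt' : D.subgroupOf W < ⊤ := lt_top_iff_ne_top.mpr fun e =>
          hlt.not_ge (subgroupOf_eq_top.mp e)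
        have h1 := Group.normalizerCondition_of_isNilpotent _ hlt'
        refine lt_of_le_of_ne (le_inf le_normalizer hlt.le) fun e => h1.ne ?_
        rw [← subgroupOf_normalizer_eq hlt.le]
        ext w
        constructor
        · exact fun hw => le_normalizer (H := D) hw
        · exact fun hw => (e.ge ⟨hw, w.2⟩ : (w : G) ∈ D)
      -- an element of order prime to `p` normalizes D
      obtain ⟨q, hq, hqp, kk, hkD, hko⟩ : ∃ q, q.Prime ∧ q ≠ p ∧ ∃ kk ∈ normalizer (D : Set G),
          orderOf kk = q := by
        by_contra hno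
        push Not at hno
        have hM : IsPGroup p (normalizer (D : Set G)) :=
          IsPGroup.of_card (n := (Nat.card (normalizer (D : Set G))).primeFactorsList.length)
            (Nat.eq_prime_pow_of_unique_prime_dvd Nat.card_pos.ne' fun {q} hq hqd => by
              by_contra hqp
              haveI := Fact.mk hq
              obtain ⟨c, hc⟩ := exists_prime_orderOf_dvd_card' q hqd
              exact hno q hq hqp c c.2 (by rw [Subgroup.orderOf_coe, hc]))
        obtain ⟨U, hU⟩ := hM.exists_le_sylow
        have hUP : U = P := keyS U ((grow hSp0 hDlt).trans_le (inf_le_inf_right S hU))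
        have h2 := (grow T.2 hDltT).trans_le (inf_le_inf_right (T : Subgroup G) (hUP ▸ hU))
        rw [hPS, inf_comm, ← hD] at h2
        exact lt_irrefl _ h2
      -- hence D lies in N
      have hDN : D ≤ N := by
        intro d hd
        by_contra hdN
        have hkN := hqN hq hqp hko
        have hkd : kk * d * kk⁻¹ ∈ D := (mem_normalizer_iff.mp hkD d).mp hd
        obtain ⟨m, hm, hcm⟩ := CfsgLib.Core.exists_centralizing_in_coset (A := zpowers kk)
          (N := D ⊓ N) (k := d)
          (fun a ha => by
            have h1 : a ∈ normalizer (D : Set G) := zpowers_le.mpr hkD ha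
            refine mem_normalizer_iff.mpr fun c => ⟨fun hc => ⟨(mem_normalizer_iff.mp h1 c).mp hc.1,
              hNn.conj_mem c hc.2 a⟩, fun hc => ⟨(mem_normalizer_iff.mp h1 c).mpr hc.1, ?_⟩⟩
            simpa [mul_assoc] using hNn.conj_mem _ hc.2 a⁻¹)
          (by
            obtain ⟨i, hi⟩ := IsPGroup.iff_card.mp
              (T.2.to_le ((inf_le_left : D ⊓ N ≤ D).trans inf_le_left))
            rw [Nat.card_zpowers, hko, hi]
            exact ((Nat.coprime_primes hq hp).mpr hqp).pow_right i)
          (Or.inl (Group.isSolvable_of_comm fun a b => Subtype.ext (by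
            obtain ⟨i, hi⟩ := mem_zpowers_iff.mp a.2
            obtain ⟨j, hj⟩ := mem_zpowers_iff.mp b.2
            show (a : G) * b = b * a
            rw [← hi, ← hj, ← zpow_add, ← zpow_add, add_comm])))
          (fun a ha => by
            have h1 : a ∈ normalizer (D : Set G) := zpowers_le.mpr hkD ha
            have haN : a ∈ N := zpowers_le.mpr hkN ha
            refine ⟨D.mul_mem (D.inv_mem hd) ((mem_normalizer_iff.mp h1 d).mp hd), ?_⟩
            have := N.mul_mem (hNn.conj_mem _ haN d⁻¹) (N.inv_mem haN)
            simpa [mul_assoc] using this)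
        have hdm : d * m ∉ N := fun h' => hdN ((N.mul_mem_cancel_right hm.2).mp h')
        have hkC : kk ∈ centralizer ({d * m} : Set G) :=
          mem_centralizer_singleton_iff.mpr (mem_centralizer_iff.mp hcm kk (mem_zpowers kk))
        obtain ⟨i, hi⟩ := IsPGroup.iff_orderOf.mp (hCy _ hdm) ⟨kk, hkC⟩
        rw [Subgroup.orderOf_mk, hko] at hi
        exact hqp ((Nat.prime_dvd_prime_iff_eq hq hp).mp (hq.dvd_of_dvd_pow (dvd_of_eq hi)))
      -- a central element of D is central
      obtain ⟨d, hdmem, hd1⟩ : ∃ d ∈ D ⊓ centralizer (D : Set G), d ≠ 1 := by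
        by_contra hno
        push Not at hno
        exact PrimePowerOutside.center_part_ne_bot (hSp0.to_le inf_le_right) hD1
          ((eq_bot_iff_forall _).mpr hno)
      have hdc : ∀ e ∈ D, e * d = d * e := fun e he => mem_centralizer_iff.mp hdmem.2 e he
      have main : ∀ (W : Sylow p G) (w : G), w ∈ (W : Subgroup G) → w ∉ N →
          centralizer ({w} : Set G) = W → D ≤ (W : Subgroup G) →
          (∀ U : Sylow p G, D < (U : Subgroup G) ⊓ W → U = W) →
          (W : Subgroup G) ≤ centralizer ({d} : Set G) := by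
        intro W w hwW hwN hW hDW hkey
        have hwd : w * d ∉ N := fun h' => hwN ((N.mul_mem_cancel_right (hDN hdmem.1)).mp h')
        obtain ⟨⟨U, hU⟩, -⟩ := hmax (h _ hwd).2 (hCy _ hwd)
        have hDw : ∀ e ∈ D, e * w = w * e := fun e he => mem_centralizer_singleton_iff.mp (hW.ge (hDW he))
        have hUW : U = W := by
          refine hkey U (lt_of_le_of_ne (fun e he => ⟨?_, hDW he⟩) fun e => hwN (hDN (e.ge ⟨?_, hwW⟩)))
          · refine hU.ge (mem_centralizer_singleton_iff.mpr ?_)
            rw [← mul_assoc, hDw e he, mul_assoc, hdc e he, ← mul_assoc]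
          · refine hU.ge (mem_centralizer_singleton_iff.mpr ?_)
            rw [mul_assoc, hDw d hdmem.1]
        intro s hs
        have h1 : s * (w * d) = w * d * s := mem_centralizer_singleton_iff.mp (hU.le (hUW ▸ hs))
        have h2 : s * w = w * s := mem_centralizer_singleton_iff.mp (hW.ge hs)
        rw [mem_centralizer_singleton_iff]
        rw [← mul_assoc, h2, mul_assoc w, mul_assoc w] at h1
        exact mul_left_cancel h1
      have hC1 := main P x (hPS.ge hxS) hx hPS.symm (hPS ▸ inf_le_right) (hPS ▸ keyS)
      have hwT : centralizer ({g * x * g⁻¹} : Set G) = T := by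
        rw [hTg, hSdef]
        ext y
        rw [CfsgLib.Core.mem_conj_smul_iff, mem_centralizer_singleton_iff, mem_centralizer_singleton_iff]
        constructor <;> intro hy
        · calc g⁻¹ * y * g * x = g⁻¹ * (y * (g * x * g⁻¹)) * g := by group
            _ = g⁻¹ * (g * x * g⁻¹ * y) * g := by rw [hy]
            _ = _ := by group
        · calc y * (g * x * g⁻¹) = g * (g⁻¹ * y * g * x) * g⁻¹ := by group
            _ = g * (x * (g⁻¹ * y * g)) * g⁻¹ := by rw [hy]
            _ = _ := by group
      have hC2 := main T (g * x * g⁻¹) (hwT.le (mem_centralizer_singleton_iff.mpr rfl))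
        (fun h' => hx (by simpa [mul_assoc] using hNn.conj_mem _ h' g⁻¹)) hwT inf_le_left keyT
      have hne : centralizer ({d} : Set G) ≠ ⊤ := fun e => hd1 (by
        have : d ∈ center G := mem_center_iff.mpr fun y =>
          mem_centralizer_singleton_iff.mp (e.ge (mem_top y))
        rw [hZ, mem_bot] at this
        exact this)
      have heq : centralizer ({d} : Set G) = S := by
        by_contra hne'
        exact hne ((h x hx).2.2 _ (lt_of_le_of_ne (hPS.ge.trans hC1) (Ne.symm hne')))
      exact hT (Sylow.ext (by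
        rw [hPS]
        exact Subgroup.eq_of_le_of_card_ge (heq ▸ hC2)
          (by rw [← hPS, Sylow.card_eq_multiplicity, Sylow.card_eq_multiplicity])))
    have hS1 : S ≠ ⊥ := fun e => hx (by
      rw [e, mem_bot] at hxS; rw [hxS]; exact one_mem N)
    have hFrob : Cfsg.IsFrobeniusComplement S := by
      refine ⟨hS1, (h x hx).2.1, fun g hg => ?_⟩
      rw [inf_comm, ← hPS]
      have hne : g • P ≠ P := fun e => hg (by
        rw [Sylow.smul_eq_iff_mem_normalizer] at e
        have e' : g ∈ normalizer (S : Set G) := hPS ▸ e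
        rw [hNS] at e'
        exact e')
      have := hTI _ hne
      rw [← hPS] at this
      exact this
    obtain ⟨K, -, hKn, hc, hK1, -⟩ := CfsgLib.Core.FrobeniusConj.exists_kernel hFrob
    haveI := hKn
    have hKcop : (Nat.card S).Coprime (Nat.card K) := by
      obtain ⟨i, hi⟩ := IsPGroup.iff_card.mp hSp0
      have h1 : S.index = Nat.card K := hc.index_eq_card
      rw [hi, ← h1, ← hPS]
      exact ((Nat.Prime.coprime_iff_not_dvd hp).mpr P.not_dvd_index).pow_left i
    obtain ⟨q, hq, hqK⟩ := Nat.exists_prime_and_dvd (n := Nat.card K) fun e => hK1 (card_eq_one.mp e)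
    haveI := Fact.mk hq
    haveI := hSp0.isNilpotent
    obtain ⟨Q, hQn⟩ := CfsgLib.Core.exists_invariant_sylow (A := S) (K := K)
      (by rw [normalizer_eq_top_iff.mpr hKn]; exact le_top) hKcop (Or.inl inferInstance) q
    set Q' := (Q : Subgroup K).map K.subtype with hQ'
    have hQ1 : Q' ≠ ⊥ := by
      rw [hQ', Ne, map_eq_bot_iff_of_injective _ K.subtype_injective]
      exact Q.ne_bot_of_dvd_card hqK
    have hQS : ¬ Q' ≤ S := fun hle => hQ1 (eq_bot_iff.mpr fun c hc' =>
      hc.disjoint.le_bot ⟨map_subtype_le _ hc', hle hc'⟩)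
    have hQtop : S ⊔ Q' = ⊤ := (h x hx).2.2 _ (lt_of_le_of_ne le_sup_left fun e => hQS (le_sup_right.trans e.ge))
    haveI : Q'.Normal := normalizer_eq_top_iff.mp (eq_top_iff.mpr (hQtop ▸ sup_le hQn le_normalizer))
    have hQq : IsPGroup q Q' := Q.2.map _
    haveI := hQq.isNilpotent
    haveI : Group.IsSolvable (G ⧸ Q') := by
      refine solvable_of_surjective (f := (QuotientGroup.mk' Q').comp S.subtype) fun z => ?_
      obtain ⟨w, rfl⟩ := QuotientGroup.mk'_surjective Q' z
      have hg : w ∈ S ⊔ Q' := hQtop ▸ mem_top w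
      rw [← SetLike.mem_coe, mul_normal] at hg
      obtain ⟨s, hs, m, hm, rfl⟩ := hg
      refine ⟨⟨s, hs⟩, ?_⟩
      show QuotientGroup.mk' Q' s = QuotientGroup.mk' Q' (s * m)
      rw [map_mul, show QuotientGroup.mk' Q' m = 1 from (QuotientGroup.eq_one_iff _).mpr hm, mul_one]
    exact hGs (solvable_of_ker_le_range Q'.subtype (QuotientGroup.mk' Q') (by simp))

/-- The theorem. -/
theorem isSolvable (N : Subgroup G) [hN : N.Normal] (hne : N ≠ ⊤)
    (h : ∀ x : G, x ∉ N → IsPrimePow (orderOf x) ∧ IsCoatom (centralizer ({x} : Set G))) :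
    Group.IsSolvable N :=
  isSolvable_aux _ G rfl N hN hne h

end CfsgLib.PGroups.MaximalCentralizers
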