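/-
Minimal covers of a centre-free group by nilpotent subgroups, at an abelian Sylow subgroup.
-/
import Mathlib
import Cfsg.Prelude.Def_Transfer
import Cfsg.Agent.Lib.HallGen.Basic
import Cfsg.Agent.Lib.OddLocal.FittingHall
import Cfsg.Agent.Lib.Transfer.Conj
import Cfsg.Agent.S3889

set_option linter.style.haveILetI false

namespace CfsgLib.PGroups.NilCover

open scoped IsMulCommutative Pointwise

variable {G : Type*} [Group G] [Finite G] {𝓐 : Finset (Subgroup G)}
  (h𝓐 : ((∀ A ∈ 𝓐, A ≠ ⊤) ∧ (∀ g : G, ∃ A ∈ 𝓐, g ∈ A)) ∧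
    (∀ 𝓑 : Finset (Subgroup G), (∀ A ∈ 𝓑, A ≠ ⊤) ∧ (∀ g : G, ∃ A ∈ 𝓑, g ∈ A) →
      𝓐.card ≤ 𝓑.card) ∧ (∀ A ∈ 𝓐, Group.IsNilpotent ↥A))
  {p : ℕ} [Fact p.Prime] (P : Sylow p G) (hab : IsMulCommutative ↥(P : Subgroup G))

include h𝓐 in
/-- Two members of a minimal cover generate the group. -/
theorem not_both_le {A B : Subgroup G} (hA : A ∈ 𝓐) (hB : B ∈ 𝓐) {M : Subgroup G}
    (hAM : A ≤ M) (hBM : B ≤ M) (hM : M ≠ ⊤) : A = B := by
  classical
  by_contra hne
  have h := h𝓐.2.1 (insert M ((𝓐.erase A).erase B)) ⟨?_, ?_⟩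
  · have h1 := Finset.card_insert_le M ((𝓐.erase A).erase B)
    rw [Finset.card_erase_of_mem (Finset.mem_erase.mpr ⟨Ne.symm hne, hB⟩),
      Finset.card_erase_of_mem hA] at h1
    have : 2 ≤ 𝓐.card := by
      rw [← Finset.card_pair hne]
      exact Finset.card_le_card (by simp [Finset.insert_subset_iff, hA, hB])
    omega
  · intro C hC
    rcases Finset.mem_insert.mp hC with rfl | hC
    · exact hM
    · exact h𝓐.1.1 C (Finset.mem_of_mem_erase (Finset.mem_of_mem_erase hC))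
  · intro g
    obtain ⟨C, hC, hgC⟩ := h𝓐.1.2 g
    by_cases h1 : C = A
    · exact ⟨M, Finset.mem_insert_self _ _, hAM (h1 ▸ hgC)⟩
    by_cases h2 : C = B
    · exact ⟨M, Finset.mem_insert_self _ _, hBM (h2 ▸ hgC)⟩
    exact ⟨C, Finset.mem_insert_of_mem (Finset.mem_erase.mpr ⟨h2, Finset.mem_erase.mpr ⟨h1, hC⟩⟩), hgC⟩

include hab in
omit h𝓐 in
theorem commute_of_isPGroup {Q : Subgroup G} (hQ : IsPGroup p Q) {x y : G} (hx : x ∈ Q)
    (hy : y ∈ Q) : x * y = y * x := by
  obtain ⟨S, hS⟩ := hQ.exists_le_sylow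
  obtain ⟨g, rfl⟩ := MulAction.exists_smul_eq G P S
  obtain ⟨a, ha, rfl⟩ := (hS hx : x ∈ (P : Subgroup G).map (MulAut.conj g).toMonoidHom)
  obtain ⟨b, hb, rfl⟩ := (hS hy : y ∈ (P : Subgroup G).map (MulAut.conj g).toMonoidHom)
  have h : a * b = b * a := by
    simpa using congrArg Subtype.val (hab.is_comm.comm (⟨a, ha⟩ : (P : Subgroup G)) ⟨b, hb⟩)
  change MulAut.conj g a * MulAut.conj g b = MulAut.conj g b * MulAut.conj g a
  rw [← map_mul, h, map_mul]

include h𝓐 hab in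
/-- In a member of the cover the `p`-elements are central. -/
theorem central_of_mem {A : Subgroup G} (hA : A ∈ 𝓐) {x : G} (hx : x ∈ A)
    (hxp : ∃ k : ℕ, orderOf x = p ^ k) : A ≤ Subgroup.centralizer {x} := by
  intro y hy
  have hnil := h𝓐.2.2 A hA
  obtain ⟨k, hk⟩ := hxp
  refine CfsgLib.HallGen.mem_of_primePow_parts _ y fun z hz q m hq hzq => ?_
  rw [Subgroup.mem_centralizer_singleton_iff]
  have hzA : z ∈ A := Subgroup.zpowers_le.mpr hy hz
  by_cases hqp : q = p
  · subst hqp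
    obtain ⟨T⟩ : Nonempty (Sylow q A) := inferInstance
    have h03 : ∀ (r : ℕ) (_hr : Fact r.Prime) (P : Sylow r A), (P : Subgroup A).Normal :=
      ((Group.isNilpotent_of_finite_tfae (G := A)).out 0 3).mp hnil
    haveI : (T : Subgroup A).Normal := h03 q inferInstance T
    have hmem : ∀ w : A, (∃ j, orderOf w = q ^ j) → w ∈ (T : Subgroup A) := by
      rintro w ⟨j, hj⟩
      have hw : IsPGroup q (Subgroup.zpowers w) := IsPGroup.of_card (by rw [Nat.card_zpowers, hj])
      exact (T.is_maximal' (hw.to_sup_of_normal_right T.isPGroup') le_sup_right).le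
        (Subgroup.mem_sup_left (Subgroup.mem_zpowers w))
    have h1 := hmem ⟨x, hx⟩ ⟨k, by rw [← Subgroup.orderOf_coe]; exact hk⟩
    have h2 := hmem ⟨z, hzA⟩ ⟨m, by rw [← Subgroup.orderOf_coe]; exact hzq⟩
    exact commute_of_isPGroup P hab (T.isPGroup'.map A.subtype) ⟨_, h2, rfl⟩ ⟨_, h1, rfl⟩
  · have hcop : (orderOf (⟨z, hzA⟩ : A)).Coprime (orderOf (⟨x, hx⟩ : A)) := by
      rw [← Subgroup.orderOf_coe, ← Subgroup.orderOf_coe, hk, hzq]
      exact Nat.Coprime.pow _ _ ((Nat.coprime_primes hq (Fact.out : p.Prime)).mpr hqp)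
    exact congrArg Subtype.val (CfsgLib.OddLocal.commute_of_coprime_orderOf hnil hcop).eq

include h𝓐 hab in
/-- A nontrivial `p`-element lies in exactly one member. -/
theorem unique_member (hZ : Subgroup.center G = ⊥) {A B : Subgroup G} (hA : A ∈ 𝓐) (hB : B ∈ 𝓐)
    {x : G} (hxA : x ∈ A) (hxB : x ∈ B) (hxp : ∃ k : ℕ, orderOf x = p ^ k) (hx : x ≠ 1) :
    A = B := by
  refine not_both_le h𝓐 hA hB (central_of_mem h𝓐 P hab hA hxA hxp)
    (central_of_mem h𝓐 P hab hB hxB hxp) fun h => hx ?_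
  rw [← Subgroup.mem_bot, ← hZ, Subgroup.mem_center_iff]
  exact fun g => Subgroup.mem_centralizer_singleton_iff.mp (h ▸ Subgroup.mem_top g)

omit h𝓐 in
theorem orderOf_eq_pow {Q : Subgroup G} (hQ : IsPGroup p Q) {x : G} (hx : x ∈ Q) :
    ∃ k : ℕ, orderOf x = p ^ k := by
  obtain ⟨k, hk⟩ := IsPGroup.iff_orderOf.mp hQ ⟨x, hx⟩
  exact ⟨k, by simpa using hk⟩

include h𝓐 in
/-- A Sylow subgroup is elementary and noncyclic, or lies in a member. -/
theorem elementary_or_le (hZ : Subgroup.center G = ⊥)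
    (Q : Sylow p G) (habQ : IsMulCommutative ↥(Q : Subgroup G)) :
    (Cfsg.IsElementaryAbelian p (Q : Subgroup G) ∧ p < Nat.card ↥(Q : Subgroup G)) ∨
      ∃ A ∈ 𝓐, (Q : Subgroup G) ≤ A := by
  by_cases h : ∃ A ∈ 𝓐, (Q : Subgroup G) ≤ A
  · exact Or.inr h
  left
  push Not at h
  have hexp := Cfsg.Agent.S3889.result (G := ↥(Q : Subgroup G))
    ((fun A : Subgroup G => A.subgroupOf (Q : Subgroup G)) '' (↑𝓐 : Set (Subgroup G))) ?_ ?_ ?_
  · have hp2 : p < Nat.card ↥(Q : Subgroup G) := by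
      by_contra hle
      obtain ⟨n, hn⟩ := IsPGroup.iff_card.mp Q.isPGroup'
      rw [hn, not_lt] at hle
      have hn1 : n ≤ 1 :=
        (Nat.pow_le_pow_iff_right (Fact.out : p.Prime).one_lt).mp (by rw [pow_one]; exact hle)
      haveI : IsCyclic ↥(Q : Subgroup G) := by
        interval_cases n
        · haveI : Subsingleton ↥(Q : Subgroup G) :=
            (Nat.card_eq_one_iff_unique.mp (by simpa using hn)).1
          exact isCyclic_of_subsingleton
        · exact isCyclic_of_prime_card (p := p) (by simpa using hn)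
      obtain ⟨⟨g, hg⟩, hgen⟩ := IsCyclic.exists_generator (α := ↥(Q : Subgroup G))
      obtain ⟨A, hA, hgA⟩ := h𝓐.1.2 g
      refine h A hA fun y hy => ?_
      obtain ⟨j, hj⟩ := Subgroup.mem_zpowers_iff.mp (hgen ⟨y, hy⟩)
      have e : g ^ j = y := by simpa using congrArg Subtype.val hj
      exact e ▸ A.zpow_mem hgA j
    refine ⟨⟨habQ, fun a ha => ?_⟩, hp2⟩
    have he : Monoid.exponent ↥(Q : Subgroup G) = p := by
      obtain ⟨x, hx⟩ := exists_prime_orderOf_dvd_card' (G := ↥(Q : Subgroup G)) p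
        ((Q.isPGroup'.card_eq_or_dvd).resolve_left (by have := (Fact.out : p.Prime).one_lt; omega))
      refine ((Nat.prime_dvd_prime_iff_eq (Fact.out : p.Prime) hexp).mp ?_).symm
      have hd := Monoid.order_dvd_exponent x
      rwa [hx] at hd
    have := Monoid.pow_exponent_eq_one (⟨a, ha⟩ : ↥(Q : Subgroup G))
    rw [he] at this
    simpa using congrArg Subtype.val this
  · rintro _ ⟨A, hA, rfl⟩ htop
    exact h A hA (Subgroup.subgroupOf_eq_top.mp htop)
  · intro g
    obtain ⟨A, hA, hgA⟩ := h𝓐.1.2 (g : G)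
    exact ⟨_, ⟨A, hA, rfl⟩, hgA⟩
  · rintro _ ⟨A, hA, rfl⟩ _ ⟨B, hB, rfl⟩ hne
    rw [Subgroup.eq_bot_iff_forall]
    rintro x ⟨hxA, hxB⟩
    by_contra hx
    exact hne (by rw [unique_member h𝓐 Q habQ hZ hA hB hxA hxB (orderOf_eq_pow Q.isPGroup' x.2)
      (fun e => hx (Subtype.ext e))])

include h𝓐 hab in
/-- The structure when `P` is not elementary noncyclic. -/
theorem main (hZ : Subgroup.center G = ⊥) (hnn : ¬ (P : Subgroup G).Normal)
    (hne : ¬ (Cfsg.IsElementaryAbelian p (P : Subgroup G) ∧ p < Nat.card ↥(P : Subgroup G))) :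
    ∃ A ∈ 𝓐, (P : Subgroup G) ≤ A ∧ ¬ p ∣ ((P : Subgroup G).subgroupOf A).index ∧
      Subgroup.centralizer ((P : Subgroup G) : Set G) = A ∧
      IsCoatom (Subgroup.normalizer ((P : Subgroup G) : Set G)) ∧
      (∀ g : G, g ∉ Subgroup.normalizer ((P : Subgroup G) : Set G) →
        ¬ p ∣ Nat.card ↥(Subgroup.normalizer ((P : Subgroup G) : Set G) ⊓
          (Subgroup.normalizer ((P : Subgroup G) : Set G)).map (MulAut.conj g).toMonoidHom)) ∧
      ∀ M : Subgroup G, IsCoatom M → A ≤ M → M = Subgroup.normalizer ((P : Subgroup G) : Set G) := by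
  obtain ⟨A, hA, hPA⟩ := (elementary_or_le h𝓐 hZ P hab).resolve_left hne
  -- every Sylow subgroup lies in a member
  have hall : ∀ Q : Sylow p G, ∃ B ∈ 𝓐, (Q : Subgroup G) ≤ B := by
    intro Q
    obtain ⟨g, rfl⟩ := MulAction.exists_smul_eq G P Q
    have habQ : IsMulCommutative ↥((g • P : Sylow p G) : Subgroup G) :=
      isMulCommutative_iff.mpr fun a b => Subtype.ext
        (commute_of_isPGroup P hab (g • P).isPGroup' a.2 b.2)
    refine (elementary_or_le h𝓐 hZ (g • P) habQ).resolve_left fun h => hne ?_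
    have hc : Nat.card ↥((g • P : Sylow p G) : Subgroup G) = Nat.card ↥(P : Subgroup G) :=
      CfsgLib.Transfer.card_map_conj g (P : Subgroup G)
    refine ⟨⟨hab, fun a ha => ?_⟩, hc ▸ h.2⟩
    have h1 := h.1.2 (MulAut.conj g a) ⟨a, ha, rfl⟩
    rwa [← map_pow, map_eq_one_iff _ (MulAut.conj g).injective] at h1
  have hPdvd : ¬ p ∣ ((P : Subgroup G).subgroupOf A).index := fun h =>
    P.not_dvd_index (h.trans (Dvd.intro _ (Subgroup.relIndex_mul_index hPA)))
  have hP1 : (P : Subgroup G) ≠ ⊥ := fun h => hnn (h ▸ inferInstance)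
  -- centralisers of nontrivial elements of `P` lie in `A`
  have hC : ∀ x ∈ (P : Subgroup G), x ≠ 1 → Subgroup.centralizer {x} ≤ A := by
    intro x hx hx1 y hy
    have hxp := orderOf_eq_pow P.isPGroup' hx
    refine CfsgLib.HallGen.mem_of_primePow_parts _ y fun z hz q m hq hzq => ?_
    have hzx : Commute z x :=
      Subgroup.mem_centralizer_singleton_iff.mp (Subgroup.zpowers_le.mpr hy hz)
    by_cases hqp : q = p
    · subst hqp
      have hz' : IsPGroup q (Subgroup.zpowers z) := IsPGroup.of_card (by rw [Nat.card_zpowers, hzq])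
      obtain ⟨k, hk⟩ := hxp
      have hx' : IsPGroup q (Subgroup.zpowers x) := IsPGroup.of_card (by rw [Nat.card_zpowers, hk])
      have hU : IsPGroup q (Subgroup.zpowers z ⊔ Subgroup.zpowers x : Subgroup G) := by
        refine hz'.to_sup_of_normal_right' hx' ?_
        rw [Subgroup.zpowers_le]
        refine Subgroup.centralizer_le_normalizer _ (Subgroup.mem_centralizer_iff.mpr fun w hw => ?_)
        obtain ⟨j, rfl⟩ := Subgroup.mem_zpowers_iff.mp hw
        exact ((hzx.zpow_right j).eq).symm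
      obtain ⟨Q, hQ⟩ := hU.exists_le_sylow
      obtain ⟨B, hB, hQB⟩ := hall Q
      have hxB : x ∈ B := hQB (hQ (Subgroup.mem_sup_right (Subgroup.mem_zpowers x)))
      rw [unique_member h𝓐 P hab hZ hA hB (hPA hx) hxB ⟨k, hk⟩ hx1]
      exact hQB (hQ (Subgroup.mem_sup_left (Subgroup.mem_zpowers z)))
    · obtain ⟨B, hB, hxyB⟩ := h𝓐.1.2 (x * z)
      obtain ⟨k, hk⟩ := hxp
      have hcop : (orderOf x).Coprime (orderOf z) := by
        rw [hk, hzq]
        exact Nat.Coprime.pow _ _ ((Nat.coprime_primes (Fact.out : p.Prime) hq).mpr (Ne.symm hqp))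
      obtain ⟨j, hj⟩ : ∃ j : ℕ, (x * z) ^ j = x := by
        obtain ⟨j, hj⟩ := exists_pow_eq_self_of_coprime (Nat.Coprime.symm hcop)
        refine ⟨orderOf z * j, ?_⟩
        rw [pow_mul, hzx.symm.mul_pow, pow_orderOf_eq_one z, mul_one]
        exact hj
      have hxB : x ∈ B := by
        have h1 := B.pow_mem hxyB j
        rwa [hj] at h1
      rw [← unique_member h𝓐 P hab hZ hA hB (hPA hx) hxB ⟨k, hk⟩ hx1] at hxyB
      have h1 := mul_mem (inv_mem (hPA hx)) hxyB
      rwa [inv_mul_cancel_left] at h1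
  have hAC : A ≤ Subgroup.centralizer ((P : Subgroup G) : Set G) := fun y hy =>
    Subgroup.mem_centralizer_iff.mpr fun x hx => (Subgroup.mem_centralizer_singleton_iff.mp
      (central_of_mem h𝓐 P hab hA (hPA hx) (orderOf_eq_pow P.isPGroup' hx) hy)).symm
  obtain ⟨x₀, hx₀, hx₀1⟩ : ∃ x ∈ (P : Subgroup G), x ≠ 1 := by
    by_contra h
    push Not at h
    exact hP1 ((Subgroup.eq_bot_iff_forall _).mpr h)
  have hCeq : Subgroup.centralizer ((P : Subgroup G) : Set G) = A :=
    le_antisymm (fun y hy => hC x₀ hx₀ hx₀1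
      (Subgroup.centralizer_le (Set.singleton_subset_iff.mpr hx₀) hy)) hAC
  -- the conjugate member
  have hconj : ∀ g : G, ∀ B ∈ 𝓐, ((g • P : Sylow p G) : Subgroup G) ≤ B →
      B ≤ A.map (MulAut.conj g).toMonoidHom := by
    intro g B hB hgB b hb
    refine ⟨g⁻¹ * b * g, ?_, by simp [mul_assoc]⟩
    refine hC x₀ hx₀ hx₀1 ?_
    rw [Subgroup.mem_centralizer_singleton_iff]
    have hmem : MulAut.conj g x₀ ∈ ((g • P : Sylow p G) : Subgroup G) := ⟨x₀, hx₀, rfl⟩
    have h := Subgroup.mem_centralizer_singleton_iff.mp (central_of_mem h𝓐 P hab hB (hgB hmem)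
      (orderOf_eq_pow (g • P).isPGroup' hmem) hb)
    rw [MulAut.conj_apply] at h
    calc g⁻¹ * b * g * x₀ = g⁻¹ * (b * (g * x₀ * g⁻¹)) * g := by group
      _ = g⁻¹ * ((g * x₀ * g⁻¹) * b) * g := by rw [h]
      _ = x₀ * (g⁻¹ * b * g) := by group
  have hmax : ∀ M : Subgroup G, M ≠ ⊤ → A ≤ M →
      M ≤ Subgroup.normalizer ((P : Subgroup G) : Set G) := by
    intro M hM hAM g hg
    obtain ⟨B, hB, hgB⟩ := hall (g • P)
    have hBM : B ≤ M := (hconj g B hB hgB).trans (by
      rintro _ ⟨a, ha, rfl⟩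
      simpa using mul_mem (mul_mem hg (hAM ha)) (inv_mem hg))
    have hBA : B = A := not_both_le h𝓐 hB hA hBM hAM hM
    subst hBA
    rw [Sylow.coe_coe, ← Sylow.smul_eq_iff_mem_normalizer]
    refine Sylow.ext (Subgroup.eq_of_le_of_card_ge ?_
      (CfsgLib.Transfer.card_map_conj g (P : Subgroup G)).ge)
    intro y hy
    have hU : IsPGroup p ((P : Subgroup G) ⊔ (g • P : Sylow p G) : Subgroup G) :=
      P.isPGroup'.to_sup_of_normal_left' (g • P).isPGroup'
        (fun w hw => Subgroup.centralizer_le_normalizer _ (hAC (hgB hw)))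
    exact (P.is_maximal' hU le_sup_left).le (Subgroup.mem_sup_right hy)
  have hAN : A ≤ Subgroup.normalizer ((P : Subgroup G) : Set G) :=
    hAC.trans (Subgroup.centralizer_le_normalizer _)
  have hNtop : Subgroup.normalizer ((P : Subgroup G) : Set G) ≠ ⊤ := fun h =>
    hnn (Subgroup.normalizer_eq_top_iff.mp h)
  have hcoatom : IsCoatom (Subgroup.normalizer ((P : Subgroup G) : Set G)) :=
    ⟨hNtop, fun M hM => by
      by_contra h
      exact hM.not_ge (hmax M h (hAN.trans hM.le))⟩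
  refine ⟨A, hA, hPA, hPdvd, hCeq, hcoatom, fun g hg hdvd => ?_,
    fun M hM hAM => ((hM.le_iff.mp (hmax M hM.1 hAM)).resolve_left hNtop).symm⟩
  obtain ⟨y, hy⟩ := exists_prime_orderOf_dvd_card' p hdvd
  have hy' : orderOf (y : G) = p := by rw [Subgroup.orderOf_coe, hy]
  have hypow : IsPGroup p (Subgroup.zpowers (y : G)) :=
    IsPGroup.of_card (n := 1) (by rw [Nat.card_zpowers, hy', pow_one])
  have hyne : (y : G) ≠ 1 := fun h => by
    rw [h, orderOf_one] at hy'
    exact (Fact.out : p.Prime).ne_one hy'.symm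
  have key : ∀ Q : Sylow p G, (y : G) ∈ Subgroup.normalizer ((Q : Subgroup G) : Set G) →
      (y : G) ∈ (Q : Subgroup G) := fun Q hQ =>
    (Q.is_maximal' (Q.isPGroup'.to_sup_of_normal_left' hypow (Subgroup.zpowers_le.mpr hQ))
      le_sup_left).le (Subgroup.mem_sup_right (Subgroup.mem_zpowers _))
  have hyP := key P y.2.1
  have hyQ : (y : G) ∈ ((g • P : Sylow p G) : Subgroup G) := key (g • P) (by
    have h2 : (y : G) ∈ (Subgroup.normalizer ((P : Subgroup G) : Set G)).map (MulAut.conj g).toMonoidHom :=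
      y.2.2
    have e := CfsgLib.Transfer.normalizer_map_conj g (P : Subgroup G)
    first | exact (le_of_eq e) h2 | exact (le_of_eq e.symm) h2)
  obtain ⟨B, hB, hgB⟩ := hall (g • P)
  have hBA : B = A := unique_member h𝓐 P hab hZ hB hA (hgB hyQ) (hPA hyP)
    ⟨1, by rw [hy', pow_one]⟩ hyne
  subst hBA
  -- `g` normalises `A`, whose unique Sylow `p`-subgroup is `P`
  rw [Sylow.coe_coe, ← Sylow.smul_eq_iff_mem_normalizer] at hg
  refine hg (Sylow.ext (Subgroup.eq_of_le_of_card_ge ?_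
    (CfsgLib.Transfer.card_map_conj g (P : Subgroup G)).ge))
  intro w hw
  have hU : IsPGroup p ((P : Subgroup G) ⊔ (g • P : Sylow p G) : Subgroup G) :=
    P.isPGroup'.to_sup_of_normal_left' (g • P).isPGroup'
      (fun w hw => Subgroup.centralizer_le_normalizer _ (hAC (hgB hw)))
  exact (P.is_maximal' hU le_sup_left).le (Subgroup.mem_sup_right hw)

end CfsgLib.PGroups.NilCover
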