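import Mathlib

/-!
# Two members of a minimal cover replaced by one subgroup

* `no_nilpotent_minimal_cover`: criterion for a group to have no minimal cover by nilpotent subgroups
* `isPGroup_of_centralizer`: nilpotent subgroup with an element whose centraliser has no element of
  other prime order
-/

set_option autoImplicit false
set_option linter.all false

namespace CfsgLib.PGroups.CoverReplace

open Subgroup

/-- The group has no minimal cover all of whose members are nilpotent. -/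
def NoNilMinCover (G : Type*) [Group G] : Prop :=
  ¬ ∃ 𝓐 : Finset (Subgroup G), ((∀ A ∈ 𝓐, A ≠ ⊤) ∧ (∀ g : G, ∃ A ∈ 𝓐, g ∈ A)) ∧
    (∀ 𝓑 : Finset (Subgroup G), (∀ A ∈ 𝓑, A ≠ ⊤) ∧ (∀ g : G, ∃ A ∈ 𝓑, g ∈ A) → 𝓐.card ≤ 𝓑.card) ∧
    (∀ A ∈ 𝓐, Group.IsNilpotent ↥A)

/-- If no nilpotent subgroup contains both `x` and `y`, and every element of a nilpotent subgroup
containing one of them lies in `K` or is a power of an element of no such subgroup, then a minimal
cover is not nilpotent: the members containing `x` and `y` are replaced by `K`. -/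
theorem no_nilpotent_minimal_cover {G : Type*} [Group G] (K : Subgroup G) (hK : K ≠ ⊤) (x y : G)
    (hxy : ∀ N : Subgroup G, Group.IsNilpotent N → x ∈ N → y ∉ N)
    (hnear : ∀ N : Subgroup G, Group.IsNilpotent N → (x ∈ N ∨ y ∈ N) → ∀ g ∈ N, g ∈ K ∨
      ∃ g' : G, g ∈ zpowers g' ∧ ∀ N' : Subgroup G, Group.IsNilpotent N' → g' ∈ N' → x ∉ N' ∧ y ∉ N') :
    NoNilMinCover G := by
  classical
  rintro ⟨𝓐, ⟨hprop, hcov⟩, hmin, hnil⟩
  obtain ⟨A, hA, hxA⟩ := hcov x
  obtain ⟨B, hB, hyB⟩ := hcov y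
  have hne : A ≠ B := fun h => hxy A (hnil A hA) hxA (h ▸ hyB)
  have hc := hmin (insert K ((𝓐.erase A).erase B)) ⟨?_, ?_⟩
  · have h1 := Finset.card_insert_le K ((𝓐.erase A).erase B)
    rw [Finset.card_erase_of_mem (Finset.mem_erase.mpr ⟨Ne.symm hne, hB⟩),
      Finset.card_erase_of_mem hA] at h1
    have : 2 ≤ 𝓐.card := Finset.one_lt_card.mpr ⟨A, hA, B, hB, hne⟩
    omega
  · intro C hC
    rcases Finset.mem_insert.mp hC with rfl | hC
    · exact hK
    · exact hprop C (Finset.mem_of_mem_erase (Finset.mem_of_mem_erase hC))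
  · intro g
    by_cases hgK : g ∈ K
    · exact ⟨K, Finset.mem_insert_self _ _, hgK⟩
    obtain ⟨C, hC, hgC⟩ := hcov g
    by_cases h : C = A ∨ C = B
    · have hC' : x ∈ C ∨ y ∈ C := by
        rcases h with rfl | rfl
        · exact Or.inl hxA
        · exact Or.inr hyB
      rcases hnear C (hnil C hC) hC' g hgC with h' | ⟨g', hg', hfar⟩
      · exact absurd h' hgK
      obtain ⟨D, hD, hgD⟩ := hcov g'
      have hf := hfar D (hnil D hD) hgD
      refine ⟨D, Finset.mem_insert_of_mem (Finset.mem_erase.mpr ⟨?_, Finset.mem_erase.mpr ⟨?_, hD⟩⟩),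
        zpowers_le.mpr hgD hg'⟩
      · rintro rfl; exact hf.2 hyB
      · rintro rfl; exact hf.1 hxA
    · push Not at h
      exact ⟨C, Finset.mem_insert_of_mem (Finset.mem_erase.mpr ⟨h.2, Finset.mem_erase.mpr ⟨h.1, hC⟩⟩), hgC⟩

theorem of_mulEquiv {G H : Type*} [Group G] [Group H] (e : G ≃* H) (h : NoNilMinCover H) :
    NoNilMinCover G := by
  classical
  rintro ⟨𝓐, ⟨hprop, hcov⟩, hmin, hnil⟩
  refine h ⟨𝓐.image (·.map e.toMonoidHom), ⟨?_, ?_⟩, ?_, ?_⟩
  · intro A hA
    obtain ⟨A₀, hA₀, rfl⟩ := Finset.mem_image.mp hA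
    intro htop
    exact hprop A₀ hA₀ (map_injective (f := e.toMonoidHom) e.injective
      (htop.trans (map_top_of_surjective _ e.surjective).symm))
  · intro g
    obtain ⟨A, hA, hgA⟩ := hcov (e.symm g)
    exact ⟨_, Finset.mem_image_of_mem _ hA, e.symm g, hgA, e.apply_symm_apply g⟩
  · intro 𝓑 hB
    refine Finset.card_image_le.trans ((hmin (𝓑.image (·.map e.symm.toMonoidHom)) ⟨?_, ?_⟩).trans
      Finset.card_image_le)
    · intro A hA
      obtain ⟨A₀, hA₀, rfl⟩ := Finset.mem_image.mp hA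
      intro htop
      exact hB.1 A₀ hA₀ (map_injective (f := e.symm.toMonoidHom) e.symm.injective
        (htop.trans (map_top_of_surjective _ e.symm.surjective).symm))
    · intro g
      obtain ⟨A, hA, hgA⟩ := hB.2 (e g)
      exact ⟨_, Finset.mem_image_of_mem _ hA, e g, hgA, e.symm_apply_apply g⟩
  · intro A hA
    obtain ⟨A₀, hA₀, rfl⟩ := Finset.mem_image.mp hA
    haveI := hnil A₀ hA₀
    exact Group.nilpotent_of_surjective (e.toMonoidHom.subgroupMap A₀)
      (e.toMonoidHom.subgroupMap_surjective A₀)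

/-- In a finite nilpotent group elements of prime power orders for different primes commute. -/
theorem commute_of_primePow {G : Type*} [Group G] [Finite G] (hG : Group.IsNilpotent G) {p r : ℕ}
    [Fact p.Prime] [Fact r.Prime] (hne : p ≠ r) {x z : G} (hx : ∃ k : ℕ, orderOf x = p ^ k)
    (hz : ∃ k : ℕ, orderOf z = r ^ k) : Commute x z := by
  obtain ⟨i, hi⟩ := hx
  obtain ⟨j, hj⟩ := hz
  obtain ⟨P, hP⟩ := (IsPGroup.of_card (n := i) (show Nat.card (zpowers x) = p ^ i by
    rw [Nat.card_zpowers, hi])).exists_le_sylow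
  obtain ⟨R, hR⟩ := (IsPGroup.of_card (n := j) (show Nat.card (zpowers z) = r ^ j by
    rw [Nat.card_zpowers, hj])).exists_le_sylow
  have h03 : ∀ (q : ℕ) (_hq : Fact q.Prime) (S : Sylow q G), (S : Subgroup G).Normal :=
    ((Group.isNilpotent_of_finite_tfae (G := G)).out 0 3).mp hG
  haveI := h03 p inferInstance P
  haveI := h03 r inferInstance R
  exact Subgroup.commute_of_normal_of_disjoint _ _ inferInstance inferInstance
    (IsPGroup.disjoint_of_ne p r hne _ _ P.isPGroup' R.isPGroup') x z (hP (mem_zpowers x))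
    (hR (mem_zpowers z))

/-- A nilpotent subgroup containing a nontrivial `p`-element centralised by no element of another
prime order is a `p`-group. -/
theorem isPGroup_of_centralizer {G : Type*} [Group G] [Finite G] {p : ℕ} [Fact p.Prime] {x : G}
    (hx : ∃ k : ℕ, orderOf x = p ^ k)
    (hC : ∀ (r : ℕ), r.Prime → r ≠ p → ∀ z : G, orderOf z = r → ¬ Commute x z)
    {N : Subgroup G} (hN : Group.IsNilpotent N) (hxN : x ∈ N) : IsPGroup p N := by
  obtain ⟨k, hk⟩ := hx
  refine IsPGroup.of_card (n := (Nat.card N).primeFactorsList.length) ?_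
  refine Nat.eq_prime_pow_of_unique_prime_dvd Nat.card_pos.ne' fun {r} hr hd => ?_
  by_contra hne
  haveI := Fact.mk hr
  obtain ⟨z, hz⟩ := exists_prime_orderOf_dvd_card' (G := N) r hd
  have h := commute_of_primePow hN (p := p) (r := r) (Ne.symm hne) (x := (⟨x, hxN⟩ : N)) (z := z)
    ⟨k, by rw [Subgroup.orderOf_mk, hk]⟩ ⟨1, by rw [hz, pow_one]⟩
  exact hC r hr hne z (by rw [Subgroup.orderOf_coe, hz]) (h.map N.subtype)

end CfsgLib.PGroups.CoverReplace
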