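import Cfsg.Agent.Lib.PGroups.Basic
import Cfsg.Agent.Lib.Components.Subnormal
import Cfsg.Agent.Lib.PGroups.DerivedOrder

/-!
# p-central groups, p odd; centralisers of maximal normal elementary abelian subgroups
-/

set_option autoImplicit false
set_option linter.all false

namespace CfsgLib.PGroups.PCentral

open Subgroup
open scoped commutatorElement

universe u

variable {G : Type u} [Group G] {p : ℕ}

theorem pow_inv_mul_eq_one_of_central {a c : G} (hp : Odd p) (hc : c ∈ center G) (hcp : c ^ p = 1) {b : G}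
    (hba : b * a = c * (a * b)) : (a * b) ^ p = a ^ p * b ^ p := by
  have hcomm : ∀ g : G, Commute c g := fun g => (mem_center_iff.1 hc g).symm
  -- `(a b)^n = a^n b^n c^{n(n-1)/2}`
  have h1 : ∀ n : ℕ, b ^ n * a = c ^ n * (a * b ^ n) := by
    intro n
    induction n with
    | zero => simp
    | succ n ih =>
      calc b ^ (n + 1) * a = b ^ n * (b * a) := by rw [pow_succ, mul_assoc]
        _ = c * (b ^ n * a * b) := by rw [hba, ← mul_assoc, ← (hcomm _).eq]; simp only [mul_assoc]
        _ = c ^ (n + 1) * (a * b ^ (n + 1)) := by rw [ih, pow_succ', pow_succ b n]; simp only [mul_assoc]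
  have h2 : ∀ n : ℕ, (a * b) ^ n = c ^ (n.choose 2) * (a ^ n * b ^ n) := by
    intro n
    induction n with
    | zero => simp
    | succ n ih =>
      calc (a * b) ^ (n + 1) = c ^ (n.choose 2) * (a ^ n * (b ^ n * a) * b) := by
            rw [pow_succ, ih]; simp only [mul_assoc]
        _ = c ^ (n.choose 2) * (c ^ n * (a ^ n * (a * b ^ n) * b)) := by
            rw [h1, ← mul_assoc (a ^ n), ← ((hcomm (a ^ n)).pow_left n).eq]; simp only [mul_assoc]
        _ = c ^ ((n + 1).choose 2) * (a ^ (n + 1) * b ^ (n + 1)) := by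
            rw [Nat.choose_succ_succ, Nat.choose_one_right, pow_succ a, pow_succ b, add_comm, pow_add]
            simp only [mul_assoc]

  rw [h2]
  obtain ⟨m, rfl⟩ := hp
  rw [Nat.choose_two_right, show (2 * m + 1) * (2 * m + 1 - 1) / 2 = (2 * m + 1) * m by
    rw [Nat.add_sub_cancel]; rw [show (2 * m + 1) * (2 * m) = (2 * m + 1) * m * 2 by ring]; omega,
    pow_mul, hcp, one_pow, one_mul]

/-- elements with the same `p`-th power differing by an element of `M` differ by an element of order dividing `p` -/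
theorem pow_inv_mul_eq_one [hp : Fact p.Prime] (hodd : Odd p) : ∀ (H : Type u) [Group H] [Finite H],
    IsPGroup p H → ∀ (M : Subgroup H) [M.Normal], (∀ m ∈ M, m ^ p = 1 → m ∈ center H) →
      ∀ x y : H, x⁻¹ * y ∈ M → x ^ p = y ^ p → (x⁻¹ * y) ^ p = 1 := by
  suffices key : ∀ n, ∀ (H : Type u) [Group H] [Finite H], Nat.card H = n →
      IsPGroup p H → ∀ (M : Subgroup H) [M.Normal], (∀ m ∈ M, m ^ p = 1 → m ∈ center H) →
      ∀ x y : H, x⁻¹ * y ∈ M → x ^ p = y ^ p → (x⁻¹ * y) ^ p = 1 from
    fun H _ _ hH M _ hM x y h1 h2 => key _ H rfl hH M hM x y h1 h2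
  intro n
  induction n using Nat.strong_induction_on with
  | _ n ih =>
  intro H _ _ hn hH M _ hM x y hxy hpow
  have hpowers : x⁻¹ ^ p * y ^ p = 1 := by rw [inv_pow, hpow, inv_mul_cancel]
  by_cases hcomm : Commute x y
  · rw [hcomm.inv_left.mul_pow, hpowers]
  set x' := y * x * y⁻¹
  set K := Subgroup.closure ({x, x'} : Set H)
  have hxK : x ∈ K := Subgroup.subset_closure (by simp)
  have hxK' : x' ∈ K := Subgroup.subset_closure (by simp)
  have hmem : x⁻¹ * x' ∈ M := by
    have h := M.mul_mem hxy ((inferInstance : M.Normal).conj_mem _ (M.inv_mem hxy) x)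
    -- `x⁻¹ y x y⁻¹`
    have e : x⁻¹ * x' = x⁻¹ * y * (x * (x⁻¹ * y)⁻¹ * x⁻¹) * (x * x⁻¹) := by
      simp only [x']; group
    rw [e, mul_inv_cancel, mul_one]
    exact h
  have hpow' : x ^ p = x' ^ p := by
    show x ^ p = (y * x * y⁻¹) ^ p
    rw [conj_pow, hpow, (Commute.self_pow y p).eq, mul_inv_cancel_right]
  have hlt : Nat.card K < n := by
    refine hn ▸ lt_of_le_of_ne (Subgroup.card_le_card_group K) fun he => ?_
    have htop : K = ⊤ := (Subgroup.card_eq_iff_eq_top K).1 he
    have h1 : Subgroup.closure ({x} : Set H) = ⊤ := by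
      refine closure_eq_top_of_sup_frattini (eq_top_iff.2 (htop.ge.trans ((Subgroup.closure_le _).2 ?_)))
      rintro w (rfl | rfl)
      · exact mem_sup_left (Subgroup.subset_closure rfl)
      · have : ⁅y, x⁆ ∈ frattini H :=
          commutator_le_frattini' hH (Subgroup.commutator_mem_commutator (mem_top y) (mem_top x))
        rw [show x' = ⁅y, x⁆ * x by simp only [commutatorElement_def, x']; group]
        exact mul_mem (mem_sup_right this) (mem_sup_left (Subgroup.subset_closure rfl))
    have hy : y ∈ Subgroup.closure ({x} : Set H) := h1 ▸ mem_top y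
    obtain ⟨i, rfl⟩ := Subgroup.mem_closure_singleton.1 hy
    exact hcomm (Commute.self_zpow x i)
  have h3 := ih _ hlt K rfl (hH.to_subgroup K) (M.subgroupOf K)
    (fun m hm hmp => mem_center_iff.2 fun g => Subtype.ext
      (mem_center_iff.1 (hM m hm (congrArg Subtype.val hmp)) g))
    ⟨x, hxK⟩ ⟨x', hxK'⟩ hmem (Subtype.ext hpow')
  have h4 : (x⁻¹ * x') ^ p = 1 := congrArg Subtype.val h3
  set c := y * x⁻¹ * y⁻¹ * x
  have hc : c = (x⁻¹ * x')⁻¹ := by simp only [c, x']; group
  have hcZ : c ∈ center H := hc ▸ inv_mem (hM _ hmem h4)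
  rw [pow_inv_mul_eq_one_of_central hodd hcZ (by rw [hc, inv_pow, h4, inv_one])
    (show y * x⁻¹ = c * (x⁻¹ * y) by simp only [c]; group), hpowers]

variable [Finite G] [hp : Fact p.Prime]

/-- greedy generation of `J` over `I` -/
theorem exists_sup_closure (hG : IsPGroup p G) {I J : Subgroup G} (h : I ≤ J) :
    ∃ T : Finset G, (T : Set G) ⊆ J ∧ I ⊔ Subgroup.closure (T : Set G) = J ∧
      p ^ T.card * Nat.card I ≤ Nat.card J := by
  classical
  induction I using (wellFounded_gt (α := Subgroup G)).induction with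
  | _ I ih =>
  by_cases he : I = J
  · exact ⟨∅, by simp, by simp [he], by simp [he]⟩
  obtain ⟨b, hb, hbI⟩ := SetLike.not_le_iff_exists.1 fun hle => he (le_antisymm h hle)
  have hlt : I < I ⊔ zpowers b := lt_of_le_of_ne le_sup_left fun e => hbI (e.ge (mem_sup_right (mem_zpowers b)))
  obtain ⟨T, hT, hsup, hcard⟩ := ih _ hlt (sup_le h (zpowers_le.2 hb))
  refine ⟨insert b T, by simp [Set.insert_subset_iff, hb, hT], ?_, ?_⟩
  · rw [Finset.coe_insert, Set.insert_eq, Subgroup.closure_union, ← Subgroup.zpowers_eq_closure, ← sup_assoc, hsup]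
  · refine le_trans ?_ hcard
    calc p ^ (insert b T).card * Nat.card I ≤ p ^ (T.card + 1) * Nat.card I :=
          Nat.mul_le_mul_right _ (Nat.pow_le_pow_right hp.out.pos (Finset.card_insert_le _ _))
      _ = p ^ T.card * (p * Nat.card I) := by rw [pow_succ, mul_assoc]
      _ ≤ _ := Nat.mul_le_mul_left _ (DerivedOrder.mul_card_le_of_lt hG hlt)

/-- a maximal normal elementary abelian subgroup contains the elements of order `p` of its centraliser -/
theorem exists_normal_elementary (hodd : Odd p) (hG : IsPGroup p G) :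
    ∃ A : Subgroup G, A.Normal ∧ IsMulCommutative A ∧ (∀ a ∈ A, a ^ p = 1) ∧
      ∀ x ∈ centralizer (A : Set G), x ^ p = 1 → x ∈ A := by
  classical
  obtain ⟨A, ⟨hAn, hAc, hAe⟩, hmax⟩ := Set.Finite.exists_maximal
    (s := {A : Subgroup G | A.Normal ∧ IsMulCommutative A ∧ ∀ a ∈ A, a ^ p = 1}) (Set.toFinite _)
    ⟨⊥, inferInstance, inferInstance, by simp⟩
  haveI := hAn; haveI := hAc
  refine ⟨A, hAn, hAc, hAe, ?_⟩
  set C := centralizer (A : Set G)
  haveI hCn : C.Normal := inferInstance
  by_contra hcon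
  push Not at hcon
  obtain ⟨w, hwC, hwp, hwA⟩ := hcon
  -- a largest normal subgroup of the centraliser whose small elements lie in `A`
  obtain ⟨M, ⟨hMn, hMC, hMA⟩, hMmax⟩ := Set.Finite.exists_maximal
    (s := {M : Subgroup G | M.Normal ∧ M ≤ C ∧ ∀ m ∈ M, m ^ p = 1 → m ∈ A}) (Set.toFinite _)
    ⟨⊥, inferInstance, bot_le, fun m hm _ => (mem_bot.1 hm).symm ▸ A.one_mem⟩
  haveI := hMn
  have hwM : w ∉ M := fun h => hwA (hMA w h hwp)
  -- the next step of a central series
  obtain ⟨b, hbC, hbM, hbc⟩ : ∃ b ∈ C, b ∉ M ∧ ∀ g : G, ⁅b, g⁆ ∈ M := by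
    by_contra hno
    push Not at hno
    have hle : ∀ t, DerivedOrder.step C t ≤ M → C ≤ M := by
      intro t
      induction t with
      | zero => exact fun h => h
      | succ t iht =>
        intro h
        refine iht fun b hb => ?_
        by_contra hbM
        have hbC : b ∈ C := by
          have hmono : ∀ t, DerivedOrder.step C t ≤ C := fun t => by
            induction t with
            | zero => exact le_rfl
            | succ t ih' => exact (Subgroup.commutator_mono ih' le_rfl).trans (Subgroup.commutator_le_left C ⊤)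
          exact hmono t hb
        obtain ⟨g, hg⟩ := hno b hbC hbM
        exact hg (h (Subgroup.commutator_mem_commutator hb (mem_top g)))
    haveI : Group.IsNilpotent G := hG.isNilpotent
    obtain ⟨n, hn⟩ := Subgroup.nilpotent_iff_lowerCentralSeries.1 (inferInstance : Group.IsNilpotent G)
    refine hwM (hle n ?_ hwC)
    refine (DerivedOrder.step_le_gamma (j := 0) le_top n).trans ?_
    rw [Nat.zero_add, hn]
    exact bot_le
  set B := M ⊔ zpowers b
  have hBn : B.Normal := by
    refine ⟨fun n hn g => ?_⟩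
    have hle : B ≤ B.comap (MulAut.conj g).toMonoidHom := by
      refine sup_le (fun m hm => mem_sup_left (hMn.conj_mem m hm g)) (zpowers_le.2 ?_)
      show g * b * g⁻¹ ∈ B
      rw [show g * b * g⁻¹ = ⁅b, g⁆⁻¹ * b by simp only [commutatorElement_def]; group]
      exact mul_mem (mem_sup_left (inv_mem (hbc g))) (mem_sup_right (mem_zpowers b))
    exact hle hn
  obtain ⟨x, hxB, hxp, hxA⟩ : ∃ x ∈ B, x ^ p = 1 ∧ x ∉ A := by
    by_contra hno
    push Not at hno
    exact hbM (hMmax ⟨hBn, sup_le hMC (zpowers_le.2 hbC), hno⟩ le_sup_left (mem_sup_right (mem_zpowers b)))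
  have hxC : x ∈ C := sup_le hMC (zpowers_le.2 hbC) hxB
  have hxc : ∀ g : G, x⁻¹ * (g * x * g⁻¹) ∈ M := by
    intro g
    obtain ⟨m, hm, z, hz, rfl⟩ := mem_sup_of_normal_left.1 hxB
    obtain ⟨i, rfl⟩ := Subgroup.mem_zpowers_iff.1 hz
    refine (QuotientGroup.eq_one_iff (N := M) _).1 ?_
    have h1 : ∀ g : G, Commute (QuotientGroup.mk' M b) (QuotientGroup.mk' M g) := fun g => by
      have := (QuotientGroup.eq_one_iff (N := M) _).2 (hbc g)
      change QuotientGroup.mk' M ⁅b, g⁆ = 1 at this
      rw [map_commutatorElement] at this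
      exact commutatorElement_eq_one_iff_commute.1 this
    have hm1 : QuotientGroup.mk' M m = 1 := (QuotientGroup.eq_one_iff m).2 hm
    show QuotientGroup.mk' M ((m * b ^ i)⁻¹ * (g * (m * b ^ i) * g⁻¹)) = 1
    simp only [map_mul, map_inv, map_zpow, hm1, one_mul]
    rw [← ((h1 g).zpow_left i).eq, mul_inv_cancel_right, inv_mul_cancel]
  have hcen : ∀ g : G, x⁻¹ * (g * x * g⁻¹) ∈ A := by
    intro g
    refine hMA _ (hxc g) ?_
    have := pow_inv_mul_eq_one hodd C (hG.to_subgroup C) (M.subgroupOf C) (fun m hm hmp => mem_center_iff.2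
      fun c => Subtype.ext ((mem_centralizer_iff.1 c.2 m (hMA m hm (congrArg Subtype.val hmp))).symm))
      ⟨x, hxC⟩ ⟨g * x * g⁻¹, hCn.conj_mem x hxC g⟩ (hxc g)
      (Subtype.ext (by show x ^ p = (g * x * g⁻¹) ^ p; rw [conj_pow, hxp]; group))
    exact congrArg Subtype.val this
  set A' := A ⊔ zpowers x
  have hA'n : A'.Normal := by
    refine ⟨fun n hn g => ?_⟩
    have hle : A' ≤ A'.comap (MulAut.conj g).toMonoidHom := by
      refine sup_le (fun m hm => mem_sup_left (hAn.conj_mem m hm g)) (zpowers_le.2 ?_)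
      show g * x * g⁻¹ ∈ A'
      rw [show g * x * g⁻¹ = x * (x⁻¹ * (g * x * g⁻¹)) by group]
      exact mul_mem (mem_sup_right (mem_zpowers x)) (mem_sup_left (hcen g))
    exact hle hn
  have hcomm : ∀ a ∈ A, ∀ z ∈ zpowers x, Commute a z := fun a ha z hz => by
    obtain ⟨i, rfl⟩ := Subgroup.mem_zpowers_iff.1 hz
    exact (show Commute a x from mem_centralizer_iff.1 hxC a ha).zpow_right i
  have hA'c : IsMulCommutative A' := by
    refine ⟨⟨fun u v => Subtype.ext ?_⟩⟩
    obtain ⟨a, ha, z, hz, hu⟩ := mem_sup_of_normal_left.1 u.2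
    obtain ⟨a', ha', z', hz', hv⟩ := mem_sup_of_normal_left.1 v.2
    show (u : G) * v = v * u
    rw [← hu, ← hv]
    exact Commute.mul_left
      (Commute.mul_right (congrArg Subtype.val (mul_comm' (⟨a, ha⟩ : A) ⟨a', ha'⟩)) (hcomm a ha z' hz'))
      (Commute.mul_right (hcomm a' ha' z hz).symm (congrArg Subtype.val (mul_comm' (⟨z, hz⟩ : zpowers x) ⟨z', hz'⟩)))
  refine hxA (hmax ⟨hA'n, hA'c, fun u hu => ?_⟩ le_sup_left (mem_sup_right (mem_zpowers x)))
  obtain ⟨a, ha, z, hz, rfl⟩ := mem_sup_of_normal_left.1 hu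
  rw [(hcomm a ha z hz).mul_pow, hAe a ha, one_mul]
  obtain ⟨i, rfl⟩ := Subgroup.mem_zpowers_iff.1 hz
  rw [← zpow_natCast, ← zpow_mul, mul_comm, zpow_mul, zpow_natCast, hxp, one_zpow]

/-- a p-central group is generated by at most as many elements as its subgroup of small elements -/
theorem exists_generators (hodd : Odd p) : ∀ (X : Type u) [Group X] [Finite X], IsPGroup p X →
    (∀ x : X, x ^ p = 1 → x ∈ center X) →
      ∃ S : Finset X, Subgroup.closure (S : Set X) = ⊤ ∧ p ^ S.card ≤ Nat.card {x : X // x ^ p = 1} := by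
  suffices key : ∀ n, ∀ (X : Type u) [Group X] [Finite X], Nat.card X = n → IsPGroup p X →
      (∀ x : X, x ^ p = 1 → x ∈ center X) →
      ∃ S : Finset X, Subgroup.closure (S : Set X) = ⊤ ∧ p ^ S.card ≤ Nat.card {x : X // x ^ p = 1} from
    fun X _ _ hX hc => key _ X rfl hX hc
  intro n
  induction n using Nat.strong_induction_on with
  | _ n ih =>
  intro X _ _ hn hX hc
  classical
  rcases subsingleton_or_nontrivial X with hs | hs
  · exact ⟨∅, Subsingleton.elim _ _, by simp [Nat.card_pos]⟩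
  let W : Subgroup X :=
    { carrier := {x | x ^ p = 1}
      one_mem' := one_pow p
      mul_mem' := fun {a b} ha hb => by
        show (a * b) ^ p = 1
        rw [(show Commute a b from (mem_center_iff.1 (hc a ha) b).symm).mul_pow, ha, hb, one_mul]
      inv_mem' := fun {a} ha => by
        show a⁻¹ ^ p = 1
        rw [inv_pow, (ha : a ^ p = 1), inv_one] }
  have hWmem : ∀ x, x ∈ W ↔ x ^ p = 1 := fun x => Iff.rfl
  haveI hWn : W.Normal := ⟨fun a ha g => by rw [hWmem, conj_pow, (ha : a ^ p = 1)]; group⟩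
  have hWne : W ≠ ⊥ := by
    obtain ⟨i, hi⟩ := IsPGroup.iff_card.1 hX
    have hi0 : i ≠ 0 := fun h => by rw [h, pow_zero] at hi; exact absurd hi Finite.one_lt_card.ne'
    obtain ⟨x, hx⟩ := exists_prime_orderOf_dvd_card' p (hi ▸ dvd_pow_self p hi0)
    intro h
    have : x ∈ W := by rw [hWmem, ← hx, pow_orderOf_eq_one]
    rw [h, mem_bot] at this
    exact hp.out.ne_one (by rw [← hx, this, orderOf_one])
  have hlt : Nat.card (X ⧸ W) < n := hn ▸ CfsgLib.Components.card_quotient_lt hWne
  have hsame : ∀ x y : X, x ^ p = y ^ p → x⁻¹ * y ∈ W := fun x y h =>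
    pow_inv_mul_eq_one hodd X hX ⊤ (fun m _ hm => hc m hm) x y (mem_top _) h
  have hc' : ∀ q : X ⧸ W, q ^ p = 1 → q ∈ center (X ⧸ W) := by
    intro q
    refine QuotientGroup.induction_on q fun x hx => ?_
    rw [← QuotientGroup.mk_pow, QuotientGroup.eq_one_iff] at hx
    refine mem_center_iff.2 fun r => ?_
    refine QuotientGroup.induction_on r fun g => ?_
    have h := hsame x (g * x * g⁻¹) (by
      rw [conj_pow, (mem_center_iff.1 (hc _ hx) g), mul_inv_cancel_right])
    have h' := (QuotientGroup.eq).2 h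
    rw [QuotientGroup.mk_mul, QuotientGroup.mk_mul, QuotientGroup.mk_inv] at h'
    exact (mul_inv_eq_iff_eq_mul.1 h'.symm)
  obtain ⟨S', hS', hcard'⟩ := ih _ hlt (X ⧸ W) rfl (hX.to_quotient W) hc'
  -- the image of the power map
  set I := W ⊓ frattini X
  have hI : Nat.card {q : X ⧸ W // q ^ p = 1} ≤ Nat.card I := by
    refine Nat.card_le_card_of_injective (fun q => ⟨q.1.out ^ p, ?_, pow_mem_frattini hX _⟩) ?_
    · have h := q.2
      rw [← QuotientGroup.out_eq' q.1, ← QuotientGroup.mk_pow, QuotientGroup.eq_one_iff] at h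
      exact h
    · intro q q' h
      have h1 := hsame _ _ (congrArg Subtype.val h)
      refine Subtype.ext ?_
      rw [← QuotientGroup.out_eq' q.1, ← QuotientGroup.out_eq' q'.1]
      exact QuotientGroup.eq.2 h1
  obtain ⟨T, -, hT, hTcard⟩ := exists_sup_closure hX (inf_le_left : I ≤ W)
  refine ⟨S'.image Quotient.out ∪ T, closure_eq_top_of_sup_frattini (top_le_iff.1 fun x _ => ?_), ?_⟩
  · set K := Subgroup.closure ((S'.image Quotient.out ∪ T : Finset X) : Set X) ⊔ frattini X
    have hWK : W ≤ K := hT ▸ sup_le (inf_le_right.trans le_sup_right)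
      ((Subgroup.closure_mono (by simp)).trans le_sup_left)
    have h1 : (⊤ : Subgroup (X ⧸ W)) ≤ K.map (QuotientGroup.mk' W) := by
      rw [← hS', Subgroup.closure_le]
      intro q hq
      refine ⟨q.out, mem_sup_left (Subgroup.subset_closure ?_), QuotientGroup.out_eq' q⟩
      simp only [Finset.coe_union, Finset.coe_image, Set.mem_union]
      exact Or.inl ⟨q, hq, rfl⟩
    obtain ⟨k, hk, hkx⟩ := h1 (mem_top (QuotientGroup.mk' W x))
    have h2 := hWK ((QuotientGroup.eq).1 hkx)
    simpa using mul_mem hk h2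
  · calc p ^ (S'.image Quotient.out ∪ T).card ≤ p ^ (S'.card + T.card) :=
          Nat.pow_le_pow_right hp.out.pos ((Finset.card_union_le _ _).trans (Nat.add_le_add_right Finset.card_image_le _))
      _ ≤ Nat.card I * p ^ T.card := by rw [pow_add]; exact Nat.mul_le_mul_right _ (hcard'.trans hI)
      _ ≤ Nat.card W := by rw [mul_comm]; exact hTcard
      _ = _ := rfl

end CfsgLib.PGroups.PCentral
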