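import Mathlib
import Cfsg.Agent.Lib.PGroups.NilCoverReplace

/-!
# Regular unipotent elements in PGL and nilpotent covers
-/

set_option autoImplicit false
set_option linter.all false

namespace CfsgLib.PGroups.PGLCover

open Matrix Subgroup

variable {F : Type*} [Field F] {n : ℕ}

/-- The projective general linear group. -/
abbrev PG (n : ℕ) (F : Type*) [Field F] := GL (Fin n) F ⧸ center (GL (Fin n) F)

/-- The projection. -/
def pr : GL (Fin n) F →* PG n F := QuotientGroup.mk' _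

/-- The image of the special linear group. -/
def slImage (n : ℕ) (F : Type*) [Field F] : Subgroup (PG n F) :=
  ((Matrix.SpecialLinearGroup.toGL : Matrix.SpecialLinearGroup (Fin n) F →* GL (Fin n) F).range).map
    (QuotientGroup.mk' (center (GL (Fin n) F)))

theorem pr_surjective : Function.Surjective (pr : GL (Fin n) F →* PG n F) :=
  QuotientGroup.mk'_surjective _

theorem pr_eq_one_iff {g : GL (Fin n) F} :
    pr g = 1 ↔ ∃ c : F, (g : Matrix (Fin n) (Fin n) F) = scalar (Fin n) c := by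
  show (QuotientGroup.mk' _) g = 1 ↔ _
  rw [← MonoidHom.mem_ker, QuotientGroup.ker_mk', GeneralLinearGroup.mem_center_iff_val_mem_range_scalar]
  exact ⟨fun ⟨c, hc⟩ => ⟨c, hc.symm⟩, fun ⟨c, hc⟩ => ⟨c, hc.symm⟩⟩

theorem mem_slImage_of_det {g : GL (Fin n) F} (hg : (g : Matrix (Fin n) (Fin n) F).det = 1) :
    pr g ∈ slImage n F :=
  ⟨g, ⟨⟨(g : Matrix (Fin n) (Fin n) F), hg⟩, Units.ext rfl⟩, rfl⟩

theorem eq_of_pr_eq {g h : GL (Fin n) F} (hgh : pr g = pr h) :
    ∃ c : F, (g : Matrix (Fin n) (Fin n) F) = c • (h : Matrix (Fin n) (Fin n) F) := by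
  obtain ⟨c, hc⟩ := pr_eq_one_iff.mp (show pr (g * h⁻¹) = 1 by
    rw [map_mul, map_inv, hgh, mul_inv_cancel])
  refine ⟨c, ?_⟩
  calc (g : Matrix (Fin n) (Fin n) F)
      = ((g * h⁻¹ : GL (Fin n) F) : Matrix (Fin n) (Fin n) F) * (h : Matrix (Fin n) (Fin n) F) := by
        rw [← Units.val_mul, inv_mul_cancel_right]
    _ = _ := by rw [hc, scalar_apply, ← smul_eq_diagonal_mul]

/-- The line of the first coordinate. -/
def lineStab (n : ℕ) (F : Type*) [Field F] (i₀ : Fin n) : Subgroup (GL (Fin n) F) where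
  carrier := {g | ∃ c : F, (g : Matrix (Fin n) (Fin n) F) *ᵥ Pi.single i₀ 1 = c • Pi.single i₀ 1}
  one_mem' := ⟨1, by rw [Units.val_one, one_mulVec, one_smul]⟩
  mul_mem' := fun {g h} hg hh => by
    obtain ⟨a, ha⟩ := hg
    obtain ⟨b, hb⟩ := hh
    exact ⟨b * a, by rw [Units.val_mul, ← mulVec_mulVec, hb, mulVec_smul, ha, smul_smul]⟩
  inv_mem' := fun {g} hg => by
    obtain ⟨a, ha⟩ := hg
    have hid : ((g⁻¹ : GL (Fin n) F) : Matrix (Fin n) (Fin n) F) * (g : Matrix (Fin n) (Fin n) F) = 1 := by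
      rw [← Units.val_mul, inv_mul_cancel, Units.val_one]
    have h : (Pi.single i₀ 1 : Fin n → F) =
        a • ((g⁻¹ : GL (Fin n) F) : Matrix (Fin n) (Fin n) F) *ᵥ Pi.single i₀ 1 := by
      rw [← mulVec_smul, ← ha, mulVec_mulVec, hid, one_mulVec]
    have ha0 : a ≠ 0 := by
      rintro rfl
      have := congrFun h i₀
      simp at this
    exact ⟨a⁻¹, by conv_rhs => rw [h, smul_smul, inv_mul_cancel₀ ha0, one_smul]⟩

theorem center_le_lineStab (i₀ : Fin n) : center (GL (Fin n) F) ≤ lineStab n F i₀ := by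
  intro g hg
  obtain ⟨c, hc⟩ := GeneralLinearGroup.mem_center_iff_val_mem_range_scalar.mp hg
  refine ⟨c, ?_⟩
  rw [← hc]
  ext i
  simp [scalar_apply, Pi.single_apply, mulVec_diagonal]

theorem pr_mem_map_lineStab {i₀ : Fin n} {g : GL (Fin n) F} :
    pr g ∈ (lineStab n F i₀).map pr ↔ g ∈ lineStab n F i₀ := by
  refine ⟨fun h => ?_, fun h => ⟨g, h, rfl⟩⟩
  have hk : (pr : GL (Fin n) F →* PG n F).ker ≤ lineStab n F i₀ := by
    rw [pr, QuotientGroup.ker_mk']; exact center_le_lineStab i₀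
  have : g ∈ ((lineStab n F i₀).map pr).comap pr := h
  rwa [comap_map_eq, sup_eq_left.mpr hk] at this

/-- The shift matrix. -/
def shift (n : ℕ) (F : Type*) [Field F] : Matrix (Fin n) (Fin n) F :=
  Matrix.of fun i j => if (j : ℕ) = (i : ℕ) + 1 then 1 else 0

theorem mul_shift_apply (M : Matrix (Fin n) (Fin n) F) (i j : Fin n) :
    (M * shift n F) i j = if h : 1 ≤ (j : ℕ) then M i ⟨(j : ℕ) - 1, by omega⟩ else 0 := by
  rw [mul_apply]
  split_ifs with h
  · rw [Finset.sum_eq_single (⟨(j : ℕ) - 1, by omega⟩ : Fin n)]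
    · simp [shift]; omega
    · intro b _ hb
      rw [shift, of_apply, if_neg ?_, mul_zero]
      intro he
      exact hb (Fin.ext (by simp; omega))
    · intro hh; exact absurd (Finset.mem_univ _) hh
  · refine Finset.sum_eq_zero fun b _ => ?_
    rw [shift, of_apply, if_neg (by omega), mul_zero]

theorem shift_mul_apply (M : Matrix (Fin n) (Fin n) F) (i j : Fin n) :
    (shift n F * M) i j = if h : (i : ℕ) + 1 < n then M ⟨(i : ℕ) + 1, h⟩ j else 0 := by
  rw [mul_apply]
  split_ifs with h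
  · rw [Finset.sum_eq_single (⟨(i : ℕ) + 1, h⟩ : Fin n)]
    · simp [shift]
    · intro b _ hb
      rw [shift, of_apply, if_neg ?_, zero_mul]
      intro he
      exact hb (Fin.ext he)
    · intro hh; exact absurd (Finset.mem_univ _) hh
  · refine Finset.sum_eq_zero fun b _ => ?_
    rw [shift, of_apply, if_neg (by omega), zero_mul]

theorem pow_strict_upper {A : Matrix (Fin n) (Fin n) F} (hA : ∀ i j : Fin n, (j : ℕ) ≤ (i : ℕ) → A i j = 0) :
    ∀ (k : ℕ) (i j : Fin n), (j : ℕ) < (i : ℕ) + k → (A ^ k) i j = 0 := by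
  intro k
  induction k with
  | zero =>
    intro i j h
    rw [pow_zero, one_apply_ne]
    intro e
    rw [e] at h
    omega
  | succ k ih =>
    intro i j h
    rw [pow_succ, mul_apply]
    refine Finset.sum_eq_zero fun b _ => ?_
    by_cases hb : (b : ℕ) < (i : ℕ) + k
    · rw [ih i b hb, zero_mul]
    · rw [hA b j (by omega), mul_zero]

theorem pow_eq_zero_of_strict_upper {A : Matrix (Fin n) (Fin n) F}
    (hA : ∀ i j : Fin n, (j : ℕ) ≤ (i : ℕ) → A i j = 0) {k : ℕ} (hk : n ≤ k) : A ^ k = 0 := by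
  ext i j
  exact pow_strict_upper hA k i j (by omega)

theorem shift_strict (i j : Fin n) (h : (j : ℕ) ≤ (i : ℕ)) : shift n F i j = 0 := by
  simp [shift]; omega

/-- A matrix commuting with the shift is a scalar plus a nilpotent matrix. -/
theorem exists_scalar_of_commute_shift (hn : 0 < n) {M : Matrix (Fin n) (Fin n) F}
    (h : M * shift n F = shift n F * M) :
    ∀ i j : Fin n, (j : ℕ) ≤ (i : ℕ) →
      M i j = if i = j then M ⟨0, hn⟩ ⟨0, hn⟩ else 0 := by
  suffices ∀ (b : ℕ) (i j : Fin n), (j : ℕ) = b → (j : ℕ) ≤ (i : ℕ) →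
      M i j = if i = j then M ⟨0, hn⟩ ⟨0, hn⟩ else 0 from fun i j => this _ i j rfl
  intro b
  induction b with
  | zero =>
    intro i j hj hij
    by_cases hi : i = j
    · rw [if_pos hi, hi, show j = ⟨0, hn⟩ from Fin.ext hj]
    · rw [if_neg hi]
      have hi0 : 0 < (i : ℕ) := by
        by_contra hc
        exact hi (Fin.ext (by omega))
      have e := congrFun (congrFun h ⟨(i : ℕ) - 1, by omega⟩) j
      rw [mul_shift_apply, shift_mul_apply, dif_neg (by omega), dif_pos (by simp; omega)] at e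
      have hx : (⟨((⟨(i : ℕ) - 1, by omega⟩ : Fin n) : ℕ) + 1, by simp; omega⟩ : Fin n) = i :=
        Fin.ext (by simp; omega)
      rw [hx] at e
      exact e.symm
  | succ b ih =>
    intro i j hj hij
    have e := congrFun (congrFun h ⟨(i : ℕ) - 1, by omega⟩) j
    rw [mul_shift_apply, shift_mul_apply, dif_pos (by omega), dif_pos (by simp; omega)] at e
    have hx : (⟨((⟨(i : ℕ) - 1, by omega⟩ : Fin n) : ℕ) + 1, by simp; omega⟩ : Fin n) = i :=
      Fin.ext (by simp; omega)
    rw [hx] at e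
    rw [← e, ih _ _ (by simp; omega) (by simp; omega)]
    simp only [Fin.ext_iff]
    split_ifs <;> first | rfl | omega

section Finite

variable [Fintype F] {p : ℕ} [hp : Fact p.Prime] [CharP F p]

theorem pow_eq_scalar_of_commute_shift (hn : 0 < n) {M : Matrix (Fin n) (Fin n) F}
    (h : M * shift n F = shift n F * M) :
    M ^ p ^ n = scalar (Fin n) (M ⟨0, hn⟩ ⟨0, hn⟩ ^ p ^ n) := by
  haveI : Nonempty (Fin n) := ⟨⟨0, hn⟩⟩
  set c := M ⟨0, hn⟩ ⟨0, hn⟩
  have hA : ∀ i j : Fin n, (j : ℕ) ≤ (i : ℕ) → (M - scalar (Fin n) c) i j = 0 := by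
    intro i j hij
    rw [Matrix.sub_apply, exists_scalar_of_commute_shift hn h i j hij, scalar_apply, diagonal_apply,
      sub_self]
  have hsum : M = scalar (Fin n) c + (M - scalar (Fin n) c) := by abel
  have hcom : Commute (scalar (Fin n) c) (M - scalar (Fin n) c) :=
    (scalar_commute c (Commute.all c) _)
  conv_lhs => rw [hsum]
  rw [add_pow_char_pow_of_commute p n hcom, pow_eq_zero_of_strict_upper hA (Nat.lt_pow_self hp.out.one_lt).le,
    add_zero, ← map_pow]

/-- The regular unipotent element. -/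
noncomputable def unip (n : ℕ) (F : Type*) [Field F] : GL (Fin n) F :=
  GeneralLinearGroup.mkOfDetNeZero (1 + shift n F) (by
    have h : (1 + shift n F).BlockTriangular id := by
      intro i j hij
      have hij' : (j : ℕ) < (i : ℕ) := hij
      rw [Matrix.add_apply, shift_strict i j hij'.le, one_apply_ne (fun e => by rw [e] at hij'; omega), add_zero]
    rw [det_of_upperTriangular h]
    refine (Finset.prod_ne_zero_iff).mpr fun i _ => ?_
    rw [Matrix.add_apply, shift_strict i i le_rfl, one_apply_eq, add_zero]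
    exact one_ne_zero)

theorem coe_unip : (unip n F : Matrix (Fin n) (Fin n) F) = 1 + shift n F := rfl

theorem unip_pow : (unip n F) ^ p ^ n = 1 := by
  rcases Nat.eq_zero_or_pos n with rfl | hn
  · exact Units.ext (Subsingleton.elim _ _)
  haveI : Nonempty (Fin n) := ⟨⟨0, hn⟩⟩
  refine Units.ext ?_
  rw [Units.val_pow_eq_pow_val, coe_unip, add_pow_char_pow_of_commute p n (Commute.one_left _), one_pow,
    pow_eq_zero_of_strict_upper shift_strict (Nat.lt_pow_self hp.out.one_lt).le, add_zero, Units.val_one]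

theorem pr_unip_ne_one (hn : 2 ≤ n) : pr (unip n F) ≠ 1 := by
  intro h
  obtain ⟨c, hc⟩ := pr_eq_one_iff.mp h
  have := congrFun (congrFun hc ⟨0, by omega⟩) ⟨1, by omega⟩
  simp [coe_unip, shift, scalar_apply, diagonal_apply, Fin.ext_iff] at this

theorem exists_orderOf_unip : ∃ k : ℕ, orderOf (pr (unip n F)) = p ^ k := by
  have h : pr (unip n F) ^ p ^ n = 1 := by rw [← map_pow, unip_pow, map_one]
  obtain ⟨k, -, hk⟩ := (Nat.dvd_prime_pow hp.out).mp (orderOf_dvd_of_pow_eq_one h)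
  exact ⟨k, hk⟩

/-- Only `p`-elements centralise the image of the regular unipotent element. -/
theorem not_commute_unip (hn : 2 ≤ n) (r : ℕ) (hr : r.Prime) (hne : r ≠ p) (z : PG n F)
    (hz : orderOf z = r) : ¬ Commute (pr (unip n F)) z := by
  intro hc
  obtain ⟨g, rfl⟩ := pr_surjective z
  haveI : Nonempty (Fin n) := ⟨⟨0, by omega⟩⟩
  obtain ⟨c, hc'⟩ := eq_of_pr_eq (g := unip n F * g) (h := g * unip n F) (by
    rw [map_mul, map_mul]; exact hc.eq)
  rw [Units.val_mul, Units.val_mul] at hc'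
  set U : Matrix (Fin n) (Fin n) F := (unip n F : Matrix (Fin n) (Fin n) F)
  set M : Matrix (Fin n) (Fin n) F := (g : Matrix (Fin n) (Fin n) F)
  have hpow : ∀ k : ℕ, U ^ k * M = c ^ k • (M * U ^ k) := by
    intro k
    induction k with
    | zero => simp
    | succ k ih =>
      rw [pow_succ', mul_assoc, ih, mul_smul_comm, ← mul_assoc, hc', smul_mul_assoc, smul_smul,
        ← pow_succ, mul_assoc]
  have hU : U ^ p ^ n = 1 := by
    rw [← Units.val_pow_eq_pow_val, unip_pow, Units.val_one]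
  have h1 := hpow (p ^ n)
  rw [hU, one_mul, mul_one] at h1
  have hM : M ≠ 0 := g.ne_zero
  have hcp : c ^ p ^ n = 1 := by
    by_contra hne'
    apply hM
    have : (1 - c ^ p ^ n) • M = 0 := by rw [sub_smul, one_smul, ← h1, sub_self]
    exact (smul_eq_zero.mp this).resolve_left (sub_ne_zero.mpr (Ne.symm hne'))
  have hc1 : c = 1 := by
    have : (c - 1) ^ p ^ n = 0 := by rw [sub_pow_char_pow, hcp, one_pow, sub_self]
    exact sub_eq_zero.mp (pow_eq_zero_iff (pow_ne_zero _ hp.out.ne_zero) |>.mp this)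
  rw [hc1, one_smul] at hc'
  have hN : M * shift n F = shift n F * M := by
    have : (1 + shift n F) * M = M * (1 + shift n F) := hc'
    rw [add_mul, mul_add, one_mul, mul_one] at this
    exact (add_left_cancel this).symm
  have hs := pow_eq_scalar_of_commute_shift (p := p) (by omega) hN
  have h2 : pr g ^ p ^ n = 1 := by
    rw [← map_pow, pr_eq_one_iff]
    exact ⟨_, by rw [Units.val_pow_eq_pow_val]; exact hs⟩
  have := orderOf_dvd_of_pow_eq_one h2
  rw [hz] at this
  exact hne ((Nat.prime_dvd_prime_iff_eq hr hp.out).mp (hr.dvd_of_dvd_pow this))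

theorem isPGroup_of_mem_unip (hn : 2 ≤ n) {N : Subgroup (PG n F)} (hN : Group.IsNilpotent N)
    (h : pr (unip n F) ∈ N) : IsPGroup p N :=
  CoverReplace.isPGroup_of_centralizer exists_orderOf_unip (not_commute_unip hn) hN h

theorem det_eq_one_of_pow (a : F) {k : ℕ} (h : a ^ p ^ k = 1) : a = 1 := by
  have : (a - 1) ^ p ^ k = 0 := by rw [sub_pow_char_pow, h, one_pow, sub_self]
  exact sub_eq_zero.mp (pow_eq_zero_iff (pow_ne_zero _ hp.out.ne_zero) |>.mp this)

/-- `p`-elements lie in the image of the special linear group. -/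
theorem mem_slImage_of_pow {z : PG n F} {k : ℕ} (hz : z ^ p ^ k = 1) : z ∈ slImage n F := by
  rcases Nat.eq_zero_or_pos n with rfl | hn
  · obtain ⟨g, rfl⟩ := pr_surjective z
    exact mem_slImage_of_det (det_isEmpty)
  obtain ⟨g, rfl⟩ := pr_surjective z
  rw [← map_pow, pr_eq_one_iff] at hz
  obtain ⟨c, hc⟩ := hz
  rw [Units.val_pow_eq_pow_val] at hc
  haveI : ExpChar F p := ExpChar.prime hp.out
  obtain ⟨d, hd⟩ := (bijective_iterateFrobenius F p k).2 c
  rw [iterateFrobenius_def] at hd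
  have hd0 : d ≠ 0 := by
    rintro rfl
    have h1 := congrArg det hc
    rw [det_pow, scalar_apply, det_diagonal, Finset.prod_const, Finset.card_univ, Fintype.card_fin,
      ← hd, zero_pow (pow_ne_zero _ hp.out.ne_zero), zero_pow hn.ne'] at h1
    exact (g.det_ne_zero) (pow_eq_zero_iff (pow_ne_zero _ hp.out.ne_zero) |>.mp h1)
  have hA : (d⁻¹ • (g : Matrix (Fin n) (Fin n) F)) ^ p ^ k = 1 := by
    rw [smul_pow, hc, ← hd, inv_pow, scalar_apply, smul_eq_diagonal_mul, diagonal_mul_diagonal]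
    simp [hd0]
  have hdet : (d⁻¹ • (g : Matrix (Fin n) (Fin n) F)).det = 1 :=
    det_eq_one_of_pow _ (k := k) (by rw [← det_pow, hA, det_one])
  set g' := GeneralLinearGroup.mkOfDetNeZero (d⁻¹ • (g : Matrix (Fin n) (Fin n) F))
    (by rw [hdet]; exact one_ne_zero)
  have : pr g = pr g' := by
    rw [← mul_inv_eq_one, ← map_inv, ← map_mul, pr_eq_one_iff]
    refine ⟨d, ?_⟩
    have hg : (g : Matrix (Fin n) (Fin n) F) = d • (g' : Matrix (Fin n) (Fin n) F) := by
      show _ = d • (d⁻¹ • (g : Matrix (Fin n) (Fin n) F))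
      rw [smul_smul, mul_inv_cancel₀ hd0, one_smul]
    rw [Units.val_mul, hg, smul_mul_assoc, ← Units.val_mul, mul_inv_cancel, Units.val_one, scalar_apply,
      smul_one_eq_diagonal]
  rw [this]
  exact mem_slImage_of_det hdet

/-- The facts used about a `p`-subgroup of PGL: a lift fixing a column and a row vector. -/
theorem exists_lift_fixed (hn : 1 ≤ n) (N : Subgroup (PG n F)) (hN : IsPGroup p N) :
    ∃ P : Subgroup (GL (Fin n) F), IsPGroup p P ∧ (∀ z ∈ N, ∃ g ∈ P, pr g = z) ∧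
      (∀ g : GL (Fin n) F, (∃ k : ℕ, g ^ p ^ k = 1) → pr g ∈ N → g ∈ P) ∧
      (∃ v : Fin n → F, v ≠ 0 ∧ ∀ g ∈ P, (g : Matrix (Fin n) (Fin n) F) *ᵥ v = v) ∧
      (∃ v : Fin n → F, v ≠ 0 ∧ ∀ g ∈ P, v ᵥ* (g : Matrix (Fin n) (Fin n) F) = v) := by
  haveI : Nonempty (Fin n) := ⟨⟨0, by omega⟩⟩
  set H := N.comap (pr : GL (Fin n) F →* PG n F)
  let f : H →* N := (pr : GL (Fin n) F →* PG n F).subgroupComap N
  have hf : Function.Surjective f := fun z => by
    obtain ⟨g, hg⟩ := pr_surjective (z : PG n F)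
    exact ⟨⟨g, show pr g ∈ N from hg ▸ z.2⟩, Subtype.ext hg⟩
  obtain ⟨S⟩ : Nonempty (Sylow p H) := inferInstance
  set P := (S : Subgroup H).map H.subtype
  have hP : IsPGroup p P := S.isPGroup'.map _
  have hsurj : ∀ z ∈ N, ∃ g ∈ P, pr g = z := by
    intro z hz
    have htop : ((S.mapSurjective hf : Sylow p N) : Subgroup N) = ⊤ :=
      (S.mapSurjective hf).is_maximal' (hN.of_equiv Subgroup.topEquiv.symm) le_top |>.symm
    have : (⟨z, hz⟩ : N) ∈ ((S.mapSurjective hf : Sylow p N) : Subgroup N) := htop ▸ mem_top _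
    rw [Sylow.coe_mapSurjective] at this
    obtain ⟨g, hg, hgz⟩ := this
    exact ⟨g, ⟨g, hg, rfl⟩, congrArg Subtype.val hgz⟩
  have hall : ∀ g : GL (Fin n) F, (∃ k : ℕ, g ^ p ^ k = 1) → pr g ∈ N → g ∈ P := by
    rintro g ⟨k, hk⟩ hg
    obtain ⟨h, hh, hhz⟩ := hsurj _ hg
    obtain ⟨c, hc⟩ := eq_of_pr_eq hhz.symm
    obtain ⟨j, hj⟩ := hP ⟨h, hh⟩
    have hj' : h ^ p ^ j = 1 := congrArg Subtype.val hj
    have e1 : (g : Matrix (Fin n) (Fin n) F) ^ p ^ (k + j) = 1 := by
      rw [← Units.val_pow_eq_pow_val, pow_add, pow_mul, hk, one_pow, Units.val_one]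
    have e2 : (h : Matrix (Fin n) (Fin n) F) ^ p ^ (k + j) = 1 := by
      rw [← Units.val_pow_eq_pow_val, add_comm, pow_add, pow_mul, hj', one_pow, Units.val_one]
    rw [hc, smul_pow, e2] at e1
    have hcp : c ^ p ^ (k + j) = 1 := by
      have := congrFun (congrFun e1 ⟨0, by omega⟩) ⟨0, by omega⟩
      simpa using this
    rw [det_eq_one_of_pow c hcp, one_smul] at hc
    exact (Units.ext hc : g = h) ▸ hh
  obtain ⟨_, hcard, hF⟩ := FiniteField.card F p
  have hdvd : p ∣ Nat.card (Fin n → F) := by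
    rw [Nat.card_fun, Nat.card_eq_fintype_card (α := F), hF, Nat.card_fin, ← pow_mul]
    exact dvd_pow_self p (Nat.mul_ne_zero (PNat.ne_zero _) (by omega))
  refine ⟨P, hP, hsurj, hall, ?_, ?_⟩
  · letI : MulAction P (Fin n → F) :=
      { smul := fun g v => ((g : GL (Fin n) F) : Matrix (Fin n) (Fin n) F) *ᵥ v
        one_smul := fun v => by
          show ((1 : GL (Fin n) F) : Matrix (Fin n) (Fin n) F) *ᵥ v = v
          rw [Units.val_one, one_mulVec]
        mul_smul := fun g h v => by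
          show ((g * h : GL (Fin n) F) : Matrix (Fin n) (Fin n) F) *ᵥ v =
            ((g : GL (Fin n) F) : Matrix (Fin n) (Fin n) F) *ᵥ (((h : GL (Fin n) F) : Matrix (Fin n) (Fin n) F) *ᵥ v)
          rw [mulVec_mulVec, Units.val_mul] }
    obtain ⟨v, hv, hv0⟩ := hP.exists_fixed_point_of_prime_dvd_card_of_fixed_point (Fin n → F) hdvd
      (a := 0) (fun g => mulVec_zero _)
    exact ⟨v, fun h => hv0 h.symm, fun g hg => hv ⟨g, hg⟩⟩
  · letI : MulAction P (Fin n → F) :=
      { smul := fun g v => v ᵥ* (((g : GL (Fin n) F)⁻¹ : GL (Fin n) F) : Matrix (Fin n) (Fin n) F)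
        one_smul := fun v => by
          show v ᵥ* (((1 : GL (Fin n) F)⁻¹ : GL (Fin n) F) : Matrix (Fin n) (Fin n) F) = v
          rw [inv_one, Units.val_one, vecMul_one]
        mul_smul := fun g h v => by
          show v ᵥ* (((g * h : GL (Fin n) F)⁻¹ : GL (Fin n) F) : Matrix (Fin n) (Fin n) F) =
            (v ᵥ* (((h : GL (Fin n) F)⁻¹ : GL (Fin n) F) : Matrix (Fin n) (Fin n) F)) ᵥ*
              (((g : GL (Fin n) F)⁻¹ : GL (Fin n) F) : Matrix (Fin n) (Fin n) F)
          rw [vecMul_vecMul, ← Units.val_mul, ← _root_.mul_inv_rev] }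
    obtain ⟨v, hv, hv0⟩ := hP.exists_fixed_point_of_prime_dvd_card_of_fixed_point (Fin n → F) hdvd
      (a := 0) (fun g => zero_vecMul _)
    refine ⟨v, fun h => hv0 h.symm, fun g hg => ?_⟩
    have h := hv ⟨g⁻¹, inv_mem hg⟩
    change v ᵥ* (((g⁻¹ : GL (Fin n) F)⁻¹ : GL (Fin n) F) : Matrix (Fin n) (Fin n) F) = v at h
    rwa [inv_inv] at h

theorem fixed_col_unip {v : Fin n → F} (h : (unip n F : Matrix (Fin n) (Fin n) F) *ᵥ v = v) :
    ∀ i : Fin n, (i : ℕ) ≠ 0 → v i = 0 := by
  rw [coe_unip, add_mulVec, one_mulVec, add_eq_left] at h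
  intro i hi
  have e := congrFun h ⟨(i : ℕ) - 1, by omega⟩
  rw [mulVec, dotProduct, Finset.sum_eq_single i] at e
  · rw [shift, of_apply, if_pos (show (i : ℕ) = (i : ℕ) - 1 + 1 by omega), one_mul] at e
    exact e
  · intro b _ hb
    rw [shift, of_apply, if_neg, zero_mul]
    intro he
    exact hb (Fin.ext (by simp at he; omega))
  · intro hh; exact absurd (Finset.mem_univ _) hh

theorem fixed_row_unip {v : Fin n → F} (h : v ᵥ* (unip n F : Matrix (Fin n) (Fin n) F) = v) :
    ∀ i : Fin n, (i : ℕ) + 1 < n → v i = 0 := by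
  rw [coe_unip, vecMul_add, vecMul_one, add_eq_left] at h
  intro i hi
  have e := congrFun h ⟨(i : ℕ) + 1, hi⟩
  rw [vecMul, dotProduct, Finset.sum_eq_single i] at e
  · simpa [shift] using e
  · intro b _ hb
    rw [shift, of_apply, if_neg, mul_zero]
    intro he
    exact hb (Fin.ext (by simp at he; omega))
  · intro hh; exact absurd (Finset.mem_univ _) hh

end Finite

end CfsgLib.PGroups.PGLCover
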