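import Mathlib
import Cfsg.Agent.Lib.PGroups.PGLUnipotentCover

/-!
# No nilpotent minimal covers between PSL and PGL

* `no_cover_of_three`: degree at least three, by regular unipotent elements and a point stabiliser
* `no_cover_of_not_slImage`: any degree, when the group is larger than the image of SL, by the image
* `no_cover_two`: degree two over at least seven or exactly four elements, by tori and a Borel group
-/

set_option autoImplicit false
set_option linter.all false
set_option maxHeartbeats 1000000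

namespace CfsgLib.PGroups.PGLCover

open Matrix Subgroup

variable {F : Type*} [Field F] {n : ℕ}

/-- The permutation matrix exchanging the last two coordinates. -/
noncomputable def lastSwap (hn : 2 ≤ n) (F : Type*) [Field F] : GL (Fin n) F :=
  ⟨(Equiv.swap (⟨n - 2, by omega⟩ : Fin n) ⟨n - 1, by omega⟩).permMatrix F,
    (Equiv.swap (⟨n - 2, by omega⟩ : Fin n) ⟨n - 1, by omega⟩).permMatrix F,
    by rw [← permMatrix_mul, Equiv.swap_mul_self, permMatrix_one],
    by rw [← permMatrix_mul, Equiv.swap_mul_self, permMatrix_one]⟩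

theorem lastSwap_mul_self (hn : 2 ≤ n) : lastSwap hn F * lastSwap hn F = 1 :=
  Units.ext (by
    show (Equiv.swap _ _).permMatrix F * (Equiv.swap _ _).permMatrix F = 1
    rw [← permMatrix_mul, Equiv.swap_mul_self, permMatrix_one])

theorem lastSwap_inv (hn : 2 ≤ n) : (lastSwap hn F)⁻¹ = lastSwap hn F :=
  inv_eq_of_mul_eq_one_right (lastSwap_mul_self hn)

theorem lastSwap_mem_lineStab (hn : 3 ≤ n) :
    lastSwap (by omega : 2 ≤ n) F ∈ lineStab n F ⟨0, by omega⟩ := by
  refine ⟨1, ?_⟩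
  rw [one_smul]
  show (Equiv.swap _ _).permMatrix F *ᵥ _ = _
  rw [permMatrix_mulVec]
  ext i
  simp only [Function.comp_apply]
  rw [Pi.single_apply, Pi.single_apply]
  congr 1
  rw [Equiv.swap_apply_def]
  simp only [Fin.ext_iff]
  split_ifs with h1 h2 <;> simp <;> omega

section Finite

variable [Fintype F] {p : ℕ} [hp : Fact p.Prime] [hcp : CharP F p]

include hp hcp

theorem not_both (hn : 2 ≤ n) (N : Subgroup (PG n F)) (hN : Group.IsNilpotent N)
    (hx : pr (unip n F) ∈ N) :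
    pr (lastSwap hn F * unip n F * (lastSwap hn F)⁻¹) ∉ N := by
  intro hy
  obtain ⟨P, -, -, hall, -, v, hv, hfix⟩ := exists_lift_fixed (by omega) N (isPGroup_of_mem_unip (p := p) hn hN hx)
  have hu := hall _ ⟨n, unip_pow⟩ hx
  have hu' := hall _ ⟨n, by rw [conj_pow, unip_pow, mul_one, mul_inv_cancel]⟩ hy
  have h1 := fixed_row_unip (hfix _ hu)
  have hπ : ∀ w : Fin n → F, (w ᵥ* (lastSwap hn F : Matrix (Fin n) (Fin n) F)) =
      w ∘ (Equiv.swap (⟨n - 2, by omega⟩ : Fin n) ⟨n - 1, by omega⟩) := fun w => by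
    show w ᵥ* (Equiv.swap _ _).permMatrix F = _
    rw [vecMul_permMatrix, Equiv.symm_swap]
  have h2 := hfix _ hu'
  rw [lastSwap_inv, Units.val_mul, Units.val_mul, ← vecMul_vecMul, ← vecMul_vecMul] at h2
  have h3 := congrArg (fun w => w ᵥ* (lastSwap hn F : Matrix (Fin n) (Fin n) F)) h2
  rw [vecMul_vecMul _ (lastSwap hn F : Matrix (Fin n) (Fin n) F) (lastSwap hn F : Matrix (Fin n) (Fin n) F),
    ← Units.val_mul, lastSwap_mul_self, Units.val_one, vecMul_one] at h3
  have h4 := fixed_row_unip h3 ⟨n - 2, by omega⟩ (show n - 2 + 1 < n by omega)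
  rw [hπ, Function.comp_apply, Equiv.swap_apply_left] at h4
  apply hv
  ext i
  by_cases hi : (i : ℕ) + 1 < n
  · exact h1 i hi
  · rw [show i = ⟨n - 1, by omega⟩ from Fin.ext (show (i : ℕ) = n - 1 by omega)]
    exact h4

omit hp hcp in
theorem isNilpotent_map_subtype {G : Subgroup (PG n F)} {N : Subgroup G} (hN : Group.IsNilpotent N) :
    Group.IsNilpotent (N.map G.subtype) :=
  haveI := hN
  Group.nilpotent_of_surjective (G.subtype.subgroupMap N) (G.subtype.subgroupMap_surjective N)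

theorem unip_mem (G : Subgroup (PG n F)) (hG : slImage n F ≤ G) : pr (unip n F) ∈ G :=
  hG (mem_slImage_of_pow (p := p) (k := n) (by rw [← map_pow, unip_pow, map_one]))

theorem swap_unip_mem (hn : 2 ≤ n) (G : Subgroup (PG n F)) (hG : slImage n F ≤ G) :
    pr (lastSwap hn F * unip n F * (lastSwap hn F)⁻¹) ∈ G :=
  hG (mem_slImage_of_pow (p := p) (k := n) (by rw [← map_pow, conj_pow, unip_pow, mul_one, mul_inv_cancel, map_one]))

theorem isPGroup_of_mem_swap (hn : 2 ≤ n) {N : Subgroup (PG n F)} (hN : Group.IsNilpotent N)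
    (h : pr (lastSwap hn F * unip n F * (lastSwap hn F)⁻¹) ∈ N) :
    IsPGroup p (N.map (MulAut.conj (pr (lastSwap hn F))).toMonoidHom) := by
  haveI := hN
  refine isPGroup_of_mem_unip hn (Group.nilpotent_of_surjective _ (MonoidHom.subgroupMap_surjective _ N)) ?_
  refine ⟨_, h, ?_⟩
  show pr (lastSwap hn F) * pr _ * (pr (lastSwap hn F))⁻¹ = _
  rw [← map_inv, ← map_mul, ← map_mul]
  congr 1
  simp only [lastSwap_inv, mul_assoc, lastSwap_mul_self, mul_one]
  rw [← mul_assoc, lastSwap_mul_self, one_mul]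

theorem le_lineStab_of_mem_unip (hn : 2 ≤ n) {N : Subgroup (PG n F)} (hN : Group.IsNilpotent N)
    (h : pr (unip n F) ∈ N) : N ≤ (lineStab n F ⟨0, by omega⟩).map pr := by
  obtain ⟨P, -, hsurj, hall, ⟨v, hv, hfix⟩, -⟩ :=
    exists_lift_fixed (by omega) N (isPGroup_of_mem_unip hn hN h)
  have h1 := fixed_col_unip (hfix _ (hall _ ⟨n, unip_pow⟩ h))
  have hv0 : v = v ⟨0, by omega⟩ • Pi.single (⟨0, by omega⟩ : Fin n) (1 : F) := by
    ext i
    by_cases hi : (i : ℕ) = 0
    · rw [show i = ⟨0, by omega⟩ from Fin.ext hi]; simp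
    · rw [h1 i hi, Pi.smul_apply, Pi.single_eq_of_ne (fun e => hi (by rw [e])), smul_zero]
  have hv00 : v ⟨0, by omega⟩ ≠ 0 := fun e => hv (by rw [hv0, e, zero_smul])
  intro z hz
  obtain ⟨g, hg, rfl⟩ := hsurj z hz
  refine ⟨g, ⟨1, ?_⟩, rfl⟩
  have h2 := hfix g hg
  rw [hv0, mulVec_smul] at h2
  rw [one_smul]
  exact smul_right_injective _ hv00 h2

theorem no_cover_of_three (hn : 3 ≤ n) (G : Subgroup (PG n F)) (hG : slImage n F ≤ G) :
    CoverReplace.NoNilMinCover G := by
  have hn2 : 2 ≤ n := by omega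
  set S := (lineStab n F ⟨0, by omega⟩).map (pr : GL (Fin n) F →* PG n F)
  refine CoverReplace.no_nilpotent_minimal_cover (S.subgroupOf G) ?_ ⟨_, unip_mem (p := p) G hG⟩
    ⟨_, swap_unip_mem (p := p) hn2 G hG⟩ (fun N hN hxN hyN => ?_) fun N hN hxy g hg => Or.inl ?_
  · intro htop
    have hne : (⟨1, by omega⟩ : Fin n) ≠ ⟨0, by omega⟩ := by simp [Fin.ext_iff]
    have hdet : (transvection (⟨1, by omega⟩ : Fin n) ⟨0, by omega⟩ (1 : F)).det = 1 :=
      det_transvection_of_ne _ _ hne _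
    set w := GeneralLinearGroup.mkOfDetNeZero _ (hdet.symm ▸ one_ne_zero :
      (transvection (⟨1, by omega⟩ : Fin n) ⟨0, by omega⟩ (1 : F)).det ≠ 0)
    have hw : (⟨pr w, hG (mem_slImage_of_det hdet)⟩ : G) ∈ S.subgroupOf G := htop ▸ mem_top _
    obtain ⟨c, hc⟩ := pr_mem_map_lineStab.mp (mem_subgroupOf.mp hw)
    have := congrFun hc ⟨1, by omega⟩
    simp [w, transvection, add_mulVec, Pi.single_apply, hne] at this
  · exact not_both (p := p) hn2 _ (isNilpotent_map_subtype hN) ⟨_, hxN, rfl⟩ ⟨_, hyN, rfl⟩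
  · refine mem_subgroupOf.mpr ?_
    have hN' := isNilpotent_map_subtype hN
    rcases hxy with hxN | hyN
    · exact le_lineStab_of_mem_unip (p := p) hn2 hN' ⟨_, hxN, rfl⟩ ⟨g, hg, rfl⟩
    · have hs : pr (lastSwap hn2 F) ∈ S := ⟨_, lastSwap_mem_lineStab hn, rfl⟩
      haveI := hN'
      have := le_lineStab_of_mem_unip (p := p) hn2
        (N := (N.map G.subtype).map (MulAut.conj (pr (lastSwap hn2 F))).toMonoidHom)
        (Group.nilpotent_of_surjective _ (MonoidHom.subgroupMap_surjective _ _))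
        ⟨_, ⟨_, hyN, rfl⟩, by
          show pr (lastSwap hn2 F) * pr (lastSwap hn2 F * unip n F * (lastSwap hn2 F)⁻¹) *
            (pr (lastSwap hn2 F))⁻¹ = _
          rw [← map_inv, ← map_mul, ← map_mul]
          congr 1
          simp only [lastSwap_inv, mul_assoc, lastSwap_mul_self, mul_one]
          rw [← mul_assoc, lastSwap_mul_self, one_mul]⟩
        ⟨_, ⟨g, hg, rfl⟩, rfl⟩
      have h2 := S.mul_mem (S.mul_mem (S.inv_mem hs) this) hs
      simpa [mul_assoc] using h2

theorem no_cover_of_not_slImage (hn : 2 ≤ n) (G : Subgroup (PG n F)) (hG : slImage n F ≤ G)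
    (hne : G ≠ slImage n F) : CoverReplace.NoNilMinCover G := by
  refine CoverReplace.no_nilpotent_minimal_cover ((slImage n F).subgroupOf G) ?_ ⟨_, unip_mem (p := p) G hG⟩
    ⟨_, swap_unip_mem (p := p) hn G hG⟩ (fun N hN hxN hyN => ?_) fun N hN hxy g hg => Or.inl ?_
  · intro h
    exact hne (le_antisymm (subgroupOf_eq_top.mp h) hG)
  · exact not_both (p := p) hn _ (isNilpotent_map_subtype hN) ⟨_, hxN, rfl⟩ ⟨_, hyN, rfl⟩
  · refine mem_subgroupOf.mpr ?_
    have hN' := isNilpotent_map_subtype hN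
    have hP : IsPGroup p (N.map G.subtype) := by
      rcases hxy with hxN | hyN
      · exact isPGroup_of_mem_unip hn hN' ⟨_, hxN, rfl⟩
      · exact (isPGroup_of_mem_swap hn hN' ⟨_, hyN, rfl⟩).of_equiv
          (equivMapOfInjective _ _ (MulEquiv.injective _)).symm
    obtain ⟨k, hk⟩ := hP ⟨_, ⟨g, hg, rfl⟩⟩
    exact mem_slImage_of_pow (p := p) (k := k) (congrArg Subtype.val hk)

end Finite

section Two

theorem mem_lineStab_two {g : GL (Fin 2) F} :
    g ∈ lineStab 2 F 0 ↔ (g : Matrix (Fin 2) (Fin 2) F) 1 0 = 0 := by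
  constructor
  · rintro ⟨c, hc⟩
    have := congrFun hc 1
    simpa [mulVec, dotProduct, Fin.sum_univ_two] using this
  · intro h
    refine ⟨(g : Matrix (Fin 2) (Fin 2) F) 0 0, ?_⟩
    ext i
    fin_cases i <;> simp [mulVec, dotProduct, Fin.sum_univ_two, h]

variable [Fintype F]

theorem torus_commute {α : F} (hα : α ≠ 0) (h2 : α ^ 2 ≠ 1) (h4 : α ^ 4 ≠ 1)
    {d : GL (Fin 2) F} (hd : (d : Matrix (Fin 2) (Fin 2) F) = !![α, 0; 0, α⁻¹])
    {h : GL (Fin 2) F} (hc : Commute (pr h) (pr d)) :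
    (h : Matrix (Fin 2) (Fin 2) F) 0 1 = 0 ∧ (h : Matrix (Fin 2) (Fin 2) F) 1 0 = 0 := by
  obtain ⟨c, he⟩ := eq_of_pr_eq (g := h * d) (h := d * h) (by rw [map_mul, map_mul]; exact hc.eq)
  rw [Units.val_mul, Units.val_mul, hd] at he
  have hdet := h.det_ne_zero
  rw [det_fin_two] at hdet
  have e00 := congrFun (congrFun he 0) 0
  have e01 := congrFun (congrFun he 0) 1
  have e10 := congrFun (congrFun he 1) 0
  have e11 := congrFun (congrFun he 1) 1
  simp [mul_apply, vecMul, dotProduct, Fin.sum_univ_two] at e00 e01 e10 e11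
  have hne : α ≠ α⁻¹ := fun e => h2 (by
    rw [pow_two]
    nth_rewrite 2 [e]
    exact mul_inv_cancel₀ hα)
  by_cases hc1 : c = 1
  · subst hc1
    simp only [one_mul] at e01 e10
    constructor
    · have : (h : Matrix (Fin 2) (Fin 2) F) 0 1 * (α⁻¹ - α) = 0 := by linear_combination e01
      exact (mul_eq_zero.mp this).resolve_right (sub_ne_zero.mpr (Ne.symm hne))
    · have : (h : Matrix (Fin 2) (Fin 2) F) 1 0 * (α - α⁻¹) = 0 := by linear_combination e10
      exact (mul_eq_zero.mp this).resolve_right (sub_ne_zero.mpr hne)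
  · have z0 : (h : Matrix (Fin 2) (Fin 2) F) 0 0 = 0 := by
      have : (h : Matrix (Fin 2) (Fin 2) F) 0 0 * α * (c - 1) = 0 := by linear_combination -e00
      simpa [hα, sub_ne_zero.mpr hc1] using this
    have z1 : (h : Matrix (Fin 2) (Fin 2) F) 1 1 = 0 := by
      have : (h : Matrix (Fin 2) (Fin 2) F) 1 1 * α⁻¹ * (c - 1) = 0 := by linear_combination -e11
      simpa [hα, sub_ne_zero.mpr hc1] using this
    rw [z0, z1, mul_zero, zero_sub, neg_ne_zero] at hdet
    obtain ⟨n01, n10⟩ := mul_ne_zero_iff.mp hdet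
    have f01 : α⁻¹ = c * α := by
      have : (h : Matrix (Fin 2) (Fin 2) F) 0 1 * (α⁻¹ - c * α) = 0 := by linear_combination e01
      exact sub_eq_zero.mp ((mul_eq_zero.mp this).resolve_left n01)
    have f10 : α = c * α⁻¹ := by
      have : (h : Matrix (Fin 2) (Fin 2) F) 1 0 * (α - c * α⁻¹) = 0 := by linear_combination e10
      exact sub_eq_zero.mp ((mul_eq_zero.mp this).resolve_left n10)
    exact absurd (by
      have e1 : c = α ^ 2 := by
        calc c = c * α⁻¹ * α := by field_simp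
          _ = α ^ 2 := by rw [← f10]; ring
      have e2 : c * α ^ 2 = 1 := by
        calc c * α ^ 2 = c * α * α := by ring
          _ = 1 := by rw [← f01]; exact inv_mul_cancel₀ hα
      calc α ^ 4 = α ^ 2 * α ^ 2 := by ring
        _ = 1 := by rw [← e2, e1]) h4

/-- A nilpotent subgroup containing the torus element consists of diagonal and antidiagonal elements. -/
theorem mem_torus_normalizer {α : F} (hα : α ≠ 0) (h2 : α ^ 2 ≠ 1) (h4 : α ^ 4 ≠ 1)
    {d : GL (Fin 2) F} (hd : (d : Matrix (Fin 2) (Fin 2) F) = !![α, 0; 0, α⁻¹])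
    {N : Subgroup (PG 2 F)} (hN : Group.IsNilpotent N) (hdN : pr d ∈ N) {g : GL (Fin 2) F}
    (hg : pr g ∈ N) :
    ((g : Matrix (Fin 2) (Fin 2) F) 0 1 = 0 ∧ (g : Matrix (Fin 2) (Fin 2) F) 1 0 = 0) ∨
      ((g : Matrix (Fin 2) (Fin 2) F) 0 0 = 0 ∧ (g : Matrix (Fin 2) (Fin 2) F) 1 1 = 0) := by
  haveI := hN
  have hd1 : pr d ≠ 1 := by
    intro e
    obtain ⟨c, hc⟩ := pr_eq_one_iff.mp e
    rw [hd] at hc
    have e0 := congrFun (congrFun hc 0) 0
    have e1 := congrFun (congrFun hc 1) 1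
    simp [scalar_apply] at e0 e1
    apply h2
    rw [pow_two]
    nth_rewrite 2 [show α = α⁻¹ from e0.trans e1.symm]
    exact mul_inv_cancel₀ hα
  haveI : Nontrivial N := ⟨⟨⟨pr d, hdN⟩, 1, fun e => hd1 (congrArg Subtype.val e)⟩⟩
  haveI : Nontrivial (center N) := (nontrivial_iff_ne_bot _).mpr (Group.IsNilpotent.center_ne_bot N)
  obtain ⟨z, hz⟩ := exists_ne (1 : center N)
  obtain ⟨h, hh⟩ := pr_surjective ((z : N) : PG 2 F)
  have hcom : ∀ w : N, Commute (pr h) (w : PG 2 F) := fun w => by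
    rw [hh]
    exact congrArg Subtype.val (mem_center_iff.mp z.2 w).symm
  obtain ⟨h01, h10⟩ := torus_commute hα h2 h4 hd (hcom ⟨pr d, hdN⟩)
  have hdet := h.det_ne_zero
  rw [det_fin_two, h01, zero_mul, sub_zero] at hdet
  obtain ⟨n00, n11⟩ := mul_ne_zero_iff.mp hdet
  have hne : (h : Matrix (Fin 2) (Fin 2) F) 0 0 ≠ (h : Matrix (Fin 2) (Fin 2) F) 1 1 := by
    intro e
    refine hz (Subtype.ext (Subtype.ext ?_))
    show ((z : N) : PG 2 F) = 1
    rw [← hh, pr_eq_one_iff]
    refine ⟨(h : Matrix (Fin 2) (Fin 2) F) 0 0, ?_⟩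
    ext i j
    fin_cases i <;> fin_cases j <;> simp [scalar_apply, h01, h10, e]
  obtain ⟨c, he⟩ := eq_of_pr_eq (g := g * h) (h := h * g) (by
    rw [map_mul, map_mul]; exact (hcom ⟨pr g, hg⟩).symm.eq)
  rw [Units.val_mul, Units.val_mul] at he
  have e00 := congrFun (congrFun he 0) 0
  have e01 := congrFun (congrFun he 0) 1
  have e10 := congrFun (congrFun he 1) 0
  have e11 := congrFun (congrFun he 1) 1
  simp [mul_apply, vecMul, dotProduct, Fin.sum_univ_two, h01, h10] at e00 e01 e10 e11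
  set a := (h : Matrix (Fin 2) (Fin 2) F) 0 0
  set b := (h : Matrix (Fin 2) (Fin 2) F) 1 1
  by_cases hc1 : c = 1
  · subst hc1
    simp only [one_mul] at e01 e10
    refine Or.inl ⟨?_, ?_⟩
    · have : (g : Matrix (Fin 2) (Fin 2) F) 0 1 * (b - a) = 0 := by linear_combination e01
      exact (mul_eq_zero.mp this).resolve_right (sub_ne_zero.mpr (Ne.symm hne))
    · have : (g : Matrix (Fin 2) (Fin 2) F) 1 0 * (a - b) = 0 := by linear_combination e10
      exact (mul_eq_zero.mp this).resolve_right (sub_ne_zero.mpr hne)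
  · refine Or.inr ⟨?_, ?_⟩
    · have : (g : Matrix (Fin 2) (Fin 2) F) 0 0 * a * (c - 1) = 0 := by linear_combination -e00
      simpa [n00, sub_ne_zero.mpr hc1] using this
    · have : (g : Matrix (Fin 2) (Fin 2) F) 1 1 * b * (c - 1) = 0 := by linear_combination -e11
      simpa [n11, sub_ne_zero.mpr hc1] using this

theorem pow_two_mem_slImage (g : GL (Fin 2) F) : pr g ^ 2 ∈ slImage 2 F := by
  set d := (g : Matrix (Fin 2) (Fin 2) F).det
  have hd0 : d ≠ 0 := g.det_ne_zero
  have hdet : (d⁻¹ • ((g : Matrix (Fin 2) (Fin 2) F) * (g : Matrix (Fin 2) (Fin 2) F))).det = 1 := by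
    rw [det_smul, det_mul, Fintype.card_fin]
    rw [show d⁻¹ ^ 2 * (d * d) = (d⁻¹ * d) ^ 2 by ring, inv_mul_cancel₀ hd0, one_pow]
  set g' := GeneralLinearGroup.mkOfDetNeZero (d⁻¹ • ((g : Matrix (Fin 2) (Fin 2) F) * (g : Matrix (Fin 2) (Fin 2) F)))
    (by rw [hdet]; exact one_ne_zero)
  have : pr g ^ 2 = pr g' := by
    rw [← map_pow, ← mul_inv_eq_one, ← map_inv, ← map_mul, pr_eq_one_iff]
    refine ⟨d, ?_⟩
    have hg : ((g ^ 2 : GL (Fin 2) F) : Matrix (Fin 2) (Fin 2) F) =
        d • (g' : Matrix (Fin 2) (Fin 2) F) := by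
      show _ = d • (d⁻¹ • _)
      rw [smul_smul, mul_inv_cancel₀ hd0, one_smul, Units.val_pow_eq_pow_val, pow_two]
    rw [Units.val_mul, hg, smul_mul_assoc, ← Units.val_mul, mul_inv_cancel, Units.val_one, scalar_apply,
      smul_one_eq_diagonal]
  rw [this]
  exact mem_slImage_of_det hdet

/-- An involution outside the scalars is a power of an element of larger order. -/
theorem exists_root (h7 : 7 ≤ Fintype.card F) (hchar : (2 : F) ≠ 0) (G : Subgroup (PG 2 F))
    (hG : slImage 2 F ≤ G) {z : GL (Fin 2) F} {e : F} (he : e ≠ 0)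
    (hsq : (z : Matrix (Fin 2) (Fin 2) F) * z = e • 1)
    (hns : ∀ s : F, (z : Matrix (Fin 2) (Fin 2) F) ≠ s • 1) (hzG : pr z ∈ G) :
    ∃ w ∈ G, pr z ∈ zpowers w ∧ w ^ 2 ≠ 1 := by
  classical
  set M := (z : Matrix (Fin 2) (Fin 2) F)
  have huniq : ∀ s t s' t' : F, s • (1 : Matrix (Fin 2) (Fin 2) F) + t • M = s' • 1 + t' • M →
      s = s' ∧ t = t' := by
    intro s t s' t' h
    have ht : t = t' := by
      by_contra hne
      apply hns ((s' - s) / (t - t'))
      have h1 : (t - t') • M = (s' - s) • (1 : Matrix (Fin 2) (Fin 2) F) := by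
        rw [sub_smul, sub_smul]
        rw [sub_eq_sub_iff_add_eq_add, add_comm (t • M), h, add_comm]
      rw [div_eq_inv_mul, ← smul_smul, ← h1, smul_smul, inv_mul_cancel₀ (sub_ne_zero.mpr hne), one_smul]
    subst ht
    refine ⟨?_, rfl⟩
    have := congrFun (congrFun h 0) 0
    simpa using this
  have hmul : ∀ s t s' t' : F, (s • (1 : Matrix (Fin 2) (Fin 2) F) + t • M) * (s' • 1 + t' • M) =
      (s * s' + e * t * t') • 1 + (s * t' + t * s') • M := by
    intro s t s' t'
    rw [add_mul, mul_add, mul_add, smul_mul_smul_comm, smul_mul_smul_comm, smul_mul_smul_comm,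
      smul_mul_smul_comm, one_mul, one_mul, mul_one, hsq, smul_smul, add_smul, add_smul]
    rw [show t * t' * e = e * t * t' by ring]
    abel
  let L₀ : Subgroup (GL (Fin 2) F) :=
    { carrier := {g | ∃ s t : F, (g : Matrix (Fin 2) (Fin 2) F) = s • 1 + t • M}
      one_mem' := ⟨1, 0, by rw [Units.val_one, one_smul, zero_smul, add_zero]⟩
      mul_mem' := fun {g h} hg hh => by
        obtain ⟨s, t, hg⟩ := hg
        obtain ⟨s', t', hh⟩ := hh
        exact ⟨_, _, by rw [Units.val_mul, hg, hh, hmul]⟩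
      inv_mem' := fun {g} hg => by
        have hpow : ∀ k : ℕ, ∃ s t : F, ((g ^ k : GL (Fin 2) F) : Matrix (Fin 2) (Fin 2) F) = s • 1 + t • M := by
          intro k
          induction k with
          | zero => exact ⟨1, 0, by rw [pow_zero, Units.val_one, one_smul, zero_smul, add_zero]⟩
          | succ k ih =>
            obtain ⟨s, t, h1⟩ := ih
            obtain ⟨s', t', h2⟩ := hg
            exact ⟨_, _, by rw [pow_succ, Units.val_mul, h1, h2, hmul]⟩
        rw [show g⁻¹ = g ^ (orderOf g - 1) from inv_eq_of_mul_eq_one_right (by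
          rw [← pow_succ', Nat.sub_add_cancel (orderOf_pos g), pow_orderOf_eq_one])]
        exact hpow _ }
  -- the character into an algebraically closed field
  let L := AlgebraicClosure F
  obtain ⟨r, hr⟩ := IsAlgClosed.exists_pow_nat_eq (algebraMap F L e) (n := 2) two_pos
  let co : L₀ → F × F := fun g => (g.2.choose, g.2.choose_spec.choose)
  have hco : ∀ g : L₀, ((g : GL (Fin 2) F) : Matrix (Fin 2) (Fin 2) F) = (co g).1 • 1 + (co g).2 • M :=
    fun g => g.2.choose_spec.choose_spec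
  let θ : L → L₀ → L := fun r g => algebraMap F L (co g).1 + algebraMap F L (co g).2 * r
  have hθ : ∀ r : L, r ^ 2 = algebraMap F L e → θ r 1 = 1 ∧ ∀ g h : L₀, θ r (g * h) = θ r g * θ r h := by
    intro r hr
    refine ⟨?_, fun g h => ?_⟩
    · obtain ⟨a, b⟩ := huniq (co 1).1 (co 1).2 1 0 (by rw [← hco]; simp)
      simp [θ, a, b]
    · obtain ⟨a, b⟩ := huniq (co (g * h)).1 (co (g * h)).2 ((co g).1 * (co h).1 + e * (co g).2 * (co h).2)
        ((co g).1 * (co h).2 + (co g).2 * (co h).1) (by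
        rw [← hco, Subgroup.coe_mul, Units.val_mul, hco g, hco h, hmul])
      simp only [θ, a, b, map_add, map_mul]
      linear_combination (-(algebraMap F L (co g).2 * algebraMap F L (co h).2)) * hr
  have hr' : (-r) ^ 2 = algebraMap F L e := by rw [neg_sq, hr]
  let θ₁ : L₀ →* L := { toFun := θ r, map_one' := (hθ r hr).1, map_mul' := (hθ r hr).2 }
  let θ₂ : L₀ →* L := { toFun := θ (-r), map_one' := (hθ _ hr').1, map_mul' := (hθ _ hr').2 }
  let χ : L₀ →* Lˣ := θ₁.toHomUnits / θ₂.toHomUnits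
  have hker : ∀ g : L₀, χ g = 1 → pr (g : GL (Fin 2) F) = 1 := by
    intro g hg
    have hg' : θ₁.toHomUnits g = θ₂.toHomUnits g := by
      rwa [MonoidHom.div_apply, div_eq_one] at hg
    have h1 : θ r g = θ (-r) g := congrArg Units.val hg'
    have h2 : algebraMap F L (co g).2 * r * (algebraMap F L 2) = 0 := by
      simp only [θ] at h1
      rw [map_ofNat]
      linear_combination h1
    have hr0 : r ≠ 0 := by
      rintro rfl
      rw [zero_pow two_ne_zero, eq_comm, map_eq_zero] at hr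
      exact he hr
    have ht : (co g).2 = 0 := by
      simpa [hr0, hchar] using h2
    rw [pr_eq_one_iff]
    refine ⟨(co g).1, ?_⟩
    rw [hco, ht, zero_smul, add_zero, scalar_apply, smul_one_eq_diagonal]
  haveI : IsCyclic χ.range := isCyclic_of_subgroup_isDomain ((Units.coeHom L).comp χ.range.subtype)
    (Units.val_injective.comp Subtype.val_injective)
  obtain ⟨⟨_, g₀, rfl⟩, hgen⟩ := IsCyclic.exists_generator (α := χ.range)
  have hcyc : L₀.map pr ≤ zpowers (pr (g₀ : GL (Fin 2) F)) := by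
    rintro _ ⟨g, hg, rfl⟩
    obtain ⟨k, hk⟩ := mem_zpowers_iff.mp (hgen ⟨χ ⟨g, hg⟩, ⟨_, rfl⟩⟩)
    refine mem_zpowers_iff.mpr ⟨k, ?_⟩
    have := hker (g₀ ^ k * ⟨g, hg⟩⁻¹) (by
      rw [map_mul, map_zpow, map_inv, mul_inv_eq_one]
      exact congrArg Subtype.val hk)
    rwa [Subgroup.coe_mul, Subgroup.coe_zpow, Subgroup.coe_inv, map_mul, map_zpow, map_inv,
      mul_inv_eq_one] at this
  haveI : IsCyclic (G ⊓ L₀.map pr : Subgroup (PG 2 F)) :=
    Subgroup.isCyclic_of_le (inf_le_right.trans hcyc)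
  obtain ⟨w, hwgen⟩ := IsCyclic.exists_generator (α := (G ⊓ L₀.map pr : Subgroup (PG 2 F)))
  refine ⟨w, w.2.1, ?_, fun hw => ?_⟩
  · obtain ⟨k, hk⟩ := mem_zpowers_iff.mp (hwgen ⟨pr z, hzG, z, ⟨0, 1, by simp [M]⟩, rfl⟩)
    exact mem_zpowers_iff.mpr ⟨k, by simpa using congrArg Subtype.val hk⟩
  -- choose a parameter avoiding few values
  obtain ⟨t, ht0, ht1, ht2⟩ : ∃ t : F, t ≠ 0 ∧ e * t ^ 2 ≠ 1 ∧ e * t ^ 2 ≠ -1 := by
    by_contra hno
    push Not at hno
    have hsub : (Finset.univ : Finset F) ⊆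
        {0} ∪ (Polynomial.nthRoots 2 e⁻¹).toFinset ∪ (Polynomial.nthRoots 2 (-e⁻¹)).toFinset := by
      intro t _
      simp only [Finset.mem_union, Finset.mem_singleton, Multiset.mem_toFinset,
        Polynomial.mem_nthRoots two_pos]
      by_cases h0 : t = 0
      · exact Or.inl (Or.inl h0)
      by_cases h1 : e * t ^ 2 = 1
      · exact Or.inl (Or.inr (eq_inv_of_mul_eq_one_right h1))
      · refine Or.inr ?_
        have h2 := hno t h0 h1
        field_simp
        linear_combination h2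
    have h1 := (Finset.card_le_card hsub).trans ((Finset.card_union_le _ _).trans
      (Nat.add_le_add_right (Finset.card_union_le _ _) _))
    have h2 := (Multiset.toFinset_card_le (Polynomial.nthRoots 2 e⁻¹)).trans (Polynomial.card_nthRoots 2 e⁻¹)
    have h3 := (Multiset.toFinset_card_le (Polynomial.nthRoots 2 (-e⁻¹))).trans
      (Polynomial.card_nthRoots 2 (-e⁻¹))
    rw [Finset.card_univ, Finset.card_singleton] at h1
    omega
  have hu : ((1 : F) • (1 : Matrix (Fin 2) (Fin 2) F) + t • M) * ((1 : F) • 1 + (-t) • M) =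
      (1 - e * t ^ 2) • 1 := by
    rw [hmul, show (1 : F) * -t + t * 1 = 0 by ring, zero_smul, add_zero]
    congr 1; ring
  have hdet : ((1 : F) • (1 : Matrix (Fin 2) (Fin 2) F) + t • M).det ≠ 0 := by
    intro h0
    have := congrArg det hu
    rw [det_mul, h0, zero_mul, det_smul, det_one, mul_one, eq_comm, Fintype.card_fin] at this
    exact ht1 (sub_eq_zero.mp (pow_eq_zero_iff two_ne_zero |>.mp this)).symm
  set g := GeneralLinearGroup.mkOfDetNeZero _ hdet
  have hgmem : pr g ^ 2 ∈ (G ⊓ L₀.map pr : Subgroup (PG 2 F)) :=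
    ⟨hG (pow_two_mem_slImage g), pow_mem (show pr g ∈ L₀.map pr from ⟨g, ⟨1, t, rfl⟩, rfl⟩) 2⟩
  obtain ⟨k, hk⟩ := mem_zpowers_iff.mp (hwgen ⟨_, hgmem⟩)
  have h4 : pr g ^ 4 = 1 := by
    have := congrArg (fun x : (G ⊓ L₀.map pr : Subgroup (PG 2 F)) => (x : PG 2 F) ^ 2) hk
    simp only [SubgroupClass.coe_zpow] at this
    rw [← zpow_natCast, ← _root_.zpow_mul, mul_comm, _root_.zpow_mul, zpow_natCast, hw, _root_.one_zpow] at this
    rw [show (4 : ℕ) = 2 * 2 from rfl, pow_mul, ← this]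
  rw [← map_pow, pr_eq_one_iff] at h4
  obtain ⟨c, hc⟩ := h4
  rw [Units.val_pow_eq_pow_val, show (4 : ℕ) = 2 * 2 from rfl, pow_mul, pow_two, pow_two] at hc
  change ((1 : F) • (1 : Matrix (Fin 2) (Fin 2) F) + t • M) * ((1 : F) • 1 + t • M) *
    (((1 : F) • 1 + t • M) * ((1 : F) • 1 + t • M)) = _ at hc
  rw [hmul, hmul, scalar_apply, ← smul_one_eq_diagonal, show c • (1 : Matrix (Fin 2) (Fin 2) F) = c • 1 + (0 : F) • M by
    rw [zero_smul, add_zero]] at hc
  obtain ⟨-, hz0⟩ := huniq _ _ _ _ hc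
  have : (2 : F) * 2 * t * (1 + e * t ^ 2) = 0 := by linear_combination hz0
  rcases mul_eq_zero.mp this with h | h
  · simp [hchar, ht0] at h
  · exact ht2 (by linear_combination h)

theorem no_cover_two (h4 : 4 ≤ Fintype.card F) (h5 : Fintype.card F ≠ 5) (G : Subgroup (PG 2 F))
    (hG : slImage 2 F ≤ G) : CoverReplace.NoNilMinCover G := by
  classical
  obtain ⟨ω, hω⟩ := IsCyclic.exists_generator (α := Fˣ)
  have hord : orderOf ω = Fintype.card F - 1 := by
    rw [orderOf_eq_card_of_forall_mem_zpowers hω, Nat.card_units, Nat.card_eq_fintype_card]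
  have hωk : ∀ k : ℕ, (ω : F) ^ k = 1 → Fintype.card F - 1 ∣ k := fun k h => by
    rw [← hord]; exact orderOf_dvd_of_pow_eq_one (Units.ext (by rw [Units.val_pow_eq_pow_val, h, Units.val_one]))
  have hw0 : (ω : F) ≠ 0 := ω.ne_zero
  have hw4 : (ω : F) ^ 4 ≠ 1 := fun h => by
    have := Nat.le_of_dvd (by norm_num) (hωk 4 h)
    obtain h | h : Fintype.card F - 1 = 3 ∨ Fintype.card F - 1 = 4 := by omega
    · have := hωk 4 ‹_›; rw [h] at this; norm_num at this
    · omega
  have hw2 : (ω : F) ^ 2 ≠ 1 := fun h => hw4 (by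
    rw [show (4 : ℕ) = 2 * 2 from rfl, pow_mul, h, one_pow])
  set d : GL (Fin 2) F := GeneralLinearGroup.mkOfDetNeZero !![(ω : F), 0; 0, (ω : F)⁻¹]
    (by rw [det_fin_two_of]; simp [hw0]) with hd
  set u : GL (Fin 2) F := GeneralLinearGroup.mkOfDetNeZero !![(1 : F), 1; 0, 1]
    (by rw [det_fin_two_of]; simp) with hu
  have hdval : (d : Matrix (Fin 2) (Fin 2) F) = !![(ω : F), 0; 0, (ω : F)⁻¹] := rfl
  have huval : (u : Matrix (Fin 2) (Fin 2) F) = !![(1 : F), 1; 0, 1] := rfl
  have hdG : pr d ∈ G := hG (mem_slImage_of_det (by rw [hdval, det_fin_two_of]; simp [hw0]))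
  have hyG : pr (u * d * u⁻¹) ∈ G := by
    refine hG ?_
    have : (slImage 2 F) ≤ (slImage 2 F) := le_rfl
    have hu1 : pr u ∈ slImage 2 F := mem_slImage_of_det (by rw [huval, det_fin_two_of]; simp)
    rw [map_mul, map_mul, map_inv]
    exact mul_mem (mul_mem hu1 (mem_slImage_of_det (by rw [hdval, det_fin_two_of]; simp [hw0]))) (inv_mem hu1)
  set S := (lineStab 2 F 0).map (pr : GL (Fin 2) F →* PG 2 F)
  have huS : pr u ∈ S := ⟨u, mem_lineStab_two.mpr (by rw [huval]; rfl), rfl⟩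
  -- elements near one of the tori, of order greater than two, lie in the Borel group
  have near : ∀ (N : Subgroup (PG 2 F)), Group.IsNilpotent N → pr d ∈ N → ∀ z ∈ N, z ∉ S →
      ∃ g : GL (Fin 2) F, pr g = z ∧ (g : Matrix (Fin 2) (Fin 2) F) 0 0 = 0 ∧
        (g : Matrix (Fin 2) (Fin 2) F) 1 1 = 0 := by
    intro N hN hdN z hz hzS
    obtain ⟨g, rfl⟩ := pr_surjective z
    rcases mem_torus_normalizer hw0 hw2 hw4 hdval hN hdN hz with ⟨-, h⟩ | h
    · exact absurd ⟨g, mem_lineStab_two.mpr h, rfl⟩ hzS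
    · exact ⟨g, rfl, h⟩
  have sq : ∀ g : GL (Fin 2) F, (g : Matrix (Fin 2) (Fin 2) F) 0 0 = 0 →
      (g : Matrix (Fin 2) (Fin 2) F) 1 1 = 0 →
      (g : Matrix (Fin 2) (Fin 2) F) * g =
        ((g : Matrix (Fin 2) (Fin 2) F) 0 1 * (g : Matrix (Fin 2) (Fin 2) F) 1 0) • 1 := by
    intro g h0 h1
    ext i j
    fin_cases i <;> fin_cases j <;> simp [mul_apply, Fin.sum_univ_two, h0, h1, mul_comm]
  let c : PG 2 F ≃* PG 2 F := MulAut.conj (pr u)⁻¹
  have shift' : ∀ N : Subgroup (PG 2 F), Group.IsNilpotent N → pr (u * d * u⁻¹) ∈ N →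
      Group.IsNilpotent (N.map c.toMonoidHom) ∧ pr d ∈ N.map c.toMonoidHom := by
    intro N hN hy
    haveI := hN
    refine ⟨Group.nilpotent_of_surjective _ (MonoidHom.subgroupMap_surjective c.toMonoidHom N), _, hy, ?_⟩
    show (pr u)⁻¹ * pr (u * d * u⁻¹) * (pr u)⁻¹⁻¹ = pr d
    rw [map_mul, map_mul, map_inv, inv_inv]
    group
  have hcS : ∀ z, z ∈ S ↔ c z ∈ S := fun z => by
    show _ ↔ (pr u)⁻¹ * z * (pr u)⁻¹⁻¹ ∈ S
    rw [inv_inv, mul_mem_cancel_right huS, mul_mem_cancel_left (inv_mem huS)]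
  have big : ∀ (N : Subgroup (PG 2 F)), Group.IsNilpotent N → (pr d ∈ N ∨ pr (u * d * u⁻¹) ∈ N) →
      ∀ z ∈ N, z ^ 2 ≠ 1 → z ∈ S := by
    have main : ∀ (N : Subgroup (PG 2 F)), Group.IsNilpotent N → pr d ∈ N → ∀ z ∈ N, z ^ 2 ≠ 1 → z ∈ S := by
      intro N hN hdN z hz hz2
      by_contra hzS
      obtain ⟨g, rfl, h0, h1⟩ := near N hN hdN z hz hzS
      apply hz2
      rw [← map_pow, pr_eq_one_iff]
      exact ⟨_, by rw [Units.val_pow_eq_pow_val, pow_two, sq g h0 h1, scalar_apply, smul_one_eq_diagonal]⟩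
    rintro N hN (h | h) z hz hz2
    · exact main N hN h z hz hz2
    · obtain ⟨hN', hd'⟩ := shift' N hN h
      exact (hcS z).mpr (main _ hN' hd' (c z) ⟨z, hz, rfl⟩ (fun e => hz2 (c.injective (by
        rw [map_pow, e, map_one]))))
  refine CoverReplace.no_nilpotent_minimal_cover (S.subgroupOf G) ?_ ⟨pr d, hdG⟩ ⟨_, hyG⟩ ?_ ?_
  · intro htop
    have hdet : (!![(1 : F), 0; 1, 1]).det = 1 := by rw [det_fin_two_of]; simp
    set w := GeneralLinearGroup.mkOfDetNeZero _ (hdet.symm ▸ one_ne_zero : (!![(1 : F), 0; 1, 1]).det ≠ 0)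
    have hw : (⟨pr w, hG (mem_slImage_of_det hdet)⟩ : G) ∈ S.subgroupOf G := htop ▸ mem_top _
    have := mem_lineStab_two.mp (pr_mem_map_lineStab.mp (mem_subgroupOf.mp hw))
    simp [w] at this
  · intro N hN hx hy
    have hval : ((u * d * u⁻¹ : GL (Fin 2) F) : Matrix (Fin 2) (Fin 2) F) * (u : Matrix (Fin 2) (Fin 2) F) =
        (u : Matrix (Fin 2) (Fin 2) F) * d := by
      rw [← Units.val_mul, inv_mul_cancel_right, Units.val_mul]
    set Y := ((u * d * u⁻¹ : GL (Fin 2) F) : Matrix (Fin 2) (Fin 2) F)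
    have y00 := congrFun (congrFun hval 0) 0
    have y01 := congrFun (congrFun hval 0) 1
    rw [huval, hdval] at y00 y01
    simp [mul_apply, vecMul, dotProduct, Fin.sum_univ_two] at y00 y01
    rcases mem_torus_normalizer hw0 hw2 hw4 hdval (isNilpotent_map_subtype_two hN) ⟨_, hx, rfl⟩
      (g := u * d * u⁻¹) ⟨_, hy, rfl⟩ with ⟨h, -⟩ | ⟨h, -⟩
    · change Y 0 1 = 0 at h
      rw [h, add_zero, y00] at y01
      apply hw2
      rw [pow_two]
      nth_rewrite 2 [y01]
      exact mul_inv_cancel₀ hw0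
    · exact hw0 (y00.symm.trans h)
  · intro N hN hxy z hz
    by_cases hzS : (z : PG 2 F) ∈ S
    · exact Or.inl (mem_subgroupOf.mpr hzS)
    refine Or.inr ?_
    have hNm := isNilpotent_map_subtype_two hN
    have hxy' : pr d ∈ N.map G.subtype ∨ pr (u * d * u⁻¹) ∈ N.map G.subtype :=
      hxy.imp (fun h => ⟨_, h, rfl⟩) fun h => ⟨_, h, rfl⟩
    have hz2 : (z : PG 2 F) ^ 2 = 1 := by
      by_contra h
      exact hzS (big _ hNm hxy' z ⟨z, hz, rfl⟩ h)
    obtain ⟨N', hN', hdN', z', hz', hz'S, hz'2, hback⟩ : ∃ N' : Subgroup (PG 2 F), Group.IsNilpotent N' ∧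
        pr d ∈ N' ∧ ∃ z' ∈ N', z' ∉ S ∧ z' ^ 2 = 1 ∧ ((z' = z) ∨ (z' = c z)) := by
      rcases hxy' with h | h
      · exact ⟨_, hNm, h, _, ⟨z, hz, rfl⟩, hzS, hz2, Or.inl rfl⟩
      · obtain ⟨a, b⟩ := shift' _ hNm h
        exact ⟨_, a, b, c z, ⟨_, ⟨z, hz, rfl⟩, rfl⟩, fun e => hzS ((hcS _).mpr e),
          by rw [← map_pow, hz2, map_one], Or.inr rfl⟩
    obtain ⟨g, rfl, h0, h1⟩ := near N' hN' hdN' z' hz' hz'S
    have hgdet := g.det_ne_zero
    rw [det_fin_two, h0, zero_mul, zero_sub, neg_ne_zero] at hgdet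
    -- parity of the field
    have h7 : 7 ≤ Fintype.card F ∧ (2 : F) ≠ 0 := by
      have htwo : (2 : F) ≠ 0 := by
        intro h2
        -- in characteristic two a power of the torus element commutes with the involution
        haveI : CharP F 2 := CharTwo.of_one_ne_zero_of_two_eq_zero one_ne_zero h2
        haveI := Fact.mk Nat.prime_two
        obtain ⟨_, -, hcard⟩ := FiniteField.card F 2
        have hodd : Odd (Fintype.card F - 1) := by
          rw [hcard]
          exact Nat.Even.sub_odd (Nat.one_le_two_pow) (Nat.even_pow.mpr ⟨even_two, PNat.ne_zero _⟩) odd_one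
        obtain ⟨r, hr, hrd⟩ := Nat.exists_prime_and_dvd (show Fintype.card F - 1 ≠ 1 by omega)
        haveI := Fact.mk hr
        have hr2 : r ≠ 2 := by
          rintro rfl
          exact Nat.not_even_iff_odd.mpr hodd (even_iff_two_dvd.mpr hrd)
        obtain ⟨m, hm⟩ := hrd
        have hm4 : (ω : F) ^ (4 * m) ≠ 1 := fun h => by
          have := hωk _ h
          rw [hm] at this
          have hm0 : 0 < m := Nat.pos_of_ne_zero fun e => by simp [e] at hm; omega
          have h4r : r ∣ 4 := (Nat.mul_dvd_mul_iff_right hm0).mp this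
          exact hr2 ((Nat.prime_dvd_prime_iff_eq hr Nat.prime_two).mp
            (hr.dvd_of_dvd_pow (show r ∣ 2 ^ 2 by simpa using h4r)))
        have hdm : ((d ^ m : GL (Fin 2) F) : Matrix (Fin 2) (Fin 2) F) =
            !![(ω : F) ^ m, 0; 0, ((ω : F) ^ m)⁻¹] := by
          rw [Units.val_pow_eq_pow_val, hdval]
          clear hm hm4
          induction m with
          | zero => simp [← one_fin_two]
          | succ m ih =>
            rw [pow_succ, ih]
            simp [pow_succ, mul_comm]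
        have hcom : Commute (pr g) (pr (d ^ m)) := by
          have hg2 : orderOf (pr g) = 2 := orderOf_eq_prime hz'2 fun e => hz'S (e ▸ S.one_mem)
          have hdo : orderOf (pr (d ^ m)) ∣ r := by
            refine orderOf_dvd_of_pow_eq_one ?_
            rw [← map_pow, ← pow_mul, mul_comm, ← hm, pr_eq_one_iff]
            refine ⟨1, ?_⟩
            rw [Units.val_pow_eq_pow_val, hdval]
            have hωcard : (ω : F) ^ (Fintype.card F - 1) = 1 := FiniteField.pow_card_sub_one_eq_one _ hw0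
            have hdiag : !![(ω : F), 0; 0, (ω : F)⁻¹] = diagonal ![(ω : F), (ω : F)⁻¹] := by
              ext i j; fin_cases i <;> fin_cases j <;> simp
            rw [hdiag, diagonal_pow, map_one, ← diagonal_one]
            congr 1
            ext i; fin_cases i <;> simp [hωcard]
          obtain ⟨k, -, hk⟩ := (Nat.dvd_prime_pow hr).mp (show orderOf (pr (d ^ m)) ∣ r ^ 1 by rwa [pow_one])
          have := CoverReplace.commute_of_primePow hN' (p := 2) (r := r) (Ne.symm hr2)
            (x := (⟨pr g, hz'⟩ : N')) (z := ⟨pr (d ^ m), by rw [map_pow]; exact pow_mem hdN' m⟩)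
            ⟨1, by rw [Subgroup.orderOf_mk, hg2, pow_one]⟩ ⟨k, by rw [Subgroup.orderOf_mk, hk]⟩
          exact this.map N'.subtype
        have hα2 : ((ω : F) ^ m) ^ 2 ≠ 1 := fun h => hm4 (by
          rw [mul_comm, pow_mul, show (4 : ℕ) = 2 * 2 from rfl, pow_mul, h, one_pow])
        obtain ⟨-, h10⟩ := torus_commute (pow_ne_zero m hw0) hα2
          (fun h => hm4 (by rw [mul_comm, pow_mul]; exact h)) hdm hcom
        rw [h10, mul_zero] at hgdet
        exact hgdet rfl
      refine ⟨?_, htwo⟩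
      by_contra h
      have h6 : Fintype.card F = 4 ∨ Fintype.card F = 6 := by omega
      rcases h6 with h6 | h6
      · have hc := FiniteField.cast_card_eq_zero F
        rw [h6] at hc
        exact htwo (by
          have : (2 : F) * 2 = 0 := by norm_num at hc ⊢; linear_combination hc
          simpa using this)
      · obtain ⟨p, hp⟩ := CharP.exists F
        haveI := Fact.mk (CharP.char_is_prime F p)
        obtain ⟨k, hpp, hcard⟩ := FiniteField.card F p
        rw [h6] at hcard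
        have h2 : 2 ∣ p ^ (k : ℕ) := hcard ▸ by norm_num
        have h3 : 3 ∣ p ^ (k : ℕ) := hcard ▸ by norm_num
        have := (Nat.prime_dvd_prime_iff_eq Nat.prime_two hpp).mp (Nat.prime_two.dvd_of_dvd_pow h2)
        have := (Nat.prime_dvd_prime_iff_eq Nat.prime_three hpp).mp (Nat.prime_three.dvd_of_dvd_pow h3)
        omega
    have hgG : pr g ∈ G := by
      rcases hback with h | h
      · exact h ▸ z.2
      · have hu1 : pr u ∈ G := hG (mem_slImage_of_det (by rw [huval, det_fin_two_of]; simp))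
        rw [h]
        show (pr u)⁻¹ * (z : PG 2 F) * (pr u)⁻¹⁻¹ ∈ G
        exact mul_mem (mul_mem (inv_mem hu1) z.2) (inv_mem (inv_mem hu1))
    obtain ⟨w, hwG, hzw, hw2'⟩ := exists_root h7.1 h7.2 G hG hgdet (sq g h0 h1) (fun s e => by
      have h01 := congrFun (congrFun e 0) 1
      simp at h01
      rw [h01, zero_mul] at hgdet
      exact hgdet rfl) hgG
    -- back to the original element
    obtain ⟨w', hw'G, hzw', hw'2⟩ : ∃ w' ∈ G, (z : PG 2 F) ∈ zpowers w' ∧ w' ^ 2 ≠ 1 := by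
      rcases hback with h | h
      · exact ⟨w, hwG, h ▸ hzw, hw2'⟩
      · have hu1 : pr u ∈ G := hG (mem_slImage_of_det (by rw [huval, det_fin_two_of]; simp))
        refine ⟨c.symm w, ?_, ?_, fun e => hw2' ?_⟩
        · rw [show c.symm w = pr u * w * (pr u)⁻¹ by simp [c, MulAut.conj_symm_apply]]
          exact mul_mem (mul_mem hu1 hwG) (inv_mem hu1)
        · obtain ⟨k, hk⟩ := mem_zpowers_iff.mp hzw
          exact mem_zpowers_iff.mpr ⟨k, by rw [← map_zpow, hk, h, c.symm_apply_apply]⟩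
        · rw [← c.apply_symm_apply w, ← map_pow, e, map_one]
    refine ⟨⟨w', hw'G⟩, ?_, fun N₂ hN₂ hw₂ => ?_⟩
    · obtain ⟨k, hk⟩ := mem_zpowers_iff.mp hzw'
      exact mem_zpowers_iff.mpr ⟨k, Subtype.ext (by simpa using hk)⟩
    · have hout : ¬ ((⟨pr d, hdG⟩ : G) ∈ N₂ ∨ (⟨_, hyG⟩ : G) ∈ N₂) := fun h => by
        refine hzS ?_
        have hwS := big _ (isNilpotent_map_subtype_two hN₂)
          (h.imp (fun a => ⟨_, a, rfl⟩) fun a => ⟨_, a, rfl⟩) w' ⟨_, hw₂, rfl⟩ hw'2
        exact zpowers_le.mpr hwS hzw'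
      exact not_or.mp hout
where
  isNilpotent_map_subtype_two {G : Subgroup (PG 2 F)} {N : Subgroup G} (hN : Group.IsNilpotent N) :
      Group.IsNilpotent (N.map G.subtype) :=
    haveI := hN
    Group.nilpotent_of_surjective (G.subtype.subgroupMap N) (G.subtype.subgroupMap_surjective N)

end Two

end CfsgLib.PGroups.PGLCover
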