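import Mathlib
import Cfsg.Agent.Lib.Components.FStar
import Cfsg.Agent.Lib.Core.Nilpotent

/-!
# Primitive subgroups in the sense of `M = N_G(N)` for every non-trivial `N ⊴ M`
-/

namespace CfsgLib.PGroups

open Subgroup

variable {G : Type*} [Group G]

/-- `M` equals the normaliser of each of its non-trivial normal subgroups. -/
def IsPrimitiveSubgroup (M : Subgroup G) : Prop :=
  ∀ N : Subgroup G, N ≤ M → M ≤ Subgroup.normalizer (N : Set G) → N ≠ ⊥ →
    Subgroup.normalizer (N : Set G) = M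

theorem conj_smul_le_of_mem {M A : Subgroup G} (hA : A ≤ M) {m : G} (hm : m ∈ M) :
    A.map (MulAut.conj m).toMonoidHom ≤ M := by
  rintro _ ⟨a, ha, rfl⟩
  exact M.mul_mem (M.mul_mem hm (hA ha)) (M.inv_mem hm)

theorem eq_top_or_normalizer_gt {K : Subgroup G} (hK : K.IsSubnormal) :
    K = ⊤ ∨ ∃ B : Subgroup G, K < B ∧ B ≤ Subgroup.normalizer (K : Set G) ∧ B.IsSubnormal := by
  induction hK with
  | top => exact Or.inl rfl
  | step H K' hle hsn hN ih =>
    rcases eq_or_lt_of_le hle with rfl | hlt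
    · exact ih
    · exact Or.inr ⟨K', hlt, (Subgroup.normal_subgroupOf_iff_le_normalizer hle).mp hN, hsn⟩

variable [Finite G]

theorem primitive_no_subnormal {M : Subgroup G} (hM : M ≠ ⊤) (hprim : IsPrimitiveSubgroup M)
    {L : Subgroup G} (hL : L.IsSubnormal) (hLM : L ≤ M) : L = ⊥ := by
  by_contra hL1
  set S := {A : Subgroup G | A.IsSubnormal ∧ A ≤ M} with hS
  set K := sSup S with hK
  have hKsn : K.IsSubnormal := CfsgLib.Components.isSubnormal_sSup fun A hA => hA.1
  have hKM : K ≤ M := sSup_le fun A hA => hA.2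
  have hKne : K ≠ ⊥ := fun h =>
    hL1 (le_bot_iff.mp (h ▸ (le_sSup (show L ∈ S from ⟨hL, hLM⟩))))
  have hinv : ∀ m ∈ M, K.map (MulAut.conj m).toMonoidHom ≤ K := by
    intro m hm
    rw [Subgroup.map_le_iff_le_comap]
    refine sSup_le fun A hA => ?_
    rw [← Subgroup.map_le_iff_le_comap]
    refine le_sSup ⟨?_, conj_smul_le_of_mem hA.2 hm⟩
    exact CfsgLib.Components.isSubnormal_map_equiv (MulAut.conj m) hA.1
  have hnorm : M ≤ Subgroup.normalizer (K : Set G) := by
    intro m hm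
    rw [Subgroup.mem_normalizer_iff]
    intro k
    refine ⟨fun hk => hinv m hm ⟨k, hk, rfl⟩, fun hk => ?_⟩
    have := hinv m⁻¹ (M.inv_mem hm) ⟨_, hk, rfl⟩
    simpa [mul_assoc] using this
  have hN := hprim K hKM hnorm hKne
  rcases eq_top_or_normalizer_gt hKsn with h | ⟨B, hKB, hBn, hBsn⟩
  · exact hM (top_unique (h ▸ hKM))
  · exact (not_le_of_gt hKB) (le_sSup ⟨hBsn, hN ▸ hBn⟩)

theorem primitive_inf_fitting {M : Subgroup G} (hM : M ≠ ⊤) (hprim : IsPrimitiveSubgroup M) :
    M ⊓ Cfsg.fittingSubgroup G = ⊥ := by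
  have hF := CfsgLib.Components.fitting_isNilpotent (G := G)
  refine primitive_no_subnormal hM hprim ?_ inf_le_left
  exact Subgroup.IsSubnormal.trans inf_le_right (CfsgLib.Core.isSubnormal_of_isNilpotent _)
    CfsgLib.Components.fitting_normal.isSubnormal

end CfsgLib.PGroups
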