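import Mathlib
import Cfsg.Agent.Lib.OddLocal.PuigG
import Cfsg.Agent.Lib.Transfer.SLTwoFree
import Cfsg.Agent.Lib.PLocal.SLTwo.PStableCrit

/-!
# Primitive pairs of characteristic `p` and the Puig subgroup

With abelian Sylow `2`-subgroups both members are `p`-stable, and then the Puig subgroup of
`O_p(M₁) O_p(M₂)` is normal in both.
-/

set_option autoImplicit false
set_option linter.all false

namespace CfsgLib.PGroups.PrimPair

open Subgroup

universe u

section Inner

variable {H : Type u} [Group H] [Finite H] {p : ℕ} [Fact p.Prime]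

/-- A subgroup is self-centralizing modulo: the centralizer of a big normal subgroup is a `p`-group. -/
theorem mem_pCore_of_quad (hp : p ≠ 2) (hNo : PLocal.SLTwo.NoSL p H)
    (hc : centralizer (Cfsg.pCore p H : Set H) ≤ Cfsg.pCore p H) {X : Subgroup H} [X.Normal]
    (hX : X ≤ Cfsg.pCore p H)
    (hXc : ∀ x ∈ Cfsg.pCore p H, x ∈ centralizer (X : Set H) → x ∈ X) {a : H}
    (hq : ⁅⁅X, zpowers a⁆, zpowers a⁆ = ⊥) : a ∈ Cfsg.pCore p H := by
  set U := Cfsg.pCore p H with hU
  haveI : U.Normal := Core.normal_pCore p H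
  have hUp : IsPGroup p U := Core.isPGroup_pCore p H
  set C := centralizer (X : Set H) with hC
  haveI : C.Normal := inferInstance
  have key : ∀ c ∈ C, (orderOf c).Coprime p → c = 1 := by
    intro c hc' hcop
    have hcU : c ∈ U := by
      refine hc (mem_centralizer_iff.mpr fun u hu => ?_)
      have hx : u⁻¹ * c * u * c⁻¹ ∈ X := by
        refine hXc _ ?_ ?_
        · have := U.mul_mem (U.inv_mem hu) (‹U.Normal›.conj_mem u hu c)
          simpa [mul_assoc] using this
        · have := C.mul_mem (‹C.Normal›.conj_mem c hc' u⁻¹) (C.inv_mem hc')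
          simpa [mul_assoc] using this
      set x := u⁻¹ * c * u * c⁻¹ with hxdef
      have hcx : Commute c x := (mem_centralizer_iff.mp hc' x hx).symm
      have h1 : u⁻¹ * c * u = x * c := by rw [hxdef]; group
      have h2 : x ^ orderOf c = 1 := by
        have h3 := congrArg (fun z => z ^ orderOf c) h1
        simp only [(hcx.symm).mul_pow, pow_orderOf_eq_one, mul_one] at h3
        have e : (u⁻¹ * c * u) ^ orderOf c = u⁻¹ * c ^ orderOf c * u := by
          have := conj_pow (i := orderOf c) (a := u⁻¹) (b := c)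
          rwa [inv_inv] at this
        rw [e, pow_orderOf_eq_one] at h3
        simpa using h3.symm
      obtain ⟨k, hk⟩ := IsPGroup.iff_orderOf.mp hUp ⟨x, hX hx⟩
      rw [Subgroup.orderOf_mk] at hk
      have hx1 : x = 1 := by
        rw [← orderOf_eq_one_iff]
        exact Nat.eq_one_of_dvd_coprimes (hcop.pow_right k) (orderOf_dvd_of_pow_eq_one h2) hk.dvd
      rw [hx1, one_mul] at h1
      calc u * c = u * (u⁻¹ * c * u) := by rw [h1]
        _ = c * u := by group
    obtain ⟨k, hk⟩ := IsPGroup.iff_orderOf.mp hUp ⟨c, hcU⟩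
    rw [Subgroup.orderOf_mk] at hk
    rw [hk] at hcop
    rw [← orderOf_eq_one_iff, hk]
    rcases Nat.eq_zero_or_pos k with rfl | hk0
    · exact pow_zero p
    · exact absurd ((Nat.coprime_pow_left_iff hk0 p p).mp hcop) (by simp [(Fact.out : p.Prime).ne_one])
  have hCp : IsPGroup p C := by
    refine IsPGroup.of_card (n := (Nat.card C).primeFactorsList.length)
      (Nat.eq_prime_pow_of_unique_prime_dvd Nat.card_pos.ne' fun {q} hq hqd => ?_)
    by_contra hqp
    haveI := Fact.mk hq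
    obtain ⟨z, hz⟩ := exists_prime_orderOf_dvd_card' q hqd
    have h1 := key (z : H) z.2 (by
      rw [Subgroup.orderOf_coe, hz]; exact (Nat.coprime_primes hq Fact.out).mpr hqp)
    rw [← Subgroup.orderOf_coe, h1, orderOf_one] at hz
    exact hq.ne_one hz.symm
  haveI : (Cfsg.pCore p (H ⧸ C)).Normal := Core.normal_pCore p _
  have hm := PLocal.SLTwo.mem_pCore_of_noSL hp hNo X (hUp.to_le hX) hq
  exact Core.le_pCore ((Core.isPGroup_pCore p (H ⧸ C)).comap_of_ker_isPGroup
    (QuotientGroup.mk' C) (by rwa [QuotientGroup.ker_mk'])) hm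

/-- A minimal normal `p`-subgroup is centralized by quadratically acting elements. -/
theorem mem_centralizer_of_quad (hp : p ≠ 2) (hNo : PLocal.SLTwo.NoSL p H) {A : Subgroup H}
    [hAn : A.Normal] (hA : IsPGroup p A) (hA1 : A ≠ ⊥)
    (hmin : ∀ B : Subgroup H, B.Normal → B ≤ A → B ≠ ⊥ → B = A) {a : H}
    (hq : ⁅⁅A, zpowers a⁆, zpowers a⁆ = ⊥) : a ∈ centralizer (A : Set H) := by
  set C := centralizer (A : Set H) with hC
  haveI : C.Normal := inferInstance
  have hm := PLocal.SLTwo.mem_pCore_of_noSL hp hNo A hA hq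
  haveI : (Cfsg.pCore p (H ⧸ C)).Normal := Core.normal_pCore p _
  set D := (Cfsg.pCore p (H ⧸ C)).comap (QuotientGroup.mk' C) with hD
  haveI : D.Normal := inferInstance
  obtain ⟨S⟩ : Nonempty (Sylow p H) := inferInstance
  haveI : (A.subgroupOf (S : Subgroup H)).Normal := inferInstance
  have hAS : A ≤ (S : Subgroup H) := (Core.le_pCore hA).trans (Core.pCore_le_sylow S)
  obtain ⟨z, hz, hz1, hzc⟩ := OddLocal.exists_ne_one_mem_center S.2
    (N := A.subgroupOf (S : Subgroup H)) (fun h => hA1 (by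
      have := congrArg (Subgroup.map (S : Subgroup H).subtype) h
      rwa [subgroupOf_map_subtype, inf_of_le_left hAS, Subgroup.map_bot] at this))
  have hDS : D ≤ (S : Subgroup H) ⊔ C := by
    have := Core.pCore_le_sylow (S.mapSurjective (QuotientGroup.mk'_surjective C))
    rw [Sylow.coe_mapSurjective] at this
    refine (comap_mono this).trans (le_of_eq ?_)
    rw [comap_map_eq, QuotientGroup.ker_mk']
  haveI : (centralizer (D : Set H)).Normal := inferInstance
  have hzD : (z : H) ∈ A ⊓ centralizer (D : Set H) := by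
    refine ⟨hz, mem_centralizer_iff.mpr fun d hd => ?_⟩
    have : D ≤ centralizer ({(z : H)} : Set H) := hDS.trans (sup_le
      (fun s hs => mem_centralizer_singleton_iff.mpr
        (congrArg Subtype.val (mem_center_iff.mp hzc ⟨s, hs⟩)))
      (fun c hc => mem_centralizer_singleton_iff.mpr (mem_centralizer_iff.mp hc _ hz).symm))
    exact mem_centralizer_singleton_iff.mp (this hd)
  have heq := hmin _ inferInstance inf_le_left (fun h => hz1 (Subtype.ext (by
    rw [h, mem_bot] at hzD; exact hzD)))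
  refine mem_centralizer_iff.mpr fun v hv => ?_
  exact ((mem_centralizer_iff.mp (heq.ge hv).2) a hm).symm

/-- A `p`-subgroup of the preimage of a normal `p`-subgroup that is normalized by the kernel. -/
theorem le_pCore_of_normalized {C D : Subgroup H} [hCn : C.Normal] [hDn : D.Normal] (hCD : C ≤ D)
    (hDp : IsPGroup p (D.map (QuotientGroup.mk' C))) {K : Subgroup H} (hKD : K ≤ D)
    (hK : IsPGroup p K) (hCK : C ≤ normalizer (K : Set H)) : K ≤ Cfsg.pCore p H := by
  haveI : (Cfsg.pCore p D).Normal := Core.normal_pCore p _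
  haveI : (Cfsg.pCore p H).Normal := Core.normal_pCore p _
  obtain ⟨P, hP⟩ := (hK.comap_subtype (K := D)).exists_le_sylow
  have hsurj : Function.Surjective ((QuotientGroup.mk' C).subgroupMap D) :=
    MonoidHom.subgroupMap_surjective _ _
  have htop : ((P.mapSurjective hsurj : Sylow p (D.map (QuotientGroup.mk' C))) :
      Subgroup (D.map (QuotientGroup.mk' C))) = ⊤ := by
    have hle : IsPGroup p (⊤ : Subgroup (D.map (QuotientGroup.mk' C))) := hDp.of_equiv Subgroup.topEquiv.symm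
    exact ((P.mapSurjective hsurj).3 hle le_top).symm
  set X : Subgroup D := normalClosure ((K.subgroupOf D : Subgroup D) : Set D) with hX
  have hXP : X ≤ (P : Subgroup D) := by
    rw [hX, normalClosure, closure_le]
    intro y hy
    obtain ⟨k, hk, hky⟩ := Group.mem_conjugatesOfSet_iff.mp hy
    obtain ⟨g, rfl⟩ := isConj_iff.mp hky
    have hg : (QuotientGroup.mk' C).subgroupMap D g ∈
        (P : Subgroup D).map ((QuotientGroup.mk' C).subgroupMap D) := by
      rw [← Sylow.coe_mapSurjective hsurj P, htop]; exact mem_top _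
    obtain ⟨π, hπ, hπg⟩ := hg
    have hc : (π⁻¹ * g : D).1 ∈ C := by
      have := congrArg Subtype.val hπg
      rw [← QuotientGroup.eq_one_iff]
      show QuotientGroup.mk' C ((π : H)⁻¹ * (g : H)) = 1
      rw [map_mul, map_inv]
      exact inv_mul_eq_one.mpr this
    have h1 : (π⁻¹ * g) * k * (π⁻¹ * g)⁻¹ ∈ K.subgroupOf D :=
      (mem_normalizer_iff.mp (hCK hc) _).mp hk
    have e : g * k * g⁻¹ = π * ((π⁻¹ * g) * k * (π⁻¹ * g)⁻¹) * π⁻¹ := by group
    rw [e]
    exact mul_mem (mul_mem hπ (hP h1)) (inv_mem hπ)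
  have h2 : K.subgroupOf D ≤ Cfsg.pCore p D :=
    le_normalClosure.trans (Core.le_pCore (P.2.to_le hXP))
  intro k hk
  exact Core.map_subtype_pCore_le D ⟨⟨k, hKD hk⟩, h2 hk, rfl⟩

end Inner

section Sandwich

variable {G : Type u} [Group G] [Finite G] {p : ℕ} [Fact p.Prime]

/-- `O_p(M)` as a subgroup of the ambient group. -/
abbrev core (p : ℕ) (M : Subgroup G) : Subgroup G := (Cfsg.pCore p M).map M.subtype

theorem subgroupOf_quad {M X : Subgroup G} (hXM : X ≤ M) {a : G} (haM : a ∈ M)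
    (hq : ⁅⁅X, zpowers a⁆, zpowers a⁆ = ⊥) :
    ⁅⁅X.subgroupOf M, zpowers (⟨a, haM⟩ : M)⁆, zpowers (⟨a, haM⟩ : M)⁆ = ⊥ := by
  apply map_injective M.subtype_injective
  rw [Subgroup.map_bot, map_commutator, map_commutator, MonoidHom.map_zpowers,
    subgroupOf_map_subtype, inf_of_le_left hXM]
  exact hq

theorem quad_of_abelian {X A : Subgroup G} (hA : IsMulCommutative A)
    (hn : X ≤ normalizer (A : Set G)) {a : G} (ha : a ∈ A) :
    ⁅⁅X, zpowers a⁆, zpowers a⁆ = ⊥ := by
  refine eq_bot_iff.2 ?_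
  refine (commutator_mono (commutator_mono le_rfl (zpowers_le.2 ha)) (zpowers_le.2 ha)).trans ?_
  refine (commutator_mono (le_normalizer_iff_commutator_le_right.1 hn) le_rfl).trans ?_
  rw [le_bot_iff, commutator_self_eq_bot_iff]
  exact hA

theorem le_normalizer_map_characteristic {U : Subgroup G} (K : Subgroup U) [K.Characteristic] :
    normalizer (U : Set G) ≤ normalizer ((K.map U.subtype : Subgroup G) : Set G) := fun g hg =>
  mem_normalizer_iff.2 fun x => ⟨OddLocal.conj_mem_map_of_characteristic _ hg, fun h => by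
    have := OddLocal.conj_mem_map_of_characteristic _ (inv_mem hg) h
    rwa [show g⁻¹ * (g * x * g⁻¹) * g⁻¹⁻¹ = x by group] at this⟩

theorem le_normalizer_core (M : Subgroup G) : M ≤ normalizer (core p M : Set G) := fun g hg => by
  haveI := Core.normal_pCore p M
  have key : ∀ g ∈ M, ∀ x ∈ core p M, g * x * g⁻¹ ∈ core p M := by
    rintro g hg _ ⟨x, hx, rfl⟩
    exact ⟨⟨g, hg⟩ * x * ⟨g, hg⟩⁻¹, ‹(Cfsg.pCore p M).Normal›.conj_mem x hx _, rfl⟩
  refine mem_normalizer_iff.2 fun x => ⟨key g hg x, fun h => ?_⟩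
  have := key g⁻¹ (inv_mem hg) _ h
  rwa [show g⁻¹ * (g * x * g⁻¹) * g⁻¹⁻¹ = x by group] at this

theorem sandwich (hp : p ≠ 2) {M R : Subgroup G} (hNo : PLocal.SLTwo.NoSL p M)
    (hc : centralizer (Cfsg.pCore p M : Set M) ≤ Cfsg.pCore p M) (hRM : R ≤ M)
    (hUR : core p M ≤ R) :
    ∀ n, (Cfsg.puigSeq R (2 * n)).map R.subtype ≤ (Cfsg.puigSeq (core p M) (2 * n)).map (core p M).subtype ∧
      (Cfsg.puigSeq (core p M) (2 * n + 1)).map (core p M).subtype ≤
        (Cfsg.puigSeq R (2 * n + 1)).map R.subtype := by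
  refine OddLocal.puig_sandwich hUR fun n A hAR hA hn _ => ?_
  set U := core p M with hU
  set X := (Cfsg.puigSeq U (2 * n + 1)).map U.subtype with hX
  have hUM : U ≤ M := map_subtype_le _
  have hUp : IsPGroup p U := (Core.isPGroup_pCore p M).map _
  have hXU : X ≤ U := map_subtype_le _
  have hXM : M ≤ normalizer (X : Set G) :=
    (le_normalizer_core M).trans (le_normalizer_map_characteristic _)
  haveI : (X.subgroupOf M).Normal := normal_subgroupOf_iff_le_normalizer (hXU.trans hUM) |>.mpr hXM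
  intro a ha
  have haM : a ∈ M := hRM (hAR ha)
  refine ⟨⟨a, haM⟩, mem_pCore_of_quad hp hNo hc (X := X.subgroupOf M) ?_ ?_
    (subgroupOf_quad (hXU.trans hUM) haM (quad_of_abelian hA hn ha)), rfl⟩
  · intro x hx
    obtain ⟨y, hy, hyx⟩ := hXU hx
    rwa [← Subtype.ext hyx]
  · intro x hx hxc
    have hxU : (x : G) ∈ U := ⟨x, hx, rfl⟩
    refine ⟨⟨x, hxU⟩, OddLocal.centralizer_le_puigStep hUp (Cfsg.puigSeq U (2 * n))
      (mem_centralizer_iff.2 fun t ht => Subtype.ext ?_), rfl⟩
    have := congrArg (fun z : M => (z : G))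
      (mem_centralizer_iff.1 hxc ⟨t, hUM t.2⟩ (show (t : G) ∈ X from ⟨t, ht, rfl⟩))
    exact this

theorem exists_minimal_in_center (hp : p ≠ 2) {M R : Subgroup G} (hNo : PLocal.SLTwo.NoSL p M)
    (hc : centralizer (Cfsg.pCore p M : Set M) ≤ Cfsg.pCore p M) (hRM : R ≤ M) (hUR : core p M ≤ R)
    (hRp : IsPGroup p R) (hne : core p M ≠ ⊥) :
    ∃ A : Subgroup G, A ≠ ⊥ ∧ M ≤ normalizer (A : Set G) ∧
      A ≤ (Cfsg.puigSubgroup R).map R.subtype ⊓
        centralizer ((Cfsg.puigSubgroup R).map R.subtype : Set G) := by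
  set U := core p M with hU
  have hsw := sandwich hp hNo hc hRM hUR
  set L := (Cfsg.puigSubgroup R).map R.subtype with hL
  set Ls := (Cfsg.puigLower R).map R.subtype with hLs
  set LU := (Cfsg.puigSubgroup U).map U.subtype with hLU
  have h1 : Ls ≤ LU := (OddLocal.map_puigLower_le_of_sandwich fun n => (hsw n).1).trans
    (map_mono OddLocal.puigLower_le_puigSubgroup)
  have h2 : LU ≤ L := OddLocal.map_puigSubgroup_le_of_sandwich fun n => (hsw n).2
  set Y := LU ⊓ centralizer (LU : Set G) with hY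
  have hUp : IsPGroup p U := (Core.isPGroup_pCore p M).map _
  have hUM : U ≤ M := map_subtype_le _
  have hYU : Y ≤ U := inf_le_left.trans (map_subtype_le _)
  have hYLs : Y ≤ Ls := fun y hy =>
    OddLocal.mem_map_puigLower_of_centralizes hRp (map_subtype_le _ (h2 hy.1)) (centralizer_le h1 hy.2)
  have hY1 : Y ≠ ⊥ := by
    have hLU1 : LU ≠ ⊥ := by
      intro h
      apply hne
      refine eq_bot_iff.mpr fun x hx => ?_
      have h' := OddLocal.centralizer_le_puigStep hUp (Cfsg.puigLower U)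
      rw [OddLocal.puigStep_puigLower] at h'
      have hmem : x ∈ LU := ⟨⟨x, hx⟩, h' (mem_centralizer_iff.2 fun t ht => ?_), rfl⟩
      · exact h ▸ hmem
      · have : (t : G) ∈ LU := ⟨t, ht, rfl⟩
        rw [h, mem_bot] at this
        rw [show t = 1 from Subtype.ext this, one_mul, mul_one]
    haveI : Nontrivial LU := (nontrivial_iff_ne_bot LU).mpr hLU1
    haveI := (hUp.to_le (map_subtype_le _ : LU ≤ U)).center_nontrivial
    obtain ⟨z, hz⟩ := exists_ne (1 : center LU)
    intro h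
    have : ((z : LU) : G) ∈ Y := ⟨(z : LU).2, mem_centralizer_iff.mpr fun v hv =>
      congrArg Subtype.val (mem_center_iff.mp z.2 ⟨v, hv⟩)⟩
    rw [h, mem_bot] at this
    exact hz (Subtype.ext (Subtype.ext this))
  have hYn : M ≤ normalizer (Y : Set G) :=
    (le_normalizer_core M).trans (OddLocal.normalizer_map_puigSubgroup_le_normalizer_center U)
  obtain ⟨A, ⟨hAY, hA1, hAn⟩, hmin⟩ := Set.Finite.exists_minimal
    (Set.toFinite {A : Subgroup G | A ≤ Y ∧ A ≠ ⊥ ∧ M ≤ normalizer (A : Set G)}) ⟨Y, le_rfl, hY1, hYn⟩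
  refine ⟨A, hA1, hAn, le_inf (hAY.trans (inf_le_left.trans h2)) ?_⟩
  have hAM : A ≤ M := hAY.trans (hYU.trans hUM)
  haveI : (A.subgroupOf M).Normal := (normal_subgroupOf_iff_le_normalizer hAM).mpr hAn
  have hAsub : (A.subgroupOf M).map M.subtype = A := by rw [subgroupOf_map_subtype, inf_of_le_left hAM]
  suffices hLC : L ≤ centralizer (A : Set G) from le_centralizer_iff.mp hLC
  rw [hL, ← OddLocal.puigStep_puigLower]
  refine OddLocal.map_puigStep_le fun B hBR hB hn b hb => ?_
  have hbM : b ∈ M := hRM (hBR hb)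
  have hq := subgroupOf_quad hAM hbM
    (quad_of_abelian hB ((hAY.trans hYLs).trans hn) hb)
  have hmem := mem_centralizer_of_quad hp hNo (A := A.subgroupOf M)
    ((hUp.to_le (hAY.trans hYU)).comap_subtype) (fun h => hA1 (by rw [← hAsub, h, Subgroup.map_bot]))
    (fun B' hB'n hB'A hB'1 => by
      have hle : B'.map M.subtype ≤ A := hAsub ▸ map_mono hB'A
      have hn' : M ≤ normalizer (B'.map M.subtype : Set G) := by
        intro g hg
        have key : ∀ g ∈ M, ∀ x ∈ B'.map M.subtype, g * x * g⁻¹ ∈ B'.map M.subtype := by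
          rintro g hg _ ⟨x, hx, rfl⟩
          exact ⟨⟨g, hg⟩ * x * ⟨g, hg⟩⁻¹, hB'n.conj_mem x hx _, rfl⟩
        refine mem_normalizer_iff.2 fun x => ⟨key g hg x, fun h => ?_⟩
        have := key g⁻¹ (inv_mem hg) _ h
        rwa [show g⁻¹ * (g * x * g⁻¹) * g⁻¹⁻¹ = x by group] at this
      have := hmin ⟨hle.trans hAY, fun h => hB'1 ((map_eq_bot_iff_of_injective _ M.subtype_injective).mp h), hn'⟩ hle
      exact map_injective M.subtype_injective (le_antisymm (map_mono hB'A) (hAsub.le.trans this)))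
    hq
  exact mem_centralizer_iff.mpr fun v hv =>
    congrArg Subtype.val (mem_centralizer_iff.mp hmem ⟨v, hAM hv⟩ hv)

/-- The Puig subgroup of `R` lies in `O_p(M)`. -/
theorem puig_le_core (hp : p ≠ 2) {M I R A : Subgroup G} (hNo : PLocal.SLTwo.NoSL p M)
    (hc : centralizer (Cfsg.pCore p M : Set M) ≤ Cfsg.pCore p M) (hRM : R ≤ M) (hUR : core p M ≤ R)
    (hRp : IsPGroup p R) (hA : A ≤ (Cfsg.puigSubgroup R).map R.subtype ⊓
      centralizer ((Cfsg.puigSubgroup R).map R.subtype : Set G))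
    (hI : M ⊓ normalizer (A : Set G) ≤ I) (hIR : I ≤ normalizer (R : Set G)) :
    (Cfsg.puigSubgroup R).map R.subtype ≤ core p M := by
  set U := core p M with hU
  have hsw := sandwich hp hNo hc hRM hUR
  set L := (Cfsg.puigSubgroup R).map R.subtype with hL
  set Ls := (Cfsg.puigLower R).map R.subtype with hLs
  set LU := (Cfsg.puigSubgroup U).map U.subtype with hLU
  have h1 : Ls ≤ LU := (OddLocal.map_puigLower_le_of_sandwich fun n => (hsw n).1).trans
    (map_mono OddLocal.puigLower_le_puigSubgroup)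
  have h2 : LU ≤ L := OddLocal.map_puigSubgroup_le_of_sandwich fun n => (hsw n).2
  set Y := LU ⊓ centralizer (LU : Set G) with hY
  have hUM : U ≤ M := map_subtype_le _
  have hYM : Y ≤ M := inf_le_left.trans ((map_subtype_le _).trans hUM)
  have hYLs : Y ≤ Ls := fun y hy =>
    OddLocal.mem_map_puigLower_of_centralizes hRp (map_subtype_le _ (h2 hy.1)) (centralizer_le h1 hy.2)
  have hAY : A ≤ Y := fun a ha => by
    have ha' := hA ha
    exact ⟨h1 (OddLocal.mem_map_puigLower_of_centralizes hRp (map_subtype_le _ ha'.1)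
      (centralizer_le (h1.trans h2) ha'.2)), centralizer_le h2 ha'.2⟩
  have hYn : M ≤ normalizer (Y : Set G) :=
    (le_normalizer_core M).trans (OddLocal.normalizer_map_puigSubgroup_le_normalizer_center U)
  set Y' := Y.subgroupOf M with hY'
  haveI : Y'.Normal := (normal_subgroupOf_iff_le_normalizer hYM).mpr hYn
  set C := centralizer (Y' : Set M) with hC
  haveI : C.Normal := inferInstance
  haveI : (Cfsg.pCore p (M ⧸ C)).Normal := Core.normal_pCore p _
  set D := (Cfsg.pCore p (M ⧸ C)).comap (QuotientGroup.mk' C) with hD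
  haveI : D.Normal := inferInstance
  have hY'p : IsPGroup p Y' := (hRp.to_le (hYLs.trans (map_subtype_le _))).comap_subtype
  have hLD : L.subgroupOf M ≤ D := by
    intro x hx
    have : L ≤ D.map M.subtype := by
      rw [hL, ← OddLocal.puigStep_puigLower]
      refine OddLocal.map_puigStep_le fun B hBR hB hn b hb => ?_
      have hbM : b ∈ M := hRM (hBR hb)
      exact ⟨⟨b, hbM⟩, PLocal.SLTwo.mem_pCore_of_noSL hp hNo Y' hY'p
        (subgroupOf_quad hYM hbM (quad_of_abelian hB (hYLs.trans hn) hb)), rfl⟩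
    obtain ⟨y, hy, hyx⟩ := this hx
    rwa [← Subtype.ext hyx]
  have hCD : C ≤ D := fun c hc' => by
    rw [hD, mem_comap, show QuotientGroup.mk' C c = 1 from (QuotientGroup.eq_one_iff _).mpr hc']
    exact one_mem _
  have hCI : ∀ c : M, c ∈ C → (c : G) ∈ I := fun c hc' => hI ⟨c.2, by
    have hcA : ∀ a ∈ A, (c : G) * a * (c : G)⁻¹ = a := fun a ha => by
      have := congrArg Subtype.val (mem_centralizer_iff.mp hc' ⟨a, hYM (hAY ha)⟩ (hAY ha))
      simp only [Subgroup.coe_mul] at this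
      rw [← this, mul_inv_cancel_right]
    refine mem_normalizer_iff.mpr fun a => ⟨fun ha => by rwa [hcA a ha], fun ha => ?_⟩
    have hci : ∀ a ∈ A, (c : G)⁻¹ * a * (c : G) = a := fun a ha => by
      conv_lhs => rw [← hcA a ha]
      group
    have := hci _ ha
    rw [show (c : G)⁻¹ * ((c : G) * a * (c : G)⁻¹) * (c : G) = a by group] at this
    rw [this]; exact ha⟩
  haveI := Core.normal_pCore p M
  have hK := le_pCore_of_normalized (p := p) hCD (by
      refine (Core.isPGroup_pCore p (M ⧸ C)).to_le ?_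
      rw [map_le_iff_le_comap])
    (K := R.subgroupOf M ⊓ D) inf_le_right
    ((hRp.comap_subtype (K := M)).to_le inf_le_left) (fun c hc' => by
      refine mem_normalizer_iff.mpr fun x => ?_
      have h := mem_normalizer_iff.mp (hIR (hCI c hc')) (x : G)
      exact ⟨fun hx => ⟨h.mp hx.1, ‹D.Normal›.conj_mem x hx.2 c⟩, fun hx => ⟨h.mpr hx.1, by
        simpa [mul_assoc] using ‹D.Normal›.conj_mem _ hx.2 c⁻¹⟩⟩)
  intro x hx
  have hxR : x ∈ R := map_subtype_le _ hx
  exact ⟨⟨x, hRM hxR⟩, hK ⟨hxR, hLD hx⟩, rfl⟩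

end Sandwich

/-- Abelian Sylow `2`-subgroups exclude `SL(2,p)`. -/
theorem noSL_of_abelian {H : Type u} [Group H] [Finite H] {p : ℕ} [Fact p.Prime] (hp : p ≠ 2)
    (h : ∀ S : Sylow 2 H, IsMulCommutative (S : Subgroup H)) : PLocal.SLTwo.NoSL p H := by
  intro hS
  haveI : Fact (Nat.Prime 2) := ⟨Nat.prime_two⟩
  obtain ⟨K, π, -, hπ⟩ := PLocal.SLTwo.exists_hom_of_hasSLTwo hS
  obtain ⟨Q, hQ, hQc⟩ := Transfer.exists_two_subgroup_SLTwo (p := p) hp
  obtain ⟨Q', hQQ'⟩ := hQ.exists_le_sylow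
  obtain ⟨T⟩ : Nonempty (Sylow 2 K) := inferInstance
  obtain ⟨S, hTS⟩ := (T.2.map K.subtype).exists_le_sylow
  obtain ⟨g, hg⟩ : ∃ g : PLocal.SLTwo.S2 (ZMod p), g • Q' = T.mapSurjective hπ :=
    MulAction.exists_smul_eq _ Q' _
  refine hQc ⟨⟨fun a b => Subtype.ext ?_⟩⟩
  have hmem : ∀ z ∈ Q, ∃ t ∈ (T : Subgroup K), π t = g * z * g⁻¹ := fun z hz => by
    have h' : g * z * g⁻¹ ∈ ((T.mapSurjective hπ : Sylow 2 _) : Subgroup _) := by
      rw [← hg]
      exact Subgroup.smul_mem_pointwise_smul z (MulAut.conj g) _ (hQQ' hz)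
    rwa [Sylow.coe_mapSurjective] at h'
  obtain ⟨s, hs, hsa⟩ := hmem a a.2
  obtain ⟨t, ht, htb⟩ := hmem b b.2
  have hst' := congrArg Subtype.val
    ((h S).is_comm.comm ⟨(s : H), hTS ⟨s, hs, rfl⟩⟩ ⟨(t : H), hTS ⟨t, ht, rfl⟩⟩)
  have hst : s * t = t * s := Subtype.ext hst'
  have := congrArg π hst
  rw [map_mul, map_mul, hsa, htb] at this
  show (a : PLocal.SLTwo.S2 (ZMod p)) * b = b * a
  have e : g * ((a : PLocal.SLTwo.S2 (ZMod p)) * b) * g⁻¹ = g * ((b : PLocal.SLTwo.S2 (ZMod p)) * a) * g⁻¹ := by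
    simpa [mul_assoc] using this
  exact mul_left_cancel (mul_right_cancel e)

/-- The even prime. -/
theorem sylow_le_two {G : Type u} [Group G] [Finite G] {M : Subgroup G}
    (hc : centralizer (Cfsg.pCore 2 M : Set M) ≤ Cfsg.pCore 2 M)
    (h : ∀ S : Sylow 2 M, IsMulCommutative (S : Subgroup M)) (S : Sylow 2 M) :
    (S : Subgroup M) = Cfsg.pCore 2 M :=
  le_antisymm (fun s hs => hc (mem_centralizer_iff.mpr fun u hu => congrArg Subtype.val
    ((h S).is_comm.comm ⟨u, Core.pCore_le_sylow S hu⟩ ⟨s, hs⟩))) (Core.pCore_le_sylow S)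

/-- Primitive pairs of characteristic `p` have non-abelian Sylow `2`-subgroups. -/
theorem false_of_abelian {G : Type u} [Group G] [Finite G] {p : ℕ} [Fact p.Prime]
    (M₁ M₂ : Subgroup G) (hne : M₁ ≠ M₂)
    (hP : ∀ A : Subgroup G, A ≠ ⊥ → A ≤ M₁ ⊓ M₂ →
      (M₁ ≤ normalizer (A : Set G) → M₂ ⊓ normalizer (A : Set G) = M₁ ⊓ M₂) ∧
      (M₂ ≤ normalizer (A : Set G) → M₁ ⊓ normalizer (A : Set G) = M₁ ⊓ M₂))
    (hc₁ : centralizer (Cfsg.pCore p M₁ : Set M₁) ≤ Cfsg.pCore p M₁)
    (hc₂ : centralizer (Cfsg.pCore p M₂ : Set M₂) ≤ Cfsg.pCore p M₂)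
    (hO : (Cfsg.pCore p M₁).map M₁.subtype ⊔ (Cfsg.pCore p M₂).map M₂.subtype ≤ M₁ ⊓ M₂)
    (h₁ : ∀ S : Sylow 2 M₁, IsMulCommutative (S : Subgroup M₁))
    (h₂ : ∀ S : Sylow 2 M₂, IsMulCommutative (S : Subgroup M₂)) : False := by
  set U₁ := core p M₁ with hU₁
  set U₂ := core p M₂ with hU₂
  have hle : ∀ {M : Subgroup G}, centralizer (Cfsg.pCore p M : Set M) ≤ Cfsg.pCore p M →
      core p M = ⊥ → M = ⊥ := fun {M} hc h => by
    rw [eq_bot_iff]
    intro x hx
    have h' : Cfsg.pCore p M = ⊥ := (map_eq_bot_iff_of_injective _ M.subtype_injective).mp h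
    have := hc (show (⟨x, hx⟩ : M) ∈ centralizer (Cfsg.pCore p M : Set M) from
      mem_centralizer_iff.mpr fun u hu => by
        rw [h', SetLike.mem_coe, mem_bot] at hu; rw [hu, one_mul, mul_one])
    rw [h', mem_bot] at this
    exact congrArg Subtype.val this
  -- a subgroup normalized by both is trivial
  have final : ∀ A : Subgroup G, A ≠ ⊥ → A ≤ M₁ ⊓ M₂ → M₁ ≤ normalizer (A : Set G) →
      M₂ ≤ normalizer (A : Set G) → False := fun A hA hAM h1 h2 => by
    have e1 := (hP A hA hAM).1 h1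
    have e2 := (hP A hA hAM).2 h2
    rw [inf_eq_left.mpr h2] at e1
    rw [inf_eq_left.mpr h1] at e2
    exact hne (e2.trans e1.symm)
  -- none is trivial
  have hne₁ : U₁ ≠ ⊥ ∨ U₂ ≠ ⊥ := by
    by_contra h
    push Not at h
    exact hne ((hle hc₁ h.1).trans (hle hc₂ h.2).symm)
  have hb₁ : U₁ ≠ ⊥ := fun h => by
    refine hne₁.elim (fun h' => h' h) fun h2 => ?_
    have h2' : U₂ ≤ M₁ := (le_sup_right.trans hO).trans inf_le_left
    rw [hle hc₁ h, le_bot_iff] at h2'
    exact h2 h2'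
  have hb₂ : U₂ ≠ ⊥ := fun h => by
    have h1' : U₁ ≤ M₂ := (le_sup_left.trans hO).trans inf_le_right
    rw [hle hc₂ h, le_bot_iff] at h1'
    exact hb₁ h1'
  set I := M₁ ⊓ M₂ with hI
  have hI₁ : I ≤ normalizer (U₁ : Set G) := inf_le_left.trans (le_normalizer_core M₁)
  have hI₂ : I ≤ normalizer (U₂ : Set G) := inf_le_right.trans (le_normalizer_core M₂)
  set R := U₁ ⊔ U₂ with hR
  have hRI : R ≤ I := hO
  have hRp : IsPGroup p R :=
    ((Core.isPGroup_pCore p M₁).map _).to_sup_of_normal_left' ((Core.isPGroup_pCore p M₂).map _)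
      ((le_sup_right.trans hO).trans hI₁)
  by_cases hp : p = 2
  · subst hp
    have key : ∀ {M N : Subgroup G}, centralizer (Cfsg.pCore 2 M : Set M) ≤ Cfsg.pCore 2 M →
        (∀ S : Sylow 2 M, IsMulCommutative (S : Subgroup M)) → core 2 N ≤ M → core 2 N ≤ core 2 M := by
      intro M N hc h hNM
      obtain ⟨S, hS⟩ := (((Core.isPGroup_pCore 2 N).map N.subtype).comap_subtype (K := M)).exists_le_sylow
      rw [sylow_le_two hc h S] at hS
      exact fun x hx => ⟨⟨x, hNM hx⟩, hS hx, rfl⟩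
    have heq : U₁ = U₂ := le_antisymm (key hc₂ h₂ ((le_sup_left.trans hO).trans inf_le_right))
      (key hc₁ h₁ ((le_sup_right.trans hO).trans inf_le_left))
    exact final U₁ hb₁ (le_sup_left.trans hO) (le_normalizer_core M₁) (heq ▸ le_normalizer_core M₂)
  · have hN₁ := noSL_of_abelian (H := M₁) hp h₁
    have hN₂ := noSL_of_abelian (H := M₂) hp h₂
    have hRM₁ : R ≤ M₁ := hRI.trans inf_le_left
    have hRM₂ : R ≤ M₂ := hRI.trans inf_le_right
    have hIR : I ≤ normalizer (R : Set G) := fun g hg => by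
      have key : ∀ g ∈ I, ∀ x ∈ R, g * x * g⁻¹ ∈ R := fun g hg x hx => by
        have : R ≤ R.comap (MulAut.conj g).toMonoidHom := sup_le
          (fun y hy => mem_comap.mpr (mem_sup_left ((mem_normalizer_iff.mp (hI₁ hg) y).mp hy)))
          (fun y hy => mem_comap.mpr (mem_sup_right ((mem_normalizer_iff.mp (hI₂ hg) y).mp hy)))
        exact this hx
      refine mem_normalizer_iff.2 fun x => ⟨key g hg x, fun h => ?_⟩
      have := key g⁻¹ (inv_mem hg) _ h
      rwa [show g⁻¹ * (g * x * g⁻¹) * g⁻¹⁻¹ = x by group] at this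
    obtain ⟨A₁, hA₁, hn₁, hle₁⟩ := exists_minimal_in_center hp hN₁ hc₁ hRM₁ le_sup_left hRp hb₁
    obtain ⟨A₂, hA₂, hn₂, hle₂⟩ := exists_minimal_in_center hp hN₂ hc₂ hRM₂ le_sup_right hRp hb₂
    have hin : ∀ {A : Subgroup G}, A ≤ (Cfsg.puigSubgroup R).map R.subtype ⊓
        centralizer ((Cfsg.puigSubgroup R).map R.subtype : Set G) → A ≤ I :=
      fun h => h.trans (inf_le_left.trans ((map_subtype_le _).trans hRI))
    have hL₁ := puig_le_core hp hN₁ hc₁ hRM₁ le_sup_left hRp hle₂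
      ((hP A₂ hA₂ (hin hle₂)).2 hn₂).le hIR
    have hL₂ := puig_le_core hp hN₂ hc₂ hRM₂ le_sup_right hRp hle₁
      ((hP A₁ hA₁ (hin hle₁)).1 hn₁).le hIR
    set L := (Cfsg.puigSubgroup R).map R.subtype with hL
    have e₁ := OddLocal.map_puigSubgroup_eq (le_sup_left : U₁ ≤ R) hL₁
    have e₂ := OddLocal.map_puigSubgroup_eq (le_sup_right : U₂ ≤ R) hL₂
    refine final L (fun h => hA₁ (le_bot_iff.mp (h ▸ hle₁.trans inf_le_left)))
      ((map_subtype_le _).trans hRI) ?_ ?_
    · rw [hL, hR, ← e₁]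
      exact (le_normalizer_core M₁).trans (le_normalizer_map_characteristic _)
    · rw [hL, hR, ← e₂]
      exact (le_normalizer_core M₂).trans (le_normalizer_map_characteristic _)

end CfsgLib.PGroups.PrimPair
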