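import Cfsg.Agent.Lib.ClassSizes.RegularPGroup
import Cfsg.Agent.Lib.PGroups.Omega

/-!
# Power subgroups of regular `p`-groups and Kemhadze's criterion
-/

set_option autoImplicit false

namespace CfsgLib.PGroups.RegularPowers

open Subgroup
open scoped commutatorElement

variable {G : Type*} [Group G] {p : ℕ}

/-- the regularity identity for one fixed exponent `n` -/
def PowCond (p n : ℕ) (G : Type*) [Group G] : Prop :=
  ∀ a b : G, ∃ c ∈ Cfsg.powerClosure p n ⁅closure ({a, b} : Set G), closure ({a, b} : Set G)⁆,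
    (a * b) ^ p ^ n = a ^ p ^ n * b ^ p ^ n * c

theorem closure_pair_le {H : Subgroup G} {a b : G} (ha : a ∈ H) (hb : b ∈ H) :
    closure ({a, b} : Set G) ≤ H := by
  rw [closure_le]
  rintro u (rfl | rfl)
  exacts [ha, hb]

variable [Finite G] [Fact p.Prime]

theorem exists_pow_eq_mul (hG : IsPGroup p G) {n : ℕ} (hc : PowCond p n G) :
    ∀ m : ℕ, ∀ H : Subgroup G, Nat.card H ≤ m → ∀ x ∈ H, ∀ y ∈ H,
      ∃ z ∈ H, z ^ p ^ n = x ^ p ^ n * y ^ p ^ n := by
  intro m
  induction m with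
  | zero => exact fun H hH => absurd hH (Nat.card_pos (α := H)).not_ge
  | succ m ih =>
    intro H hH x hx y hy
    have hlt : ∀ L : Subgroup G, L < H → Nat.card L ≤ m := fun L hL => by
      have := CfsgLib.PGroups.RegularPowers.closure_pair_le hx hy
      have h1 : Nat.card L < Nat.card H := lt_of_le_of_ne (card_le_of_le hL.le)
        fun h => hL.ne (eq_of_le_of_card_ge hL.le h.ge)
      omega
    set K := closure ({x, y} : Set G) with hK
    rcases (closure_pair_le hx hy).lt_or_eq with hKH | hKH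
    · obtain ⟨z, hz, he⟩ := ih K (hlt K hKH) x (subset_closure (Or.inl rfl)) y
        (subset_closure (Or.inr rfl))
      exact ⟨z, hKH.le hz, he⟩
    by_cases hab : IsMulCommutative H
    · exact ⟨x * y, mul_mem hx hy, Commute.mul_pow
        (congrArg Subtype.val (hab.is_comm.comm (⟨x, hx⟩ : H) ⟨y, hy⟩)) _⟩
    have hL : zpowers (x * y) ⊔ ⁅H, H⁆ < H :=
      CfsgLib.ClassSizes.zpowers_sup_commutator_lt hG H hab (mul_mem hx hy)
    have hC : ⁅H, H⁆ < H := lt_of_le_of_lt le_sup_right hL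
    obtain ⟨c, hc', he⟩ := hc x y
    rw [show closure ({x, y} : Set G) = H from hKH] at hc'
    obtain ⟨d, hd, rfl⟩ : ∃ d ∈ ⁅H, H⁆, c = d ^ p ^ n := by
      refine closure_induction (p := fun c _ => ∃ d ∈ ⁅H, H⁆, c = d ^ p ^ n) ?_ ?_ ?_ ?_ hc'
      · exact fun c hc => hc
      · exact ⟨1, one_mem _, (one_pow _).symm⟩
      · rintro u v - - ⟨d, hd, rfl⟩ ⟨d', hd', rfl⟩
        obtain ⟨z, hz, he'⟩ := ih _ (hlt _ hC) d hd d' hd'
        exact ⟨z, hz, he'.symm⟩
      · rintro u - ⟨d, hd, rfl⟩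
        exact ⟨d⁻¹, inv_mem hd, (inv_pow _ _).symm⟩
    obtain ⟨z, hz, he'⟩ := ih _ (hlt _ hL) (x * y) (mem_sup_left (mem_zpowers _)) d⁻¹
      (mem_sup_right (inv_mem hd))
    refine ⟨z, hL.le hz, ?_⟩
    rw [he', he, inv_pow, mul_inv_cancel_right]

theorem mem_powerClosure_iff (hG : IsPGroup p G) {n : ℕ} (hc : PowCond p n G) {H : Subgroup G}
    {y : G} : y ∈ Cfsg.powerClosure p n H ↔ ∃ x ∈ H, y = x ^ p ^ n := by
  refine ⟨fun hy => ?_, fun hy => subset_closure hy⟩
  refine closure_induction (p := fun y _ => ∃ x ∈ H, y = x ^ p ^ n) ?_ ?_ ?_ ?_ hy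
  · exact fun y hy => hy
  · exact ⟨1, one_mem _, (one_pow _).symm⟩
  · rintro u v - - ⟨d, hd, rfl⟩ ⟨d', hd', rfl⟩
    obtain ⟨z, hz, he'⟩ := exists_pow_eq_mul hG hc _ H le_rfl d hd d' hd'
    exact ⟨z, hz, he'.symm⟩
  · rintro u - ⟨d, hd, rfl⟩
    exact ⟨d⁻¹, inv_mem hd, (inv_pow _ _).symm⟩

omit [Finite G] [Fact p.Prime] in
theorem powerClosure_zero (H : Subgroup G) : Cfsg.powerClosure p 0 H = H := by
  refine le_antisymm ((closure_le _).2 ?_) fun x hx => subset_closure ⟨x, hx, by simp⟩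
  rintro _ ⟨x, hx, rfl⟩
  simpa using hx

theorem commutator_powerClosure_le (hG : IsPGroup p G) {n : ℕ} (hc : PowCond p n G)
    (H : Subgroup G) :
    ⁅Cfsg.powerClosure p n H, Cfsg.powerClosure p n H⁆ ≤ Cfsg.powerClosure p n ⁅H, H⁆ := by
  rcases Nat.eq_zero_or_pos n with rfl | hn
  · rw [powerClosure_zero, powerClosure_zero]
  set W0 := Cfsg.powerClosure p n ⁅H, H⁆ with hW0
  set W := W0.subgroupOf H with hW
  have hWle : W0 ≤ H := (CfsgLib.PGroups.powerClosure_le _).trans (commutator_le_self H)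
  have hWeq : W = Cfsg.powerClosure p n (commutator H) := by
    apply map_injective H.subtype_injective
    rw [hW, subgroupOf_map_subtype, inf_of_le_left hWle, CfsgLib.PGroups.powerClosure_map,
      _root_.commutator_def, map_commutator, ← MonoidHom.range_eq_map, range_subtype]
  have : W.Normal := by
    rw [hWeq]
    refine ⟨fun w hw g => ?_⟩
    have h1 := mem_map_of_mem (MulAut.conj g).toMonoidHom hw
    rw [CfsgLib.PGroups.powerClosure_map, _root_.commutator_def, map_commutator,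
      map_top_of_surjective _ (MulAut.conj g).surjective] at h1
    rw [_root_.commutator_def]
    exact h1
  set π := QuotientGroup.mk' W
  set q := p ^ n with hq
  have hom : ∀ u v : H, π (u * v) ^ q = π u ^ q * π v ^ q := by
    intro u v
    obtain ⟨c, hc', he⟩ := hc u v
    have hcW : c ∈ W0 := CfsgLib.PGroups.powerClosure_mono
      (commutator_mono (closure_pair_le u.2 v.2) (closure_pair_le u.2 v.2)) hc'
    rw [← map_pow, ← map_pow, ← map_pow, ← map_mul]
    refine QuotientGroup.eq.2 ?_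
    show ((u * v) ^ q)⁻¹ * (u ^ q * v ^ q) ∈ W
    rw [hW, mem_subgroupOf]
    show (((u : G) * v) ^ q)⁻¹ * ((u : G) ^ q * (v : G) ^ q) ∈ W0
    rw [he, mul_inv_rev, mul_assoc, inv_mul_cancel, mul_one]
    exact inv_mem hcW
  have hcomm : ∀ u v : H, ⁅π u ^ q, π v ^ q⁆ = 1 := by
    intro u v
    obtain ⟨k, hk⟩ := IsPGroup.iff_orderOf.1 (hG.to_subgroup H) u
    obtain ⟨m, hm⟩ := exists_pow_eq_self_of_coprime (x := u) (n := q - 1) (by
      rw [hk]
      refine Nat.Coprime.pow_right k (((Fact.out : p.Prime).coprime_iff_not_dvd.2 fun hd => ?_).symm)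
      have h1 : p ∣ q := dvd_pow_self p hn.ne'
      have h2 : 1 ≤ q := Nat.one_le_pow _ _ (Fact.out : p.Prime).pos
      have h3 := Nat.dvd_sub h1 hd
      rw [show q - (q - 1) = 1 by omega] at h3
      exact (Fact.out : p.Prime).one_lt.ne' (Nat.dvd_one.1 h3))
    have h1 : π u * π v ^ q * (π u)⁻¹ = π u ^ q * π v ^ q * (π u ^ q)⁻¹ := by
      rw [← conj_pow, ← map_inv, ← map_mul, ← map_mul, hom, hom, map_inv, inv_pow]
    have h2 : Commute (π u ^ (q - 1)) (π v ^ q) := by
      have h3 : 1 ≤ q := Nat.one_le_pow _ _ (Fact.out : p.Prime).pos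
      rw [show q = q - 1 + 1 by omega, pow_succ' (π u) (q - 1)] at h1
      rw [Commute, SemiconjBy]
      have h4 : π u ^ (q - 1) * π v ^ (q - 1 + 1) * (π u ^ (q - 1))⁻¹ = π v ^ (q - 1 + 1) := by
        calc π u ^ (q - 1) * π v ^ (q - 1 + 1) * (π u ^ (q - 1))⁻¹
            = (π u)⁻¹ * (π u * π u ^ (q - 1) * π v ^ (q - 1 + 1) * (π u * π u ^ (q - 1))⁻¹) * π u := by
              group
          _ = (π u)⁻¹ * (π u * π v ^ (q - 1 + 1) * (π u)⁻¹) * π u := by rw [h1]
          _ = π v ^ (q - 1 + 1) := by group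
      rw [show q - 1 + 1 = q by omega] at h4
      exact mul_inv_eq_iff_eq_mul.1 h4
    have h5 : Commute (π u) (π v ^ q) := by
      have := h2.pow_left m
      rwa [← pow_mul, ← map_pow, pow_mul, hm] at this
    exact commutatorElement_eq_one_iff_commute.2 (h5.pow_left q)
  rw [commutator_le]
  intro g hg g' hg'
  obtain ⟨u, hu, rfl⟩ := (mem_powerClosure_iff hG hc).1 hg
  obtain ⟨v, hv, rfl⟩ := (mem_powerClosure_iff hG hc).1 hg'
  have h1 := hcomm ⟨u, hu⟩ ⟨v, hv⟩
  rw [← map_pow, ← map_pow, ← map_commutatorElement, QuotientGroup.mk'_apply,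
    QuotientGroup.eq_one_iff, hW, mem_subgroupOf] at h1
  exact h1

/-- **Kemhadze's criterion** -/
theorem powCond_of_one (hG : IsPGroup p G) (hc : PowCond p 1 G) :
    ∀ m : ℕ, ∀ n : ℕ, ∀ K : Subgroup G, Nat.card K ≤ m → ∀ a ∈ K, ∀ b ∈ K,
      ∃ c ∈ Cfsg.powerClosure p n ⁅closure ({a, b} : Set G), closure ({a, b} : Set G)⁆,
        (a * b) ^ p ^ n = a ^ p ^ n * b ^ p ^ n * c := by
  intro m
  induction m with
  | zero => exact fun n K hK => absurd hK (Nat.card_pos (α := K)).not_ge
  | succ m ih =>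
    intro n K0 hK0 a ha b hb
    cases n with
    | zero => exact ⟨1, one_mem _, by simp⟩
    | succ n =>
      set K := closure ({a, b} : Set G) with hK
      have hKle : K ≤ K0 := closure_pair_le ha hb
      by_cases hKt : K = ⊥
      · have ha1 : a = 1 := by rw [← mem_bot, ← hKt]; exact subset_closure (Or.inl rfl)
        have hb1 : b = 1 := by rw [← mem_bot, ← hKt]; exact subset_closure (Or.inr rfl)
        exact ⟨1, one_mem _, by simp [ha1, hb1]⟩
      set M := Cfsg.powerClosure p 1 K with hM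
      have hMK : Nat.card M ≤ m := by
        haveI : Nontrivial K := (nontrivial_iff_ne_bot K).2 hKt
        have hle : M ≤ (frattini K).map K.subtype := by
          rw [hM]
          refine (closure_le _).2 ?_
          rintro _ ⟨u, hu, rfl⟩
          exact ⟨(⟨u, hu⟩ : K) ^ p ^ 1, by
            rw [pow_one]; exact CfsgLib.PGroups.pow_mem_frattini (hG.to_subgroup K) _, by simp⟩
        have h1 : Nat.card ((frattini K).map K.subtype) < Nat.card K := by
          rw [Subgroup.card_map_of_injective K.subtype_injective]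
          exact lt_of_le_of_ne (card_le_card_group _) fun h =>
            CfsgLib.PGroups.frattini_ne_top (G := K) ((card_eq_iff_eq_top _).1 h)
        have h2 := card_le_of_le hle
        have h3 := card_le_of_le hKle
        omega
      obtain ⟨c, hc', he⟩ := hc a b
      rw [← hK] at hc'
      obtain ⟨d, hd, rfl⟩ := (mem_powerClosure_iff hG hc).1 hc'
      have hu : a ^ p ^ 1 ∈ M := subset_closure ⟨a, subset_closure (Or.inl rfl), rfl⟩
      have hv : b ^ p ^ 1 ∈ M := subset_closure ⟨b, subset_closure (Or.inr rfl), rfl⟩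
      have hw : d ^ p ^ 1 ∈ M := subset_closure ⟨d, commutator_le_self K hd, rfl⟩
      set W := Cfsg.powerClosure p (n + 1) ⁅K, K⁆ with hW
      have hsmall : ∀ u v : G, u ∈ M → v ∈ M →
          Cfsg.powerClosure p n ⁅closure ({u, v} : Set G), closure ({u, v} : Set G)⁆ ≤ W := by
        intro u v hu hv
        refine (CfsgLib.PGroups.powerClosure_mono ((commutator_mono (closure_pair_le hu hv)
          (closure_pair_le hu hv)).trans (commutator_powerClosure_le hG hc K))).trans ?_
        refine (closure_le _).2 ?_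
        rintro _ ⟨x, hx, rfl⟩
        obtain ⟨y, hy, rfl⟩ := (mem_powerClosure_iff hG hc).1 hx
        refine subset_closure ⟨y, hy, ?_⟩
        rw [← pow_mul, ← pow_add, add_comm]
      obtain ⟨c1, hc1, he1⟩ := ih n M hMK _ hu _ hv
      obtain ⟨c2, hc2, he2⟩ := ih n M hMK _ (mul_mem hu hv) _ hw
      refine ⟨c1 * (d ^ p ^ 1) ^ p ^ n * c2, ?_, ?_⟩
      · refine mul_mem (mul_mem (hsmall _ _ hu hv hc1) ?_) (hsmall _ _ (mul_mem hu hv) hw hc2)
        refine subset_closure ⟨d, hd, ?_⟩
        rw [← pow_mul, ← pow_add, add_comm]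
      · have key : ∀ x : G, x ^ p ^ (n + 1) = (x ^ p ^ 1) ^ p ^ n := fun x => by
          rw [← pow_mul, ← pow_add, add_comm]
        rw [key, key a, key b, he, he2, he1]
        group

end CfsgLib.PGroups.RegularPowers
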