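import Cfsg.Agent.Lib.PGroups.ThreePrimeModules

/-!
# Three primes: two nontrivial cores of odd order, and the conclusion
-/

set_option autoImplicit false
set_option linter.all false

namespace CfsgLib.PGroups.FixRank

open Subgroup

variable {H : Type*} [Group H] [Finite H] [Group.IsSolvable H] {M : Type*} [CommGroup M] [Finite M]
  [Nontrivial M] {φ : H →* MulAut M} {p q s : ℕ}

theorem false_of_commuting_pairs (S : Setup φ p q s) {P : Subgroup H} (hP : RankTwo p P) {c d : H}
    (hc : orderOf c = q) (hd : orderOf d = q) (hcd : Commute c d) (hdc : d ∉ zpowers c)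
    (hcP : ∀ v ∈ P, Commute c v) (hdP : ∀ v ∈ P, Commute d v) : False := by
  haveI := Fact.mk S.hp; haveI := Fact.mk S.hq
  obtain ⟨a, b, ha, hb, hao, hbo, hab, hba⟩ := hP
  obtain ⟨z, hz, hzo, hzf⟩ := exists_fixed φ (coprime_prime S.cop hao) hao hbo hab hba
  have hzP := closure_pair_le ha hb hz
  obtain ⟨x, -, hx, hxz, hm⟩ := exists_common_fixed φ (coprime_prime S.cop hc) hc hd hcd hdc
    (hcP z hzP) (hdP z hzP) hzf
  exact S.noCommon x z q p S.hq S.hp S.pq.symm hx hzo hxz hm

theorem false_of_two_odd_cores_aux (S : Setup φ p q s) (hp2 : p ≠ 2) (hq2 : q ≠ 2)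
    (hOp : Cfsg.pCore p H ≠ ⊥) (hOq : Cfsg.pCore q H ≠ ⊥) (hno : ¬ RankTwo q (Cfsg.pCore q H)) :
    False := by
  haveI := Fact.mk S.hp; haveI := Fact.mk S.hq; haveI := Fact.mk S.hs
  haveI := CfsgLib.Core.normal_pCore p H
  haveI := CfsgLib.Core.normal_pCore q H
  have hPp := CfsgLib.Core.isPGroup_pCore p H
  have hPq := CfsgLib.Core.isPGroup_pCore q H
  have hpq : ∀ x ∈ Cfsg.pCore p H, ∀ y ∈ Cfsg.pCore q H, Commute x y :=
    CfsgLib.Core.commute_pCore_pCore S.hp S.hq S.pq
  obtain ⟨Wp, hWpn, hWple, hWp1, hWpe, hWpc⟩ := exists_elementary_pCore p hOp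
  obtain ⟨Wq, hWqn, hWqle, hWq1, hWqe, hWqc⟩ := exists_elementary_pCore q hOq
  haveI := hWpn
  haveI := hWqn
  have hWpc' : ∀ u ∈ Wp, ∀ v ∈ Wp, u * v = v * u := fun u hu v hv => hWpc u hu v (hWple hv)
  have hWqc' : ∀ u ∈ Wq, ∀ v ∈ Wq, u * v = v * u := fun u hu v hv => hWqc u hu v (hWqle hv)
  obtain ⟨z, hzW, hz⟩ := exists_orderOf_of_ne_bot hWpe hWp1
  -- the third core is trivial
  have hOs : Cfsg.pCore s H = ⊥ := by
    by_contra h
    obtain ⟨Ws, -, hWsle, hWs1, hWse, -⟩ := exists_elementary_pCore s h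
    obtain ⟨w, hw, hwo⟩ := exists_orderOf_of_ne_bot hWse hWs1
    obtain ⟨v, hv, hvo⟩ := exists_orderOf_of_ne_bot hWqe hWq1
    exact S.noTriple z v w p q s S.hp S.hq S.hs S.pq S.ps S.qs hz hvo hwo
      (hpq z (hWple hzW) v (hWqle hv))
      (CfsgLib.Core.commute_pCore_pCore S.hp S.hs S.ps z (hWple hzW) w (hWsle hw))
      (CfsgLib.Core.commute_pCore_pCore S.hq S.hs S.qs v (hWqle hv) w (hWsle hw))
  obtain ⟨K, hK, hpr, hKq, hKs⟩ := S.exists_hall
  have hqK : Cfsg.pCore q H ≤ K := le_piHall hK (primes_of_pgroup S.hq hPq (Or.inl rfl))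
  obtain ⟨a, b, haK, hbK, ha, hb, hab, hba⟩ := rankTwo_of_rank2 hKs
  obtain ⟨c, d, hcK, hdK, hc, hd, hcd, hdc⟩ := rankTwo_of_rank2 hKq
  obtain ⟨f, hfA, hf, u, huW, hu, hfu⟩ := exists_commute_pair S.qs.symm hWqc' hWqe hWq1 ha hb hab hba
  have hfK : f ∈ K := closure_pair_le haK hbK hfA
  have huO := hWqle huW
  -- the elements of order `q` of the core
  have huniq : ∀ v ∈ Cfsg.pCore q H, orderOf v = q → v ∈ zpowers u := by
    intro v hv hvo
    by_contra h
    exact hno ⟨u, v, huO, hv, hu, hvo, hWqc u huW v hv, h⟩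
  have hun : ∀ g : H, g * u * g⁻¹ ∈ zpowers u := fun g =>
    huniq _ (Normal.conj_mem inferInstance u huO g) (by
      rw [← MulAut.conj_apply, MulEquiv.orderOf_eq, hu])
  have hu_fpf : ¬ Fix φ u := S.isolated u z f q p s S.hq S.hp S.hs S.pq.symm S.qs S.ps hu hz hf
    (hpq z (hWple hzW) u huO).symm hfu.symm
  have hqu : ∀ x : H, x ^ q = 1 → Commute x u := fun x hx => by
    by_contra h
    exact (Nat.not_dvd_of_pos_of_lt (by have := S.hq.two_le; omega) (by have := S.hq.two_le; omega))
      (dvd_pred_of_moves hx hu (hun x) h)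
  -- elements of order `s` and their fixed points
  have hsfix : ∀ x : H, orderOf x = s → Commute x u → Fix φ x := fun x hx hxu => by
    by_contra h
    exact S.noTriple x u z s q p S.hs S.hq S.hp S.qs.symm S.ps.symm S.pq.symm hx hu hz hxu
      (commute_pCore_of_fpf φ S.inj S.cop S.ps.symm hp2 hx h z (hWple hzW))
      (hpq z (hWple hzW) u huO).symm
  have hnopair : ∀ x y : H, orderOf x = s → orderOf y = s → Commute x y → y ∉ zpowers x →
      Commute x u → Commute y u → False := by
    intro x y hx hy hxy hyx hxu hyu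
    obtain ⟨e, he, heo, w, hw, hwo, hew⟩ :=
      exists_commute_pair S.ps.symm hWpc' hWpe hWp1 hx hy hxy hyx
    exact S.noTriple e u w s q p S.hs S.hq S.hp S.qs.symm S.ps.symm S.pq.symm heo hu hwo
      (commute_closure_pair hxu hyu e he) hew (hpq w (hWple hw) u huO).symm
  have hsq : s ∣ q - 1 := by
    by_cases h1 : Commute a u
    · exact dvd_pred_of_moves (hb ▸ pow_orderOf_eq_one b) hu (hun b)
        (hnopair a b ha hb hab hba h1)
    · exact dvd_pred_of_moves (ha ▸ pow_orderOf_eq_one a) hu (hun a) h1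
  have hffix := hsfix f hf hfu
  have hnocommon : Commute c f → Commute d f → False := fun hcf hdf => by
    obtain ⟨y, -, hy, hyf, hm⟩ := exists_common_fixed φ (coprime_prime S.cop hc) hc hd hcd hdc hcf hdf hffix
    exact S.noCommon y f q s S.hq S.hs S.qs hy hf hyf hm
  haveI hcyc : IsCyclic (Cfsg.pCore q H) := isCyclic_of_no_rankTwo hq2 hPq hno
  by_cases hrp : RankTwo p (Cfsg.pCore p H)
  · -- the core of the Hall subgroup
    haveI := CfsgLib.Core.normal_pCore q K
    set N := (Cfsg.pCore q K).map K.subtype with hN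
    have hNp : IsPGroup q N := (CfsgLib.Core.isPGroup_pCore q K).map _
    have huN : u ∈ N := by
      refine ⟨⟨u, hqK huO⟩, ?_, rfl⟩
      exact CfsgLib.Core.pCore_subgroupOf_le K (mem_subgroupOf.mpr huO)
    have hnorm : ∀ g ∈ K, ∀ v ∈ N, g * v * g⁻¹ ∈ N := by
      rintro g hg _ ⟨v, hv, rfl⟩
      exact ⟨⟨g, hg⟩ * v * ⟨g, hg⟩⁻¹, Normal.conj_mem inferInstance v hv _, rfl⟩
    have hcore : ∀ x : H, x ∈ N → orderOf x = q → ∀ g : H, orderOf g = s → ¬ Commute g u →
        ¬ Commute x g := by
      intro x hx hxo g hg hgu hxg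
      have hxu := hqu x (hxo ▸ pow_orderOf_eq_one x)
      by_cases hfx : Fix φ x
      · set M₀ := fixedSub φ x
        have huS : u ∈ stab φ M₀ := mem_stab φ fun m hm => fixedSub_invariant φ hxu hm
        have hgS : g ∈ stab φ M₀ := mem_stab φ fun m hm => fixedSub_invariant φ hxg hm
        by_cases hgf : Fix (restr φ M₀) ⟨g, hgS⟩
        · obtain ⟨⟨m, hm⟩, hm1, hgm⟩ := hgf
          exact S.noCommon x g q s S.hq S.hs S.qs hxo hg hxg
            ⟨m, fun h => hm1 (Subtype.ext h), hm, congrArg Subtype.val hgm⟩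
        · haveI : Nontrivial M₀ := (nontrivial_iff_ne_bot M₀).mpr (fixedSub_ne_bot φ hfx)
          have huo : orderOf (⟨u, huS⟩ : stab φ M₀) = q := by rw [Subgroup.orderOf_mk, hu]
          have hcard : Nat.card (zpowers (⟨u, huS⟩ : stab φ M₀)) = q := by rw [Nat.card_zpowers, huo]
          have h := commute_of_fpf_abelian (restr φ M₀) (x := ⟨g, hgS⟩) (s := s)
            (by rw [Subgroup.orderOf_mk, hg]) hgf (zpowers ⟨u, huS⟩)
            (fun v hv => by
              obtain ⟨i, rfl⟩ := mem_zpowers_iff.mp hv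
              obtain ⟨j, hj⟩ := mem_zpowers_iff.mp (hun g)
              refine mem_zpowers_iff.mpr ⟨j * i, Subtype.ext ?_⟩
              push_cast
              rw [zpow_mul, hj, conj_zpow])
            (fun v hv htriv => by
              by_contra hv1
              obtain ⟨m, hm1⟩ := exists_ne (1 : M₀)
              have hv' := isPGroup_of_exp (P := zpowers (⟨u, huS⟩ : stab φ M₀)) (p := q) (fun w hw => by
                obtain ⟨i, rfl⟩ := mem_zpowers_iff.mp hw
                rw [← zpow_natCast, zpow_comm, zpow_natCast, ← huo, pow_orderOf_eq_one, one_zpow])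
              have hmem : (⟨u, huS⟩ : stab φ M₀) ∈ zpowers v := by
                have hle : zpowers v ≤ zpowers (⟨u, huS⟩ : stab φ M₀) := zpowers_le.mpr hv
                have hvo : orderOf v = q := by
                  rcases (Nat.dvd_prime S.hq).mp (hcard ▸ Subgroup.orderOf_dvd_natCard _ hv) with h | h
                  · exact absurd (orderOf_eq_one_iff.mp h) hv1
                  · exact h
                rw [eq_of_le_of_card_ge hle (by rw [hcard, Nat.card_zpowers, hvo])]
                exact mem_zpowers _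
              obtain ⟨i, hi⟩ := mem_zpowers_iff.mp hmem
              refine hu_fpf ⟨m, fun h => hm1 (Subtype.ext h), ?_⟩
              have hker : v ∈ (restr φ M₀).ker := MonoidHom.mem_ker.mpr (MulEquiv.ext htriv)
              have h2 : restr φ M₀ ⟨u, huS⟩ = 1 :=
                MonoidHom.mem_ker.mp (hi ▸ zpow_mem hker i)
              exact congrArg Subtype.val (DFunLike.congr_fun h2 m))
            (hcard.symm ▸ (Nat.coprime_primes S.hq S.hs).mpr S.qs)
            (hcard.symm ▸ (coprime_prime S.cop hu).coprime_dvd_left (card_subgroup_dvd_card M₀))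
            (fun a ha b hb => by
              obtain ⟨i, rfl⟩ := mem_zpowers_iff.mp ha
              obtain ⟨j, rfl⟩ := mem_zpowers_iff.mp hb
              rw [← zpow_add, ← zpow_add, add_comm])
            _ (mem_zpowers _)
          exact hgu (h.map (stab φ M₀).subtype)
      · have hxp := commute_pCore_of_fpf φ S.inj S.cop S.pq.symm hp2 hxo hfx
        refine false_of_commuting_pairs S hrp hu hxo hxu.symm (fun hx' => ?_)
          (fun v hv => (hpq v hv u huO).symm) hxp
        obtain ⟨i, hi⟩ := mem_zpowers_iff.mp hx'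
        have heq : zpowers x = zpowers u := eq_of_le_of_card_ge (zpowers_le.mpr hx')
          (by rw [Nat.card_zpowers, Nat.card_zpowers, hxo, hu])
        obtain ⟨j, hj⟩ := mem_zpowers_iff.mp (heq ▸ mem_zpowers u : u ∈ zpowers x)
        exact hgu (hj ▸ hxg.symm.zpow_right j)
    haveI : IsMulCommutative (closure ({a, b} : Set H)) :=
      ⟨⟨fun x y => Subtype.ext (closure_pair_comm hab x x.2 y y.2)⟩⟩
    have hexpA := closure_pair_pow hab (ha ▸ pow_orderOf_eq_one a) (hb ▸ pow_orderOf_eq_one b)
    have hfN : ∀ v ∈ N, Commute v f := by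
      have hle : N ≤ centralizer {f} := by
        refine CfsgLib.LocalEven.le_of_centralizers_le (p := s) (A := closure ({a, b} : Set H)) hexpA
          ?_ ?_ ?_ ?_
        · obtain ⟨k, hk⟩ := IsPGroup.iff_card.mp (isPGroup_of_exp hexpA)
          have hlt : s < Nat.card (closure ({a, b} : Set H)) := by
            rcases lt_or_ge s (Nat.card (closure ({a, b} : Set H))) with h | h
            · exact h
            · refine absurd ?_ hba
              rw [eq_of_le_of_card_ge (zpowers_le.mpr (subset_closure (by simp : a ∈ ({a, b} : Set H))))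
                (by rw [Nat.card_zpowers, ha]; exact h)]
              exact subset_closure (by simp)
          rw [hk] at hlt ⊢
          refine Nat.pow_le_pow_right S.hs.pos ?_
          by_contra h
          rcases (show k = 0 ∨ k = 1 by omega) with rfl | rfl
          · simp at hlt; have := S.hs.two_le; omega
          · simp at hlt
        · refine closure_pair_le ?_ ?_
          · exact mem_normalizer_iff.mpr fun v => ⟨hnorm a haK v, fun hv => by
              have := hnorm a⁻¹ (inv_mem haK) _ hv
              simpa [mul_assoc] using this⟩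
          · exact mem_normalizer_iff.mpr fun v => ⟨hnorm b hbK v, fun hv => by
              have := hnorm b⁻¹ (inv_mem hbK) _ hv
              simpa [mul_assoc] using this⟩
        · exact fun h => S.hs.ne_one (Nat.eq_one_of_dvd_coprimes (pgroup_coprime S.hq S.hs S.qs.symm hNp) h dvd_rfl)
        · intro g hg hg1 v hv
          obtain ⟨hvN, hvg⟩ := hv
          have hvg' : Commute v g := mem_centralizer_singleton_iff.mp hvg
          refine mem_centralizer_singleton_iff.mpr ?_
          have hgo : orderOf g = s := orderOf_eq_prime (hexpA g hg) hg1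
          by_cases hgu : Commute g u
          · have hgf : g ∈ zpowers f := by
              by_contra h
              exact hnopair f g hf hgo (closure_pair_comm hab f hfA g hg) h hfu hgu
            have heq : zpowers g = zpowers f := eq_of_le_of_card_ge (zpowers_le.mpr hgf)
              (by rw [Nat.card_zpowers, Nat.card_zpowers, hgo, hf])
            obtain ⟨j, hj⟩ := mem_zpowers_iff.mp (heq ▸ mem_zpowers f : f ∈ zpowers g)
            exact (hj ▸ hvg'.zpow_right j).eq
          · by_cases hv1 : v = 1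
            · rw [hv1, one_mul, mul_one]
            obtain ⟨k, hk⟩ := exists_pow_orderOf hNp hvN hv1
            exact absurd (hvg'.pow_left k) (hcore _ (pow_mem hvN k) hk g hgo hgu)
      exact fun v hv => mem_centralizer_singleton_iff.mp (hle hv)
    -- the other core of the Hall subgroup
    have hS : Cfsg.pCore s K ≠ ⊥ := by
      intro hS
      have hbot := pPrimeCore_eq_bot (X := K) (p := q) S.hq fun t ht htq hd => by
        rcases hpr t ht hd with rfl | rfl
        · exact absurd rfl htq
        · exact hS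
      refine S.qs (eq_of_mem_pgroup S.hq S.hs (CfsgLib.Core.isPGroup_pCore q K)
        (x := ⟨f, hfK⟩) ?_ (by rw [Subgroup.orderOf_mk, hf])).symm
      exact CfsgLib.Core.centralizer_pCore_le_of_pPrimeCore_eq_bot hbot
        (mem_centralizer_of_core fun v hv => Subtype.ext (hfN v ⟨v, hv, rfl⟩).symm.eq)
    obtain ⟨V, hVn, hVle, hV1, hVe, hVc⟩ := exists_elementary_pCore s hS
    obtain ⟨v, hv, hvo⟩ := exists_orderOf_of_ne_bot hVe hV1
    have hVc' : ∀ x ∈ V, ∀ y ∈ V, x * y = y * x := fun x hx y hy => hVc x hx y (hVle hy)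
    have hVu : ∀ x ∈ V, Commute (x : H) u := fun x hx => by
      have huK : (⟨u, hqK huO⟩ : K) ∈ Cfsg.pCore q K :=
        CfsgLib.Core.pCore_subgroupOf_le K (mem_subgroupOf.mpr huO)
      exact congrArg Subtype.val
        (CfsgLib.Core.commute_pCore_pCore S.hs S.hq S.qs.symm x (hVle hx) _ huK)
    have hnoV : ¬ RankTwo s V := by
      rintro ⟨x, y, hx, hy, hxo, hyo, hxy, hyx⟩
      refine hnopair x y (by rw [Subgroup.orderOf_coe, hxo]) (by rw [Subgroup.orderOf_coe, hyo])
        (hxy.map K.subtype) (fun h => hyx ?_) (hVu x hx) (hVu y hy)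
      obtain ⟨i, hi⟩ := mem_zpowers_iff.mp h
      exact mem_zpowers_iff.mpr ⟨i, Subtype.ext (by simpa using hi)⟩
    have hvo' : orderOf (v : H) = s := by rw [Subgroup.orderOf_coe, hvo]
    have hvfix := hsfix v hvo' (hVu v hv)
    have hvn : ∀ g : K, g * v * g⁻¹ ∈ zpowers v := fun g =>
      mem_zpowers_of_exp hVe hVc' hnoV hv hvo _ (hVn.conj_mem v hv g)
    have h2q := S.hq.two_le
    have h2s := S.hs.two_le
    have fin : q ∣ s - 1 → False := fun h1 => by
      have := Nat.le_of_dvd (by omega) h1
      have := Nat.le_of_dvd (by omega) hsq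
      omega
    by_cases h1 : Commute (⟨c, hcK⟩ : K) v
    · by_cases h2 : Commute (⟨d, hdK⟩ : K) v
      · obtain ⟨y, -, hy, hyv, hm⟩ := exists_common_fixed φ (coprime_prime S.cop hc) hc hd hcd hdc
          (h1.map K.subtype) (h2.map K.subtype) hvfix
        exact S.noCommon y v q s S.hq S.hs S.qs hy hvo' hyv hm
      · exact fin (dvd_pred_of_moves (by rw [← hd, ← Subgroup.orderOf_mk d hdK, pow_orderOf_eq_one]) hvo
          (hvn _) h2)
    · exact fin (dvd_pred_of_moves (by rw [← hc, ← Subgroup.orderOf_mk c hcK, pow_orderOf_eq_one]) hvo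
        (hvn _) h1)
  · -- both cores are cyclic
    haveI : IsCyclic (Cfsg.pCore p H) := isCyclic_of_no_rankTwo hp2 hPp hrp
    have hfq : ∀ v ∈ Cfsg.pCore q H, Commute f v :=
      commute_of_fixes_omega S.qs.symm hPq
        (fun x hx y hy => congrArg Subtype.val
          ((IsCyclic.commGroup (α := Cfsg.pCore q H)).mul_comm ⟨x, hx⟩ ⟨y, hy⟩))
        hf fun w hw hwo => by
          obtain ⟨i, hi⟩ := mem_zpowers_iff.mp (huniq w hw hwo)
          exact hi ▸ hfu.zpow_right i
    have key : ∀ y : H, y ∈ K → orderOf y = q → Commute y f := by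
      intro y hy hyo
      obtain ⟨a', ha', b', hb', hab'⟩ := exists_mul_of_centralizes (X := H) (p := p) (q := q)
        (d := f * y * f⁻¹ * y⁻¹)
        (fun t ht htp htq => by
          by_cases hd : t ∣ Nat.card H
          · rcases S.primes t ht hd with rfl | rfl | rfl
            · exact absurd rfl htp
            · exact absurd rfl htq
            · exact hOs
          · exact CfsgLib.Core.pCore_eq_bot_of_not_dvd ht hd)
        (comm_centralizes_cyclic f y) (comm_centralizes_cyclic f y)
      have haK' : a' ∈ K := by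
        rw [show a' = f * y * f⁻¹ * y⁻¹ * b'⁻¹ by rw [← hab', mul_inv_cancel_right]]
        exact mul_mem (mul_mem (mul_mem (mul_mem hfK hy) (inv_mem hfK)) (inv_mem hy)) (inv_mem (hqK hb'))
      have ha1 : a' = 1 := by
        by_contra h
        obtain ⟨k, hk⟩ := exists_pow_orderOf hPp ha' h
        have hd : p ∣ Nat.card K := hk ▸ Subgroup.orderOf_dvd_natCard _ (pow_mem haK' k)
        exact (hpr p S.hp hd).elim S.pq S.ps
      rw [ha1, one_mul] at hab'
      exact (commute_of_comm_eq S.qs hf hyo hPq (IsPGroup.of_bot (p := s)) hb' (one_mem ⊥)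
        (Commute.one_right _) (hfq b' hb') (Commute.one_right _) (by rw [mul_one, hab'])).symm
    exact hnocommon (key c hcK hc) (key d hdK hd)

theorem false_of_two_odd_cores (S : Setup φ p q s) (hp2 : p ≠ 2) (hq2 : q ≠ 2)
    (hOp : Cfsg.pCore p H ≠ ⊥) (hOq : Cfsg.pCore q H ≠ ⊥) : False := by
  by_cases hq' : RankTwo q (Cfsg.pCore q H)
  · refine false_of_two_odd_cores_aux S.swap12 hq2 hp2 hOq hOp fun hp' => ?_
    obtain ⟨a, b, ha, hb, hao, hbo, hab, hba⟩ := hq'
    exact false_of_commuting_pairs S hp' hao hbo hab hba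
      (fun v hv => (CfsgLib.Core.commute_pCore_pCore S.hp S.hq S.pq v hv a ha).symm)
      (fun v hv => (CfsgLib.Core.commute_pCore_pCore S.hp S.hq S.pq v hv b hb).symm)
  · exact false_of_two_odd_cores_aux S hp2 hq2 hOp hOq hq'

theorem false_of_core (S : Setup φ p q s) (hO : Cfsg.pCore p H ≠ ⊥) : False := by
  by_cases hp2 : p = 2
  · subst hp2; exact S.false_of_two_core hO
  by_cases hq : Cfsg.pCore q H = ⊥
  · by_cases hs : Cfsg.pCore s H = ⊥
    · exact S.false_of_one_core hp2 hO hq hs
    · by_cases hs2 : s = 2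
      · subst hs2; exact (S.swap23.swap12).false_of_two_core hs
      · exact false_of_two_odd_cores S.swap23 hp2 hs2 hO hs
  · by_cases hq2 : q = 2
    · subst hq2; exact S.swap12.false_of_two_core hq
    · exact false_of_two_odd_cores S hp2 hq2 hO hq

theorem Setup.false (S : Setup φ p q s) : False := by
  obtain ⟨a, -, -, -, ha, -⟩ := S.rp
  haveI : Nontrivial H := ⟨a, 1, fun e => S.hp.ne_one (by rw [← ha, e, orderOf_one])⟩
  obtain ⟨t, ht, hc⟩ := CfsgLib.HallGen.exists_pCore_ne_bot (G := H) inferInstance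
  have hd : t ∣ Nat.card H := by
    by_contra hd
    exact hc (CfsgLib.Core.pCore_eq_bot_of_not_dvd ht hd)
  rcases S.primes t ht hd with rfl | rfl | rfl
  · exact false_of_core S hc
  · exact false_of_core S.swap12 hc
  · exact false_of_core S.swap23.swap12 hc

end CfsgLib.PGroups.FixRank
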