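import Cfsg.Agent.Lib.PGroups.FixedPointRank

/-!
# Solvable groups of two primes of rank two on modules

* `not_isolated`: faithful module on which every element of prime order with a fixed point commutes
  with no element of another prime order: impossible
* `not_two_modules`: two modules, no element fixing points on both, no commuting pair with a common
  fixed point: impossible
-/

set_option autoImplicit false
set_option linter.all false

namespace CfsgLib.PGroups.FixRank

open Subgroup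

/-- Rank two for the whole group. -/
abbrev Rank2 (p : ℕ) (X : Type*) [Group X] : Prop := RankTwo p (⊤ : Subgroup X)

section Tools

variable {X : Type*} [Group X] [Finite X]

theorem eq_of_mem_pgroup {p q : ℕ} (hp : p.Prime) (hq : q.Prime) {P : Subgroup X} (hP : IsPGroup p P)
    {x : X} (hx : x ∈ P) (ho : orderOf x = q) : q = p := by
  haveI := Fact.mk hp
  obtain ⟨k, hk⟩ := IsPGroup.iff_orderOf.mp hP ⟨x, hx⟩
  rw [Subgroup.orderOf_mk, ho] at hk
  exact (Nat.prime_dvd_prime_iff_eq hq hp).mp (hq.dvd_of_dvd_pow (n := k) (hk ▸ dvd_rfl))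

theorem exists_pow_orderOf {p : ℕ} [Fact p.Prime] {P : Subgroup X} (hP : IsPGroup p P) {x : X}
    (hx : x ∈ P) (hx1 : x ≠ 1) : ∃ k : ℕ, orderOf (x ^ k) = p := by
  obtain ⟨n, hn⟩ := IsPGroup.iff_orderOf.mp hP ⟨x, hx⟩
  rw [Subgroup.orderOf_mk] at hn
  rcases Nat.eq_zero_or_pos n with rfl | hn0
  · exact absurd (orderOf_eq_one_iff.mp (by simpa using hn)) hx1
  · refine ⟨p ^ (n - 1), ?_⟩
    rw [orderOf_pow' _ (pow_ne_zero _ (Fact.out : p.Prime).ne_zero), hn,
      Nat.gcd_eq_right (pow_dvd_pow p (Nat.sub_le n 1)),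
      Nat.pow_div (Nat.sub_le n 1) (Fact.out : p.Prime).pos, Nat.sub_sub_self hn0, pow_one]

theorem pgroup_coprime {p q : ℕ} (hp : p.Prime) (hq : q.Prime) (hne : q ≠ p) {P : Subgroup X}
    (hP : IsPGroup p P) : (Nat.card P).Coprime q := by
  haveI := Fact.mk hp
  obtain ⟨k, hk⟩ := IsPGroup.iff_card.mp hP
  rw [hk]
  exact ((Nat.coprime_primes hp hq).mpr (Ne.symm hne)).pow_left k

theorem isPGroup_of_exp {p : ℕ} {P : Subgroup X} (h : ∀ u ∈ P, u ^ p = 1) : IsPGroup p P :=
  fun u => ⟨1, Subtype.ext (by rw [pow_one]; exact h u u.2)⟩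

theorem prime_dvd_card_of_exp {p : ℕ} [Fact p.Prime] {W : Subgroup X} (h : ∀ u ∈ W, u ^ p = 1)
    (h1 : W ≠ ⊥) : p ∣ Nat.card X := by
  obtain ⟨w, -, hw⟩ := exists_orderOf_of_ne_bot h h1
  exact hw ▸ orderOf_dvd_natCard w

theorem pPrimeCore_eq_bot [Group.IsSolvable X] {p : ℕ} (hp : p.Prime)
    (h : ∀ t : ℕ, t.Prime → t ≠ p → t ∣ Nat.card X → Cfsg.pCore t X = ⊥) :
    Cfsg.pPrimeCore p X = ⊥ := by
  by_contra hne
  haveI := CfsgLib.Core.normal_pPrimeCore p X
  obtain ⟨t, W, ht, hWn, hWle, hW1, hexp, -⟩ := exists_elementary_le (Cfsg.pPrimeCore p X) hne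
  haveI := Fact.mk ht
  haveI := hWn
  have htp : t ≠ p := by
    rintro rfl
    obtain ⟨w, hw, hwo⟩ := exists_orderOf_of_ne_bot hexp hW1
    exact ht.ne_one (Nat.eq_one_of_dvd_coprimes (CfsgLib.Core.coprime_card_pPrimeCore t X)
      (by have h9 := Subgroup.orderOf_dvd_natCard _ (hWle hw); rwa [hwo] at h9) dvd_rfl)
  exact hW1 (le_bot_iff.mp (h t ht htp (prime_dvd_card_of_exp hexp hW1) ▸
    CfsgLib.Core.le_pCore (isPGroup_of_exp hexp)))

theorem exists_pCore {q s : ℕ} [Group.IsSolvable X] [Fact q.Prime]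
    (hprimes : ∀ t : ℕ, t.Prime → t ∣ Nat.card X → t = q ∨ t = s) (h : Rank2 q X) :
    Cfsg.pCore q X ≠ ⊥ ∨ Cfsg.pCore s X ≠ ⊥ := by
  obtain ⟨a, -, -, -, ha, -⟩ := h
  haveI : Nontrivial X := ⟨a, 1, fun e => (Fact.out : q.Prime).ne_one (by rw [← ha, e, orderOf_one])⟩
  obtain ⟨t, ht, hc⟩ := CfsgLib.HallGen.exists_pCore_ne_bot (G := X) inferInstance
  have hd : t ∣ Nat.card X := by
    by_contra hd
    exact hc (CfsgLib.Core.pCore_eq_bot_of_not_dvd ht hd)
  rcases hprimes t ht hd with rfl | rfl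
  · exact Or.inl hc
  · exact Or.inr hc

theorem fitting_le_sup {p q : ℕ}
    (h : ∀ t : ℕ, t.Prime → t ≠ p → t ≠ q → Cfsg.pCore t X = ⊥) :
    Cfsg.fittingSubgroup X ≤ Cfsg.pCore p X ⊔ Cfsg.pCore q X := by
  rw [CfsgLib.Core.fittingSubgroup_eq_iSup_pCore]
  refine iSup_le fun t => ?_
  by_cases h1 : (t : ℕ) = p
  · rw [h1]; exact le_sup_left
  by_cases h2 : (t : ℕ) = q
  · rw [h2]; exact le_sup_right
  rw [h t t.2 h1 h2]; exact bot_le

theorem exists_mul_of_centralizes [Group.IsSolvable X] {p q : ℕ}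
    (h : ∀ t : ℕ, t.Prime → t ≠ p → t ≠ q → Cfsg.pCore t X = ⊥) {d : X}
    (hdp : ∀ v ∈ Cfsg.pCore p X, Commute d v) (hdq : ∀ v ∈ Cfsg.pCore q X, Commute d v) :
    ∃ a ∈ Cfsg.pCore p X, ∃ b ∈ Cfsg.pCore q X, a * b = d := by
  haveI := CfsgLib.Core.normal_pCore q X
  have hd : d ∈ centralizer (Cfsg.fittingSubgroup X : Set X) := by
    refine mem_centralizer_iff.mpr fun v hv => ?_
    have hle : Cfsg.pCore p X ⊔ Cfsg.pCore q X ≤ centralizer {d} := sup_le
      (fun v hv => mem_centralizer_singleton_iff.mpr (hdp v hv).symm.eq)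
      (fun v hv => mem_centralizer_singleton_iff.mpr (hdq v hv).symm.eq)
    exact mem_centralizer_singleton_iff.mp (hle (fitting_le_sup h hv))
  exact mem_sup_of_normal_right.mp
    (fitting_le_sup h (Components.centralizer_fitting_le_of_isSolvable hd))

/-- `e y e⁻¹ y⁻¹ = a b` with `a` fixed by `e` and `b` fixed by `y` forces `e` and `y` to commute. -/
theorem commute_of_comm_eq {q s : ℕ} [Fact q.Prime] [Fact s.Prime] (hne : q ≠ s) {e y a b : X}
    (he : orderOf e = s) (hy : orderOf y = q) {P R : Subgroup X} [P.Normal] (hP : IsPGroup q P)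
    (hR : IsPGroup s R) (ha : a ∈ P) (hb : b ∈ R) (hab : Commute a b) (hea : Commute e a)
    (hyb : Commute y b) (h : e * y * e⁻¹ * y⁻¹ = a * b) : Commute e y := by
  have hyq : y ^ q = 1 := hy ▸ pow_orderOf_eq_one y
  have hes : e ^ s = 1 := he ▸ pow_orderOf_eq_one e
  have h1 : e * y * e⁻¹ = a * y * b := by
    rw [show a * y * b = a * b * y by rw [mul_assoc, hyb.eq, ← mul_assoc], ← h, inv_mul_cancel_right]
  have hc : Commute (a * y) b := hab.mul_left hyb
  have hq : (a * y * b) ^ q = 1 := by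
    rw [← h1, ← MulAut.conj_apply, ← map_pow, hyq, map_one]
  obtain ⟨n, hn⟩ := IsPGroup.to_sup_of_normal_right
    ((IsPGroup.of_card (n := 1) (show Nat.card (zpowers y) = q ^ 1 by
      rw [Nat.card_zpowers, hy, pow_one]))) hP
    ⟨a * y, mul_mem (le_sup_right (a := zpowers y) ha) (le_sup_left (b := P) (mem_zpowers y))⟩
  have hn' : (a * y) ^ q ^ n = 1 := congrArg Subtype.val hn
  have hb1 : b = 1 := by
    have h2 : (a * y * b) ^ q ^ (n + 1) = 1 := by rw [pow_succ, pow_mul', hq, one_pow]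
    rw [hc.mul_pow, pow_succ, pow_mul (a * y), hn', one_pow, one_mul] at h2
    obtain ⟨k, hk⟩ := IsPGroup.iff_orderOf.mp hR ⟨b, hb⟩
    rw [Subgroup.orderOf_mk] at hk
    refine orderOf_eq_one_iff.mp (Nat.eq_one_of_dvd_coprimes ?_ (dvd_of_eq hk) (orderOf_dvd_of_pow_eq_one h2))
    exact ((Nat.coprime_primes Fact.out Fact.out).mpr (Ne.symm hne)).pow k (n + 1)
  rw [hb1, mul_one] at h1
  have hpow : ∀ i : ℕ, e ^ i * y * (e ^ i)⁻¹ = a ^ i * y := by
    intro i
    induction i with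
    | zero => simp
    | succ i ih =>
      calc e ^ (i + 1) * y * (e ^ (i + 1))⁻¹ = e * (e ^ i * y * (e ^ i)⁻¹) * e⁻¹ := by
            rw [pow_succ']; group
        _ = e * (a ^ i * y) * e⁻¹ := by rw [ih]
        _ = a ^ i * (e * y * e⁻¹) := by rw [← mul_assoc, (hea.pow_right i).eq]; group
        _ = a ^ (i + 1) * y := by rw [h1, ← mul_assoc, ← pow_succ]
  have has : a ^ s = 1 := by
    have := hpow s
    rw [hes, one_mul, inv_one, mul_one] at this
    exact mul_eq_right.mp this.symm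
  have ha1 : a = 1 := orderOf_eq_one_iff.mp (Nat.eq_one_of_dvd_coprimes
    (pgroup_coprime Fact.out Fact.out (Ne.symm hne) hP) (Subgroup.orderOf_dvd_natCard _ ha)
    (orderOf_dvd_of_pow_eq_one has))
  rw [ha1, one_mul] at h1
  exact mul_inv_eq_iff_eq_mul.mp h1

variable {M : Type*} [CommGroup M] [Finite M] (φ : X →* MulAut M)

theorem coprime_prime (hcop : (Nat.card M).Coprime (Nat.card X)) {x : X} {p : ℕ}
    (hx : orderOf x = p) : (Nat.card M).Coprime p :=
  hcop.coprime_dvd_right (hx ▸ orderOf_dvd_natCard x)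

/-- The Hall-Higman lemma for a normal core. -/
theorem commute_pCore_of_fpf (hinj : Function.Injective φ)
    (hcop : (Nat.card M).Coprime (Nat.card X)) {q s : ℕ} [Fact q.Prime] [Fact s.Prime] (hne : s ≠ q)
    (hq2 : q ≠ 2) {x : X} (hx : orderOf x = s) (hfpf : ¬ Fix φ x) :
    ∀ v ∈ Cfsg.pCore q X, Commute x v := by
  haveI := CfsgLib.Core.normal_pCore q X
  have hP := CfsgLib.Core.isPGroup_pCore q X
  refine commute_of_fpf φ hx hfpf _ (fun v hv => Normal.conj_mem inferInstance v hv x)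
    (fun v _ hv => hinj (MulEquiv.ext fun m => by rw [map_one]; exact hv m))
    (pgroup_coprime Fact.out Fact.out hne hP) (hcop.coprime_dvd_right (card_subgroup_dvd_card _))
    (coprime_prime hcop hx) hP.isNilpotent fun hd => ?_
  exact Nat.prime_two.ne_one (Nat.eq_one_of_dvd_coprimes
    (pgroup_coprime Fact.out Nat.prime_two (Ne.symm hq2) hP) hd dvd_rfl)

theorem mem_centralizer_of_core {d : X} {N : Subgroup X} (h : ∀ v ∈ N, Commute d v) :
    d ∈ centralizer (N : Set X) := mem_centralizer_iff.mpr fun v hv => (h v hv).symm.eq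

end Tools

section Isolated

variable {K : Type*} [Group K] [Finite K] [Group.IsSolvable K] {M : Type*} [CommGroup M] [Finite M]
  [Nontrivial M] (φ : K →* MulAut M)

/-- Elements with fixed points commute with no element of another prime order. -/
def Iso : Prop :=
  ∀ (x y : K) (a b : ℕ), a.Prime → b.Prime → a ≠ b → orderOf x = a → orderOf y = b → Commute x y →
    ¬ Fix φ x

theorem isolated_step (hinj : Function.Injective φ) (hcop : (Nat.card M).Coprime (Nat.card K))
    {q s : ℕ} [Fact q.Prime] [Fact s.Prime] (hne : q ≠ s) (hq2 : q ≠ 2)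
    (hprimes : ∀ t : ℕ, t.Prime → t ∣ Nat.card K → t = q ∨ t = s) (hE : Rank2 s K) (hiso : Iso φ)
    (hO : Cfsg.pCore q K ≠ ⊥) : s ∣ q - 1 ∧ Cfsg.pCore s K ≠ ⊥ := by
  obtain ⟨a, b, -, -, ha, hb, hab, hba⟩ := hE
  obtain ⟨W, hWn, hWle, hW1, hexp, hWc⟩ := exists_elementary_pCore q hO
  haveI := hWn
  have hcW : ∀ u ∈ W, ∀ v ∈ W, u * v = v * u := fun u hu v hv => hWc u hu v (hWle hv)
  obtain ⟨e, -, he, w, hw, hwo, hew⟩ := exists_commute_pair hne.symm hcW hexp hW1 ha hb hab hba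
  have hef := hiso e w s q Fact.out Fact.out hne.symm he hwo hew
  have heQ := commute_pCore_of_fpf φ hinj hcop hne.symm hq2 he hef
  refine ⟨?_, fun hS => ?_⟩
  · have hWf : ∀ v ∈ W, orderOf v = q → ¬ Fix φ v := fun v hv hvo =>
      hiso v e q s Fact.out Fact.out hne hvo he (heQ v (hWle hv)).symm
    have hno : ¬ RankTwo q W := by
      rintro ⟨c, d, hc, hd, hco, hdo, hcd, hdc⟩
      obtain ⟨v, hv, hvo, hfix⟩ := exists_fixed φ (coprime_prime hcop hco) hco hdo hcd hdc
      exact hWf v (closure_pair_le hc hd hv) hvo hfix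
    obtain ⟨g, -, hg, hgf⟩ := exists_fixed φ (coprime_prime hcop ha) ha hb hab hba
    exact dvd_pred_of_moves (hg ▸ pow_orderOf_eq_one g) hwo
      (mem_zpowers_of_exp hexp hcW hno hw hwo _ (hWn.conj_mem w hw g))
      fun hc => hiso g w s q Fact.out Fact.out hne.symm hg hwo hc hgf
  · have hbot := pPrimeCore_eq_bot (X := K) (p := q) Fact.out fun t ht htq hd => by
      rcases hprimes t ht hd with rfl | rfl
      · exact absurd rfl htq
      · exact hS
    exact hne (eq_of_mem_pgroup Fact.out Fact.out (CfsgLib.Core.isPGroup_pCore q K)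
      (CfsgLib.Core.centralizer_pCore_le_of_pPrimeCore_eq_bot hbot (mem_centralizer_of_core heQ))
      he).symm

theorem false_of_two {q : ℕ} [Fact q.Prime] (hinj : Function.Injective φ)
    (hcop : (Nat.card M).Coprime (Nat.card K)) (hq2 : q ≠ 2)
    (hE : Rank2 q K) (hiso : Iso φ) {t : K} (ht : orderOf t = 2) (hfpf : ¬ Fix φ t) : False := by
  obtain ⟨a, b, -, -, ha, hb, hab, hba⟩ := hE
  obtain ⟨e, -, he, hef⟩ := exists_fixed φ (coprime_prime hcop ha) ha hb hab hba
  exact hiso e t q 2 Fact.out Nat.prime_two hq2 he ht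
    (commute_of_fpf_involution hinj (ht ▸ pow_orderOf_eq_one t) hfpf e).symm hef

theorem not_isolated_two (hinj : Function.Injective φ) (hcop : (Nat.card M).Coprime (Nat.card K))
    {s : ℕ} [Fact s.Prime] (hs2 : s ≠ 2)
    (hprimes : ∀ t : ℕ, t.Prime → t ∣ Nat.card K → t = 2 ∨ t = s) (h2 : Rank2 2 K) (hs : Rank2 s K)
    (hiso : Iso φ) : False := by
  haveI := Fact.mk Nat.prime_two
  have key : ∀ x y : K, orderOf x = 2 → orderOf y = s → ¬ Commute x y := fun x y hx hy hxy =>
    false_of_two φ hinj hcop hs2 hs hiso hx (hiso x y 2 s Nat.prime_two Fact.out (Ne.symm hs2) hx hy hxy)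
  have hs' := hs
  obtain ⟨c, d, -, -, hc, hd, hcd, hdc⟩ := h2
  obtain ⟨a, b, -, -, ha, hb, hab, hba⟩ := hs
  rcases exists_pCore hprimes ⟨c, d, mem_top _, mem_top _, hc, hd, hcd, hdc⟩ with h | h
  · obtain ⟨W, hWn, hWle, hW1, hexp, hWc⟩ := exists_elementary_pCore 2 h
    haveI := hWn
    obtain ⟨e, -, he, w, -, hwo, hew⟩ := exists_commute_pair hs2
      (fun u hu v hv => hWc u hu v (hWle hv)) hexp hW1 ha hb hab hba
    exact key w e hwo he hew.symm
  · obtain ⟨W, hWn, hWle, hW1, hexp, hWc⟩ := exists_elementary_pCore s h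
    haveI := hWn
    obtain ⟨e, -, he, w, -, hwo, hew⟩ := exists_commute_pair (Ne.symm hs2)
      (fun u hu v hv => hWc u hu v (hWle hv)) hexp hW1 hc hd hcd hdc
    exact key e w he hwo hew

theorem not_isolated (hinj : Function.Injective φ) (hcop : (Nat.card M).Coprime (Nat.card K))
    {q s : ℕ} [Fact q.Prime] [Fact s.Prime] (hne : q ≠ s)
    (hprimes : ∀ t : ℕ, t.Prime → t ∣ Nat.card K → t = q ∨ t = s) (hq : Rank2 q K) (hs : Rank2 s K)
    (hiso : Iso φ) : False := by
  by_cases hq2 : q = 2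
  · subst hq2; exact not_isolated_two φ hinj hcop hne.symm hprimes hq hs hiso
  by_cases hs2 : s = 2
  · subst hs2; exact not_isolated_two φ hinj hcop hne (fun t h h' => (hprimes t h h').symm) hs hq hiso
  have hprimes' : ∀ t : ℕ, t.Prime → t ∣ Nat.card K → t = s ∨ t = q := fun t h h' => (hprimes t h h').symm
  have h2q := (Fact.out : q.Prime).two_le
  have h2s := (Fact.out : s.Prime).two_le
  have fin : s ∣ q - 1 → q ∣ s - 1 → False := fun h1 h2 => by
    have := Nat.le_of_dvd (by omega) h1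
    have := Nat.le_of_dvd (by omega) h2
    omega
  rcases exists_pCore hprimes hq with h | h
  · obtain ⟨h1, h'⟩ := isolated_step φ hinj hcop hne hq2 hprimes hs hiso h
    exact fin h1 (isolated_step φ hinj hcop hne.symm hs2 hprimes' hq hiso h').1
  · obtain ⟨h1, h'⟩ := isolated_step φ hinj hcop hne.symm hs2 hprimes' hq hiso h
    exact fin (isolated_step φ hinj hcop hne hq2 hprimes hs hiso h').1 h1

end Isolated

section TwoModules

variable {K : Type*} [Group K] [Finite K] [Group.IsSolvable K] {M N : Type*} [CommGroup M] [Finite M]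
  [Nontrivial M] [CommGroup N] [Finite N] [Nontrivial N] (φ : K →* MulAut M) (ψ : K →* MulAut N)

/-- Commuting elements of different prime orders have no common fixed point. -/
def NoCommon : Prop :=
  ∀ (x y : K) (a b : ℕ), a.Prime → b.Prime → a ≠ b → orderOf x = a → orderOf y = b → Commute x y →
    ¬ ∃ m, m ≠ 1 ∧ φ x m = m ∧ φ y m = m

variable (hM : (Nat.card M).Coprime (Nat.card K)) (hN : (Nat.card N).Coprime (Nat.card K))
  {q s : ℕ} [Fact q.Prime] [Fact s.Prime] (hne : q ≠ s)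
  (hprimes : ∀ t : ℕ, t.Prime → t ∣ Nat.card K → t = q ∨ t = s) (hq : Rank2 q K) (hs : Rank2 s K)
  (hboth : ∀ (x : K) (a : ℕ), a.Prime → orderOf x = a → Fix φ x → Fix ψ x → False)

include hM hN hne hprimes hq hs hboth

theorem injective_of_two (hcM : NoCommon φ) : Function.Injective φ := by
  rw [← MonoidHom.ker_eq_bot_iff]
  by_contra hk
  obtain ⟨a, W, ha, hWn, hWle, hW1, hexp, hWc⟩ := exists_elementary_le φ.ker hk
  haveI := Fact.mk ha
  haveI := hWn
  obtain ⟨b, hbp, hab, hE⟩ : ∃ b : ℕ, b.Prime ∧ a ≠ b ∧ Rank2 b K := by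
    rcases hprimes a ha (prime_dvd_card_of_exp hexp hW1) with rfl | rfl
    · exact ⟨s, Fact.out, hne, hs⟩
    · exact ⟨q, Fact.out, hne.symm, hq⟩
  haveI := Fact.mk hbp
  obtain ⟨c, d, -, -, hc, hd, hcd, hdc⟩ := hE
  obtain ⟨u, hu, huo⟩ := exists_orderOf_of_ne_bot hexp hW1
  have htriv : ∀ v ∈ W, ∀ m, φ v m = m := fun v hv m => by
    rw [MonoidHom.mem_ker.mp (hWle hv)]; rfl
  obtain ⟨e, -, he, m, hm1, hm⟩ := exists_fixed φ (coprime_prime hM hc) hc hd hcd hdc
  have heW := commute_of_fpf_abelian ψ he (fun hf => hboth e b hbp he ⟨m, hm1, hm⟩ hf) W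
    (fun v hv => hWn.conj_mem v hv e) (fun v hv h => by
      by_contra hv1
      obtain ⟨n, hn⟩ := exists_ne (1 : N)
      exact hboth v a ha (orderOf_eq_prime (hexp v hv) hv1) ⟨m, hm1, htriv v hv m⟩ ⟨n, hn, h n⟩)
    (pgroup_coprime ha hbp hab.symm (isPGroup_of_exp hexp))
    (hN.coprime_dvd_right (card_subgroup_dvd_card _)) hWc
  exact hcM e u b a hbp ha hab.symm he huo (heW u hu) ⟨m, hm1, hm, htriv u hu m⟩

theorem false_of_two_modules_two (hq2 : q = 2) (hcM : NoCommon φ) (hcN : NoCommon ψ) : False := by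
  subst hq2
  have hinj := injective_of_two ψ φ hN hM hne hprimes hq hs (fun x a h1 h2 h3 h4 => hboth x a h1 h2 h4 h3) hcN
  obtain ⟨a, b, -, -, ha, hb, hab, hba⟩ := hq
  obtain ⟨c, d, -, -, hc, hd, hcd, hdc⟩ := hs
  obtain ⟨t, -, ht, htM⟩ := exists_fixed φ (coprime_prime hM ha) ha hb hab hba
  have hcen := commute_of_fpf_involution hinj (ht ▸ pow_orderOf_eq_one t)
    (fun h => hboth t 2 Nat.prime_two ht htM h)
  obtain ⟨e, -, he, hetc, m, hm1, hme, hmt⟩ :=
    exists_common_fixed φ (coprime_prime hM hc) hc hd hcd hdc (hcen c).symm (hcen d).symm htM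
  exact hcM e t s 2 Fact.out Nat.prime_two hne.symm he ht hetc ⟨m, hm1, hme, hmt⟩

theorem not_two_modules (hcM : NoCommon φ) (hcN : NoCommon ψ) : False := by
  by_cases hq2 : q = 2
  · exact false_of_two_modules_two φ ψ hM hN hne hprimes hq hs hboth hq2 hcM hcN
  by_cases hs2 : s = 2
  · exact false_of_two_modules_two φ ψ hM hN hne.symm (fun t h h' => (hprimes t h h').symm) hs hq hboth hs2
      hcM hcN
  have hiM := injective_of_two φ ψ hM hN hne hprimes hq hs hboth hcM
  have hiN := injective_of_two ψ φ hN hM hne hprimes hq hs (fun x a h1 h2 h3 h4 => hboth x a h1 h2 h4 h3) hcN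
  have hall : ∀ (t r : ℕ) [Fact t.Prime] [Fact r.Prime], t ≠ r → t ≠ 2 → ∀ x : K, orderOf x = r →
      ∀ v ∈ Cfsg.pCore t K, Commute x v := by
    intro t r _ _ htr ht2 x hx
    by_cases hf : Fix φ x
    · exact commute_pCore_of_fpf ψ hiN hN htr.symm ht2 hx fun h => hboth x r Fact.out hx hf h
    · exact commute_pCore_of_fpf φ hiM hM htr.symm ht2 hx hf
  haveI := CfsgLib.Core.normal_pCore q K
  haveI := CfsgLib.Core.normal_pCore s K
  have hcomm : ∀ e y : K, orderOf e = s → orderOf y = q → Commute e y := by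
    intro e y he hy
    have hC : ∀ (N : Subgroup K) [N.Normal] (x z : K), (∀ v ∈ N, Commute x v) →
        ∀ v ∈ N, Commute (x * z * x⁻¹ * z⁻¹) v ∧ Commute (z * x * z⁻¹ * x⁻¹) v := by
      intro N _ x z hxN v hv
      haveI : (centralizer (N : Set K)).Normal := inferInstance
      have h1 := mem_centralizer_of_core hxN
      have h2 : x * z * x⁻¹ * z⁻¹ ∈ centralizer (N : Set K) := by
        rw [show x * z * x⁻¹ * z⁻¹ = x * (z * x⁻¹ * z⁻¹) by group]
        exact mul_mem h1 (Normal.conj_mem inferInstance _ (inv_mem h1) z)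
      have h3 : z * x * z⁻¹ * x⁻¹ ∈ centralizer (N : Set K) :=
        mul_mem (Normal.conj_mem inferInstance _ h1 z) (inv_mem h1)
      exact ⟨(mem_centralizer_iff.mp h2 v hv).symm, (mem_centralizer_iff.mp h3 v hv).symm⟩
    obtain ⟨a, ha, b, hb, hab⟩ := exists_mul_of_centralizes (p := q) (q := s) (X := K)
      (fun t ht htq hts => CfsgLib.Core.pCore_eq_bot_of_not_dvd ht fun hd =>
        (hprimes t ht hd).elim htq hts)
      (fun v hv => (hC _ e y (hall q s hne hq2 e he) v hv).1)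
      (fun v hv => (hC _ y e (hall s q hne.symm hs2 y hy) v hv).2)
    exact commute_of_comm_eq hne he hy (CfsgLib.Core.isPGroup_pCore q K)
      (CfsgLib.Core.isPGroup_pCore s K) ha hb
      (CfsgLib.Core.commute_pCore_pCore Fact.out Fact.out hne a ha b hb)
      (hall q s hne hq2 e he a ha) (hall s q hne.symm hs2 y hy b hb) hab.symm
  obtain ⟨a, b, -, -, ha, hb, hab, hba⟩ := hq
  obtain ⟨c, d, -, -, hc, hd, hcd, hdc⟩ := hs
  obtain ⟨e, -, he, hef⟩ := exists_fixed φ (coprime_prime hM hc) hc hd hcd hdc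
  obtain ⟨y, -, hy, hye, m, hm1, hmy, hme⟩ := exists_common_fixed φ (coprime_prime hM ha) ha hb hab hba
    (hcomm e a he ha).symm (hcomm e b he hb).symm hef
  exact hcM y e q s Fact.out Fact.out hne hy he hye ⟨m, hm1, hmy, hme⟩

end TwoModules

end CfsgLib.PGroups.FixRank
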