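import Cfsg.Agent.Lib.PGroups.PCentral
import Mathlib.Combinatorics.SimpleGraph.Extremal.Turan
import Mathlib.LinearAlgebra.Matrix.ToLin

/-!
# Subgroups of unitriangular groups over a prime field need at most `n²/4` generators
-/

set_option autoImplicit false
set_option linter.all false

namespace CfsgLib.PGroups.UnipotentRank

open Subgroup Matrix
open scoped commutatorElement IsMulCommutative

variable {p n : ℕ} [hp : Fact p.Prime]

/-- weight of a position -/
def wt (i j : Fin n) : ℕ := 2 ^ (j : ℕ) - 2 ^ (i : ℕ)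

theorem wt_pos {i j : Fin n} (h : i < j) : 0 < wt i j :=
  Nat.sub_pos_of_lt (Nat.pow_lt_pow_right one_lt_two h)

theorem wt_add {i j k : Fin n} (h1 : i ≤ j) (h2 : j ≤ k) : wt i k = wt i j + wt j k := by
  have a := Nat.pow_le_pow_right two_pos (Fin.le_def.1 h1)
  have b := Nat.pow_le_pow_right two_pos (Fin.le_def.1 h2)
  simp only [wt]; omega

theorem wt_lt (i j : Fin n) : wt i j < 2 ^ n :=
  lt_of_le_of_lt (Nat.sub_le _ _) (Nat.pow_lt_pow_right one_lt_two j.2)

theorem wt_inj {i j i' j' : Fin n} (h : i < j) (h' : i' < j') (he : wt i j = wt i' j') : i = i' ∧ j = j' := by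
  have key : ∀ {a b : ℕ}, a < b → 2 ^ (b - 1) ≤ 2 ^ b - 2 ^ a ∧ 2 ^ b - 2 ^ a < 2 ^ b := by
    intro a b hab
    have h1 : 2 ^ a ≤ 2 ^ (b - 1) := Nat.pow_le_pow_right two_pos (by omega)
    have h2 : 2 ^ b = 2 * 2 ^ (b - 1) := by rw [← pow_succ']; congr 1; omega
    have h3 := Nat.two_pow_pos a
    omega
  simp only [wt] at he
  obtain ⟨a1, a2⟩ := key (Fin.lt_def.1 h)
  obtain ⟨b1, b2⟩ := key (Fin.lt_def.1 h')
  have hj : (j : ℕ) = j' := by
    rcases lt_trichotomy (j : ℕ) j' with hl | hl | hl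
    · exfalso
      have := Nat.pow_le_pow_right two_pos (show (j : ℕ) ≤ (j' : ℕ) - 1 by omega)
      omega
    · exact hl
    · exfalso
      have := Nat.pow_le_pow_right two_pos (show (j' : ℕ) ≤ (j : ℕ) - 1 by omega)
      omega
  rw [hj] at he a1
  have e1 : (2 : ℕ) ^ (i : ℕ) = 2 ^ (i' : ℕ) := by
    have := Nat.pow_le_pow_right two_pos (show (i : ℕ) ≤ j' by have := Fin.lt_def.1 h; omega)
    have := Nat.pow_le_pow_right two_pos (show (i' : ℕ) ≤ j' by have := Fin.lt_def.1 h'; omega)
    omega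
  exact ⟨Fin.ext (Nat.pow_right_injective le_rfl e1), Fin.ext hj⟩

abbrev Mat (p n : ℕ) := Matrix (Fin n) (Fin n) (ZMod p)

variable {P : Type*} [Group P] (φ : P →* Mat p n)

/-- `φ` lands in the unitriangular group -/
def Uni : Prop := ∀ g, (∀ i, φ g i i = 1) ∧ ∀ i j, j < i → φ g i j = 0

/-- zero at all positions of weight below `w` -/
def Low (w : ℕ) (M : Mat p n) : Prop := ∀ i j, i < j → wt i j < w → M i j = 0

/-- the first nonzero position -/
def Lead (g : P) (i j : Fin n) : Prop := i < j ∧ Low (wt i j) (φ g) ∧ φ g i j ≠ 0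

variable {φ}

theorem low_mul (hu : Uni φ) {g h : P} {w : ℕ} (hg : Low w (φ g)) (hh : Low w (φ h)) {i j : Fin n}
    (hij : i < j) (hw : wt i j ≤ w) : φ (g * h) i j = φ g i j + φ h i j := by
  rw [map_mul, Matrix.mul_apply, ← Finset.add_sum_erase _ _ (Finset.mem_univ i),
    ← Finset.add_sum_erase _ _ (Finset.mem_erase.2 ⟨hij.ne', Finset.mem_univ j⟩), Finset.sum_eq_zero,
    (hu g).1, (hu h).1]
  · ring
  · intro k hk
    simp only [Finset.mem_erase, Finset.mem_univ, and_true] at hk
    rcases lt_or_ge k i with hki | hik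
    · rw [(hu g).2 i k hki, zero_mul]
    rcases lt_or_ge j k with hjk | hkj
    · rw [(hu h).2 k j hjk, mul_zero]
    have hik' : i < k := lt_of_le_of_ne hik (Ne.symm hk.2)
    have hkj' : k < j := lt_of_le_of_ne hkj hk.1
    have := wt_add hik'.le hkj'.le
    have := wt_pos hkj'
    rw [hg i k hik' (by omega), zero_mul]

theorem low_mul' (hu : Uni φ) {g h : P} {w : ℕ} (hg : Low w (φ g)) (hh : Low w (φ h)) : Low w (φ (g * h)) :=
  fun i j hij hw => by rw [low_mul hu hg hh hij hw.le, hg i j hij hw, hh i j hij hw, add_zero]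

theorem low_one (w : ℕ) : Low w (φ 1) := fun i j hij _ => by rw [map_one, Matrix.one_apply_ne hij.ne]

theorem low_inv (hu : Uni φ) {g : P} {w : ℕ} (hg : Low w (φ g)) : Low w (φ g⁻¹) := by
  intro i j
  induction hd : wt i j using Nat.strong_induction_on generalizing i j with
  | _ d ih =>
  intro hij hw
  have hlow : Low d (φ g⁻¹) := fun i' j' hij' hw' => ih _ hw' i' j' rfl hij' (hw'.trans hw)
  have hlow' : Low d (φ g) := fun i' j' hij' hw' => hg i' j' hij' (hw'.trans hw)
  have := low_mul hu hlow' hlow hij hd.le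
  rw [mul_inv_cancel, hg i j hij (hd ▸ hw), map_one, Matrix.one_apply_ne hij.ne, zero_add] at this
  exact this.symm

theorem low_pow (hu : Uni φ) {g : P} {i j : Fin n} (hij : i < j) (hg : Low (wt i j) (φ g)) (m : ℕ) :
    Low (wt i j) (φ (g ^ m)) ∧ φ (g ^ m) i j = m * φ g i j := by
  induction m with
  | zero => exact ⟨by rw [pow_zero]; exact low_one _, by simp [Matrix.one_apply_ne hij.ne]⟩
  | succ m ih =>
    rw [pow_succ]
    refine ⟨low_mul' hu ih.1 hg, ?_⟩
    rw [low_mul hu ih.1 hg hij le_rfl, ih.2]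
    push_cast; ring

theorem lead_commutator (hu : Uni φ) {x y : P} {i j k : Fin n} (hx : Lead φ x i j) (hy : Lead φ y j k) :
    Lead φ ⁅x, y⁆ i k := by
  obtain ⟨hij, hxl, hxn⟩ := hx
  obtain ⟨hjk, hyl, hyn⟩ := hy
  have hik : i < k := hij.trans hjk
  set w := wt i k with hwdef
  have hw : w = wt i j + wt j k := wt_add hij.le hjk.le
  -- the difference of the two products
  have hD : ∀ u v, u < v → wt u v ≤ w → (φ x * φ y) u v - (φ y * φ x) u v =
      if u = i ∧ v = k then φ x i j * φ y j k else 0 := by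
    intro u v huv huw
    rw [Matrix.mul_apply, Matrix.mul_apply, ← Finset.sum_sub_distrib]
    have hterm : ∀ l, l ≠ u → l ≠ v → φ x u l * φ y l v - φ y u l * φ x l v =
        if u = i ∧ v = k ∧ l = j then φ x i j * φ y j k else 0 := by
      intro l hlu hlv
      by_cases hb : u < l ∧ l < v
      swap
      · have h0 : ∀ a b : P, φ a u l * φ b l v = 0 := fun a b => by
          rcases lt_or_ge l u with h | h
          · rw [(hu a).2 u l h, zero_mul]
          · have : v < l := lt_of_le_of_ne (not_lt.1 fun h' => hb ⟨lt_of_le_of_ne h (Ne.symm hlu), h'⟩) (Ne.symm hlv)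
            rw [(hu b).2 l v this, mul_zero]
        rw [h0, h0, sub_zero, if_neg]
        rintro ⟨rfl, rfl, rfl⟩
        exact hb ⟨hij, hjk⟩
      have hsum := wt_add hb.1.le hb.2.le
      have hyx : φ y u l * φ x l v = 0 := by
        by_cases h1 : wt u l < wt j k
        · rw [hyl u l hb.1 h1, zero_mul]
        by_cases h2 : wt l v < wt i j
        · rw [hxl l v hb.2 h2, mul_zero]
        obtain ⟨-, e1⟩ := wt_inj hb.1 hjk (by omega)
        obtain ⟨e2, -⟩ := wt_inj hb.2 hij (by omega)
        exact absurd (e1.symm.trans e2) hik.ne'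
      rw [hyx, sub_zero]
      by_cases h1 : wt u l < wt i j
      · rw [hxl u l hb.1 h1, zero_mul, if_neg]
        rintro ⟨rfl, -, rfl⟩; exact lt_irrefl _ h1
      by_cases h2 : wt l v < wt j k
      · rw [hyl l v hb.2 h2, mul_zero, if_neg]
        rintro ⟨-, rfl, rfl⟩; exact lt_irrefl _ h2
      obtain ⟨e1, e2⟩ := wt_inj hb.1 hij (by omega)
      obtain ⟨-, e3⟩ := wt_inj hb.2 hjk (by omega)
      subst e1; subst e2; subst e3
      rw [if_pos ⟨rfl, rfl, rfl⟩]
    rw [← Finset.add_sum_erase _ _ (Finset.mem_univ u),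
      ← Finset.add_sum_erase _ _ (Finset.mem_erase.2 ⟨huv.ne', Finset.mem_univ v⟩),
      Finset.sum_congr rfl (fun l hl => hterm l (Finset.mem_erase.1 (Finset.mem_erase.1 hl).2).1 (Finset.mem_erase.1 hl).1)]
    rw [(hu x).1, (hu y).1, (hu x).1, (hu y).1]
    by_cases hc : u = i ∧ v = k
    · obtain ⟨rfl, rfl⟩ := hc
      rw [if_pos ⟨rfl, rfl⟩, Finset.sum_eq_single j]
      · rw [if_pos ⟨rfl, rfl, rfl⟩]; ring
      · intro l _ hl; rw [if_neg]; rintro ⟨-, -, h⟩; exact hl h
      · intro h; exact absurd (Finset.mem_erase.2 ⟨hjk.ne, Finset.mem_erase.2 ⟨hij.ne', Finset.mem_univ j⟩⟩) h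
    · rw [if_neg hc, Finset.sum_eq_zero]
      · ring
      · intro l _; rw [if_neg]; rintro ⟨a, b, -⟩; exact hc ⟨a, b⟩
  have hc1 : φ ⁅x, y⁆ - 1 = (φ x * φ y - φ y * φ x) * φ (y * x)⁻¹ := by
    rw [sub_mul, ← map_mul, ← map_mul, ← map_mul, ← map_mul, mul_inv_cancel, map_one,
      show x * y * (y * x)⁻¹ = ⁅x, y⁆ by simp only [commutatorElement_def]; group]
  have hlow : ∀ u v, u ≤ u ∧ v ≤ u → (φ x * φ y - φ y * φ x) u v = 0 := by
    intro u v h
    rw [Matrix.sub_apply, ← map_mul, ← map_mul]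
    rcases lt_or_eq_of_le h.2 with h' | h'
    · rw [(hu _).2 u v h', (hu _).2 u v h', sub_zero]
    · subst h'; rw [(hu _).1, (hu _).1, sub_self]
  have hent : ∀ u v, u < v → wt u v ≤ w → φ ⁅x, y⁆ u v = if u = i ∧ v = k then φ x i j * φ y j k else 0 := by
    intro u v huv huw
    have := congrFun (congrFun hc1 u) v
    rw [Matrix.sub_apply, Matrix.one_apply_ne huv.ne, sub_zero, Matrix.mul_apply,
      Finset.sum_eq_single v] at this
    · rw [this, (hu _).1, mul_one, Matrix.sub_apply, hD u v huv huw]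
    · intro l _ hlv
      rcases le_or_gt l u with hlu | hul
      · rw [hlow u l ⟨le_rfl, hlu⟩, zero_mul]
      rcases lt_or_ge v l with hvl | hlv'
      · rw [(hu _).2 l v hvl, mul_zero]
      have hl : l < v := lt_of_le_of_ne hlv' hlv
      have := wt_add hul.le hl.le
      have := wt_pos hl
      rw [Matrix.sub_apply, hD u l hul (by omega), if_neg, zero_mul]
      rintro ⟨rfl, rfl⟩
      omega
    · intro h; exact absurd (Finset.mem_univ v) h
  refine ⟨hik, fun u v huv huw => ?_, ?_⟩
  · rw [hent u v huv huw.le, if_neg]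
    rintro ⟨rfl, rfl⟩
    exact lt_irrefl _ huw
  · rw [hent i k hik le_rfl, if_pos ⟨rfl, rfl⟩]
    exact mul_ne_zero hxn hyn

theorem exists_generators_mod (hu : Uni φ) (H : Subgroup P) :
    ∃ S : Finset P, (S : Set P) ⊆ H ∧ 4 * S.card ≤ n * n ∧
      ∀ h ∈ H, ∃ k ∈ Subgroup.closure (S : Set P), φ (k⁻¹ * h) = 1 := by
  classical
  set led : Fin n → Fin n → Prop := fun i j => ∃ h ∈ H, Lead φ h i j
  set T : Finset (Fin n × Fin n) := Finset.univ.filter fun e =>
    led e.1 e.2 ∧ ∀ j, ¬ (led e.1 j ∧ led j e.2)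
  have hTlt : ∀ e ∈ T, e.1 < e.2 := fun e he => by
    obtain ⟨h, -, hl⟩ := (Finset.mem_filter.1 he).2.1
    exact hl.1
  choose g hgH hg using fun e : T => (Finset.mem_filter.1 e.2).2.1
  set S := Finset.univ.image g
  refine ⟨S, ?_, ?_, ?_⟩
  · intro x hx
    obtain ⟨e, -, rfl⟩ := Finset.mem_image.1 (Finset.mem_coe.1 hx)
    exact hgH e
  · -- Mantel
    have hS : S.card ≤ T.card := Finset.card_image_le.trans (by rw [Finset.card_univ, Fintype.card_coe])
    let Γ : SimpleGraph (Fin n) :=
      { Adj := fun i j => (i, j) ∈ T ∨ (j, i) ∈ T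
        symm := ⟨fun i j h => h.symm⟩
        loopless := ⟨fun i h => (lt_irrefl _ (hTlt (i, i) (h.elim id id)))⟩ }
    have hled : ∀ {i j : Fin n}, Γ.Adj i j → i < j → (i, j) ∈ T := fun {i j} h hij =>
      h.resolve_right fun h' => lt_asymm hij (hTlt _ h')
    have hfree : Γ.CliqueFree 3 := by
      intro s hs
      obtain ⟨a, b, c, hab, hac, hbc, rfl⟩ := SimpleGraph.is3Clique_iff.1 hs
      have key : ∀ {i j k : Fin n}, i < j → j < k → Γ.Adj i j → Γ.Adj j k → Γ.Adj i k → False := by
        intro i j k hij hjk h1 h2 h3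
        exact (Finset.mem_filter.1 (hled h3 (hij.trans hjk))).2.2 j
          ⟨(Finset.mem_filter.1 (hled h1 hij)).2.1, (Finset.mem_filter.1 (hled h2 hjk)).2.1⟩
      rcases lt_trichotomy a b with h1 | h1 | h1 <;> rcases lt_trichotomy a c with h2 | h2 | h2 <;>
        rcases lt_trichotomy b c with h3 | h3 | h3 <;>
        first
          | exact absurd h1 hab.ne
          | exact absurd h2 hac.ne
          | exact absurd h3 hbc.ne
          | exact key h1 h3 hab hbc hac
          | exact key h2 h3 hac hbc.symm hab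
          | exact key h1 h2 hab.symm hac hbc
          | exact key h3 h2 hbc hac.symm hab.symm
          | exact key h2 h1 hac.symm hab hbc.symm
          | exact key h3 h1 hbc.symm hab.symm hac.symm
          | (exfalso; omega)
    have hbound := hfree.card_edgeFinset_le
    simp only [Fintype.card_fin] at hbound
    have hTcard : T.card ≤ Γ.edgeFinset.card := by
      refine Finset.card_le_card_of_injOn (fun e => s(e.1, e.2)) (fun e he => ?_) fun e he e' he' hee => ?_
      · exact SimpleGraph.mem_edgeFinset.2 (Or.inl (Finset.mem_coe.1 he))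
      · rcases Sym2.eq_iff.1 hee with ⟨a, b⟩ | ⟨a, b⟩
        · exact Prod.ext a b
        · exfalso
          have h1 := hTlt e he
          have h2 := hTlt e' he'
          rw [a, b] at h1
          exact lt_asymm h1 h2
    have h2 : (n % 2).choose 2 = 0 := Nat.choose_eq_zero_of_lt (by omega)
    rw [h2, Nat.add_zero] at hbound
    have h3 : (n ^ 2 - (n % 2) ^ 2) * (2 - 1) / (2 * 2) * 4 ≤ n * n := by
      refine (Nat.div_mul_le_self _ 4).trans ?_
      rw [sq n]; simp
    have h4 := (hS.trans hTcard).trans hbound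
    calc 4 * S.card = S.card * 4 := Nat.mul_comm _ _
      _ ≤ _ := (Nat.mul_le_mul_right 4 h4).trans h3
  · set K := Subgroup.closure (S : Set P)
    have hKH : K ≤ H := (Subgroup.closure_le H).2 fun x hx => by
      obtain ⟨e, -, rfl⟩ := Finset.mem_image.1 (Finset.mem_coe.1 hx)
      exact hgH e
    have hall : ∀ d i j, wt i j = d → led i j → ∃ k ∈ K, Lead φ k i j := by
      intro d
      induction d using Nat.strong_induction_on with
      | _ d ih =>
      intro i j hd hl
      by_cases hT : (i, j) ∈ T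
      · exact ⟨g ⟨_, hT⟩, Subgroup.subset_closure (Finset.mem_coe.2 (Finset.mem_image.2 ⟨_, Finset.mem_univ _, rfl⟩)), hg _⟩
      · have hne : ¬ ∀ l, ¬ (led i l ∧ led l j) := fun hno => hT (Finset.mem_filter.2 ⟨Finset.mem_univ _, hl, hno⟩)
        push Not at hne
        obtain ⟨l, h1, h2⟩ := hne
        obtain ⟨a, ha, hal⟩ := id h1
        obtain ⟨b, hb, hbl⟩ := id h2
        have hw := wt_add hal.1.le hbl.1.le
        have := wt_pos hal.1
        have := wt_pos hbl.1
        obtain ⟨x, hx, hxl⟩ := ih (wt i l) (by omega) i l rfl h1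
        obtain ⟨y, hy, hyl⟩ := ih (wt l j) (by omega) l j rfl h2
        exact ⟨⁅x, y⁆, (Subgroup.commutator_le_self K) (Subgroup.commutator_mem_commutator hx hy),
          lead_commutator hu hxl hyl⟩
    have hstep : ∀ w, ∀ h ∈ H, ∃ k ∈ K, Low w (φ (k⁻¹ * h)) := by
      intro w
      induction w with
      | zero => exact fun h _ => ⟨1, K.one_mem, fun i j _ hw => absurd hw (Nat.not_lt_zero _)⟩
      | succ w ihw =>
        intro h hh
        obtain ⟨k, hk, hlow⟩ := ihw h hh
        set h' := k⁻¹ * h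
        by_cases hex : ∃ i j, i < j ∧ wt i j = w ∧ φ h' i j ≠ 0
        · obtain ⟨i, j, hij, hw, hne⟩ := hex
          obtain ⟨x, hx, hxij, hxl, hxn⟩ := hall w i j hw ⟨h', H.mul_mem (H.inv_mem (hKH hk)) hh, hij, hw ▸ hlow, hne⟩
          set m := (φ h' i j / φ x i j).val
          obtain ⟨hm1, hm2⟩ := low_pow hu hxij hxl m
          rw [ZMod.natCast_zmod_val, div_mul_cancel₀ _ hxn] at hm2
          refine ⟨k * x ^ m, K.mul_mem hk (K.pow_mem hx m), fun u v huv huw => ?_⟩
          rw [show (k * x ^ m)⁻¹ * h = (x ^ m)⁻¹ * h' by simp only [h']; group]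
          have hinv : Low w (φ (x ^ m)⁻¹) := low_inv hu (hw ▸ hm1)
          rw [low_mul hu hinv hlow huv (by omega)]
          rcases lt_or_eq_of_le (Nat.lt_succ_iff.1 huw) with hlt | heq
          · rw [hinv u v huv hlt, hlow u v huv hlt, add_zero]
          · obtain ⟨rfl, rfl⟩ := wt_inj huv hij (heq.trans hw.symm)
            have hz := low_mul hu (hw ▸ hm1) hinv huv heq.le
            rw [mul_inv_cancel, map_one, Matrix.one_apply_ne huv.ne, hm2] at hz
            rw [add_comm, hz.symm]
        · push Not at hex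
          refine ⟨k, hk, fun u v huv huw => ?_⟩
          rcases lt_or_eq_of_le (Nat.lt_succ_iff.1 huw) with hlt | heq
          · exact hlow u v huv hlt
          · exact hex u v huv heq
    intro h hh
    obtain ⟨k, hk, hlow⟩ := hstep (2 ^ n) h hh
    refine ⟨k, hk, ?_⟩
    ext i j
    rcases lt_trichotomy i j with hij | hij | hij
    · rw [hlow i j hij (wt_lt i j), Matrix.one_apply_ne hij.ne]
    · subst hij; rw [(hu _).1, Matrix.one_apply_eq]
    · rw [(hu _).2 i j hij, Matrix.one_apply_ne hij.ne']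

/-! ### the representation on a normal elementary abelian subgroup -/

variable [Finite P]

theorem exists_flag (hP : IsPGroup p P) (A : Subgroup P) [A.Normal] [IsMulCommutative A] :
    ∀ B : Subgroup P, B.Normal → B ≤ A → ∀ (r : ℕ) (a : Fin r → A),
      (Subgroup.closure (Set.range fun i => (a i : P)) = B) → p ^ r ≤ Nat.card B →
      (∀ (g : P) (j : Fin r), g * a j * g⁻¹ * (a j : P)⁻¹ ∈ Subgroup.closure ((fun i => (a i : P)) '' {i | i < j})) →
      ∃ (s : ℕ) (b : Fin s → A), Subgroup.closure (Set.range fun i => (b i : P)) = A ∧ p ^ s ≤ Nat.card A ∧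
        ∀ (g : P) (j : Fin s), g * b j * g⁻¹ * (b j : P)⁻¹ ∈ Subgroup.closure ((fun i => (b i : P)) '' {i | i < j}) := by
  intro B
  induction B using (wellFounded_gt (α := Subgroup P)).induction with
  | _ B ih =>
  intro hBn hBA r a hgen hcard hflag
  by_cases he : B = A
  · exact ⟨r, a, he ▸ hgen, he ▸ hcard, hflag⟩
  haveI := hBn
  obtain ⟨c, hcA, hcB, hcc⟩ : ∃ c ∈ A, c ∉ B ∧ ∀ g : P, ⁅c, g⁆ ∈ B := by
    by_contra hno
    push Not at hno
    have hmono : ∀ t, DerivedOrder.step A t ≤ A := fun t => by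
      induction t with
      | zero => exact le_rfl
      | succ t ih' => exact (Subgroup.commutator_mono ih' le_rfl).trans (Subgroup.commutator_le_left A ⊤)
    have hle : ∀ t, DerivedOrder.step A t ≤ B → A ≤ B := by
      intro t
      induction t with
      | zero => exact fun h => h
      | succ t iht =>
        intro h
        refine iht fun b hb => ?_
        by_contra hbB
        obtain ⟨g, hg⟩ := hno b (hmono t hb) hbB
        exact hg (h (Subgroup.commutator_mem_commutator hb (mem_top g)))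
    haveI : Group.IsNilpotent P := hP.isNilpotent
    obtain ⟨m, hm⟩ := Subgroup.nilpotent_iff_lowerCentralSeries.1 (inferInstance : Group.IsNilpotent P)
    refine he (le_antisymm hBA (hle m ?_))
    refine (DerivedOrder.step_le_gamma (j := 0) le_top m).trans ?_
    rw [Nat.zero_add, hm]
    exact bot_le
  have hlt : B < B ⊔ zpowers c := lt_of_le_of_ne le_sup_left fun e => hcB (e.ge (mem_sup_right (mem_zpowers c)))
  have hB' : (B ⊔ zpowers c).Normal := by
    refine ⟨fun x hx g => ?_⟩
    have hle : B ⊔ zpowers c ≤ (B ⊔ zpowers c).comap (MulAut.conj g).toMonoidHom := by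
      refine sup_le (fun m hm => mem_sup_left (hBn.conj_mem m hm g)) (zpowers_le.2 ?_)
      show g * c * g⁻¹ ∈ B ⊔ zpowers c
      rw [show g * c * g⁻¹ = ⁅c, g⁆⁻¹ * c by simp only [commutatorElement_def]; group]
      exact mul_mem (mem_sup_left (inv_mem (hcc g))) (mem_sup_right (mem_zpowers c))
    exact hle hx
  have himg : ∀ j : Fin r, (fun i => ((Fin.snoc (α := fun _ => A) a ⟨c, hcA⟩ i : A) : P)) '' {i | i < j.castSucc} =
      (fun i => (a i : P)) '' {i | i < j} := by
    intro j
    ext x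
    constructor
    · rintro ⟨i, hi, rfl⟩
      obtain ⟨i', rfl⟩ : ∃ i' : Fin r, i = i'.castSucc := ⟨⟨i, lt_trans hi j.2⟩, rfl⟩
      exact ⟨i', hi, by simp⟩
    · rintro ⟨i, hi, rfl⟩
      exact ⟨i.castSucc, hi, by simp⟩
  refine ih _ hlt hB' (sup_le hBA (zpowers_le.2 hcA)) (r + 1) (Fin.snoc (α := fun _ => A) a ⟨c, hcA⟩) ?_ ?_ ?_
  · rw [show (fun i => ((Fin.snoc (α := fun _ => A) a ⟨c, hcA⟩ i : A) : P)) = Fin.snoc (fun i => (a i : P)) c by
      funext i; refine Fin.lastCases ?_ (fun i => ?_) i <;> simp]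
    rw [Fin.range_snoc, Set.insert_eq, Subgroup.closure_union, hgen, ← Subgroup.zpowers_eq_closure, sup_comm]
  · rw [pow_succ, mul_comm]
    exact (Nat.mul_le_mul_left p hcard).trans (DerivedOrder.mul_card_le_of_lt hP hlt)
  · intro g j
    refine Fin.lastCases ?_ (fun j => ?_) j
    · rw [Fin.snoc_last]
      show g * c * g⁻¹ * c⁻¹ ∈ _
      refine Subgroup.closure_mono ?_ (hgen.ge (show g * c * g⁻¹ * c⁻¹ ∈ B from ?_))
      · rintro _ ⟨i, rfl⟩
        exact ⟨i.castSucc, Fin.castSucc_lt_last i, by simp⟩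
      · rw [show g * c * g⁻¹ * c⁻¹ = ⁅c, g⁆⁻¹ by simp only [commutatorElement_def]; group]
        exact inv_mem (hcc g)
    · rw [himg]
      simpa using hflag g j

/-- a normal elementary abelian subgroup gives a unitriangular representation with kernel its centraliser -/
theorem exists_rep (hP : IsPGroup p P) (A : Subgroup P) [A.Normal] [IsMulCommutative A]
    (hA : ∀ a ∈ A, a ^ p = 1) :
    ∃ (r : ℕ) (φ : P →* Mat p r), Nat.card A = p ^ r ∧ Uni φ ∧ ∀ g, φ g = 1 → g ∈ centralizer (A : Set P) := by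
  classical
  obtain ⟨r, a, hgen, hcard, hflag⟩ := exists_flag hP A ⊥ inferInstance bot_le 0 Fin.elim0
    (by simp [Set.range_eq_empty]) (by simp) (fun g j => j.elim0)
  have hsm : ∀ x : Additive A, p • x = 0 := fun x => Additive.toMul.injective (Subtype.ext (by
    show ((Additive.toMul x : A) : P) ^ p = 1
    exact hA _ (Additive.toMul x).2))
  haveI : Module (ZMod p) (Additive A) := AddCommGroup.zmodModule hsm
  set ψ : (Fin r → ZMod p) →ₗ[ZMod p] Additive A := Fintype.linearCombination (ZMod p) (fun i => Additive.ofMul (a i))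
  have hψsingle : ∀ i, ψ (Pi.single i 1) = Additive.ofMul (a i) := fun i => by
    simp [ψ, Fintype.linearCombination_apply_single]
  let val : Additive A → P := fun x => ((Additive.toMul x : A) : P)
  have hsurj : Function.Surjective ψ := by
    let R : Subgroup P :=
      { carrier := {x | ∃ v, val (ψ v) = x}
        one_mem' := ⟨0, by simp [val]⟩
        mul_mem' := by rintro _ _ ⟨v, rfl⟩ ⟨w, rfl⟩; exact ⟨v + w, by simp [val]⟩
        inv_mem' := by rintro _ ⟨v, rfl⟩; exact ⟨-v, by simp [val]⟩ }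
    have hR : A ≤ R := hgen ▸ (Subgroup.closure_le R).2 (by
      rintro _ ⟨i, rfl⟩; exact ⟨Pi.single i 1, by simp [val, hψsingle]⟩)
    intro x
    obtain ⟨v, hv⟩ := hR (Additive.toMul x).2
    exact ⟨v, Additive.toMul.injective (Subtype.ext hv)⟩
  have hcardV : Nat.card (Fin r → ZMod p) = p ^ r := by simp [Nat.card_zmod]
  have hAc : Nat.card A = p ^ r := le_antisymm (hcardV ▸ Nat.card_le_card_of_surjective _ hsurj) hcard
  have hbij : Function.Bijective ψ := by
    rw [Nat.bijective_iff_surjective_and_card]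
    exact ⟨hsurj, hcardV.trans hAc.symm⟩
  set co := (LinearEquiv.ofBijective ψ hbij).symm
  let conjA : P → Additive A →+ Additive A := fun g => (MulAut.conjNormal g : MulAut A).toMonoidHom.toAdditive
  have hconj : ∀ g x, val (conjA g x) = g * val x * g⁻¹ := fun g x => MulAut.conjNormal_apply (H := A) g (Additive.toMul x)
  let F : P → (Fin r → ZMod p) →ₗ[ZMod p] (Fin r → ZMod p) := fun g =>
    co.toLinearMap ∘ₗ ((conjA g).toZModLinearMap p) ∘ₗ ψ
  have hF : ∀ g v, ψ (F g v) = conjA g (ψ v) := fun g v =>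
    (LinearEquiv.ofBijective ψ hbij).apply_symm_apply _
  have hext : ∀ {v w}, val (ψ v) = val (ψ w) → v = w := fun {v w} h =>
    hbij.1 (Additive.toMul.injective (Subtype.ext h))
  let φ : P →* Mat p r :=
    { toFun := fun g => LinearMap.toMatrix' (F g)
      map_one' := by
        rw [← LinearMap.toMatrix'_id]
        congr 1
        refine LinearMap.ext fun v => hext ?_
        rw [hF, hconj, LinearMap.id_apply]; simp
      map_mul' := fun g h => by
        rw [← LinearMap.toMatrix'_comp]
        congr 1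
        refine LinearMap.ext fun v => hext ?_
        rw [hF, hconj, LinearMap.comp_apply, hF, hconj, hF, hconj]; group }
  refine ⟨r, φ, hAc, fun g => ?_, fun g hg => ?_⟩
  · have hcol : ∀ j, ∀ i, ¬ i < j → φ g i j = if i = j then 1 else 0 := by
      intro j i hij
      have h1 := hflag g j
      let R : Subgroup P :=
        { carrier := {x | ∃ v : Fin r → ZMod p, (∀ i, ¬ i < j → v i = 0) ∧ val (ψ v) = x}
          one_mem' := ⟨0, fun _ _ => rfl, by simp [val]⟩
          mul_mem' := by
            rintro _ _ ⟨v, hv, rfl⟩ ⟨w, hw, rfl⟩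
            exact ⟨v + w, fun i hi => by simp [hv i hi, hw i hi], by simp [val]⟩
          inv_mem' := by
            rintro _ ⟨v, hv, rfl⟩; exact ⟨-v, fun i hi => by simp [hv i hi], by simp [val]⟩ }
      obtain ⟨v, hv, hve⟩ := (Subgroup.closure_le R).2 (by
        rintro _ ⟨l, hl, rfl⟩
        exact ⟨Pi.single l 1, fun i hi => Pi.single_eq_of_ne (by rintro rfl; exact hi hl) 1, by simp [val, hψsingle]⟩) h1
      have hFv : F g (Pi.single j 1) = v + Pi.single j 1 := by
        refine hext ?_
        rw [hF, hconj, map_add, hψsingle]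
        show g * (a j : P) * g⁻¹ = val (ψ v) * (a j : P)
        rw [hve, inv_mul_cancel_right]
      show LinearMap.toMatrix' (F g) i j = _
      rw [LinearMap.toMatrix'_apply]
      have hs : (fun j' => if j' = j then (1 : ZMod p) else 0) = Pi.single j 1 := by
        funext j'; simp [Pi.single_apply]
      simp only [hFv, Pi.add_apply, hv i hij, zero_add, Pi.single_apply]
    exact ⟨fun i => by rw [hcol i i (lt_irrefl i), if_pos rfl],
      fun i j hji => by rw [hcol j i (lt_asymm hji), if_neg hji.ne']⟩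
  · rw [mem_centralizer_iff]
    intro x hx
    obtain ⟨v, hv⟩ := hsurj (Additive.ofMul ⟨x, hx⟩)
    have h1 : F g = LinearMap.id := LinearMap.toMatrix'.injective (hg.trans LinearMap.toMatrix'_id.symm)
    have h2 := congrArg val (hF g v)
    rw [h1, LinearMap.id_apply, hconj, hv] at h2
    have h3 : x = g * x * g⁻¹ := h2
    exact eq_mul_inv_iff_mul_eq.1 h3

end CfsgLib.PGroups.UnipotentRank
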